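import Mathlib
import Cfsg.Prelude.Def_Balance
import Cfsg.Agent.Lib.Components.Signalizer
import Cfsg.Agent.Lib.Components.Bender
import Cfsg.Agent.Lib.Base.MinimalNormal
import Cfsg.Agent.Lib.Involutions.ConstrainedLocal
import Cfsg.Agent.Lib.PLocal.Constrained

/-!
# Solvable signalizer functors on groups of rank at least four: preliminaries

Cores for sets of primes, the two-balance of these cores in solvable groups, Hall subfunctors.
-/

set_option autoImplicit false
set_option linter.style.haveILetI false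
set_option linter.unusedSectionVars false

open scoped Pointwise commutatorElement

namespace CfsgLib.FgsB.Goldschmidt

open Cfsg Subgroup CfsgLib.Base CfsgLib.Signalizer CfsgLib.Components

universe u

variable {G : Type u} [Group G] [Finite G] {p : ℕ} [Fact p.Prime] {A : Subgroup G}
  {θ : G → Subgroup G}

/-- All prime divisors of the order lie in `σ`. -/
def IsPi (σ : Set ℕ) (H : Subgroup G) : Prop := ∀ q : ℕ, q.Prime → q ∣ Nat.card H → q ∈ σ

theorem IsPi.to_le {σ : Set ℕ} {H U : Subgroup G} (h : IsPi σ H) (hU : U ≤ H) : IsPi σ U :=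
  fun q hq hd => h q hq (hd.trans (card_dvd_of_le hU))

theorem isPi_of_isPGroup {σ : Set ℕ} {t : ℕ} (ht : t.Prime) (hts : t ∈ σ) {U : Subgroup G}
    (hU : IsPGroup t U) : IsPi σ U := by
  haveI := Fact.mk ht
  intro q hq hd
  obtain ⟨n, hn⟩ := IsPGroup.iff_card.mp hU
  exact ((Nat.prime_dvd_prime_iff_eq hq ht).mp (hq.dvd_of_dvd_pow (hn ▸ hd))) ▸ hts

theorem inf_eq_bot_of_isPi {σ τ : Set ℕ} {U V : Subgroup G} (hU : IsPi σ U) (hV : IsPi τ V)
    (h : ∀ q ∈ σ, q ∉ τ) : U ⊓ V = ⊥ := by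
  rw [← Subgroup.card_eq_one]
  by_contra hne
  have hq := Nat.minFac_prime hne
  exact h _ (hU.to_le inf_le_left _ hq (Nat.minFac_dvd _))
    (hV.to_le inf_le_right _ hq (Nat.minFac_dvd _))

theorem commute_of_disjoint {X Y : Subgroup G} (hd : X ⊓ Y = ⊥) {x y : G} (hx : x ∈ X) (hy : y ∈ Y)
    (hxY : x ∈ normalizer (Y : Set G)) (hyX : y ∈ normalizer (X : Set G)) : x * y = y * x := by
  rw [← commutatorElement_eq_one_iff_mul_comm, ← mem_bot, ← hd, commutatorElement_def]
  refine mem_inf.mpr ⟨?_, mul_mem ((mem_normalizer_iff.mp hxY y).mp hy) (inv_mem hy)⟩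
  rw [mul_assoc, mul_assoc, ← mul_assoc y]
  exact mul_mem hx ((mem_normalizer_iff.mp hyX _).mp (inv_mem hx))

/-- `O_σ(H)` in the ambient group. -/
abbrev piOf (σ : Set ℕ) (H : Subgroup G) : Subgroup G := (piCore σ H).map H.subtype

theorem piOf_le (σ : Set ℕ) (H : Subgroup G) : piOf σ H ≤ H := map_subtype_le _

theorem piOf_isPi (σ : Set ℕ) (H : Subgroup G) : IsPi σ (piOf σ H) := fun q hq hd =>
  piCore_primes σ H q hq (by rwa [card_map_subtype] at hd)

theorem normalizer_le_piOf (σ : Set ℕ) (H : Subgroup G) :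
    normalizer (H : Set G) ≤ normalizer (piOf σ H : Set G) :=
  normalizer_le_normalizer_map_subtype H _

theorem le_normalizer_piOf (σ : Set ℕ) (H : Subgroup G) : H ≤ normalizer (piOf σ H : Set G) :=
  le_normalizer.trans (normalizer_le_piOf σ H)

theorem le_piOf {σ : Set ℕ} {H U : Subgroup G} (hU : U ≤ H) (hn : H ≤ normalizer (U : Set G))
    (hπ : IsPi σ U) : U ≤ piOf σ H := le_map_piCore hU hn hπ

theorem coreOf_le_piOf {σ : Set ℕ} {t : ℕ} (ht : t.Prime) (hts : t ∈ σ) (H : Subgroup G) :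
    coreOf t H ≤ piOf σ H :=
  le_piOf (map_subtype_le _) (coreOf_normalizer t H) (isPi_of_isPGroup ht hts (isPGroup_map_pCore t H))

theorem piOf_singleton {t : ℕ} (ht : t.Prime) (H : Subgroup G) : piOf {t} H = coreOf t H := by
  haveI := Fact.mk ht
  show (piCore {t} H).map H.subtype = (pCore t H).map H.subtype
  rw [piCore_singleton]

/-- In a solvable group, the layer above `O_σ` and its centraliser. -/
theorem exists_layer {K : Type u} [Group K] [Finite K] [Group.IsSolvable K] (σ : Set ℕ) :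
    ∃ T : Subgroup K, T.Characteristic ∧
      (∀ U : Subgroup K, U ≤ T → (∀ q : ℕ, q.Prime → q ∣ Nat.card U → q ∈ σ) → U ≤ piCore σ K) ∧
      ∀ x : K, (∀ t ∈ T, ⁅x, t⁆ ∈ piCore σ K) → x ∈ T := by
  set O := piCore σ K with hO
  set π := QuotientGroup.mk' O with hπ
  set F := fittingSubgroup (K ⧸ O) with hF
  refine ⟨F.comap π, ?_, ?_, ?_⟩
  · rw [characteristic_iff_le_comap]
    intro e x hx
    have hOe : O.map e.toMonoidHom = O := characteristic_iff_map_eq.mp inferInstance e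
    let e' : K ⧸ O ≃* K ⧸ O := QuotientGroup.congr O O e hOe
    have hFe : F.map e'.toMonoidHom = F := characteristic_iff_map_eq.mp inferInstance e'
    show π (e x) ∈ F
    rw [← hFe]
    exact ⟨π x, hx, QuotientGroup.congr_mk O O e hOe x⟩
  · intro U hU hUπ
    rw [← map_mk'_eq_bot_iff, ← hπ]
    by_contra hne
    have hne' : Nat.card (U.map π) ≠ 1 := fun h => hne (Subgroup.card_eq_one.mp h)
    obtain ⟨q, hq, hqd⟩ := Nat.exists_prime_and_dvd hne'
    haveI := Fact.mk hq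
    obtain ⟨x, hx⟩ := exists_prime_orderOf_dvd_card' q hqd
    have hxF : zpowers (x : K ⧸ O) ≤ F := zpowers_le.mpr (map_le_iff_le_comap.mpr hU x.2)
    have hxq : IsPGroup q (zpowers (x : K ⧸ O)) := IsPGroup.of_card (n := 1) (by
      rw [Nat.card_zpowers, orderOf_coe, hx, pow_one])
    have h1 : zpowers (x : K ⧸ O) ≤ piCore σ (K ⧸ O) := by
      refine (pGroup_le_pCore_of_le_fitting hxq hxF).trans (le_piCore fun r hr hd => ?_)
      obtain ⟨n, hn⟩ := IsPGroup.iff_card.mp (CfsgLib.Base.isPGroup_pCore q (K ⧸ O))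
      rw [(Nat.prime_dvd_prime_iff_eq hr hq).mp (hr.dvd_of_dvd_pow (hn ▸ hd))]
      exact hUπ q hq (hqd.trans (Subgroup.card_map_dvd _ _))
    rw [piCore_quotient_piCore, zpowers_le, mem_bot] at h1
    rw [← orderOf_coe, h1, orderOf_one] at hx
    exact hq.one_lt.ne hx
  · intro x hx
    show π x ∈ F
    refine centralizer_fittingSubgroup_le (mem_centralizer_iff.mpr fun f hf => ?_)
    obtain ⟨t, rfl⟩ := QuotientGroup.mk'_surjective O f
    have h1 : π ⁅x, t⁆ = 1 := (QuotientGroup.eq_one_iff _).mpr (hx t hf)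
    rw [map_commutatorElement, commutatorElement_eq_one_iff_mul_comm] at h1
    exact h1.symm

theorem noncyclic (hA : IsElementaryAbelian p A) {B : Subgroup G} (hB : B ≤ A)
    (hB2 : p ^ 2 ≤ Nat.card B) : ¬ IsCyclic B :=
  elemAb_not_isCyclic (elemAb_of_le hA hB) hB2

/-- Generation by the fixed points of the points. -/
theorem le_of_points (hA : IsElementaryAbelian p A) {B U R : Subgroup G} (hB : B ≤ A)
    (hB2 : p ^ 2 ≤ Nat.card B) (hU : ¬ p ∣ Nat.card U) (hBU : B ≤ normalizer (U : Set G))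
    (h : ∀ b ∈ B, b ≠ 1 → U ⊓ centralizer {b} ≤ R) : U ≤ R := by
  haveI := (elemAb_of_le hA hB).1
  exact CfsgLib.Coprime.le_of_centralizer_le_of_not_isCyclic (noncyclic hA hB hB2) hBU
    (coprime_of_not_dvd (elemAb_of_le hA hB) hU) h

theorem le_normalizer_centralizer_of_le (hA : IsElementaryAbelian p A) {B : Subgroup G} (hB : B ≤ A) :
    A ≤ normalizer (centralizer (B : Set G) : Set G) :=
  le_trans (fun a ha => mem_centralizer_iff.mpr fun b hb => elemAb_comm hA (hB hb) ha) le_normalizer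

/-- Two-balance of `O_σ` in solvable groups. -/
theorem mem_piOf_of_balance (hA : IsElementaryAbelian p A) {σ : Set ℕ} {H B : Subgroup G}
    (hH : Group.IsSolvable H) (hHp : ¬ p ∣ Nat.card H) (hAH : A ≤ normalizer (H : Set G))
    (hB : B ≤ A) (hB2 : p ^ 2 ≤ Nat.card B) {x : G} (hx : x ∈ H)
    (h : ∀ b ∈ B, b ≠ 1 → x ∈ piOf σ (H ⊓ centralizer {b})) : x ∈ piOf σ H := by
  haveI := hH
  obtain ⟨T, hTc, hTσ, hTx⟩ := exists_layer (K := H) σ
  set O := piOf σ H with hOdef
  set T' := T.map H.subtype with hT'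
  have hT'H : T' ≤ H := map_subtype_le _
  have hAT : A ≤ normalizer (T' : Set G) := hAH.trans (normalizer_le_normalizer_map_subtype H T)
  have hTO : ∀ U : Subgroup G, U ≤ T' → IsPi σ U → U ≤ O := by
    intro U hU hUσ
    have h1 : U.subgroupOf H ≤ piCore σ H := by
      refine hTσ _ (fun y hy => ?_) fun q hq hd => hUσ q hq (by
        rwa [card_subgroupOf (hU.trans hT'H)] at hd)
      obtain ⟨z, hz, he⟩ := hU hy
      exact H.subtype_injective he ▸ hz
    intro y hy
    exact ⟨⟨y, hT'H (hU hy)⟩, h1 (show (⟨y, hT'H (hU hy)⟩ : H) ∈ U.subgroupOf H from hy), rfl⟩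
  let S : Subgroup G :=
    { carrier := {t : G | t ∈ H ∧ ⁅x, t⁆ ∈ O}
      one_mem' := ⟨one_mem H, by simp [O.one_mem]⟩
      mul_mem' := fun {a b} ha hb => ⟨mul_mem ha.1 hb.1, by
        have e : ⁅x, a * b⁆ = ⁅x, a⁆ * (a * ⁅x, b⁆ * a⁻¹) := by
          simp only [commutatorElement_def]; group
        rw [e]
        exact mul_mem ha.2 ((mem_normalizer_iff.mp (le_normalizer_piOf σ H ha.1) _).mp hb.2)⟩
      inv_mem' := fun {a} ha => ⟨inv_mem ha.1, by
        have e : ⁅x, a⁻¹⁆ = a⁻¹ * ⁅x, a⁆⁻¹ * (a⁻¹)⁻¹ := by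
          simp only [commutatorElement_def]; group
        rw [e]
        exact (mem_normalizer_iff.mp (le_normalizer_piOf σ H (inv_mem ha.1)) _).mp (inv_mem ha.2)⟩ }
  have hTS : T' ≤ S := by
    refine le_of_points hA hB hB2 (fun hd => hHp (hd.trans (card_dvd_of_le hT'H))) (hB.trans hAT)
      fun b hb hb1 t ht => ⟨hT'H ht.1, ?_⟩
    set C := H ⊓ centralizer ({b} : Set G) with hC
    have htC : t ∈ C := ⟨hT'H ht.1, ht.2⟩
    have hxC := h b hb hb1
    have h1 : ⁅x, t⁆ ∈ T' ⊓ piOf σ C := by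
      rw [commutatorElement_def]
      refine mem_inf.mpr ⟨mul_mem ((mem_normalizer_iff.mp ?_ t).mp ht.1) (inv_mem ht.1), ?_⟩
      · exact normalizer_le_normalizer_map_subtype H T (le_normalizer hx)
      · rw [mul_assoc, mul_assoc, ← mul_assoc t]
        exact mul_mem hxC ((mem_normalizer_iff.mp (le_normalizer_piOf σ C htC) _).mp (inv_mem hxC))
    exact hTO _ inf_le_left ((piOf_isPi σ C).to_le inf_le_right) h1
  have hxT : x ∈ T' := by
    refine ⟨⟨x, hx⟩, hTx _ fun t ht => ?_, rfl⟩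
    obtain ⟨z, hz, he⟩ := (hTS ⟨t, ht, rfl⟩).2
    exact (H.subtype_injective (he.trans (map_commutatorElement H.subtype ⟨x, hx⟩ t).symm)) ▸ hz
  obtain ⟨b, hb, hb1⟩ := (bot_or_exists_ne_one B).resolve_left (ne_bot_of_pow_le (by norm_num) hB2)
  exact hTO _ inf_le_left ((piOf_isPi σ _).to_le inf_le_right)
    (show x ∈ T' ⊓ piOf σ (H ⊓ centralizer {b}) from ⟨hxT, h b hb hb1⟩)

/-- A normalised subgroup of order prime to `r` lies in `O_{r'}`. -/
theorem le_piOf_of_normalized {H P U : Subgroup G} (hH : Group.IsSolvable H) {r : ℕ}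
    [Fact r.Prime] (hP : IsPGroup r P) (hPH : P ≤ H) (hUH : U ≤ H)
    (hUP : U ≤ normalizer (P : Set G)) (hn : H ⊓ normalizer (P : Set G) ≤ normalizer (U : Set G))
    (hU : (Nat.card U).Coprime r) : U ≤ piOf {r}ᶜ H := by
  haveI := hH
  set N := normalizer ((P.subgroupOf H : Subgroup H) : Set H) with hN
  have hN' : N = (normalizer (P : Set G)).subgroupOf H :=
    CfsgLib.Involutions.subgroupOf_normalizer_eq hPH
  have h1 : U.subgroupOf H ≤ (pPrimeCore r N).map N.subtype := by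
    refine le_map_pPrimeCore ?_ ?_ (by rwa [card_subgroupOf hUH])
    · rw [hN']; exact comap_mono hUP
    · rw [hN']
      intro g hg
      exact subgroupOf_le_normalizer (X := H ⊓ normalizer (P : Set G)) H hn
        (show g ∈ (H ⊓ normalizer (P : Set G)).subgroupOf H from mem_inf.2 ⟨g.2, hg⟩)
  have h2 := CfsgLib.PLocal.map_pPrimeCore_normalizer (P := P.subgroupOf H)
    (CfsgLib.PLocal.isPConstrained_of_isPSolvable CfsgLib.PLocal.isPSolvable_of_isSolvable)
    hP.comap_subtype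
  rw [← hN] at h2
  rw [h2] at h1
  intro x hx
  refine ⟨⟨x, hUH hx⟩, ?_, rfl⟩
  rw [piCore_compl_singleton]
  exact (h1 (show (⟨x, hUH hx⟩ : H) ∈ U.subgroupOf H from hx)).1

/-- An element centralising every `O_t(H)` lies in the Fitting subgroup. -/
theorem mem_fitOf {H : Subgroup G} (hH : Group.IsSolvable H) {y : G} (hy : y ∈ H)
    (h : ∀ q : ℕ, q.Prime → y ∈ centralizer (coreOf q H : Set G)) : y ∈ fitOf H := by
  haveI := hH
  have hC : (⟨y, hy⟩ : H) ∈ centralizer (fittingSubgroup H : Set H) := by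
    refine mem_centralizer_iff.2 fun r hr => Subtype.ext ?_
    have h1 : fitOf H ≤ centralizer ({y} : Set G) := by
      rw [fitOf_eq_iSup]
      exact iSup_le fun t g hg => mem_centralizer_singleton_iff.2
        (mem_centralizer_iff.1 (h t t.2) g hg)
    exact mem_centralizer_singleton_iff.1 (h1 ⟨r, hr, rfl⟩)
  exact ⟨_, centralizer_fittingSubgroup_le hC, rfl⟩

theorem pGroup_le_coreOf {H Y : Subgroup G} {q : ℕ} (hq : q.Prime)
    (hY : IsPGroup q Y) (hYF : Y ≤ fitOf H) : Y ≤ coreOf q H := by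
  haveI := Fact.mk hq
  intro y hy
  obtain ⟨z, hz, rfl⟩ := hYF hy
  refine ⟨z, ?_, rfl⟩
  exact pGroup_le_pCore_of_le_fitting (hY.comap_of_injective H.subtype H.subtype_injective)
    (fun w hw => by
      obtain ⟨v, hv, hve⟩ := hYF hw
      rwa [← H.subtype_injective hve]) hy

/-- A group centralising all `O_t(H)` whose order is a power of `q` lies in `O_q(H)`. -/
theorem le_coreOf_of_centralizes {H Y : Subgroup G} (hH : Group.IsSolvable H) {q : ℕ} (hq : q.Prime)
    (hY : IsPGroup q Y) (hYH : Y ≤ H)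
    (h : ∀ r : ℕ, r.Prime → Y ≤ centralizer (coreOf r H : Set G)) : Y ≤ coreOf q H :=
  pGroup_le_coreOf hq hY fun _ hy => mem_fitOf hH (hYH hy) fun r hr => h r hr hy

theorem exists_coreOf_ne_bot {H : Subgroup G} (hH : Group.IsSolvable H) (hne : H ≠ ⊥) :
    ∃ q : ℕ, q.Prime ∧ coreOf q H ≠ ⊥ := by
  haveI := hH
  haveI : Nontrivial H := (nontrivial_iff_ne_bot _).2 hne
  obtain ⟨q, hq, hne'⟩ := exists_prime_pCore_ne_bot (G := H)
  exact ⟨q, hq, fun e => hne' ((map_eq_bot_iff_of_injective _ H.subtype_injective).1 e)⟩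

/-- The primes of the functor. -/
def primesOf (A : Subgroup G) (θ : G → Subgroup G) : Set ℕ :=
  {t | t.Prime ∧ ∃ a ∈ A, a ≠ 1 ∧ t ∣ Nat.card (θ a)}

/-- The intersection of the cores `O_σ(θ(b))` over the points of `B`. -/
def delta (θ : G → Subgroup G) (σ : Set ℕ) (B : Subgroup G) : Subgroup G :=
  ⨅ b : {b : G // b ∈ B ∧ b ≠ 1}, piOf σ (θ (b : G))

theorem mem_delta {σ : Set ℕ} {B : Subgroup G} {x : G} :
    x ∈ delta θ σ B ↔ ∀ b ∈ B, b ≠ 1 → x ∈ piOf σ (θ b) := by
  simp [delta, mem_iInf]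

theorem le_normalizer_iInf {ι : Sort*} {f : ι → Subgroup G} {X : Subgroup G}
    (h : ∀ i, X ≤ normalizer (f i : Set G)) : X ≤ normalizer ((⨅ i, f i : Subgroup G) : Set G) := by
  intro g hg
  rw [mem_normalizer_iff]
  intro x
  simp only [mem_iInf]
  exact forall_congr' fun i => mem_normalizer_iff.mp (h i hg) x

theorem le_normalizer_iSup {ι : Sort*} {f : ι → Subgroup G} {X : Subgroup G}
    (h : ∀ i, X ≤ normalizer (f i : Set G)) : X ≤ normalizer ((⨆ i, f i : Subgroup G) : Set G) := by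
  intro g hg
  rw [← map_conj_eq_self_iff, Subgroup.map_iSup]
  exact iSup_congr fun i => map_conj_eq_self_iff.mpr (h i hg)

theorem delta_norm_inf {σ : Set ℕ} {B E : Subgroup G} (hBE : B ≤ E) :
    signalizerInf E θ ≤ normalizer (delta θ σ B : Set G) :=
  le_normalizer_iInf fun b =>
    (signalizerInf_le (hBE b.2.1) b.2.2).trans (le_normalizer_piOf σ _)

theorem delta_norm (hθ : IsSolvableSignalizerFunctor p A θ) {σ : Set ℕ} {B : Subgroup G}
    (hB : B ≤ A) : A ≤ normalizer (delta θ σ B : Set G) :=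
  le_normalizer_iInf fun b =>
    (le_normalizer_value hθ (hB b.2.1) b.2.2).trans (normalizer_le_piOf σ _)

theorem delta_mem (hθ : IsSolvableSignalizerFunctor p A θ) {σ : Set ℕ} {B : Subgroup G}
    (hB : B ≤ A) (hne : B ≠ ⊥) :
    delta θ σ B ∈ signalizerFamily p A θ ∧ IsPi σ (delta θ σ B) := by
  obtain ⟨b, hb, hb1⟩ := (bot_or_exists_ne_one B).resolve_left hne
  have h : delta θ σ B ≤ piOf σ (θ b) := fun x hx => mem_delta.mp hx b hb hb1
  exact ⟨mem_family_of_le_value hθ (hB hb) hb1 (h.trans (piOf_le _ _)) (delta_norm hθ hB),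
    (piOf_isPi σ _).to_le h⟩

/-- Balance of `delta`. -/
theorem delta_balance (hA : IsElementaryAbelian p A) (hθ : IsSolvableSignalizerFunctor p A θ)
    {σ : Set ℕ} {B B' : Subgroup G} (hB : B ≤ A) (hB2 : p ^ 2 ≤ Nat.card B) (hB' : B' ≤ A) :
    delta θ σ B ⊓ centralizer (B' : Set G) ≤ delta θ σ B' := by
  rintro x ⟨hx, hxC⟩
  refine mem_delta.mpr fun d hd hd1 => ?_
  have hne : B ≠ ⊥ := ne_bot_of_pow_le (by norm_num) hB2
  have hxd : x ∈ θ d := (delta_mem hθ hB hne).1.2.2.2 d (hB' hd) hd1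
    ⟨hx, centralizer_le (Set.singleton_subset_iff.mpr hd) hxC⟩
  refine mem_piOf_of_balance hA (hθ.2 d (hB' hd) hd1) (hθ.1.2.1 d (hB' hd) hd1)
    (le_normalizer_value hθ (hB' hd) hd1) hB hB2 hxd fun b hb hb1 => ?_
  have hxb := mem_delta.mp hx b hb hb1
  have hle : θ d ⊓ centralizer {b} ≤ θ b := balance hθ (hB' hd) hd1 (hB hb) hb1
  have hxC' : x ∈ θ d ⊓ centralizer {b} :=
    ⟨hxd, le_centralizer hθ (hB hb) hb1 (piOf_le _ _ hxb)⟩
  refine (le_piOf inf_le_right ?_ ((piOf_isPi σ (θ b)).to_le inf_le_left) : piOf σ (θ b) ⊓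
    (θ d ⊓ centralizer {b}) ≤ piOf σ (θ d ⊓ centralizer {b})) ⟨hxb, hxC'⟩
  exact (le_inf (hle.trans (le_normalizer_piOf σ _)) le_normalizer).trans
    inf_normalizer_le_normalizer_inf

/-- The largest `A`- and `θ(C_G(A))`-invariant `σ`-subgroup of `θ(a)`. -/
def piFree (A : Subgroup G) (θ : G → Subgroup G) (σ : Set ℕ) (a : G) : Subgroup G :=
  sSup {U | U ≤ θ a ∧ A ≤ normalizer (U : Set G) ∧ signalizerInf A θ ≤ normalizer (U : Set G) ∧
    IsPi σ U}

theorem piFree_le {σ : Set ℕ} {a : G} : piFree A θ σ a ≤ θ a := sSup_le fun _ hU => hU.1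

theorem piFree_norm {σ : Set ℕ} {a : G} :
    A ≤ normalizer (piFree A θ σ a : Set G) ∧
      signalizerInf A θ ≤ normalizer (piFree A θ σ a : Set G) := by
  rw [piFree, sSup_eq_iSup']
  exact ⟨le_normalizer_iSup fun U => U.2.2.1, le_normalizer_iSup fun U => U.2.2.2.1⟩

theorem piFree_isPi (hA : IsElementaryAbelian p A) (hθ : IsSolvableSignalizerFunctor p A θ)
    {σ : Set ℕ} {a : G} (ha : a ∈ A) (ha1 : a ≠ 1) : IsPi σ (piFree A θ σ a) := by
  haveI : Group.IsSolvable (θ a) := hθ.2 a ha ha1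
  have hn := le_normalizer_value hθ ha ha1
  have hc := coprime_of_not_dvd hA (hθ.1.2.1 a ha ha1)
  have hD : CfsgLib.Coprime.HallD σ ↥(θ a) := CfsgLib.Coprime.hallD_of_solvable σ
  obtain ⟨H₁, hH₁, hA₁⟩ := CfsgLib.Coprime.exists_invariant_piHall hn hc (Or.inr inferInstance) hD
  have hle : piFree A θ σ a ≤ H₁ := by
    refine sSup_le fun U ⟨hUθ, hUA, hUK, hUσ⟩ => ?_
    obtain ⟨H₀, hH₀, hA₀, hU₀⟩ := CfsgLib.Coprime.exists_invariant_piHall_ge (π := σ)
      hn hc inferInstance hUθ hUA hUσ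
    obtain ⟨c, hc, hcH⟩ := CfsgLib.Coprime.invariant_piHall_conj hn hc (Or.inr inferInstance) hD
      hH₀ hA₀ hH₁ hA₁
    have hcK : c ∈ signalizerInf A θ := mem_iInf.mpr fun b => balance hθ ha ha1 b.2.1 b.2.2
      ⟨hc.1, centralizer_le (Set.singleton_subset_iff.mpr b.2.1) hc.2⟩
    rw [← hcH, ← CfsgLib.Coprime.conj_smul_eq_self_of_mem_normalizer (hUK hcK)]
    exact Subgroup.pointwise_smul_le_pointwise_smul_iff.2 hU₀
  exact fun q hq hd => hH₁.2.1 q hq (hd.trans (card_dvd_of_le hle))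

theorem piFree_functor (hA : IsElementaryAbelian p A) (hθ : IsSolvableSignalizerFunctor p A θ)
    (σ : Set ℕ) : IsSolvableSignalizerFunctor p A (piFree A θ σ) := by
  refine ⟨⟨fun a ha ha1 => piFree_le.trans (le_centralizer hθ ha ha1),
    fun a ha ha1 h => hθ.1.2.1 a ha ha1 (h.trans (card_dvd_of_le piFree_le)),
    fun a _ _ => conj_invariant_iff.mpr piFree_norm.1,
    fun a ha ha1 b hb hb1 => ?_⟩, fun a ha ha1 => ?_⟩
  · refine le_sSup ⟨(inf_le_inf_right _ piFree_le).trans (balance hθ ha ha1 hb hb1), ?_, ?_,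
      (piFree_isPi hA hθ ha ha1).to_le inf_le_left⟩
    · refine (le_inf piFree_norm.1 ?_).trans inf_normalizer_le_normalizer_inf
      rw [← centralizer_singleton_eq]
      exact le_normalizer_centralizer_of_le hA (zpowers_le.mpr hb)
    · exact (le_inf piFree_norm.2 (((signalizerInf_le hb hb1).trans (le_centralizer hθ hb hb1)).trans
        le_normalizer)).trans inf_normalizer_le_normalizer_inf
  · haveI := hθ.2 a ha ha1
    exact Group.isSolvable_of_isSolvable_injective (inclusion_injective piFree_le)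

end CfsgLib.FgsB.Goldschmidt
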