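import Mathlib
import Cfsg.Agent.Lib.FgsB.GoldschmidtSetup

/-!
# Solvable signalizer functors on groups of rank at least four: no minimal counterexample
-/

set_option autoImplicit false
set_option linter.style.haveILetI false
set_option linter.unusedSectionVars false

open scoped Pointwise commutatorElement

namespace CfsgLib.FgsB.Goldschmidt

open Cfsg Subgroup CfsgLib.Base CfsgLib.Signalizer CfsgLib.Components

universe u

variable {G : Type u} [Group G] [Finite G] {p : ℕ} [Fact p.Prime] {A : Subgroup G}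
  {θ : G → Subgroup G}

/-- A minimal counterexample. -/
structure Min (p : ℕ) (A : Subgroup G) (θ : G → Subgroup G) : Prop where
  hA : IsElementaryAbelian p A
  hA4 : p ^ 4 ≤ Nat.card A
  hθ : IsSolvableSignalizerFunctor p A θ
  normal : ∀ W ∈ signalizerFamily p A θ, W ≠ ⊥ → ∃ a ∈ A, a ≠ 1 ∧ ¬ θ a ≤ normalizer (W : Set G)
  norm : ∀ T ∈ signalizerFamily p A θ, T ≠ ⊥ → ∃ Y ∈ signalizerFamily p A θ,
    Y ≤ normalizer (T : Set G) ∧ ∀ a ∈ A, a ≠ 1 → θ a ⊓ normalizer (T : Set G) ≤ Y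
  sub : ∀ σ : Set ℕ, (∃ x ∈ primesOf A θ, x ∉ σ) → ∃ X ∈ signalizerFamily p A θ,
    ∀ a ∈ A, a ≠ 1 → piFree A θ σ a ≤ X
  two : ∀ s : ℕ, ∃ x ∈ primesOf A θ, x ≠ s

namespace Min

variable (M : Min p A θ)
include M

local notation "Mem" => fun U => U ∈ signalizerFamily p A θ

theorem hA3 : p ^ 3 ≤ Nat.card A :=
  (Nat.pow_le_pow_right (Fact.out : p.Prime).pos (by norm_num)).trans M.hA4

theorem hAne : A ≠ ⊥ := ne_bot_of_pow_le (by norm_num) M.hA3

theorem Klep {a : G} (ha : a ∈ A) (ha1 : a ≠ 1) : signalizerInf A θ ≤ θ a := signalizerInf_le ha ha1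

/-- Members are generated by their fixed points. -/
theorem gen {U R : Subgroup G} (hU : U ∈ signalizerFamily p A θ)
    (h : ∀ a ∈ A, a ≠ 1 → U ⊓ centralizer {a} ≤ R) : U ≤ R :=
  le_of_points M.hA le_rfl (sq_le_of_cube_le M.hA3) hU.2.1 (family_normalizer hU) h

/-- Members are generated by the fixed points of the hyperplanes. -/
theorem gen_planes {U R : Subgroup G} (hU : U ∈ signalizerFamily p A θ)
    (h : ∀ E ≤ A, E.relIndex A = p → U ⊓ centralizer (E : Set G) ≤ R) : U ≤ R :=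
  le_of_hyperplanes M.hA M.hAne (family_normalizer hU) hU.2.1 h

/-- The fixed points of a hyperplane in a member form a member. -/
theorem piece_mem {U E : Subgroup G} (hU : U ∈ signalizerFamily p A θ) (hE : E ≤ A) :
    U ⊓ centralizer (E : Set G) ∈ signalizerFamily p A θ :=
  mem_family_of_le M.hθ hU inf_le_left ((le_inf (family_normalizer hU)
    (le_normalizer_centralizer_of_le M.hA hE)).trans inf_normalizer_le_normalizer_inf)

theorem exists_piece {U : Subgroup G} (hU : U ∈ signalizerFamily p A θ) (hne : U ≠ ⊥) :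
    ∃ E ≤ A, E.relIndex A = p ∧ U ⊓ centralizer (E : Set G) ≠ ⊥ := by
  by_contra h
  push Not at h
  exact hne (le_bot_iff.mp (M.gen_planes hU fun E hE hi => (h E hE hi).le))

theorem plane_card {E : Subgroup G} (hE : E ≤ A) (hi : E.relIndex A = p) :
    p ^ 3 ≤ Nat.card E := by
  have h := card_mul_relIndex hE
  rw [hi] at h
  have := M.hA4
  rw [← h, pow_succ] at this
  exact Nat.le_of_mul_le_mul_right this (Fact.out : p.Prime).pos

theorem line_card {E E' : Subgroup G} (hE : E ≤ A) (hi : E.relIndex A = p)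
    (hi' : E'.relIndex A = p) : p ^ 2 ≤ Nat.card ↥(E ⊓ E') := by
  have h1 : (E ⊓ E').relIndex A ≤ p * p :=
    relIndex_inf_le.trans (by rw [hi, hi'])
  have h2 := card_mul_relIndex (A := A) (B := E ⊓ E') (inf_le_left.trans hE)
  have h3 : p ^ 2 * (p * p) ≤ Nat.card ↥(E ⊓ E') * (p * p) := by
    calc p ^ 2 * (p * p) = p ^ 4 := by ring
      _ ≤ Nat.card A := M.hA4
      _ = _ := h2.symm
      _ ≤ _ := Nat.mul_le_mul_left _ h1
  exact Nat.le_of_mul_le_mul_right h3 (Nat.mul_pos (Fact.out : p.Prime).pos (Fact.out : p.Prime).pos)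

theorem fix_mem {U : Subgroup G} (hU : U ∈ signalizerFamily p A θ) {E : Subgroup G}
    (hUE : U ≤ centralizer (E : Set G)) {b : G} (hb : b ∈ E) (hbA : b ∈ A) (hb1 : b ≠ 1) :
    U ≤ θ b :=
  (le_inf le_rfl (hUE.trans (centralizer_le (Set.singleton_subset_iff.mpr hb)))).trans
    (hU.2.2.2 b hbA hb1)

theorem mem_primesOf {U : Subgroup G} (hU : U ∈ signalizerFamily p A θ) (hne : U ≠ ⊥) {t : ℕ}
    [Fact t.Prime] (ht : IsPGroup t U) : t ∈ primesOf A θ := by
  obtain ⟨E, hE, hi, hne'⟩ := M.exists_piece hU hne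
  obtain ⟨b, hb, hb1⟩ := (bot_or_exists_ne_one E).resolve_left
    (ne_bot_of_pow_le (by norm_num) (M.plane_card hE hi))
  refine ⟨Fact.out, b, hE hb, hb1, ?_⟩
  obtain ⟨n, hn⟩ := IsPGroup.iff_card.mp (ht.to_le (inf_le_left (b := centralizer (E : Set G))))
  have hn0 : n ≠ 0 := fun h => hne' (Subgroup.card_eq_one.mp (by rw [hn, h, pow_zero]))
  exact ((dvd_pow_self t hn0).trans hn.symm.dvd).trans
    (card_dvd_of_le (M.fix_mem (M.piece_mem hU hE) inf_le_right hb (hE hb) hb1))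

theorem coreOf_mem {H : Subgroup G} (hH : H ∈ signalizerFamily p A θ) (t : ℕ) :
    coreOf t H ∈ signalizerFamily p A θ :=
  mem_family_of_le M.hθ hH (map_subtype_le _)
    ((family_normalizer hH).trans (normalizer_le_normalizer_map_subtype H _))

theorem theta_core_mem {a : G} (ha : a ∈ A) (ha1 : a ≠ 1) (t : ℕ) :
    coreOf t (θ a) ∈ signalizerFamily p A θ ∧
      signalizerInf A θ ≤ normalizer (coreOf t (θ a) : Set G) :=
  ⟨M.coreOf_mem (mem_family_of_le_value M.hθ ha ha1 le_rfl (le_normalizer_value M.hθ ha ha1)) t,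
    (M.Klep ha ha1).trans (coreOf_normalizer t _)⟩

/-- A `σ`-member normalised by `θ(C_G(A))` lies in the completion of the Hall subfunctor. -/
theorem exists_cover {σ : Set ℕ} (hσ : ∃ x ∈ primesOf A θ, x ∉ σ) :
    ∃ X ∈ signalizerFamily p A θ, ∀ U ∈ signalizerFamily p A θ,
      signalizerInf A θ ≤ normalizer (U : Set G) → IsPi σ U → U ≤ X := by
  obtain ⟨X, hX, hXle⟩ := M.sub σ hσ
  refine ⟨X, hX, fun U hU hK hπ => M.gen hU fun a ha ha1 => (le_trans ?_ (hXle a ha ha1))⟩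
  refine le_sSup ⟨hU.2.2.2 a ha ha1, ?_, ?_, hπ.to_le inf_le_left⟩
  · refine (le_inf (family_normalizer hU) ?_).trans inf_normalizer_le_normalizer_inf
    rw [← centralizer_singleton_eq]
    exact le_normalizer_centralizer_of_le M.hA (zpowers_le.mpr ha)
  · exact (le_inf hK (((M.Klep ha ha1).trans (le_centralizer M.hθ ha ha1)).trans
      le_normalizer)).trans inf_normalizer_le_normalizer_inf

/-- The key vanishing: no nontrivial element lies in the `σ`-cores along a line. -/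
theorem delta_eq_bot {σ : Set ℕ} (hσ : ∃ x ∈ primesOf A θ, x ∉ σ) {B : Subgroup G} (hB : B ≤ A)
    (hB2 : p ^ 2 ≤ Nat.card B) : delta θ σ B = ⊥ := by
  by_contra hne
  obtain ⟨X, hX, hXle⟩ := M.exists_cover hσ
  set W : Subgroup G := ⨆ D : {D : Subgroup G // D ≤ A ∧ p ^ 2 ≤ Nat.card D}, delta θ σ (D : Subgroup G)
    with hW
  have hWX : W ≤ X := iSup_le fun D =>
    hXle _ (delta_mem M.hθ D.2.1 (ne_bot_of_pow_le (by norm_num) D.2.2)).1 (delta_norm_inf D.2.1)
      (delta_mem M.hθ D.2.1 (ne_bot_of_pow_le (by norm_num) D.2.2)).2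
  have hWmem : W ∈ signalizerFamily p A θ :=
    mem_family_of_le M.hθ hX hWX (le_normalizer_iSup fun D => delta_norm M.hθ D.2.1)
  have hWne : W ≠ ⊥ := fun h => hne (le_bot_iff.mp (h ▸
    le_iSup (fun D : {D : Subgroup G // D ≤ A ∧ p ^ 2 ≤ Nat.card D} => delta θ σ (D : Subgroup G))
      ⟨B, hB, hB2⟩))
  obtain ⟨a, ha, ha1, hna⟩ := M.normal W hWmem hWne
  refine hna (le_of_hyperplanes M.hA M.hAne (le_normalizer_value M.hθ ha ha1)
    (M.hθ.1.2.1 a ha ha1) fun E hE hi => ?_)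
  have hθE : θ a ⊓ centralizer (E : Set G) ≤ signalizerInf E θ := le_iInf fun e =>
    (inf_le_inf_left _ (centralizer_le (Set.singleton_subset_iff.mpr e.2.1))).trans
      (balance M.hθ ha ha1 (hE e.2.1) e.2.2)
  refine hθE.trans ?_
  have hE2 : p ^ 2 ≤ Nat.card E := sq_le_of_cube_le (M.plane_card hE hi)
  have hEne : E ≠ ⊥ := ne_bot_of_pow_le (by norm_num) hE2
  have heq : W = ⨆ D : {D : Subgroup G // D ≤ E ∧ p ^ 2 ≤ Nat.card D}, delta θ σ (D : Subgroup G) := by
    refine le_antisymm (iSup_le fun D => ?_) (iSup_le fun D =>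
      le_iSup_of_le (⟨D, D.2.1.trans hE, D.2.2⟩ : {D : Subgroup G // D ≤ A ∧ p ^ 2 ≤ Nat.card D}) le_rfl)
    have hDne : (D : Subgroup G) ≠ ⊥ := ne_bot_of_pow_le (by norm_num) D.2.2
    refine le_of_hyperplanes (elemAb_of_le M.hA hE) hEne
      (hE.trans (delta_norm M.hθ D.2.1)) (delta_mem M.hθ D.2.1 hDne).1.2.1 fun B' hB' hi' => ?_
    have hB'2 : p ^ 2 ≤ Nat.card B' := by
      have h := card_mul_relIndex (A := E) hB'
      rw [hi'] at h
      have h3 := M.plane_card hE hi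
      rw [← h, pow_succ] at h3
      exact Nat.le_of_mul_le_mul_right h3 (Fact.out : p.Prime).pos
    exact (delta_balance M.hA M.hθ D.2.1 D.2.2 (hB'.trans hE)).trans
      (le_iSup_of_le (⟨B', hB', hB'2⟩ : {D : Subgroup G // D ≤ E ∧ p ^ 2 ≤ Nat.card D}) le_rfl)
  rw [heq]
  exact le_normalizer_iSup fun D => delta_norm_inf D.2.1

theorem exists_other (t : ℕ) : ∃ x ∈ primesOf A θ, x ∉ ({t} : Set ℕ) := by
  obtain ⟨x, hx, hne⟩ := M.two t
  exact ⟨x, hx, hne⟩

/-- An element in the `t`-cores along a line is trivial. -/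
theorem eq_one_of_cores {t : ℕ} (ht : t.Prime) {B : Subgroup G} (hB : B ≤ A)
    (hB2 : p ^ 2 ≤ Nat.card B) {x : G} (h : ∀ b ∈ B, b ≠ 1 → x ∈ coreOf t (θ b)) : x = 1 := by
  rw [← mem_bot, ← M.delta_eq_bot (M.exists_other t) hB hB2]
  exact mem_delta.mpr fun b hb hb1 => by rw [piOf_singleton ht]; exact h b hb hb1

/-- Two members fixed by a line commute if on each point of the line, for each prime `t`, one of
them centralises `O_t`. -/
theorem commute {B U V : Subgroup G} (hB : B ≤ A) (hB2 : p ^ 2 ≤ Nat.card B)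
    (hU : U ∈ signalizerFamily p A θ) (hV : V ∈ signalizerFamily p A θ)
    (hUB : U ≤ centralizer (B : Set G)) (hVB : V ≤ centralizer (B : Set G))
    (h : ∀ b ∈ B, b ≠ 1 → ∀ t : ℕ, t.Prime →
      U ≤ centralizer (coreOf t (θ b) : Set G) ∨ V ≤ centralizer (coreOf t (θ b) : Set G)) :
    U ≤ centralizer (V : Set G) := by
  intro x hx
  refine mem_centralizer_iff.mpr fun y hy => ?_
  have hF : ∀ b ∈ B, b ≠ 1 → ⁅x, y⁆ ∈ fitOf (θ b) := by
    intro b hb hb1
    have hxb := M.fix_mem hU hUB hb (hB hb) hb1 hx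
    have hyb := M.fix_mem hV hVB hb (hB hb) hb1 hy
    have hcb : ⁅x, y⁆ ∈ θ b := by
      rw [commutatorElement_def]
      exact mul_mem (mul_mem (mul_mem hxb hyb) (inv_mem hxb)) (inv_mem hyb)
    refine mem_fitOf (M.hθ.2 b (hB hb) hb1) hcb fun t ht => ?_
    set O := coreOf t (θ b)
    have hn : θ b ≤ normalizer (centralizer (O : Set G) : Set G) :=
      (coreOf_normalizer t (θ b)).trans (CfsgLib.PLocal.normalizer_le_centralizer_normalizer _)
    rcases h b hb hb1 t ht with hc | hc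
    · have e : ⁅x, y⁆ = x * (y * x⁻¹ * y⁻¹) := by rw [commutatorElement_def]; group
      rw [e]
      exact mul_mem (hc hx) ((mem_normalizer_iff.mp (hn hyb) _).mp (inv_mem (hc hx)))
    · rw [commutatorElement_def]
      exact mul_mem ((mem_normalizer_iff.mp (hn hxb) _).mp (hc hy)) (inv_mem (hc hy))
  by_contra hne
  have hc1 : ⁅x, y⁆ ≠ 1 := fun h => hne ((commutatorElement_eq_one_iff_mul_comm.mp h).symm)
  set c := ⁅x, y⁆
  have ho : orderOf c ≠ 1 := fun h => hc1 (orderOf_eq_one_iff.mp h)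
  set t := (orderOf c).minFac
  have ht : t.Prime := Nat.minFac_prime ho
  haveI := Fact.mk ht
  set d := c ^ (orderOf c / t)
  have hd : orderOf d = t := by
    rw [orderOf_pow_orderOf_div (orderOf_pos c).ne' (Nat.minFac_dvd _)]
  refine ht.one_lt.ne ?_
  rw [← hd, M.eq_one_of_cores ht hB hB2 (x := d) ?_, orderOf_one]
  intro b hb hb1
  exact pGroup_le_coreOf ht (IsPGroup.of_card (n := 1) (by rw [Nat.card_zpowers, hd, pow_one]))
    (zpowers_le.mpr (pow_mem (hF b hb hb1) _)) (mem_zpowers d)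

/-- The normaliser of a piece has trivial `r'`-core. -/
theorem star {r : ℕ} [Fact r.Prime] {T Y E : Subgroup G} (hT : T ∈ signalizerFamily p A θ)
    (hTr : IsPGroup r T) (hTne : T ≠ ⊥) (hE : E ≤ A) (hi : E.relIndex A = p)
    (hTE : T ≤ centralizer (E : Set G)) (hY : Y ∈ signalizerFamily p A θ)
    (hYT : Y ≤ normalizer (T : Set G))
    (hYmax : ∀ a ∈ A, a ≠ 1 → θ a ⊓ normalizer (T : Set G) ≤ Y) : piOf {r}ᶜ Y = ⊥ := by
  have hr : r ∈ primesOf A θ := M.mem_primesOf hT hTne hTr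
  set Z := piOf {r}ᶜ Y with hZ
  have hZmem : Z ∈ signalizerFamily p A θ := mem_family_of_le M.hθ hY (piOf_le _ _)
    ((family_normalizer hY).trans (normalizer_le_piOf _ _))
  refine le_bot_iff.mp (M.gen_planes hZmem fun E' hE' hi' => ?_)
  have hB : E ⊓ E' ≤ A := inf_le_left.trans hE
  rw [← M.delta_eq_bot (σ := {r}ᶜ) ⟨r, hr, fun h => h rfl⟩ hB (M.line_card hE hi hi')]
  intro x hx
  refine mem_delta.mpr fun b hb hb1 => ?_
  obtain ⟨hbE, hbE'⟩ := mem_inf.mp hb
  have hTb : T ≤ θ b := M.fix_mem hT hTE hbE (hE hbE) hb1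
  have hxb : x ∈ θ b := M.fix_mem (M.piece_mem hZmem hE') inf_le_right hbE' (hE' hbE') hb1 hx
  refine (le_piOf_of_normalized (M.hθ.2 b (hE hbE) hb1) hTr hTb inf_le_right
    ((inf_le_left.trans (piOf_le _ _)).trans hYT) ?_ ?_ : Z ⊓ θ b ≤ piOf {r}ᶜ (θ b)) ⟨hx.1, hxb⟩
  · exact (le_inf ((hYmax b (hE hbE) hb1).trans (le_normalizer_piOf _ Y))
      (inf_le_left.trans le_normalizer)).trans inf_normalizer_le_normalizer_inf
  · refine Nat.Coprime.symm ((Fact.out : r.Prime).coprime_iff_not_dvd.mpr fun hd => ?_)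
    exact (piOf_isPi _ Y).to_le inf_le_left r Fact.out hd rfl

theorem self_centralizing {r : ℕ} [Fact r.Prime] {Y : Subgroup G} (hY : Group.IsSolvable Y)
    (h : ∀ q : ℕ, q.Prime → q ≠ r → coreOf q Y = ⊥) {x : G} (hx : x ∈ Y)
    (hxc : x ∈ centralizer (coreOf r Y : Set G)) : x ∈ coreOf r Y := by
  have hF : fitOf Y ≤ coreOf r Y := by
    rw [fitOf_eq_iSup]
    refine iSup_le fun t => ?_
    by_cases ht : (t : ℕ) = r
    · rw [ht]
    · rw [h t t.2 ht]; exact bot_le
  refine hF (mem_fitOf hY hx fun q hq => ?_)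
  by_cases hqr : q = r
  · rw [hqr]; exact hxc
  · rw [h q hq hqr]
    exact mem_centralizer_iff.mpr fun z hz => by simp [mem_bot.mp hz]

theorem cores_bot_of_piOf {r : ℕ} {Y : Subgroup G} (h : piOf {r}ᶜ Y = ⊥) {q : ℕ} (hq : q.Prime)
    (hne : q ≠ r) : coreOf q Y = ⊥ :=
  le_bot_iff.mp ((coreOf_le_piOf hq (by simpa using hne) Y).trans h.le)

theorem exists_max {H : Subgroup G} (hH : H ∈ signalizerFamily p A θ) :
    ∃ L ∈ signalizerFamily p A θ, H ≤ L ∧ ∀ R ∈ signalizerFamily p A θ, L ≤ R → R = L := by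
  obtain ⟨L, hHL, hL⟩ := (Set.toFinite (signalizerFamily p A θ)).exists_le_maximal hH
  exact ⟨L, hL.prop, hHL, fun R hR hle => le_antisymm (hL.le_of_ge hR hle) hle⟩

/-- A maximal member contains every member normalising one of its nontrivial normal members. -/
theorem le_of_max {L U V : Subgroup G} (hL : L ∈ signalizerFamily p A θ)
    (hLmax : ∀ R ∈ signalizerFamily p A θ, L ≤ R → R = L) (hU : U ∈ signalizerFamily p A θ)
    (hUne : U ≠ ⊥) (hUL : L ≤ normalizer (U : Set G)) (hV : V ∈ signalizerFamily p A θ)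
    (hVU : V ≤ normalizer (U : Set G)) : V ≤ L := by
  obtain ⟨Y, hY, -, hYmax⟩ := M.norm U hU hUne
  have hgen : ∀ W ∈ signalizerFamily p A θ, W ≤ normalizer (U : Set G) → W ≤ Y :=
    fun W hW hWU => M.gen hW fun a ha ha1 =>
      (le_inf (hW.2.2.2 a ha ha1) (inf_le_left.trans hWU)).trans (hYmax a ha ha1)
  exact (hgen V hV hVU).trans (hLmax Y hY (hgen L hL hUL)).le

/-- Maximal members are pure. -/
theorem pure {L : Subgroup G} (hL : L ∈ signalizerFamily p A θ)
    (hLmax : ∀ R ∈ signalizerFamily p A θ, L ≤ R → R = L) {r q : ℕ} (hr : r.Prime) (hq : q.Prime)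
    (hrq : q ≠ r) (hU : coreOf r L ≠ ⊥) : coreOf q L = ⊥ := by
  haveI := Fact.mk hr
  haveI := Fact.mk hq
  set U := coreOf r L with hUdef
  set V := coreOf q L with hVdef
  have hUr : IsPGroup r U := isPGroup_map_pCore r L
  have hVq : IsPGroup q V := isPGroup_map_pCore q L
  have hUV : U ≤ centralizer (V : Set G) := fun x hx => mem_centralizer_iff.mpr fun y hy =>
    commute_coreOf (M := L) (N := L) hrq (map_subtype_le _) (map_subtype_le _) hy hx
  set Z := U ⊓ centralizer (U : Set G) with hZdef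
  have hUmem := M.coreOf_mem hL r
  have hVmem := M.coreOf_mem hL q
  have hZmem : Z ∈ signalizerFamily p A θ := mem_family_of_le M.hθ hUmem inf_le_left
    ((le_inf (family_normalizer hUmem) ((family_normalizer hUmem).trans
      (CfsgLib.PLocal.normalizer_le_centralizer_normalizer _))).trans inf_normalizer_le_normalizer_inf)
  have hZne : Z ≠ ⊥ := by
    haveI : Nontrivial U := (nontrivial_iff_ne_bot _).2 hU
    haveI := hUr.center_nontrivial
    obtain ⟨z, hz⟩ := exists_ne (1 : center U)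
    intro h
    refine hz (Subtype.ext (Subtype.ext ?_))
    rw [OneMemClass.coe_one, OneMemClass.coe_one, ← mem_bot, ← h]
    exact ⟨(z : U).2, mem_centralizer_iff.mpr fun w hw =>
      congrArg Subtype.val (mem_center_iff.mp z.2 ⟨w, hw⟩)⟩
  obtain ⟨E, hE, hi, hT⟩ := M.exists_piece hZmem hZne
  set T := Z ⊓ centralizer (E : Set G) with hTdef
  have hTmem := M.piece_mem hZmem hE
  obtain ⟨Y, hY, hYT, hYmax⟩ := M.norm T hTmem hT
  have hTU : T ≤ U := inf_le_left.trans inf_le_left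
  have hYr := M.star hTmem (hUr.to_le hTU) hT hE hi inf_le_right hY hYT hYmax
  have hle : ∀ W ∈ signalizerFamily p A θ, W ≤ centralizer (T : Set G) → W ≤ Y :=
    fun W hW hWT => M.gen hW fun a ha ha1 =>
      (le_inf (hW.2.2.2 a ha ha1) ((inf_le_left.trans hWT).trans (centralizer_le_normalizer _))).trans
        (hYmax a ha ha1)
  have hUY : U ≤ Y := hle U hUmem
    (le_centralizer_iff.mp (inf_le_left.trans inf_le_right : T ≤ centralizer (U : Set G)))
  have hVY : V ≤ Y := hle V hVmem ((le_centralizer_iff.mp hUV).trans (centralizer_le hTU))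
  set R := coreOf r Y with hRdef
  have hRn := coreOf_normalizer r Y
  have hRq : R ⊓ V = ⊥ := CfsgLib.Base.inf_eq_bot_of_coprime (by
    haveI := Fact.mk hr
    exact IsPGroup.coprime_card_of_ne _ _ hrq.symm _ _ (isPGroup_map_pCore r Y) hVq)
  have hfix : R ⊓ centralizer (U : Set G) ≤ centralizer (V : Set G) := by
    have hCmem : R ⊓ centralizer (U : Set G) ∈ signalizerFamily p A θ :=
      mem_family_of_le M.hθ (M.coreOf_mem hY r) inf_le_left
        ((le_inf (family_normalizer (M.coreOf_mem hY r)) ((family_normalizer hUmem).trans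
          (CfsgLib.PLocal.normalizer_le_centralizer_normalizer _))).trans
          inf_normalizer_le_normalizer_inf)
    have hCL : R ⊓ centralizer (U : Set G) ≤ L :=
      M.le_of_max hL hLmax hUmem hU (coreOf_normalizer r L) hCmem
        (inf_le_right.trans (centralizer_le_normalizer _))
    intro x hx
    exact mem_centralizer_iff.mpr fun y hy => (commute_of_disjoint hRq hx.1 hy
      (coreOf_normalizer q L (hCL hx)) (hRn (hVY hy))).symm
  have hVR : V ≤ centralizer (R : Set G) := CfsgLib.PLocal.le_centralizer_PxQ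
    (isPGroup_map_pCore r Y) hUr
    (Nat.Coprime.symm ((Fact.out : r.Prime).coprime_iff_not_dvd.mpr fun hd => by
      obtain ⟨n, hn⟩ := IsPGroup.iff_card.mp hVq
      exact hrq ((Nat.prime_dvd_prime_iff_eq hr hq).mp (hr.dvd_of_dvd_pow (hn ▸ hd))).symm))
    (hUY.trans hRn) (hVY.trans hRn) hUV hfix
  refine le_bot_iff.mp fun y hy => hRq ▸ ⟨?_, hy⟩
  exact M.self_centralizing hY.1 (fun _ => M.cores_bot_of_piOf hYr) (hVY hy) (hVR hy)

/-- A member normalised by `θ(C_G(A))` of prime power order lies in every maximal one. -/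
theorem le_maxP {t : ℕ} [Fact t.Prime] {O P : Subgroup G} (hO : O ∈ signalizerFamily p A θ)
    (hOK : signalizerInf A θ ≤ normalizer (O : Set G)) (hOt : IsPGroup t O)
    (hP : P ∈ signalizerFamily p A θ) (hPt : IsPGroup t P)
    (hPmax : ∀ R ∈ signalizerFamily p A θ, IsPGroup t R → P ≤ R → R = P) : O ≤ P := by
  obtain ⟨Q, hQ, hQt, hOQ, hQmax⟩ := exists_maximal_ge hO hOt
  obtain ⟨c, hc, he⟩ := transitivity M.hA M.hA3 M.hθ hQ hQt hQmax hP hPt hPmax
  rw [← he, ← map_conj_eq_self_iff.mpr (hOK hc)]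
  exact map_mono hOQ

/-- Data attached to a prime `y`: a maximal member, its prime `s`, and a central piece. -/
theorem exists_data {y : ℕ} (hy : y ∈ primesOf A θ) :
    ∃ (L : Subgroup G) (s : ℕ) (U E : Subgroup G), L ∈ signalizerFamily p A θ ∧ s.Prime ∧ s ≠ y ∧
      coreOf s L ≠ ⊥ ∧
      (∀ V ∈ signalizerFamily p A θ, signalizerInf A θ ≤ normalizer (V : Set G) →
        IsPi {y}ᶜ V → V ≤ L) ∧
      (∀ R ∈ signalizerFamily p A θ, L ≤ R → R = L) ∧
      (∀ q : ℕ, q.Prime → q ≠ s → coreOf q L = ⊥) ∧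
      U ∈ signalizerFamily p A θ ∧ U ≠ ⊥ ∧ IsPGroup s U ∧ E ≤ A ∧ E.relIndex A = p ∧
      U ≤ centralizer (E : Set G) ∧
      ∀ b ∈ E, b ≠ 1 → ∀ t : ℕ, t.Prime → t ≠ y → U ≤ centralizer (coreOf t (θ b) : Set G) := by
  obtain ⟨X, hX, hXle⟩ := M.exists_cover (σ := {y}ᶜ) ⟨y, hy, fun h => h rfl⟩
  obtain ⟨L, hL, hXL, hLmax⟩ := M.exists_max hX
  have hLne : L ≠ ⊥ := by
    intro h
    obtain ⟨hyp, a, ha, ha1, hd⟩ := hy
    have h1 := hLmax _ (mem_family_of_le_value M.hθ ha ha1 le_rfl (le_normalizer_value M.hθ ha ha1))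
      (h ▸ bot_le)
    rw [h1, h, Subgroup.card_bot, Nat.dvd_one] at hd
    exact hyp.ne_one hd
  obtain ⟨s, hs, hsne⟩ := exists_coreOf_ne_bot hL.1 hLne
  haveI := Fact.mk hs
  have hpure : ∀ q : ℕ, q.Prime → q ≠ s → coreOf q L = ⊥ := fun q hq hqs =>
    M.pure hL hLmax hs hq hqs hsne
  set Q := coreOf s L
  have hQmem := M.coreOf_mem hL s
  have hQs : IsPGroup s Q := isPGroup_map_pCore s L
  obtain ⟨P, hP, hPs, hQP, hPmax⟩ := exists_maximal_ge hQmem hQs
  set Z := P ⊓ centralizer (P : Set G) with hZdef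
  have hZmem : Z ∈ signalizerFamily p A θ := mem_family_of_le M.hθ hP inf_le_left
    ((le_inf (family_normalizer hP) ((family_normalizer hP).trans
      (CfsgLib.PLocal.normalizer_le_centralizer_normalizer _))).trans inf_normalizer_le_normalizer_inf)
  have hZne : Z ≠ ⊥ := by
    haveI : Nontrivial P := (nontrivial_iff_ne_bot _).2 fun h => hsne (le_bot_iff.mp (h ▸ hQP))
    haveI := hPs.center_nontrivial
    obtain ⟨z, hz⟩ := exists_ne (1 : center P)
    intro h
    refine hz (Subtype.ext (Subtype.ext ?_))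
    rw [OneMemClass.coe_one, OneMemClass.coe_one, ← mem_bot, ← h]
    exact ⟨(z : P).2, mem_centralizer_iff.mpr fun w hw =>
      congrArg Subtype.val (mem_center_iff.mp z.2 ⟨w, hw⟩)⟩
  obtain ⟨E, hE, hi, hU⟩ := M.exists_piece hZmem hZne
  set U := Z ⊓ centralizer (E : Set G) with hUdef
  have hUmem := M.piece_mem hZmem hE
  have hUP : U ≤ P := inf_le_left.trans inf_le_left
  have hUPc : U ≤ centralizer (P : Set G) := inf_le_left.trans inf_le_right
  have hUL : U ≤ L := M.le_of_max hL hLmax hQmem hsne (coreOf_normalizer s L) hUmem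
    ((hUPc.trans (centralizer_le hQP)).trans (centralizer_le_normalizer _))
  have hUQ : U ≤ Q := fun x hx =>
    M.self_centralizing hL.1 hpure (hUL hx) (centralizer_le hQP (hUPc hx))
  have hcent : ∀ b ∈ E, b ≠ 1 → ∀ t : ℕ, t.Prime → (t ≠ y ∨ t = s) →
      U ≤ centralizer (coreOf t (θ b) : Set G) := by
    intro b hb hb1 t ht hty
    haveI := Fact.mk ht
    obtain ⟨hOmem, hOK⟩ := M.theta_core_mem (hE hb) hb1 t
    have hOt := isPGroup_map_pCore t (θ b)
    by_cases hts : t = s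
    · subst hts
      exact hUPc.trans (centralizer_le (M.le_maxP hOmem hOK hOt hP hPs hPmax))
    · have hty' : t ≠ y := hty.resolve_right hts
      have hOL : coreOf t (θ b) ≤ L :=
        (hXle _ hOmem hOK (isPi_of_isPGroup ht (by simpa using hty') hOt)).trans hXL
      intro x hx
      refine mem_centralizer_iff.mpr fun o ho => ?_
      exact commute_of_disjoint
        (CfsgLib.Base.inf_eq_bot_of_coprime (IsPGroup.coprime_card_of_ne _ _ hts _ _ hOt hQs)) ho (hUQ hx)
        (coreOf_normalizer s L (hOL ho))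
        (coreOf_normalizer t _ (M.fix_mem hUmem inf_le_right hb (hE hb) hb1 hx))
  have hsy : s ≠ y := by
    rintro rfl
    refine hU (le_bot_iff.mp fun x hx => mem_bot.mpr ?_)
    refine M.eq_one_of_cores hs hE (sq_le_of_cube_le (M.plane_card hE hi)) fun b hb hb1 => ?_
    exact le_coreOf_of_centralizes (M.hθ.2 b (hE hb) hb1) hs (hQs.to_le hUQ)
      (M.fix_mem hUmem inf_le_right hb (hE hb) hb1)
      (fun t ht => hcent b hb hb1 t ht (by tauto)) hx
  exact ⟨L, s, U, E, hL, hs, hsy, hsne,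
    fun V hV hK hπ => (hXle V hV hK hπ).trans hXL, hLmax, hpure, hUmem, hU,
    hPs.to_le hUP, hE, hi, inf_le_right, fun b hb hb1 t ht hty => hcent b hb hb1 t ht (Or.inl hty)⟩

/-- There are only two primes. -/
theorem exists_two_primes : ∃ r s : ℕ, r ∈ primesOf A θ ∧ s ∈ primesOf A θ ∧ r ≠ s ∧
    ∀ x ∈ primesOf A θ, x = r ∨ x = s := by
  obtain ⟨y, hy, -⟩ := M.two 0
  obtain ⟨L, s, U, E, hL, hs, hsy, hQne, hcover, hLmax, hpure, hU, hUne, hUs, hE, hi, hUE, hcent⟩ :=
    M.exists_data hy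
  haveI := Fact.mk hs
  have hQmem := M.coreOf_mem hL s
  have hQs : IsPGroup s (coreOf s L) := isPGroup_map_pCore s L
  refine ⟨y, s, hy, M.mem_primesOf hQmem hQne hQs, hsy.symm, fun x hx => ?_⟩
  by_contra hxne
  push Not at hxne
  obtain ⟨hxy, hxs⟩ := hxne
  obtain ⟨L', s', U', E', hL', hs', hsx, -, -, -, -, hU', hU'ne, hU's, hE', hi', hU'E, hcent'⟩ :=
    M.exists_data hx
  haveI := Fact.mk hs'
  haveI := Fact.mk hx.1
  set Q := coreOf s L
  have hOL : ∀ b ∈ A, b ≠ 1 → coreOf x (θ b) ≤ L := fun b hb hb1 =>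
    hcover _ (M.theta_core_mem hb hb1 x).1 (M.theta_core_mem hb hb1 x).2
      (isPi_of_isPGroup hx.1 (by simpa using hxy) (isPGroup_map_pCore x (θ b)))
  have hQc : ∀ b ∈ A, b ≠ 1 → ∀ V : Subgroup G, V ≤ Q → V ≤ θ b →
      V ≤ centralizer (coreOf x (θ b) : Set G) := fun b hb hb1 V hVQ hVb v hv =>
    mem_centralizer_iff.mpr fun o ho => commute_of_disjoint
      (CfsgLib.Base.inf_eq_bot_of_coprime (IsPGroup.coprime_card_of_ne _ _ hxs _ _ (isPGroup_map_pCore x (θ b)) hQs))
      ho (hVQ hv) (coreOf_normalizer s L (hOL b hb hb1 ho)) (coreOf_normalizer x _ (hVb hv))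
  have hU'Q : U' ≤ centralizer (Q : Set G) := by
    refine le_centralizer_iff.mp (M.gen_planes hQmem fun E₁ hE₁ hi₁ => ?_)
    refine le_centralizer_iff.mp (M.commute (inf_le_left.trans hE') (M.line_card hE' hi' hi₁) hU'
      (M.piece_mem hQmem hE₁) (hU'E.trans (centralizer_le inf_le_left))
      (inf_le_right.trans (centralizer_le inf_le_right)) fun b hb hb1 t ht => ?_)
    obtain ⟨hb1', hb2'⟩ := mem_inf.mp hb
    by_cases htx : t = x
    · subst htx
      exact Or.inr (hQc b (hE' hb1') hb1 _ inf_le_left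
        (M.fix_mem (M.piece_mem hQmem hE₁) inf_le_right hb2' (hE' hb1') hb1))
    · exact Or.inl (hcent' b hb1' hb1 t ht htx)
  have hU'L : U' ≤ L := M.le_of_max hL hLmax hQmem hQne (coreOf_normalizer s L) hU'
    (hU'Q.trans (centralizer_le_normalizer _))
  have hU'Qle : U' ≤ Q := fun v hv => M.self_centralizing hL.1 hpure (hU'L hv) (hU'Q hv)
  refine hU'ne (le_bot_iff.mp fun v hv => mem_bot.mpr ?_)
  refine M.eq_one_of_cores hs' hE' (sq_le_of_cube_le (M.plane_card hE' hi')) fun b hb hb1 => ?_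
  have hU'b := M.fix_mem hU' hU'E hb (hE' hb) hb1
  refine le_coreOf_of_centralizes (M.hθ.2 b (hE' hb) hb1) hs' hU's hU'b (fun t ht => ?_) hv
  by_cases htx : t = x
  · subst htx
    exact hQc b (hE' hb) hb1 U' hU'Qle hU'b
  · exact hcent' b hb hb1 t ht htx

/-- A maximal `t`-member meets each value in a Sylow `t`-subgroup. -/
theorem dvd_card_inf {t : ℕ} [Fact t.Prime] {P : Subgroup G} (hP : P ∈ signalizerFamily p A θ)
    (hPt : IsPGroup t P) (hPmax : ∀ R ∈ signalizerFamily p A θ, IsPGroup t R → P ≤ R → R = P)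
    {a : G} (ha : a ∈ A) (ha1 : a ≠ 1) :
    ∃ n, Nat.card ↥(P ⊓ θ a) = t ^ n ∧ ¬ t ^ (n + 1) ∣ Nat.card (θ a) := by
  obtain ⟨c, hc, S, hS⟩ := exists_sylow_inf M.hA M.hA3 M.hθ hP hPt hPmax
    (mem_family_of_le_value M.hθ ha ha1 le_rfl (le_normalizer_value M.hθ ha ha1))
  have h1 : (P ⊓ θ a).map (MulAut.conj c).toMonoidHom = P.map (MulAut.conj c).toMonoidHom ⊓ θ a := by
    rw [Subgroup.map_inf _ _ _ (MulAut.conj c).injective,
      map_conj_eq_self_iff.mpr (le_normalizer (M.Klep ha ha1 hc))]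
  refine ⟨(Nat.card (θ a)).factorization t, ?_, Nat.pow_succ_factorization_not_dvd Nat.card_pos.ne' Fact.out⟩
  rw [← card_map_conj c (P ⊓ θ a), h1, ← hS, card_map_subtype, S.card_eq_multiplicity]

/-- Final contradiction. -/
theorem absurd_min : False := by
  obtain ⟨r, s, hr, hs, hrs, hall⟩ := M.exists_two_primes
  haveI := Fact.mk hr.1
  haveI := Fact.mk hs.1
  have hcore : ∀ b ∈ A, b ≠ 1 → ∀ t : ℕ, t.Prime → t ≠ r → t ≠ s → coreOf t (θ b) = ⊥ := by
    intro b hb hb1 t ht htr hts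
    by_contra hne
    haveI := Fact.mk ht
    rcases hall t (M.mem_primesOf (M.theta_core_mem hb hb1 t).1 hne (isPGroup_map_pCore t (θ b)))
      with h | h
    · exact htr h
    · exact hts h
  have key : ∀ t ∈ primesOf A θ, ∃ P E U : Subgroup G, P ∈ signalizerFamily p A θ ∧ IsPGroup t P ∧
      (∀ R ∈ signalizerFamily p A θ, IsPGroup t R → P ≤ R → R = P) ∧ E ≤ A ∧ E.relIndex A = p ∧
      U ∈ signalizerFamily p A θ ∧ U ≠ ⊥ ∧ U ≤ P ∧ U ≤ centralizer (P : Set G) ∧
      U ≤ centralizer (E : Set G) := by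
    rintro t ⟨htp, a, ha, ha1, hd⟩
    haveI := Fact.mk htp
    have hmem := mem_family_of_le_value M.hθ ha ha1 le_rfl (le_normalizer_value M.hθ ha ha1)
    obtain ⟨S, hS⟩ := CfsgLib.Coprime.exists_invariant_sylow (p := t) (family_normalizer hmem)
      (coprime_of_not_dvd M.hA hmem.2.1) (Or.inr hmem.1)
    obtain ⟨P, hP, hPt, hSP, hPmax⟩ := exists_maximal_ge
      (mem_family_of_le M.hθ hmem (map_subtype_le (S : Subgroup (θ a))) hS) (S.isPGroup'.map _)
    haveI : Nontrivial P := (nontrivial_iff_ne_bot _).2 fun h => by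
      refine S.ne_bot_of_dvd_card hd ((Subgroup.map_eq_bot_iff_of_injective _
        (θ a).subtype_injective).mp (le_bot_iff.mp (h ▸ hSP)))
    haveI := hPt.center_nontrivial
    have hZne : P ⊓ centralizer (P : Set G) ≠ ⊥ := by
      obtain ⟨z, hz⟩ := exists_ne (1 : center P)
      intro h
      refine hz (Subtype.ext (Subtype.ext ?_))
      rw [OneMemClass.coe_one, OneMemClass.coe_one, ← mem_bot, ← h]
      exact ⟨(z : P).2, mem_centralizer_iff.mpr fun w hw =>
        congrArg Subtype.val (mem_center_iff.mp z.2 ⟨w, hw⟩)⟩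
    have hZmem : P ⊓ centralizer (P : Set G) ∈ signalizerFamily p A θ :=
      mem_family_of_le M.hθ hP inf_le_left ((le_inf (family_normalizer hP) ((family_normalizer hP).trans
        (CfsgLib.PLocal.normalizer_le_centralizer_normalizer _))).trans inf_normalizer_le_normalizer_inf)
    obtain ⟨E, hE, hi, hU⟩ := M.exists_piece hZmem hZne
    exact ⟨P, E, _, hP, hPt, hPmax, hE, hi, M.piece_mem hZmem hE, hU,
      inf_le_left.trans inf_le_left, inf_le_left.trans inf_le_right, inf_le_right⟩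
  obtain ⟨Ps, E, U, hPs, hPss, hPsmax, hE, hi, hU, hUne, hUP, hUc, hUE⟩ := key s hs
  obtain ⟨Pr, F, V, hPr, hPrr, hPrmax, hF, hiF, hV, hVne, hVP, hVc, hVF⟩ := key r hr
  have hcs : ∀ b ∈ A, b ≠ 1 → U ≤ centralizer (coreOf s (θ b) : Set G) := fun b hb hb1 =>
    hUc.trans (centralizer_le (M.le_maxP (M.theta_core_mem hb hb1 s).1 (M.theta_core_mem hb hb1 s).2
      (isPGroup_map_pCore s _) hPs hPss hPsmax))
  have hcr : ∀ b ∈ A, b ≠ 1 → V ≤ centralizer (coreOf r (θ b) : Set G) := fun b hb hb1 =>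
    hVc.trans (centralizer_le (M.le_maxP (M.theta_core_mem hb hb1 r).1 (M.theta_core_mem hb hb1 r).2
      (isPGroup_map_pCore r _) hPr hPrr hPrmax))
  have hVU : V ≤ centralizer (U : Set G) := by
    refine le_centralizer_iff.mp (M.commute (inf_le_left.trans hE) (M.line_card hE hi hiF) hU hV
      (hUE.trans (centralizer_le inf_le_left)) (hVF.trans (centralizer_le inf_le_right))
      fun b hb hb1 t ht => ?_)
    have hbA : b ∈ A := hE (mem_inf.mp hb).1
    by_cases hts : t = s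
    · subst hts; exact Or.inl (hcs b hbA hb1)
    by_cases htr : t = r
    · subst htr; exact Or.inr (hcr b hbA hb1)
    refine Or.inl ?_
    rw [hcore b hbA hb1 t ht htr hts]
    exact fun x _ => mem_centralizer_iff.mpr fun z hz => by simp [mem_bot.mp hz]
  obtain ⟨Y, hY, hYU, hYmax⟩ := M.norm U hU hUne
  have hYs := M.star hU (hPss.to_le hUP) hUne hE hi hUE hY hYU hYmax
  have hgen : ∀ W ∈ signalizerFamily p A θ, W ≤ centralizer (U : Set G) → W ≤ Y :=
    fun W hW hWU => M.gen hW fun a ha ha1 =>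
      (le_inf (hW.2.2.2 a ha ha1) ((inf_le_left.trans hWU).trans (centralizer_le_normalizer _))).trans
        (hYmax a ha ha1)
  have hPY : Ps ≤ Y := hgen Ps hPs (le_centralizer_iff.mp hUc)
  have hVY : V ≤ Y := hgen V hV hVU
  set Q := coreOf s Y with hQdef
  have hQmem := M.coreOf_mem hY s
  have hVQ : V ≤ centralizer (Q : Set G) := by
    refine le_centralizer_iff.mp (M.gen_planes hQmem fun E₁ hE₁ hi₁ x hx => ?_)
    refine mem_centralizer_iff.mpr fun v hv => ?_
    rw [← commutatorElement_eq_one_iff_mul_comm]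
    refine M.eq_one_of_cores hs.1 (inf_le_left.trans hF) (M.line_card hF hiF hi₁) fun b hb hb1 => ?_
    obtain ⟨hbF, hbE⟩ := mem_inf.mp hb
    have hbA : b ∈ A := hF hbF
    have hVb := M.fix_mem hV hVF hbF hbA hb1
    have hxb : x ∈ θ b := M.fix_mem (M.piece_mem hQmem hE₁) inf_le_right hbE hbA hb1 hx
    set H := θ b
    haveI : Group.IsSolvable H := M.hθ.2 b hbA hb1
    -- the normal closure of `V` in `H` lies in `Y`
    set D : Subgroup G := closure {w | ∃ h ∈ H, ∃ z ∈ V, h * z * h⁻¹ = w}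
    have hDH : D ≤ H := (closure_le _).mpr fun w ⟨h, hh, z, hz, e⟩ =>
      e ▸ mul_mem (mul_mem hh (hVb hz)) (inv_mem hh)
    have hHD : H ≤ normalizer (D : Set G) := by
      refine le_normalizer_of_conj_mem fun h hh d hd => ?_
      have : D ≤ D.comap (MulAut.conj h).toMonoidHom := (closure_le _).mpr
        fun w ⟨h', hh', z, hz, e⟩ => subset_closure ⟨h * h', mul_mem hh hh', z, hz, by
          rw [← e]; show _ = h * (h' * z * h'⁻¹) * h⁻¹; group⟩
      exact this hd
    have hprod : ∀ h ∈ H, ∃ a ∈ Ps ⊓ H, ∃ c ∈ Pr ⊓ H, h = a * c := by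
      obtain ⟨m, hm, hm'⟩ := M.dvd_card_inf hPs hPss hPsmax hbA hb1
      obtain ⟨n, hn, hn'⟩ := M.dvd_card_inf hPr hPrr hPrmax hbA hb1
      have hcop : (Nat.card ↥(Ps ⊓ H)).Coprime (Nat.card ↥(Pr ⊓ H)) := by
        rw [hm, hn]
        exact Nat.Coprime.pow m n ((Nat.coprime_primes hs.1 hr.1).mpr hrs.symm)
      have hH : Nat.card H = Nat.card ↥(Ps ⊓ H) * Nat.card ↥(Pr ⊓ H) := by
        obtain ⟨k, hk⟩ := hcop.mul_dvd_of_dvd_of_dvd (card_dvd_of_le (inf_le_right : Ps ⊓ H ≤ H))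
          (card_dvd_of_le (inf_le_right : Pr ⊓ H ≤ H))
        rcases eq_or_ne k 1 with rfl | hk1
        · rw [hk, mul_one]
        obtain ⟨q, hq, hqk⟩ := Nat.exists_prime_and_dvd hk1
        have hqH : q ∣ Nat.card H := hqk.trans (hk ▸ dvd_mul_left _ _)
        rcases hall q ⟨hq, b, hbA, hb1, hqH⟩ with rfl | rfl
        · refine absurd ?_ hn'
          rw [hk, hn, pow_succ]
          exact (mul_dvd_mul_left _ hqk).trans ⟨Nat.card ↥(Ps ⊓ H), by ring⟩
        · refine absurd ?_ hm'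
          rw [hk, hm, pow_succ]
          exact (mul_dvd_mul_left _ hqk).trans ⟨Nat.card ↥(Pr ⊓ H), by ring⟩
      let f : ↥(Ps ⊓ H) × ↥(Pr ⊓ H) → H := fun ac =>
        ⟨(ac.1 : G) * ac.2, mul_mem ac.1.2.2 ac.2.2.2⟩
      have hf : Function.Injective f := by
        rintro ⟨a, c⟩ ⟨a', c'⟩ e
        have e' : (a : G) * c = a' * c' := congrArg Subtype.val e
        have h1 : (a' : G)⁻¹ * a = c' * (c : G)⁻¹ := by
          rw [eq_mul_inv_iff_mul_eq, mul_assoc, e', inv_mul_cancel_left]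
        have h2 : (a' : G)⁻¹ * a = 1 := mem_bot.mp (CfsgLib.Base.inf_eq_bot_of_coprime hcop ▸
          mem_inf.mpr ⟨mul_mem (inv_mem a'.2) a.2, h1 ▸ mul_mem c'.2 (inv_mem c.2)⟩)
        have ha : a = a' := Subtype.ext (inv_mul_eq_one.mp h2).symm
        subst ha
        exact Prod.ext rfl (Subtype.ext (mul_left_cancel e'))
      have hfb : Function.Bijective f := (Nat.bijective_iff_injective_and_card f).mpr
        ⟨hf, by rw [Nat.card_prod, hH]⟩
      intro h hh
      obtain ⟨⟨a, c⟩, e⟩ := hfb.2 ⟨h, hh⟩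
      exact ⟨a, a.2, c, c.2, (congrArg Subtype.val e).symm⟩
    have hDY : D ≤ Y := (closure_le _).mpr fun w ⟨h, hh, z, hz, e⟩ => by
      obtain ⟨a, ha, c, hc, rfl⟩ := hprod h hh
      have hcz : c * z * c⁻¹ = z := by
        rw [mem_centralizer_iff.mp (hVc hz) c hc.1, mul_inv_cancel_right]
      have : w = a * z * a⁻¹ := by
        rw [← e, show a * c * z * (a * c)⁻¹ = a * (c * z * c⁻¹) * a⁻¹ by group, hcz]
      exact this ▸ mul_mem (mul_mem (hPY ha.1) (hVY hz)) (inv_mem (hPY ha.1))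
    have hvD : v ∈ D := subset_closure ⟨1, one_mem H, v, hv, by simp⟩
    have hcD : ⁅v, x⁆ ∈ D ⊓ Q := by
      refine mem_inf.mpr ⟨?_, ?_⟩
      · have e : ⁅v, x⁆ = v * (x * v⁻¹ * x⁻¹) := by rw [commutatorElement_def]; group
        rw [e]
        exact mul_mem hvD ((mem_normalizer_iff.mp (hHD hxb) _).mp (inv_mem hvD))
      · rw [commutatorElement_def]
        exact mul_mem ((mem_normalizer_iff.mp (coreOf_normalizer s Y (hVY hv)) _).mp hx.1) (inv_mem hx.1)
    have hDQ : D ⊓ Q ≤ coreOf s D := by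
      rw [← piOf_singleton hs.1]
      exact le_piOf inf_le_left ((le_inf le_normalizer (hDY.trans (coreOf_normalizer s Y))).trans
        inf_normalizer_le_normalizer_inf)
        ((isPi_of_isPGroup hs.1 (Set.mem_singleton s) (isPGroup_map_pCore s Y)).to_le inf_le_right)
    have hDs : coreOf s D ≤ coreOf s H := by
      rw [← piOf_singleton hs.1, ← piOf_singleton hs.1]
      exact le_piOf ((piOf_le _ _).trans hDH) (hHD.trans (normalizer_le_piOf _ _)) (piOf_isPi _ _)
    exact hDs (hDQ hcD)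
  refine hVne (le_bot_iff.mp fun v hv => ?_)
  have hvQ : v ∈ Q := M.self_centralizing hY.1 (fun _ => M.cores_bot_of_piOf hYs) (hVY hv) (hVQ hv)
  rw [← CfsgLib.Base.inf_eq_bot_of_coprime (IsPGroup.coprime_card_of_ne _ _ hrs.symm _ _ (isPGroup_map_pCore s Y)
    (hPrr.to_le hVP))]
  exact ⟨hvQ, hv⟩

end Min

end CfsgLib.FgsB.Goldschmidt
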