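import Mathlib
import Cfsg.Agent.Lib.FgsB.GoldschmidtMain

/-!
# The solvable signalizer functor theorem for rank at least four

If `A` is elementary abelian of order at least `p ^ 4` and `θ` is a solvable `A`-signalizer functor,
then `θ` is complete and its completion is solvable.
-/

set_option autoImplicit false
set_option linter.style.haveILetI false
set_option linter.unusedSectionVars false

open scoped Pointwise commutatorElement

namespace CfsgLib.FgsB.Goldschmidt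

open Cfsg Subgroup CfsgLib.Base CfsgLib.Signalizer CfsgLib.Components

universe u

variable {G : Type u} [Group G] [Finite G] {p : ℕ} [Fact p.Prime] {A : Subgroup G}
  {θ : G → Subgroup G}

/-- Some member contains all values. -/
def Comp (p : ℕ) (A : Subgroup G) (θ : G → Subgroup G) : Prop :=
  ∃ X ∈ signalizerFamily p A θ, ∀ a ∈ A, a ≠ 1 → θ a ≤ X

theorem comp_of_isPGroup (hA : IsElementaryAbelian p A) (hA4 : p ^ 4 ≤ Nat.card A)
    (hθ : IsSolvableSignalizerFunctor p A θ) {t : ℕ} [Fact t.Prime]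
    (h : ∀ a ∈ A, a ≠ 1 → IsPGroup t (θ a)) : Comp p A θ := by
  have hA3 : p ^ 3 ≤ Nat.card A :=
    (Nat.pow_le_pow_right (Fact.out : p.Prime).pos (by norm_num)).trans hA4
  obtain ⟨-, X, hXA, hXp, hXe⟩ := complete_of_isPGroup hA hA3 hθ h
  have hAX : A ≤ normalizer (X : Set G) := conj_invariant_iff.mp hXA
  have hAsol : Group.IsSolvable A := haveI := (elemAb_isPGroup hA).isNilpotent; inferInstance
  have hXt : IsPGroup t X := by
    refine IsPGroup.of_card (n := (Nat.card X).primeFactorsList.length)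
      (Nat.eq_prime_pow_of_unique_prime_dvd Nat.card_pos.ne' fun {q} hq hqX => ?_)
    by_contra hne
    haveI := Fact.mk hq
    obtain ⟨S, hS⟩ := CfsgLib.Coprime.exists_invariant_sylow (p := q) hAX
      (coprime_of_not_dvd hA hXp) (Or.inl hAsol)
    refine S.ne_bot_of_dvd_card hqX
      ((Subgroup.map_eq_bot_iff_of_injective _ X.subtype_injective).mp (le_bot_iff.mp ?_))
    refine le_of_points hA le_rfl (sq_le_of_cube_le hA3)
      (fun hd => hXp (hd.trans (card_dvd_of_le (map_subtype_le _)))) hS fun a ha ha1 x hx => ?_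
    rw [← CfsgLib.Base.inf_eq_bot_of_coprime
      (IsPGroup.coprime_card_of_ne _ _ hne _ _ (S.isPGroup'.map X.subtype) (h a ha ha1))]
    exact mem_inf.mpr ⟨hx.1, (hXe a ha ha1).le ⟨map_subtype_le _ hx.1, hx.2⟩⟩
  refine ⟨X, ⟨?_, hXp, hXA, fun a ha ha1 => (hXe a ha ha1).le⟩,
    fun a ha ha1 => (hXe a ha ha1).ge.trans inf_le_left⟩
  haveI := hXt.isNilpotent
  infer_instance

theorem comp_restrict (hA : IsElementaryAbelian p A) (hA4 : p ^ 4 ≤ Nat.card A)
    (hθ : IsSolvableSignalizerFunctor p A θ) (N : Subgroup G) (hAN : A ≤ N)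
    (ih : ∀ (A' : Subgroup N) (θ' : N → Subgroup N), IsElementaryAbelian p A' →
      p ^ 4 ≤ Nat.card A' → IsSolvableSignalizerFunctor p A' θ' → Comp p A' θ') :
    ∃ Y ∈ signalizerFamily p A θ, Y ≤ N ∧ ∀ a ∈ A, a ≠ 1 → θ a ⊓ N ≤ Y := by
  let A' : Subgroup N := A.subgroupOf N
  let θ' : N → Subgroup N := fun x => (θ x).subgroupOf N
  have hcent : ∀ (a x : N), x ∈ centralizer ({a} : Set N) ↔ (x : G) ∈ centralizer ({(a : G)} : Set G) :=
    fun a x => by simp [mem_centralizer_singleton_iff, Subtype.ext_iff]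
  have hne : ∀ a : N, a ≠ 1 → (a : G) ≠ 1 := fun a ha h => ha (Subtype.ext h)
  have hA' : IsElementaryAbelian p A' := by
    refine ⟨⟨⟨fun a b => Subtype.ext (Subtype.ext ?_)⟩⟩, fun a ha => Subtype.ext ?_⟩
    · exact elemAb_comm hA a.2 b.2
    · simpa using hA.2 (a : G) ha
  have hcard : p ^ 4 ≤ Nat.card A' := by rw [card_subgroupOf hAN]; exact hA4
  have hθ' : IsSolvableSignalizerFunctor p A' θ' := by
    refine ⟨⟨fun a ha ha1 x hx => (hcent a x).mpr (hθ.1.1 a ha (hne a ha1) hx), fun a ha ha1 hd => ?_,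
      fun a ha ha1 b hb x hx => hθ.1.2.2.1 a ha (hne a ha1) b hb x hx,
      fun a ha ha1 b hb hb1 x hx => hθ.1.2.2.2 a ha (hne a ha1) b hb (hne b hb1)
        ⟨hx.1, (hcent b x).mp hx.2⟩⟩, fun a ha ha1 => ?_⟩
    · exact hθ.1.2.1 a ha (hne a ha1)
        (hd.trans (card_comap_dvd_of_injective (θ (a : G)) N.subtype N.subtype_injective))
    · exact CfsgLib.Coprime.isSolvable_subgroupOf N (hθ.2 a ha (hne a ha1))
  obtain ⟨X, hX, hXle⟩ := ih A' θ' hA' hcard hθ'
  refine ⟨X.map N.subtype, ⟨?_, ?_, ?_, ?_⟩, map_subtype_le X, fun a ha ha1 x hx => ?_⟩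
  · haveI := hX.1
    exact Group.isSolvable_of_surjective (N.subtype.subgroupMap_surjective X)
  · rw [card_map_subtype]; exact hX.2.1
  · rintro b hb _ ⟨x, hx, rfl⟩
    exact ⟨⟨b, hAN hb⟩ * x * ⟨b, hAN hb⟩⁻¹, hX.2.2.1 _ hb x hx, rfl⟩
  · rintro a ha ha1 y hy
    obtain ⟨⟨x, hx, rfl⟩, hy2⟩ := mem_inf.mp hy
    exact hX.2.2.2 ⟨a, hAN ha⟩ ha (fun h => ha1 (congrArg Subtype.val h))
      ⟨hx, (hcent ⟨a, hAN ha⟩ x).mpr hy2⟩
  · exact ⟨⟨x, hx.2⟩, hXle ⟨a, hAN ha⟩ ha (fun h => ha1 (congrArg Subtype.val h)) hx.1, rfl⟩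

theorem comp_quotient (hA : IsElementaryAbelian p A) (hA4 : p ^ 4 ≤ Nat.card A)
    (hθ : IsSolvableSignalizerFunctor p A θ) {W : Subgroup G} [W.Normal]
    (hW : W ∈ signalizerFamily p A θ)
    (ih : ∀ (A' : Subgroup (G ⧸ W)) (θ' : G ⧸ W → Subgroup (G ⧸ W)), IsElementaryAbelian p A' →
      p ^ 4 ≤ Nat.card A' → IsSolvableSignalizerFunctor p A' θ' → Comp p A' θ') :
    Comp p A θ := by
  let π := QuotientGroup.mk' W
  have hAW : A ⊓ W = ⊥ := CfsgLib.Base.inf_eq_bot_of_coprime (coprime_of_not_dvd hA hW.2.1)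
  have hinj : ∀ a ∈ A, ∀ b ∈ A, π a = π b → a = b := by
    intro a ha b hb e
    have h1 : a⁻¹ * b ∈ A ⊓ W := mem_inf.mpr ⟨mul_mem (inv_mem ha) hb, QuotientGroup.eq.mp e⟩
    rw [hAW, mem_bot, inv_mul_eq_one] at h1
    exact h1
  let A' : Subgroup (G ⧸ W) := A.map π
  let θ' : G ⧸ W → Subgroup (G ⧸ W) := fun x => ⨆ a : {a : G // a ∈ A ∧ π a = x}, (θ (a : G)).map π
  have hval : ∀ a ∈ A, θ' (π a) = (θ a).map π := by
    intro a ha
    refine le_antisymm (iSup_le fun b => ?_) (le_iSup_of_le ⟨a, ha, rfl⟩ le_rfl)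
    rw [hinj b b.2.1 a ha b.2.2]
  have hne : ∀ a : G, π a ≠ 1 → a ≠ 1 := fun a ha h => ha (by rw [h, map_one])
  have hA' : IsElementaryAbelian p A' := by
    refine ⟨⟨⟨?_⟩⟩, ?_⟩
    · rintro ⟨_, a, ha, rfl⟩ ⟨_, b, hb, rfl⟩
      exact Subtype.ext (show π a * π b = π b * π a by rw [← map_mul, elemAb_comm hA ha hb, map_mul])
    · rintro _ ⟨a, ha, rfl⟩
      rw [← map_pow, hA.2 a ha, map_one]
  have hcard : p ^ 4 ≤ Nat.card A' := by
    have hb : Function.Bijective fun a : A => (⟨π a, mem_map_of_mem π a.2⟩ : A') :=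
      ⟨fun a b e => Subtype.ext (hinj a a.2 b b.2 (congrArg Subtype.val e)),
        fun ⟨_, a, ha, e⟩ => ⟨⟨a, ha⟩, Subtype.ext e⟩⟩
    rw [← Nat.card_congr (Equiv.ofBijective _ hb)]
    exact hA4
  have hθ' : IsSolvableSignalizerFunctor p A' θ' := by
    refine ⟨⟨?_, ?_, ?_, ?_⟩, ?_⟩
    · rintro _ ⟨a, ha, rfl⟩ ha1
      rw [hval a ha]
      rintro _ ⟨x, hx, rfl⟩
      rw [mem_centralizer_singleton_iff, ← map_mul, ← map_mul,
        mem_centralizer_singleton_iff.mp (hθ.1.1 a ha (hne a ha1) hx)]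
    · rintro _ ⟨a, ha, rfl⟩ ha1 hd
      rw [hval a ha] at hd
      exact hθ.1.2.1 a ha (hne a ha1) (hd.trans (Subgroup.card_map_dvd _ _))
    · rintro _ ⟨a, ha, rfl⟩ ha1 _ ⟨b, hb, rfl⟩ x hx
      rw [hval a ha] at hx ⊢
      obtain ⟨y, hy, rfl⟩ := hx
      exact ⟨b * y * b⁻¹, hθ.1.2.2.1 a ha (hne a ha1) b hb y hy, by simp⟩
    · rintro _ ⟨a, ha, rfl⟩ ha1 _ ⟨b, hb, rfl⟩ hb1
      rw [hval a ha, hval b hb]
      refine (map_inf_centralizer_le (le_normalizer_value hθ ha (hne a ha1) hb)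
        ((coprime_of_not_dvd hA hW.2.1).coprime_dvd_left ?_)).trans
        (map_mono (balance hθ ha (hne a ha1) hb (hne b hb1)))
      exact orderOf_coe (⟨b, hb⟩ : A) ▸ orderOf_dvd_natCard _
    · rintro _ ⟨a, ha, rfl⟩ ha1
      rw [hval a ha]
      haveI := hθ.2 a ha (hne a ha1)
      exact Group.isSolvable_of_surjective (π.subgroupMap_surjective (θ a))
  obtain ⟨X, hX, hXle⟩ := ih A' θ' hA' hcard hθ'
  have hne' : ∀ a ∈ A, a ≠ 1 → π a ≠ 1 := fun a ha ha1 h =>
    ha1 (hinj a ha 1 (one_mem A) (by rw [h, map_one]))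
  refine ⟨X.comap π, ⟨?_, ?_, ?_, ?_⟩, fun a ha ha1 => ?_⟩
  · haveI := hX.1
    haveI := hW.1
    let g : ↥(X.comap π) →* X := π.subgroupComap X
    have hker : g.ker ≤ (inclusion (show W ≤ X.comap π from fun w hw => by
        show π w ∈ X
        rw [show π w = 1 from (QuotientGroup.eq_one_iff w).mpr hw]
        exact one_mem X)).range := by
      rintro ⟨x, hx⟩ hk
      have hxW : x ∈ W := (QuotientGroup.eq_one_iff x).mp (congrArg Subtype.val (MonoidHom.mem_ker.mp hk))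
      exact ⟨⟨x, hxW⟩, rfl⟩
    exact Group.isSolvable_of_ker_le_range _ g hker
  · intro hd
    rw [card_comap_mk'] at hd
    exact ((Fact.out : p.Prime).dvd_mul.mp hd).elim hW.2.1 hX.2.1
  · intro b hb x hx
    show π (b * x * b⁻¹) ∈ X
    rw [map_mul, map_mul, map_inv]
    exact hX.2.2.1 _ (mem_map_of_mem π hb) _ hx
  · intro a ha ha1 x hx
    have h1 : π x ∈ θ' (π a) := by
      refine hX.2.2.2 (π a) (mem_map_of_mem π ha) (hne' a ha ha1) ⟨hx.1, ?_⟩
      refine mem_centralizer_singleton_iff.mpr ?_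
      rw [← map_mul, ← map_mul, mem_centralizer_singleton_iff.mp hx.2]
    rw [hval a ha] at h1
    obtain ⟨t, ht, he⟩ := h1
    have hw : t⁻¹ * x ∈ θ a := hW.2.2.2 a ha ha1
      (mem_inf.mpr ⟨QuotientGroup.eq.mp he, mul_mem (inv_mem (le_centralizer hθ ha ha1 ht)) hx.2⟩)
    simpa using mul_mem ht hw
  · exact map_le_iff_le_comap.mp ((hval a ha).ge.trans (hXle _ (mem_map_of_mem π ha) (hne' a ha ha1)))

/-- The weight of a functor. -/
noncomputable def weight (A : Subgroup G) (θ : G → Subgroup G) : ℕ :=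
  {x : G × G | x.1 ∈ A ∧ x.1 ≠ 1 ∧ x.2 ∈ θ x.1}.ncard

theorem comp_aux : ∀ (n : ℕ) (G : Type u) [Group G] [Finite G], Nat.card G = n →
    ∀ (A : Subgroup G) (θ : G → Subgroup G), IsElementaryAbelian p A → p ^ 4 ≤ Nat.card A →
      IsSolvableSignalizerFunctor p A θ → Comp p A θ := by
  intro n
  induction n using Nat.strong_induction_on with
  | _ n ih =>
  intro G _ _ hn A θ hA hA4
  suffices ∀ m (θ : G → Subgroup G), weight A θ = m → IsSolvableSignalizerFunctor p A θ → Comp p A θ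
    from this _ θ rfl
  clear θ
  intro m
  induction m using Nat.strong_induction_on with
  | _ m ihm =>
  intro θ hm hθ
  by_contra hC
  have hA3 : p ^ 3 ≤ Nat.card A :=
    (Nat.pow_le_pow_right (Fact.out : p.Prime).pos (by norm_num)).trans hA4
  have hres : ∀ N : Subgroup G, A ≤ N → N ≠ ⊤ →
      ∃ Y ∈ signalizerFamily p A θ, Y ≤ N ∧ ∀ a ∈ A, a ≠ 1 → θ a ⊓ N ≤ Y := fun N hAN hN =>
    comp_restrict hA hA4 hθ N hAN
      (ih _ (hn ▸ CfsgLib.Coprime.card_lt_of_ne_top hN) N rfl)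
  have htwo : ∀ s : ℕ, ∃ x ∈ primesOf A θ, x ≠ s := by
    intro s
    by_contra hcon
    push Not at hcon
    have hone : ∀ t : ℕ, t.Prime → (∀ x ∈ primesOf A θ, x = t) → False := by
      intro t ht hall
      haveI := Fact.mk ht
      exact hC (comp_of_isPGroup hA hA4 hθ fun a ha ha1 =>
        IsPGroup.of_card (n := (Nat.card (θ a)).primeFactorsList.length)
          (Nat.eq_prime_pow_of_unique_prime_dvd Nat.card_pos.ne'
            fun {q} hq hd => hall q ⟨hq, a, ha, ha1, hd⟩))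
    by_cases hs : s.Prime
    · exact hone s hs hcon
    · exact hone 2 Nat.prime_two fun x hx => absurd ((hcon x hx) ▸ hx.1) hs
  have hnormal : ∀ W ∈ signalizerFamily p A θ, W ≠ ⊥ →
      ∃ a ∈ A, a ≠ 1 ∧ ¬ θ a ≤ normalizer (W : Set G) := by
    intro W hW hWne
    by_contra hcon
    push Not at hcon
    rcases eq_or_ne (normalizer (W : Set G)) ⊤ with htop | htop
    · haveI : W.Normal := normalizer_eq_top_iff.mp htop
      exact hC (comp_quotient hA hA4 hθ hW
        (ih _ (hn ▸ CfsgLib.Coprime.card_quotient_lt hWne) (G ⧸ W) rfl))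
    · obtain ⟨Y, hY, -, hYle⟩ := hres _ (family_normalizer hW) htop
      exact hC ⟨Y, hY, fun a ha ha1 => (le_inf le_rfl (hcon a ha ha1)).trans (hYle a ha ha1)⟩
  refine Min.absurd_min (A := A) (θ := θ) ⟨hA, hA4, hθ, hnormal, fun T hT hTne => ?_, ?_, htwo⟩
  · refine hres _ (family_normalizer hT) fun htop => ?_
    obtain ⟨a, -, -, hna⟩ := hnormal T hT hTne
    exact hna (htop ▸ le_top)
  · rintro σ ⟨x, ⟨hxp, a, ha, ha1, hd⟩, hxσ⟩
    have hlt : weight A (piFree A θ σ) < m := by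
      rw [← hm]
      refine Set.ncard_lt_ncard ?_ (Set.toFinite _)
      have hsub : {y : G × G | y.1 ∈ A ∧ y.1 ≠ 1 ∧ y.2 ∈ piFree A θ σ y.1} ⊆
          {y : G × G | y.1 ∈ A ∧ y.1 ≠ 1 ∧ y.2 ∈ θ y.1} :=
        fun y hy => ⟨hy.1, hy.2.1, piFree_le hy.2.2⟩
      refine (Set.ssubset_iff_of_subset hsub).mpr ?_
      haveI := Fact.mk hxp
      obtain ⟨z, hz⟩ := exists_prime_orderOf_dvd_card' x hd
      refine ⟨(a, (z : G)), ⟨ha, ha1, z.2⟩, fun h => hxσ ?_⟩
      refine piFree_isPi hA hθ ha ha1 x hxp ?_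
      have h1 : orderOf (z : G) ∣ Nat.card (piFree A θ σ a) :=
        orderOf_coe (⟨(z : G), h.2.2⟩ : piFree A θ σ a) ▸ orderOf_dvd_natCard _
      rwa [orderOf_coe, hz] at h1
    obtain ⟨X, hX, hXle⟩ := ihm _ hlt _ rfl (piFree_functor hA hθ σ)
    exact ⟨X, ⟨hX.1, hX.2.1, hX.2.2.1,
      fun b hb hb1 => (hX.2.2.2 b hb hb1).trans piFree_le⟩, hXle⟩

/-- **Solvable signalizer functor theorem in rank at least four.** -/
theorem comp_of_four_le (hA : IsElementaryAbelian p A) (hA4 : p ^ 4 ≤ Nat.card A)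
    (hθ : IsSolvableSignalizerFunctor p A θ) : Comp p A θ :=
  comp_aux (Nat.card G) G rfl A θ hA hA4 hθ

theorem complete_of_four_le (hA : IsElementaryAbelian p A) (hA4 : p ^ 4 ≤ Nat.card A)
    (hθ : IsSolvableSignalizerFunctor p A θ) : IsCompleteSignalizerFunctor p A θ := by
  obtain ⟨X, hX, hXle⟩ := comp_of_four_le hA hA4 hθ
  exact ⟨hθ.1, X, hX.2.2.1, hX.2.1, fun a ha ha1 =>
    le_antisymm (hX.2.2.2 a ha ha1) (le_inf (hXle a ha ha1) (le_centralizer hθ ha ha1))⟩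

/-- A group of order prime to `p` on which an elementary abelian `p`-group of rank at least four
acts with solvable fixed points is solvable. -/
theorem isSolvable_of_centralizers {X : Subgroup G} (hA : IsElementaryAbelian p A)
    (hA4 : p ^ 4 ≤ Nat.card A) (hAX : A ≤ normalizer (X : Set G)) (hXp : ¬ p ∣ Nat.card X)
    (h : ∀ a ∈ A, a ≠ 1 → Group.IsSolvable ↥(X ⊓ centralizer ({a} : Set G))) :
    Group.IsSolvable X := by
  have hA3 : p ^ 3 ≤ Nat.card A :=
    (Nat.pow_le_pow_right (Fact.out : p.Prime).pos (by norm_num)).trans hA4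
  have hθ : IsSolvableSignalizerFunctor p A (fun a => X ⊓ centralizer ({a} : Set G)) := by
    refine ⟨⟨fun a _ _ => inf_le_right, fun a _ _ hd => hXp (hd.trans (card_dvd_of_le inf_le_left)),
      fun a ha _ => conj_invariant_iff.mpr ?_, fun a _ _ b _ _ => inf_le_inf_right _ inf_le_left⟩, h⟩
    refine (le_inf hAX ?_).trans inf_normalizer_le_normalizer_inf
    rw [← centralizer_singleton_eq]
    exact le_normalizer_centralizer_of_le hA (zpowers_le.mpr ha)
  obtain ⟨Y, hY, hYle⟩ := comp_of_four_le hA hA4 hθ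
  have hXY : X ≤ Y := le_of_points hA le_rfl (sq_le_of_cube_le hA3) hXp hAX hYle
  exact CfsgLib.Coprime.isSolvable_of_le hXY hY.1

end CfsgLib.FgsB.Goldschmidt
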