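import Mathlib

/-!
Small general lemmas: classes and centralizer indices, conjugating `p`-elements into a Sylow
subgroup, conjugates of a proper subgroup do not cover.
-/

set_option autoImplicit false

namespace CfsgLib.FgsB

variable {G : Type*} [Group G]

theorem card_isConj_eq_index (g : G) :
    Nat.card {h : G // IsConj g h} = (Subgroup.centralizer ({g} : Set G)).index := by
  have h : (Subgroup.centralizer ({g} : Set G)).index = (MulAction.stabilizer (ConjAct G) g).index := by
    rw [Subgroup.centralizer_eq_comap_stabilizer]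
    exact Subgroup.index_comap_of_surjective _ (ConjAct.toConjAct (G := G)).surjective
  rw [h, MulAction.index_stabilizer, ← Nat.card_coe_set_eq]
  refine Nat.card_congr (Equiv.subtypeEquivRight fun h => ?_)
  rw [ConjAct.mem_orbit_conjAct]
  exact isConj_comm

theorem ncard_carrier_eq_index (g : G) :
    (ConjClasses.mk g).carrier.ncard = (Subgroup.centralizer ({g} : Set G)).index := by
  rw [← card_isConj_eq_index, ← Nat.card_coe_set_eq]
  refine Nat.card_congr (Equiv.subtypeEquivRight fun h => ?_)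
  rw [ConjClasses.mem_carrier_iff_mk_eq, ConjClasses.mk_eq_mk_iff_isConj]
  exact isConj_comm

theorem card_carrier_eq_index (g : G) :
    Nat.card (ConjClasses.mk g).carrier = (Subgroup.centralizer ({g} : Set G)).index := by
  rw [Nat.card_coe_set_eq, ncard_carrier_eq_index]

theorem conj_mem_of_smul {p : ℕ} {g y : G} {P : Sylow p G}
    (hy : y ∈ ((g • P : Sylow p G) : Subgroup G)) : g⁻¹ * y * g ∈ (P : Subgroup G) := by
  rw [Sylow.coe_subgroup_smul, Subgroup.mem_pointwise_smul_iff_inv_smul_mem] at hy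
  simpa [MulAut.smul_def] using hy

theorem mem_smul_of_conj_mem {p : ℕ} {g y : G} {P : Sylow p G}
    (hy : g⁻¹ * y * g ∈ (P : Subgroup G)) : y ∈ ((g • P : Sylow p G) : Subgroup G) := by
  rw [Sylow.coe_subgroup_smul, Subgroup.mem_pointwise_smul_iff_inv_smul_mem]
  simpa [MulAut.smul_def] using hy

/-- A subgroup of `p`-power order is conjugate into a given Sylow `p`-subgroup. -/
theorem exists_conj_le_sylow [Finite G] {p : ℕ} [Fact p.Prime] {U : Subgroup G}
    (hU : IsPGroup p U) (P : Sylow p G) : ∃ g : G, ∀ u ∈ U, g⁻¹ * u * g ∈ (P : Subgroup G) := by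
  obtain ⟨Q, hQ⟩ := hU.exists_le_sylow
  obtain ⟨g, hg⟩ := MulAction.exists_smul_eq G P Q
  exact ⟨g, fun u hu => conj_mem_of_smul (hg ▸ hQ hu)⟩

/-- A `p`-element is conjugate into a given Sylow `p`-subgroup. -/
theorem exists_conj_mem_sylow [Finite G] {p : ℕ} [Fact p.Prime] {x : G}
    (hx : ∃ k : ℕ, orderOf x = p ^ k) (P : Sylow p G) :
    ∃ g : G, g⁻¹ * x * g ∈ (P : Subgroup G) := by
  obtain ⟨k, hk⟩ := hx
  obtain ⟨g, hg⟩ := exists_conj_le_sylow
    (IsPGroup.of_card (n := k) (by rw [Nat.card_zpowers, hk]) : IsPGroup p (Subgroup.zpowers x)) P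
  exact ⟨g, hg x (Subgroup.mem_zpowers x)⟩

theorem exists_orderOf_eq_pow_of_mem {p : ℕ} [Fact p.Prime] {P : Subgroup G} (hP : IsPGroup p P)
    {x : G} (hx : x ∈ P) : ∃ k : ℕ, orderOf x = p ^ k := by
  obtain ⟨k, hk⟩ := IsPGroup.iff_orderOf.mp hP ⟨x, hx⟩
  exact ⟨k, by simpa [Subgroup.orderOf_mk] using hk⟩

/-- The conjugates of a subgroup cover the group only if the subgroup is everything. -/
theorem eq_top_of_forall_exists_conj_mem [Finite G] {H : Subgroup G}
    (h : ∀ x : G, ∃ g : G, g⁻¹ * x * g ∈ H) : H = ⊤ := by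
  classical
  have : Fintype G := Fintype.ofFinite G
  by_contra hne
  have hidx : 2 ≤ H.index := by
    have h0 : H.index ≠ 0 := Subgroup.index_ne_zero_of_finite
    have h1 : H.index ≠ 1 := fun e => hne (Subgroup.index_eq_one.mp e)
    omega
  let f : G ⧸ H → Finset G := fun q =>
    ((Finset.univ.filter (fun y => y ∈ H)).erase 1).image
      (fun y => Quotient.out q * y * (Quotient.out q)⁻¹)
  have hcov : Finset.univ.erase (1 : G) ⊆ Finset.univ.biUnion f := by
    intro x hx
    obtain ⟨g, hg⟩ := h x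
    have hmem : (Quotient.out ((g : G) : G ⧸ H))⁻¹ * x * Quotient.out ((g : G) : G ⧸ H) ∈ H := by
      obtain ⟨c, hc⟩ := QuotientGroup.mk_out_eq_mul H g
      rw [hc]
      have : (g * c.1)⁻¹ * x * (g * c.1) = c.1⁻¹ * (g⁻¹ * x * g) * c.1 := by group
      rw [this]
      exact H.mul_mem (H.mul_mem (H.inv_mem c.2) hg) c.2
    refine Finset.mem_biUnion.mpr ⟨_, Finset.mem_univ (QuotientGroup.mk g), ?_⟩
    simp only [f, Finset.mem_image, Finset.mem_erase, Finset.mem_filter, Finset.mem_univ, true_and]
    refine ⟨_, ⟨?_, hmem⟩, by group⟩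
    intro h1
    have hx1 : x = 1 := by
      have := congrArg (fun y => Quotient.out ((g : G) : G ⧸ H) * y *
        (Quotient.out ((g : G) : G ⧸ H))⁻¹) h1
      simpa [mul_assoc] using this
    exact (Finset.mem_erase.mp hx).1 hx1
  have hle : Fintype.card G - 1 ≤ H.index * (Nat.card H - 1) := by
    refine le_trans (le_of_eq (by simp)) (le_trans (Finset.card_le_card hcov) ?_)
    refine le_trans (Finset.card_biUnion_le_card_mul _ _ (Nat.card H - 1) (fun q _ => ?_)) ?_
    · refine Finset.card_image_le.trans ?_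
      rw [Finset.card_erase_of_mem (by simp), Nat.card_eq_fintype_card, Fintype.card_subtype]
    · rw [Finset.card_univ, ← Nat.card_eq_fintype_card, Subgroup.index]
  rw [← Nat.card_eq_fintype_card, ← H.card_mul_index, Nat.mul_sub_one, mul_comm H.index] at hle
  have hpos : 0 < Nat.card H * H.index := Nat.mul_pos Nat.card_pos (by omega)
  have hle2 : H.index ≤ Nat.card H * H.index := Nat.le_mul_of_pos_left _ Nat.card_pos
  omega

/-- Conjugation sends the centralizer of `x` to the centralizer of the conjugate. -/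
theorem mem_centralizer_conj {g x y : G} :
    y ∈ Subgroup.centralizer ({g * x * g⁻¹} : Set G) ↔
      g⁻¹ * y * g ∈ Subgroup.centralizer ({x} : Set G) := by
  simp only [Subgroup.mem_centralizer_singleton_iff]
  constructor
  · intro h
    calc g⁻¹ * y * g * x = g⁻¹ * (y * (g * x * g⁻¹)) * g := by group
      _ = g⁻¹ * (g * x * g⁻¹ * y) * g := by rw [h]
      _ = x * (g⁻¹ * y * g) := by group
  · intro h
    calc y * (g * x * g⁻¹) = g * (g⁻¹ * y * g * x) * g⁻¹ := by group
      _ = g * (x * (g⁻¹ * y * g)) * g⁻¹ := by rw [h]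
      _ = g * x * g⁻¹ * y := by group

end CfsgLib.FgsB
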