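import Mathlib
import Cfsg.Prelude.Def_Transfer
import Cfsg.Agent.Lib.Chars.Burnside
import Cfsg.Agent.Lib.Transfer.Fusion
import Cfsg.Agent.Lib.Involutions.ElemAbCentPSL
import Cfsg.Agent.Lib.Classical.PSLSimple
import Cfsg.Agent.Lib.Small.Order60

/-!
# Non-solvable groups whose automorphism group has four orbits
-/

set_option autoImplicit false

namespace CfsgLib.FgsB.FourOrbits

open Subgroup
open scoped Pointwise

universe u

variable {G : Type u} [Group G] [Finite G]

theorem isSolvable_of_card_primeFactors_le_two {H : Type u} [Group H] [Finite H]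
    (h : (Nat.card H).primeFactors.card ≤ 2) : Group.IsSolvable H := by
  obtain ⟨p, q, hpq⟩ : ∃ p q : ℕ, ∀ r ∈ (Nat.card H).primeFactors, r = p ∨ r = q := by
    generalize (Nat.card H).primeFactors = s at h ⊢
    interval_cases hs : s.card
    · exact ⟨0, 0, by simp [Finset.card_eq_zero.mp hs]⟩
    · obtain ⟨a, rfl⟩ := Finset.card_eq_one.mp hs; exact ⟨a, a, by simp⟩
    · obtain ⟨a, b, -, rfl⟩ := Finset.card_eq_two.mp hs; exact ⟨a, b, by simp⟩
  exact CfsgLib.Chars.isSolvable_of_primeFactors_pair p q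
    fun r hr hd => hpq r (Nat.mem_primeFactors.mpr ⟨hr, hd, Nat.card_pos.ne'⟩)

/-- The hypotheses extracted from having four automorphism orbits. -/
structure Data (G : Type u) [Group G] : Prop where
  ns : ¬ Group.IsSolvable G
  hord : ∀ x : G, x ≠ 1 → (orderOf x).Prime
  hconj : ∀ x y : G, orderOf x = orderOf y → ∃ α : MulAut G, α x = y
  three : (Nat.card G).primeFactors.card = 3

theorem data_of_four_orbits (hns : ¬ Group.IsSolvable G)
    (h4 : Nat.card (MulAction.orbitRel.Quotient (MulAut G) G) = 4) : Data G := by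
  classical
  haveI : Fintype (MulAction.orbitRel.Quotient (MulAut G) G) := Fintype.ofFinite _
  have hwd : ∀ a b : G, MulAction.orbitRel (MulAut G) G a b → orderOf a = orderOf b := by
    intro a b hab
    obtain ⟨α, rfl⟩ := MulAction.orbitRel_apply.mp hab
    exact orderOf_injective α.toMonoidHom α.injective b
  let g : MulAction.orbitRel.Quotient (MulAut G) G → ℕ := Quotient.lift orderOf hwd
  set I := Finset.univ.image g with hI
  have hI4 : I.card ≤ 4 := Finset.card_image_le.trans (by rw [Finset.card_univ, ← Nat.card_eq_fintype_card, h4])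
  have hmem : ∀ x : G, orderOf x ∈ I := fun x => Finset.mem_image.mpr ⟨Quotient.mk _ x, Finset.mem_univ _, rfl⟩
  set S := (Nat.card G).primeFactors with hS
  have hS3 : 3 ≤ S.card := by
    by_contra h
    exact hns (isSolvable_of_card_primeFactors_le_two (Nat.lt_succ_iff.mp (not_le.mp h)))
  have hsub : insert 1 S ⊆ I := by
    intro n hn
    rcases Finset.mem_insert.mp hn with rfl | hn
    · simpa using hmem 1
    · obtain ⟨hp, hd, -⟩ := Nat.mem_primeFactors.mp hn
      haveI := Fact.mk hp
      obtain ⟨x, hx⟩ := exists_prime_orderOf_dvd_card' n hd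
      exact hx ▸ hmem x
  have h1S : (1 : ℕ) ∉ S := fun h => Nat.not_prime_one (Nat.prime_of_mem_primeFactors h)
  have hcard := Finset.card_le_card hsub
  rw [Finset.card_insert_of_notMem h1S] at hcard
  have heq : insert 1 S = I := Finset.eq_of_subset_of_card_le hsub (by rw [Finset.card_insert_of_notMem h1S]; omega)
  have hinj : Function.Injective g := fun a b hab =>
    Finset.injOn_of_card_image_eq (s := Finset.univ) (f := g)
      (by rw [← hI, Finset.card_univ, ← Nat.card_eq_fintype_card, h4]; omega)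
      (Finset.mem_coe.mpr (Finset.mem_univ a)) (Finset.mem_coe.mpr (Finset.mem_univ b)) hab
  refine ⟨hns, fun x hx => ?_, fun x y hxy => ?_, show S.card = 3 by omega⟩
  · have := hmem x
    rw [← heq, Finset.mem_insert] at this
    exact Nat.prime_of_mem_primeFactors (this.resolve_left fun h => hx (orderOf_eq_one_iff.mp h))
  · obtain ⟨α, hα⟩ := MulAction.orbitRel_apply.mp
      (Quotient.exact (hinj (show g (Quotient.mk _ y) = g (Quotient.mk _ x) from hxy.symm)))
    exact ⟨α, hα⟩

namespace Data

variable (h : Data G)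
include h

omit [Finite G] in
theorem orderOf_eq {x : G} (hx : x ≠ 1) {p : ℕ} (hp : p.Prime) {k : ℕ} (hk : x ^ p ^ k = 1) :
    orderOf x = p :=
  (Nat.prime_dvd_prime_iff_eq (h.hord x hx) hp).mp ((h.hord x hx).dvd_of_dvd_pow (orderOf_dvd_of_pow_eq_one hk))

theorem orderOf_mem_sylow {p : ℕ} [hp : Fact p.Prime] {P : Sylow p G} {x : G} (hxP : x ∈ (P : Subgroup G))
    (hx : x ≠ 1) : orderOf x = p := by
  obtain ⟨k, hk⟩ := P.2 ⟨x, hxP⟩
  exact h.orderOf_eq hx hp.out (k := k) (congrArg Subtype.val hk)

omit [Finite G] in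
theorem isPGroup_centralizer {p : ℕ} [hp : Fact p.Prime] {x : G} (hx : orderOf x = p) :
    IsPGroup p (centralizer ({x} : Set G)) := by
  intro y
  refine ⟨1, Subtype.ext ?_⟩
  rw [pow_one, coe_pow, coe_one]
  rcases eq_or_ne (y : G) 1 with hy | hy
  · rw [hy, one_pow]
  have hyp := h.hord _ hy
  rcases eq_or_ne (orderOf (y : G)) p with e | e
  · rw [← e, pow_orderOf_eq_one]
  exfalso
  have hc : Commute (y : G) x := mem_centralizer_singleton_iff.mp y.2
  have hcop : (orderOf (y : G)).Coprime (orderOf x) := by rw [hx]; exact (Nat.coprime_primes hyp hp.out).mpr e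
  have ho := hc.orderOf_mul_eq_mul_orderOf_of_coprime hcop
  have hne : (y : G) * x ≠ 1 := fun h1 => by
    rw [h1, orderOf_one, hx] at ho
    exact hp.out.ne_one (Nat.eq_one_of_mul_eq_one_left ho.symm)
  have := h.hord _ hne
  rw [ho, hx] at this
  exact Nat.not_prime_mul hyp.ne_one hp.out.ne_one this

/-- Every non-trivial element lies in the centre of a Sylow subgroup, which is its centraliser. -/
theorem exists_sylow_eq_centralizer {p : ℕ} [hp : Fact p.Prime] {x : G} (hx : orderOf x = p) :
    ∃ P : Sylow p G, (P : Subgroup G) = centralizer ({x} : Set G) := by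
  obtain ⟨P⟩ : Nonempty (Sylow p G) := inferInstance
  haveI : Nontrivial (P : Subgroup G) := by
    rw [Subgroup.nontrivial_iff_ne_bot]
    exact P.ne_bot_of_dvd_card (hx ▸ orderOf_dvd_natCard x)
  haveI := P.2.center_nontrivial
  obtain ⟨⟨z, hz⟩, hz1⟩ := exists_ne (1 : center (P : Subgroup G))
  have hz1' : (z : G) ≠ 1 := fun e => hz1 (Subtype.ext (Subtype.ext e))
  have hzo := h.orderOf_mem_sylow z.2 hz1'
  have hPC : (P : Subgroup G) ≤ centralizer ({(z : G)} : Set G) := fun y hy =>
    mem_centralizer_singleton_iff.mpr (congrArg Subtype.val (mem_center_iff.mp hz ⟨y, hy⟩))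
  have hPeq : centralizer ({(z : G)} : Set G) = (P : Subgroup G) :=
    P.3 (h.isPGroup_centralizer hzo) hPC
  obtain ⟨α, hα⟩ := h.hconj (z : G) x (hzo.trans hx.symm)
  have hle : centralizer ({x} : Set G) ≤ (P : Subgroup G).map α.toMonoidHom := by
    intro y hy
    refine ⟨α.symm y, ?_, α.apply_symm_apply y⟩
    rw [SetLike.mem_coe, ← hPeq, mem_centralizer_singleton_iff]
    apply α.injective
    rw [map_mul, map_mul, α.apply_symm_apply, hα]
    exact mem_centralizer_singleton_iff.mp hy
  have hge : (P : Subgroup G).map α.toMonoidHom ≤ centralizer ({x} : Set G) := by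
    rintro _ ⟨y, hy, rfl⟩
    rw [mem_centralizer_singleton_iff, ← hα, MulEquiv.coe_toMonoidHom, ← map_mul, ← map_mul,
      mem_centralizer_singleton_iff.mp (hPC hy)]
  have hcard : Nat.card (centralizer ({x} : Set G)) = p ^ (Nat.card G).factorization p := by
    rw [le_antisymm hle hge, Subgroup.card_map_of_injective α.injective, P.card_eq_multiplicity]
  exact ⟨Sylow.ofCard _ hcard, Sylow.coe_ofCard _ hcard⟩

/-- There is no proper non-trivial subgroup invariant under all automorphisms. -/
theorem eq_bot_or_eq_top_of_invariant {K : Subgroup G} (hK : ∀ α : MulAut G, ∀ x ∈ K, α x ∈ K) :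
    K = ⊥ ∨ K = ⊤ := by
  classical
  by_contra hc
  push Not at hc
  obtain ⟨hb, ht⟩ := hc
  haveI : K.Normal := ⟨fun x hx g => hK (MulAut.conj g) x hx⟩
  have hfull : ∀ p ∈ (Nat.card K).primeFactors, ∀ x : G, orderOf x = p → x ∈ K := by
    intro p hp x hx
    haveI := Fact.mk (Nat.prime_of_mem_primeFactors hp)
    obtain ⟨y, hy⟩ := exists_prime_orderOf_dvd_card' p (Nat.dvd_of_mem_primeFactors hp)
    obtain ⟨α, hα⟩ := h.hconj (y : G) x ((Subgroup.orderOf_coe y).trans (hy.trans hx.symm))
    exact hα ▸ hK α _ y.2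
  have hsubK : (Nat.card K).primeFactors ⊆ (Nat.card G).primeFactors :=
    Nat.primeFactors_mono K.card_subgroup_dvd_card Nat.card_pos.ne'
  have hne : (Nat.card K).primeFactors ≠ (Nat.card G).primeFactors := by
    intro he
    refine ht ((Subgroup.eq_top_iff' K).mpr fun x => ?_)
    rcases eq_or_ne x 1 with rfl | hx
    · exact K.one_mem
    refine hfull _ ?_ x rfl
    rw [he]
    exact Nat.mem_primeFactors.mpr ⟨h.hord x hx, orderOf_dvd_natCard x, Nat.card_pos.ne'⟩
  have hK2 : (Nat.card K).primeFactors.card ≤ 2 := by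
    have := Finset.card_lt_card (hsubK.ssubset_of_ne hne)
    rw [h.three] at this; omega
  haveI := isSolvable_of_card_primeFactors_le_two hK2
  obtain ⟨p, hp⟩ : (Nat.card K).primeFactors.Nonempty := by
    rw [Nat.nonempty_primeFactors]
    exact (Subgroup.one_lt_card_iff_ne_bot K).mpr hb
  haveI hpf := Fact.mk (Nat.prime_of_mem_primeFactors hp)
  have hQ2 : (Nat.card (G ⧸ K)).primeFactors.card ≤ 2 := by
    have hsub : (Nat.card (G ⧸ K)).primeFactors ⊆ (Nat.card G).primeFactors.erase p := by
      intro r hr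
      refine Finset.mem_erase.mpr ⟨?_, Nat.primeFactors_mono K.card_quotient_dvd_card Nat.card_pos.ne' hr⟩
      intro he
      subst r
      obtain ⟨P⟩ : Nonempty (Sylow p G) := inferInstance
      refine P.not_dvd_index ((Nat.dvd_of_mem_primeFactors hr).trans (Subgroup.index_dvd_of_le (H := (P : Subgroup G)) (K := K) ?_))
      intro x hx
      rcases eq_or_ne x 1 with rfl | hx1
      · exact K.one_mem
      exact hfull p hp x (h.orderOf_mem_sylow hx hx1)
    have := Finset.card_le_card hsub
    rw [Finset.card_erase_of_mem (hsubK hp), h.three] at this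
    exact this
  haveI := isSolvable_of_card_primeFactors_le_two hQ2
  exact h.ns (Group.isSolvable_of_ker_le_range K.subtype (QuotientGroup.mk' K) (by simp))

theorem not_normal {p : ℕ} [hp : Fact p.Prime] (hpG : p ∣ Nat.card G) (P : Sylow p G) :
    ¬ (P : Subgroup G).Normal := by
  intro hn
  haveI := P.characteristic_of_normal hn
  rcases h.eq_bot_or_eq_top_of_invariant (K := (P : Subgroup G)) (fun α x hx => by
    have := Subgroup.characteristic_iff_map_eq.mp ‹(P : Subgroup G).Characteristic› α
    exact this ▸ Subgroup.mem_map_of_mem α.toMonoidHom hx) with hb | ht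
  · exact P.ne_bot_of_dvd_card hpG hb
  · haveI : Group.IsNilpotent G := by
      have := P.2.isNilpotent
      rw [ht] at this
      exact (Group.isNilpotent_congr Subgroup.topEquiv).mp this
    exact h.ns inferInstance

/-- A Sylow subgroup is not centralised by its normaliser. -/
theorem not_normalizer_le_centralizer {p : ℕ} [hp : Fact p.Prime] (hpG : p ∣ Nat.card G) (P : Sylow p G) :
    ¬ normalizer ((P : Subgroup G) : Set G) ≤ centralizer ((P : Subgroup G) : Set G) := by
  intro hle
  have hc := MonoidHom.ker_transferSylow_isComplement' P hle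
  set K := (MonoidHom.transferSylow P hle).ker with hK
  have hcopK : (Nat.card K).Coprime p := by
    have := P.not_dvd_index
    rw [← hc.symm.card_right] at this
    exact (hp.out.coprime_iff_not_dvd.mpr this).symm
  have hinv : ∀ α : MulAut G, ∀ x ∈ K, α x ∈ K := by
    intro α x hx
    have h1 : orderOf (MonoidHom.transferSylow P hle (α x)) ∣ orderOf (α x) := orderOf_map_dvd _ _
    have h2 : (orderOf (α x)).Coprime p := by
      rw [show orderOf (α x) = orderOf x from orderOf_injective α.toMonoidHom α.injective x,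
        ← Subgroup.orderOf_mk x hx]
      exact hcopK.coprime_dvd_left (orderOf_dvd_natCard _)
    rw [hK, MonoidHom.mem_ker]
    obtain ⟨k, hk⟩ := P.2 (MonoidHom.transferSylow P hle (α x))
    exact orderOf_eq_one_iff.mp (Nat.eq_one_of_dvd_coprimes (h2.pow_right k) h1 (orderOf_dvd_of_pow_eq_one hk))
  rcases h.eq_bot_or_eq_top_of_invariant hinv with hb | ht
  · rw [hb, Subgroup.isComplement'_bot_left] at hc
    exact h.not_normal hpG P (hc ▸ inferInstance)
  · rw [ht, Subgroup.isComplement'_top_left] at hc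
    exact P.ne_bot_of_dvd_card hpG hc

/-- If the order is odd, each Sylow prime accounts for less than a third of the elements. -/
theorem three_mul_card_lt (hodd : Odd (Nat.card G)) {p : ℕ} [hp : Fact p.Prime] (hpG : p ∣ Nat.card G) :
    3 * Nat.card {x : G // orderOf x = p} + 4 ≤ Nat.card G := by
  classical
  obtain ⟨P⟩ : Nonempty (Sylow p G) := inferInstance
  set N := normalizer ((P : Subgroup G) : Set G) with hN
  -- every element of order `p` lies in the centre of a Sylow subgroup
  let W : Sylow p G → Subgroup G := fun Q => (Q : Subgroup G) ⊓ centralizer ((Q : Subgroup G) : Set G)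
  have hcov : Nat.card {x : G // orderOf x = p} ≤ Nat.card (Σ Q : Sylow p G, {x : W Q // x ≠ 1}) := by
    choose f hf using fun x : {x : G // orderOf x = p} => h.exists_sylow_eq_centralizer x.2
    refine Nat.card_le_card_of_injective (fun x => ⟨f x, ⟨⟨(x : G), ?_⟩, ?_⟩⟩) ?_
    · refine ⟨(hf x).ge (mem_centralizer_singleton_iff.mpr rfl), ?_⟩
      refine mem_centralizer_iff.mpr ?_
      intro y hy
      exact mem_centralizer_singleton_iff.mp ((hf x).le hy)
    · intro e
      have h1 : (x : G) = 1 := congrArg Subtype.val e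
      have := x.2
      rw [h1, orderOf_one] at this
      exact hp.out.ne_one this.symm
    · intro x y e
      exact Subtype.ext (congrArg (fun s : Σ Q : Sylow p G, {x : W Q // x ≠ 1} => ((s.2.1 : W s.1) : G)) e)
  haveI : Fintype (Sylow p G) := Fintype.ofFinite _
  have hW : ∀ Q : Sylow p G, Nat.card (W Q) ≤ Nat.card (W P) := by
    intro Q
    obtain ⟨g, rfl⟩ := MulAction.exists_smul_eq G P Q
    refine (Nat.card_le_card_of_injective (fun x : W (g • P) =>
      (⟨g⁻¹ * (x : G) * g, ?_⟩ : W P)) ?_)
    · have hx1 : (x : G) ∈ MulAut.conj g • (P : Subgroup G) := x.2.1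
      have hx2 : (x : G) ∈ centralizer (((g • P : Sylow p G) : Subgroup G) : Set G) := x.2.2
      rw [Subgroup.mem_pointwise_smul_iff_inv_smul_mem] at hx1
      refine ⟨by simp [MulAut.smul_def, mul_assoc] at hx1; rw [mul_assoc]; exact hx1, mem_centralizer_iff.mpr fun y hy => ?_⟩
      have hy' : g * y * g⁻¹ ∈ (((g • P : Sylow p G) : Subgroup G) : Set G) := by
        rw [SetLike.mem_coe, Sylow.coe_subgroup_smul, Subgroup.mem_pointwise_smul_iff_inv_smul_mem]
        simp [MulAut.smul_def, mul_assoc]
        exact hy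
      have e := mem_centralizer_iff.mp hx2 _ hy'
      have e' := congrArg (fun w => g⁻¹ * w * g) e
      simpa [mul_assoc] using e'
    · intro x y e
      have e' : g⁻¹ * (x : G) * g = g⁻¹ * (y : G) * g := congrArg Subtype.val e
      exact Subtype.ext (mul_left_cancel (mul_right_cancel e'))
  have hsum : Nat.card (Σ Q : Sylow p G, {x : W Q // x ≠ 1}) ≤ N.index * (Nat.card (W P) - 1) := by
    have hn' : N.index = Nat.card (Sylow p G) := P.card_eq_index_normalizer.symm
    rw [Nat.card_sigma, hn', Nat.card_eq_fintype_card (α := Sylow p G),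
      ← Finset.card_univ, ← smul_eq_mul, ← Finset.sum_const]
    refine Finset.sum_le_sum fun Q _ => ?_
    haveI := Fintype.ofFinite (W Q)
    rw [Nat.card_eq_fintype_card, Fintype.card_subtype_compl, Fintype.card_subtype_eq, ← Nat.card_eq_fintype_card]
    exact Nat.sub_le_sub_right (hW Q) 1
  have hPN : (P : Subgroup G) ≤ N := Subgroup.le_normalizer
  have hW3 : 3 * Nat.card (W P) ≤ Nat.card N := by
    have hWP : W P ≤ (P : Subgroup G) := inf_le_left
    rcases eq_or_lt_of_le hPN with he | hlt
    · have hlt' : W P < (P : Subgroup G) := by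
        refine lt_of_le_of_ne hWP fun e => h.not_normalizer_le_centralizer hpG P ?_
        change N ≤ _
        rw [← he]
        exact e.ge.trans inf_le_right
      obtain ⟨k, hk⟩ := Subgroup.card_dvd_of_le hWP
      have hk1 : k ≠ 1 := fun e => hlt'.ne (Subgroup.eq_of_le_of_card_ge hWP (by rw [hk, e, mul_one]))
      have hkodd : Odd k := by
        refine Odd.of_dvd_nat hodd ((Dvd.intro_left _ hk.symm).trans (P : Subgroup G).card_subgroup_dvd_card)
      have hk3 : 3 ≤ k := by obtain ⟨j, rfl⟩ := hkodd; omega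
      rw [← he, hk, mul_comm]
      exact Nat.mul_le_mul_left _ hk3
    · obtain ⟨k, hk⟩ := Subgroup.card_dvd_of_le hPN
      have hk1 : k ≠ 1 := fun e => hlt.ne (Subgroup.eq_of_le_of_card_ge hPN (by rw [hk, e, mul_one]))
      have hkodd : Odd k := Odd.of_dvd_nat hodd ((Dvd.intro_left _ hk.symm).trans N.card_subgroup_dvd_card)
      have hk3 : 3 ≤ k := by obtain ⟨j, rfl⟩ := hkodd; omega
      rw [hk, mul_comm]
      exact Nat.mul_le_mul (Subgroup.card_le_of_le hWP) hk3
  have hn : 2 ≤ N.index := N.one_lt_index_of_ne_top fun e => h.not_normal hpG P (Subgroup.normalizer_eq_top_iff.mp e)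
  have hW0 : 0 < Nat.card (W P) := Nat.card_pos
  have hWmul : 3 * (Nat.card (W P) - 1) + 2 ≤ Nat.card N := by omega
  have := N.card_mul_index
  have h1 := hcov.trans hsum
  have h2 : N.index * (3 * (Nat.card (W P) - 1) + 2) ≤ N.index * Nat.card N := Nat.mul_le_mul_left _ hWmul
  calc 3 * Nat.card {x : G // orderOf x = p} + 4 ≤ 3 * (N.index * (Nat.card (W P) - 1)) + 2 * N.index := by omega
    _ = N.index * (3 * (Nat.card (W P) - 1) + 2) := by ring
    _ ≤ _ := h2.trans (le_of_eq (by rw [mul_comm]; exact this))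

theorem even_card : Even (Nat.card G) := by
  classical
  by_contra hne
  have hodd := Nat.not_even_iff_odd.mp hne
  haveI := Fintype.ofFinite G
  set S := (Nat.card G).primeFactors with hS
  have hsplit : Nat.card G = 1 + ∑ p ∈ S, Nat.card {x : G // orderOf x = p} := by
    have hmaps : ∀ x ∈ Finset.univ.erase (1 : G), orderOf x ∈ S := fun x hx =>
      Nat.mem_primeFactors.mpr ⟨h.hord x (Finset.ne_of_mem_erase hx), orderOf_dvd_natCard x, Nat.card_pos.ne'⟩
    have h1 := Finset.card_eq_sum_card_fiberwise hmaps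
    rw [Nat.card_eq_fintype_card, ← Finset.card_univ, ← Finset.card_erase_add_one (Finset.mem_univ (1 : G)),
      h1, add_comm]
    congr 1
    refine Finset.sum_congr rfl fun p hp => ?_
    rw [Nat.card_eq_fintype_card, Fintype.card_subtype]
    congr 1
    ext x
    simp only [Finset.mem_filter, Finset.mem_erase, Finset.mem_univ, and_true, true_and, and_iff_right_iff_imp]
    rintro hx rfl
    rw [orderOf_one] at hx
    exact (Nat.prime_of_mem_primeFactors hp).ne_one hx.symm
  have hbound : ∀ p ∈ S, 3 * Nat.card {x : G // orderOf x = p} + 4 ≤ Nat.card G := fun p hp => by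
    haveI := Fact.mk (Nat.prime_of_mem_primeFactors hp)
    exact h.three_mul_card_lt hodd (Nat.dvd_of_mem_primeFactors hp)
  have hsum := Finset.sum_le_sum hbound
  rw [Finset.sum_add_distrib, ← Finset.mul_sum, Finset.sum_const, Finset.sum_const, smul_eq_mul, smul_eq_mul,
    h.three] at hsum
  omega

theorem elemAbCent (T : Sylow 2 G) : CfsgLib.Involutions.ElemAbCent T := by
  have h2 : 2 ∣ Nat.card G := h.even_card.two_dvd
  have hsq : ∀ x ∈ (T : Subgroup G), x ^ 2 = 1 := by
    intro x hx
    rcases eq_or_ne x 1 with rfl | hx1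
    · exact one_pow 2
    · rw [← h.orderOf_mem_sylow hx hx1, pow_orderOf_eq_one]
  refine ⟨?_, h.not_normal h2 T, fun t ht => ?_⟩
  · intro hcyc
    refine h.not_normalizer_le_centralizer h2 T fun g hg => mem_centralizer_iff.mpr fun x hx => ?_
    have hle : ∀ y ∈ (T : Subgroup G), y ≠ 1 → ∀ z ∈ (T : Subgroup G), z ≠ 1 → y = z := by
      intro y hy hy1 z hz hz1
      obtain ⟨w, hw⟩ := hcyc.exists_generator
      have hval : ∀ v : (T : Subgroup G), v = 1 ∨ v = w := by
        intro v
        obtain ⟨i, rfl⟩ := Subgroup.mem_zpowers_iff.mp (hw v)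
        have hw2 : w ^ (2 : ℤ) = 1 := by rw [zpow_ofNat]; exact Subtype.ext (hsq w w.2)
        rcases Int.even_or_odd i with ⟨k, rfl⟩ | ⟨k, rfl⟩
        · left; rw [← two_mul, zpow_mul, hw2, one_zpow]
        · right; rw [zpow_add_one, zpow_mul, hw2, one_zpow, one_mul]
      rcases hval ⟨y, hy⟩ with e | e
      · exact absurd (congrArg Subtype.val e) hy1
      rcases hval ⟨z, hz⟩ with e' | e'
      · exact absurd (congrArg Subtype.val e') hz1
      exact congrArg Subtype.val (e.trans e'.symm)
    rcases eq_or_ne x 1 with rfl | hx1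
    · simp
    have h3 : g * x * g⁻¹ ∈ (T : Subgroup G) := (Subgroup.mem_normalizer_iff.mp hg x).mp hx
    have := hle _ h3 (by simpa using hx1) _ hx hx1
    rw [mul_inv_eq_iff_eq_mul] at this
    exact this.symm
  · haveI := Fact.mk Nat.prime_two
    have hexp : ∀ c ∈ centralizer ({t} : Set G), c ^ 2 = 1 := by
      intro c hc
      rcases eq_or_ne c 1 with rfl | hc1
      · exact one_pow 2
      obtain ⟨k, hk⟩ := h.isPGroup_centralizer ht ⟨c, hc⟩
      rw [← h.orderOf_eq hc1 Nat.prime_two (k := k) (congrArg Subtype.val hk), pow_orderOf_eq_one]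
    refine ⟨⟨⟨fun a b => Subtype.ext ?_⟩⟩, hexp⟩
    have hinv : ∀ c ∈ centralizer ({t} : Set G), c⁻¹ = c := fun c hc =>
      inv_eq_of_mul_eq_one_right ((pow_two c).symm.trans (hexp c hc))
    change (a : G) * b = b * a
    rw [← hinv _ (mul_mem a.2 b.2), mul_inv_rev, hinv _ a.2, hinv _ b.2]

end Data

open Matrix in
/-- Commuting elements of order three in `SL₂` over a field of characteristic two
without primitive cube roots of unity lie in one cyclic group. -/
theorem eq_or_eq_sq_of_commute {F : Type*} [Field F] (h2 : (2 : F) = 0) (hroot : ∀ u : F, u ^ 3 = 1 → u = 1)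
    (A B : Matrix.SpecialLinearGroup (Fin 2) F) (hA : A ^ 3 = 1) (hA1 : A ≠ 1) (hB : B ^ 3 = 1) (hB1 : B ≠ 1)
    (hc : A * B = B * A) : B = A ∨ B = A ^ 2 := by
  have hdetA : A.1 0 0 * A.1 1 1 - A.1 0 1 * A.1 1 0 = 1 := by
    rw [← Matrix.det_fin_two]; exact A.2
  have hdetB : B.1 0 0 * B.1 1 1 - B.1 0 1 * B.1 1 0 = 1 := by
    rw [← Matrix.det_fin_two]; exact B.2
  have key : ∀ C : Matrix.SpecialLinearGroup (Fin 2) F, C ^ 3 = 1 → C ≠ 1 →
      C.1 0 1 ≠ 0 ∧ C.1 0 0 + C.1 1 1 = 1 := by
    intro C hC hC1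
    have hdet : C.1 0 0 * C.1 1 1 - C.1 0 1 * C.1 1 0 = 1 := by
      rw [← Matrix.det_fin_two]; exact C.2
    have h3 : C.1 * C.1 * C.1 = 1 := by
      have := congrArg Subtype.val hC
      simpa [pow_succ] using this
    have e00 := congrFun (congrFun h3 0) 0
    have e01 := congrFun (congrFun h3 0) 1
    have e10 := congrFun (congrFun h3 1) 0
    have e11 := congrFun (congrFun h3 1) 1
    simp [Matrix.mul_apply, Fin.sum_univ_two] at e00 e01 e10 e11
    have hb : C.1 0 1 ≠ 0 := by
      intro hb
      rw [hb] at e00 e01 e10 e11 hdet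
      have ha : C.1 0 0 = 1 := hroot _ (by linear_combination e00)
      have hd : C.1 1 1 = 1 := hroot _ (by linear_combination e11)
      rw [ha, hd] at e10
      have hc0 : C.1 1 0 = 0 := by linear_combination e10 - C.1 1 0 * h2
      apply hC1
      ext i j
      fin_cases i <;> fin_cases j <;> simp [ha, hd, hb, hc0]
    refine ⟨hb, ?_⟩
    have h4 : C.1 0 1 * (C.1 0 0 + C.1 1 1 - 1) ^ 2 = 0 := by
      linear_combination e01 + C.1 0 1 * hdet - C.1 0 1 * (C.1 0 0 + C.1 1 1 - 1) * h2
    have := eq_zero_of_pow_eq_zero (mul_eq_zero.mp h4 |>.resolve_left hb)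
    exact sub_eq_zero.mp this
  obtain ⟨hb, htA⟩ := key A hA hA1
  obtain ⟨-, htB⟩ := key B hB hB1
  have hc' : A.1 * B.1 = B.1 * A.1 := congrArg Subtype.val hc
  have c00 := congrFun (congrFun hc' 0) 0
  have c01 := congrFun (congrFun hc' 0) 1
  simp [Matrix.mul_apply, Fin.sum_univ_two] at c00 c01
  set v := B.1 0 1 / A.1 0 1 with hv
  set u := B.1 0 0 - v * A.1 0 0 with hu
  have b01 : B.1 0 1 = v * A.1 0 1 := by rw [hv, div_mul_cancel₀ _ hb]
  have b00 : B.1 0 0 = u + v * A.1 0 0 := by rw [hu]; ring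
  have b10 : B.1 1 0 = v * A.1 1 0 := mul_left_cancel₀ hb (by rw [b01] at c00; linear_combination c00)
  have b11 : B.1 1 1 = u + v * A.1 1 1 := mul_left_cancel₀ hb (by rw [b01, b00] at c01; linear_combination c01)
  have hv1 : v = 1 := by
    rw [b00, b11] at htB
    linear_combination htB - v * htA - u * h2
  have hu1 : u * (u + 1) = 0 := by
    rw [b00, b11, b01, b10, hv1] at hdetB
    linear_combination hdetB - hdetA - u * htA
  rcases mul_eq_zero.mp hu1 with hu0 | hu0
  · left
    ext i j
    fin_cases i <;> fin_cases j <;> simp [b00, b01, b10, b11, hv1, hu0]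
  · right
    have hu0' : u = 1 := by linear_combination hu0 - h2
    ext i j
    rw [show (A ^ 2 : Matrix.SpecialLinearGroup (Fin 2) F) = A * A from pow_two A, Matrix.SpecialLinearGroup.coe_mul]
    fin_cases i <;> fin_cases j <;> simp [Matrix.mul_apply, Fin.sum_univ_two, b00, b01, b10, b11, hv1, hu0']
    · linear_combination -(A.1 0 0) * htA + hdetA + h2
    · linear_combination -(A.1 0 1) * htA
    · linear_combination -(A.1 1 0) * htA
    · linear_combination -(A.1 1 1) * htA + hdetA + h2

theorem Data.nonempty_equiv_alternating (h : Data G) : Nonempty (G ≃* alternatingGroup (Fin 5)) := by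
  classical
  haveI := Fact.mk Nat.prime_two
  obtain ⟨T⟩ : Nonempty (Sylow 2 G) := inferInstance
  have hE := h.elemAbCent T
  obtain ⟨k, hTk, hF, ⟨e⟩⟩ := hE.exists_iso_PSL
  have h4 : 4 ≤ Nat.card T := hE.four_le_card
  have hk2 : 2 ≤ k := by
    by_contra hlt
    interval_cases k <;> omega
  haveI : Finite (GaloisField 2 k) := Nat.finite_of_card_ne_zero (by rw [hF]; omega)
  set F := GaloisField 2 k with hFdef
  have hcardF : Nat.card F = 2 ^ k := hF.trans hTk
  have heven : Even (Nat.card F) := by rw [hcardF]; exact even_two.pow_of_ne_zero (by omega)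
  have hgcd := CfsgLib.Classical.gcd_two_card_sub_one_of_even heven
  have h2F : (2 : F) = 0 := by exact_mod_cast CharP.cast_eq_zero F 2
  -- `G` is `SL₂(F)`
  have hcardPSL := CfsgLib.Classical.card_PSL_two_mul (F := F)
  rw [hgcd, one_mul] at hcardPSL
  have hbij : Function.Bijective (QuotientGroup.mk' (center (Matrix.SpecialLinearGroup (Fin 2) F))) :=
    (Nat.bijective_iff_surjective_and_card _).mpr ⟨QuotientGroup.mk'_surjective _,
      (CfsgLib.Classical.card_SL_two (F := F)).trans hcardPSL.symm⟩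
  let e' : Matrix.SpecialLinearGroup (Fin 2) F ≃* G := (MulEquiv.ofBijective _ hbij).trans e.symm
  have hordSL : ∀ A : Matrix.SpecialLinearGroup (Fin 2) F, A ≠ 1 → (orderOf A).Prime := by
    intro A hA
    rw [← orderOf_injective e'.toMonoidHom e'.injective A]
    exact h.hord _ ((MulEquiv.map_ne_one_iff _).mpr hA)
  by_cases hk : k = 2
  · have h60 : Nat.card G = 60 := by
      rw [Nat.card_congr e.toEquiv, hcardPSL, hcardF, hk]; norm_num
    haveI := CfsgLib.Classical.isSimpleGroup_PSL_fin (F := F) 2 le_rfl (fun _ => by rw [hcardF, hk]; norm_num)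
    haveI : Nontrivial G := e.toEquiv.nontrivial
    haveI : IsSimpleGroup G := IsSimpleGroup.isSimpleGroup_of_surjective e.symm.toMonoidHom e.symm.surjective
    exact CfsgLib.Small.equiv_alternating_five h60
  exfalso
  have hk3 : 3 ≤ k := by omega
  have hq8 : 8 ≤ 2 ^ k := le_trans (by norm_num) (Nat.pow_le_pow_right two_pos hk3)
  have hcardG : Nat.card G = 2 ^ k * ((2 ^ k) ^ 2 - 1) := by
    rw [Nat.card_congr e.toEquiv, hcardPSL, hcardF]
  -- the split torus has prime order
  obtain ⟨a, ha⟩ := IsCyclic.exists_generator (α := Fˣ)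
  have hao : orderOf a = 2 ^ k - 1 := by
    rw [orderOf_eq_card_of_forall_mem_zpowers ha, Nat.card_units, hcardF]
  let D : Fˣ →* Matrix.SpecialLinearGroup (Fin 2) F :=
    { toFun := fun u => ⟨!![(u : F), 0; 0, ((u⁻¹ : Fˣ) : F)], by simp [Matrix.det_fin_two]⟩
      map_one' := by ext i j; fin_cases i <;> fin_cases j <;> simp
      map_mul' := fun u v => by
        ext i j
        change !![((u * v : Fˣ) : F), 0; 0, (((u * v)⁻¹ : Fˣ) : F)] i j =
          (!![(u : F), 0; 0, ((u⁻¹ : Fˣ) : F)] * !![(v : F), 0; 0, ((v⁻¹ : Fˣ) : F)]) i j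
        fin_cases i <;> fin_cases j <;> simp [Matrix.mul_apply, Fin.sum_univ_two, mul_comm] }
  have hDinj : Function.Injective D := fun u v huv => Units.ext (by
    exact congrFun (congrFun (congrArg Subtype.val huv) 0) 0)
  have hr : (2 ^ k - 1).Prime := by
    rw [← hao, ← orderOf_injective D hDinj a]
    refine hordSL _ fun h1 => ?_
    rw [← map_one D] at h1
    rw [hDinj h1, orderOf_one] at hao
    omega
  have hr3 : ¬ 3 ∣ 2 ^ k - 1 := fun hd => by
    have := (Nat.prime_dvd_prime_iff_eq Nat.prime_three hr).mp hd; omega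
  have hroot : ∀ u : F, u ^ 3 = 1 → u = 1 := by
    intro u hu
    have hu0 : u ≠ 0 := by rintro rfl; simp at hu
    have h1 : orderOf (Units.mk0 u hu0) ∣ 3 := orderOf_dvd_of_pow_eq_one (Units.ext (by simpa using hu))
    have h2' : orderOf (Units.mk0 u hu0) ∣ 2 ^ k - 1 := by
      rw [← hcardF, ← Nat.card_units]; exact orderOf_dvd_natCard _
    have := Nat.eq_one_of_dvd_coprimes (Nat.prime_three.coprime_iff_not_dvd.mpr hr3) h1 h2'
    rw [orderOf_eq_one_iff] at this
    exact congrArg Units.val this
  -- so `2 ^ k + 1` is a power of three, at least nine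
  have h3q : 3 ∣ 2 ^ k + 1 := by
    have h3n : ¬ 3 ∣ 2 ^ k := fun hd => by
      have := (Nat.prime_dvd_prime_iff_eq Nat.prime_three Nat.prime_two).mp (Nat.prime_three.dvd_of_dvd_pow hd)
      omega
    have h1q : 1 ≤ 2 ^ k := Nat.one_le_two_pow
    omega
  have hfac : Nat.card G = 2 ^ k * ((2 ^ k + 1) * (2 ^ k - 1)) := by
    rw [hcardG]
    congr 1
    simpa using Nat.sq_sub_sq (2 ^ k) 1
  have hS : (Nat.card G).primeFactors = {2, 2 ^ k - 1, 3} := by
    refine (Finset.eq_of_subset_of_card_le ?_ ?_).symm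
    · intro x hx
      simp only [Finset.mem_insert, Finset.mem_singleton] at hx
      refine Nat.mem_primeFactors.mpr ⟨?_, ?_, Nat.card_pos.ne'⟩
      · rcases hx with rfl | rfl | rfl <;> [exact Nat.prime_two; exact hr; exact Nat.prime_three]
      · rw [hfac]
        rcases hx with rfl | rfl | rfl
        · exact (dvd_pow_self 2 (by omega : k ≠ 0)).mul_right _
        · exact (dvd_mul_left _ _).mul_left _
        · exact (h3q.mul_right _).mul_left _
    · rw [h.three, Finset.card_insert_of_notMem (by simp; omega), Finset.card_pair (by omega)]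
  have hpow : ∃ b, 2 ^ k + 1 = 3 ^ b := by
    refine ⟨_, Nat.eq_prime_pow_of_unique_prime_dvd (p := 3) (by omega) fun {d} hd hdd => ?_⟩
    have hmem : d ∈ (Nat.card G).primeFactors :=
      Nat.mem_primeFactors.mpr ⟨hd, hfac ▸ (hdd.mul_right _).mul_left _, Nat.card_pos.ne'⟩
    rw [hS] at hmem
    simp only [Finset.mem_insert, Finset.mem_singleton] at hmem
    rcases hmem with rfl | rfl | rfl
    · exfalso
      have h2k : 2 ∣ 2 ^ k := dvd_pow_self 2 (by omega)
      omega
    · exfalso
      have h1d : (2 ^ k - 1) ∣ 2 := (Nat.dvd_sub hdd dvd_rfl).trans (dvd_of_eq (by omega))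
      have := Nat.le_of_dvd two_pos h1d
      omega
    · rfl
  obtain ⟨b, hb⟩ := hpow
  have hb2 : 2 ≤ b := by
    by_contra hlt
    interval_cases b <;> omega
  have h9 : 3 ^ 2 ∣ Nat.card (Matrix.SpecialLinearGroup (Fin 2) F) := by
    rw [Nat.card_congr e'.toEquiv, hfac, hb]
    exact ((pow_dvd_pow 3 hb2).mul_right _).mul_left _
  -- a subgroup of order nine
  haveI := Fact.mk Nat.prime_three
  obtain ⟨U, hU⟩ := Sylow.exists_subgroup_card_pow_prime 3 h9
  have hcomm : ∀ x y : U, x * y = y * x := (IsPGroup.isMulCommutative_of_card_eq_prime_sq hU).is_comm.comm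
  have hU3 : ∀ x ∈ U, x ^ 3 = 1 := by
    intro x hx
    rcases eq_or_ne x 1 with rfl | hx1
    · exact one_pow 3
    have hd : orderOf x ∣ 3 ^ 2 := hU ▸ Subgroup.orderOf_dvd_natCard _ hx
    have := (Nat.prime_dvd_prime_iff_eq (hordSL x hx1) Nat.prime_three).mp ((hordSL x hx1).dvd_of_dvd_pow hd)
    rw [← this, pow_orderOf_eq_one]
  haveI := Fintype.ofFinite U
  obtain ⟨A, hA1⟩ : ∃ A : U, A ≠ 1 := by
    haveI : Nontrivial U := Finite.one_lt_card_iff_nontrivial.mp (by rw [hU]; norm_num)
    exact exists_ne 1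
  have hle : Nat.card U ≤ 3 := by
    classical
    rw [Nat.card_eq_fintype_card, ← Finset.card_univ]
    refine le_trans (Finset.card_le_card (t := {1, A, A ^ 2}) fun B _ => ?_) Finset.card_le_three
    simp only [Finset.mem_insert, Finset.mem_singleton]
    rcases eq_or_ne B 1 with rfl | hB1
    · exact Or.inl rfl
    rcases eq_or_eq_sq_of_commute h2F hroot (A : Matrix.SpecialLinearGroup (Fin 2) F) B (hU3 _ A.2)
      (fun e1 => hA1 (Subtype.ext e1)) (hU3 _ B.2) (fun e1 => hB1 (Subtype.ext e1))
      (congrArg Subtype.val (hcomm A B)) with e1 | e1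
    · exact Or.inr (Or.inl (Subtype.ext e1))
    · exact Or.inr (Or.inr (Subtype.ext e1))
  rw [hU] at hle
  norm_num at hle

end CfsgLib.FgsB.FourOrbits
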