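import Cfsg.Agent.Lib.FgsC.FpfOrderThree
import Cfsg.Agent.Lib.Base.FPF
import Cfsg.Agent.Lib.Base.MinimalNormal
import Cfsg.Agent.Lib.FgsB.FourOrbits

/-!
Finite groups whose element orders are exactly `1, 2, 3, 4`.
-/

set_option autoImplicit false
set_option linter.style.haveILetI false

universe u

namespace CfsgLib.FgsB.OrdersFour

open Cfsg Subgroup
open scoped commutatorElement

section Norm

variable {L : Type*} [Group L] [Finite L]

theorem norm_eq_one (φ : MulAut L) (hφ : ∀ x, φ x = x → x = 1) (h3 : φ ^ 3 = 1) (x : L) :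
    x * φ x * φ (φ x) = 1 := by
  have hφ3 : ∀ x, φ (φ (φ x)) = x := fun x => by
    have := DFunLike.congr_fun h3 x
    simpa [pow_succ, MulAut.mul_apply] using this
  have hsurj : Function.Surjective fun y => y⁻¹ * φ y := Finite.injective_iff_surjective.mp
    fun y w hyw => by
      refine mul_inv_eq_one.mp (hφ _ ?_)
      simp only [map_mul, map_inv]
      rw [show φ y = y * (w⁻¹ * φ w) from eq_mul_of_inv_mul_eq hyw]
      group
  obtain ⟨y, rfl⟩ := hsurj x
  simp only [map_mul, map_inv, hφ3]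
  group

/-- `L` with a fixed-point-free `φ` of order three and `τ` with `τ φ τ = φ⁻¹`: if every
`τ(n) n` has square one and `n⁴ = 1`, then `n² = 1`. -/
theorem sq_eq_one (φ τ : MulAut L) (hφ : ∀ x, φ x = x → x = 1) (h3 : φ ^ 3 = 1)
    (hc : (Nat.card L).Coprime 3) (hτ : ∀ x, τ (τ x) = x)
    (hinv : ∀ x, τ (φ x) = φ (φ (τ x))) (h4 : ∀ n : L, n ^ 4 = 1)
    (hsq : ∀ n : L, (τ n * n) ^ 2 = 1) (n : L) : n ^ 2 = 1 := by
  have hφ3 : ∀ x, φ (φ (φ x)) = x := fun x => by
    have := DFunLike.congr_fun h3 x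
    simpa [pow_succ, MulAut.mul_apply] using this
  have hconjτ : ∀ n : L, (φ (τ (φ (φ n))) * n) ^ 2 = 1 := by
    intro n
    have h := congrArg φ (hsq (φ (φ n)))
    rwa [map_one, map_pow, map_mul, hφ3] at h
  -- central elements
  have hcen : ∀ z : L, (∀ y, Commute z y) → z ^ 2 = 1 := by
    intro z hz
    have hz4 : z ^ 2 * z ^ 2 = 1 := by rw [← pow_add]; exact h4 z
    have fixc : ∀ w : L, (∀ y, Commute w y) → (τ w * w) ^ 2 = 1 → w ^ 4 = 1 → τ (w ^ 2) = w ^ 2 := by
      intro w hw hw2 hw4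
      rw [((hw (τ w)).symm).mul_pow] at hw2
      rw [map_pow, eq_inv_of_mul_eq_one_left hw2]
      exact inv_eq_of_mul_eq_one_right (by rw [← pow_add]; exact hw4)
    have h1 : τ (z ^ 2) = z ^ 2 := fixc z hz (hsq z) (h4 z)
    have hz' : ∀ y, Commute (φ (φ z)) y := fun y => by
      obtain ⟨y, rfl⟩ := φ.surjective y
      obtain ⟨y, rfl⟩ := φ.surjective y
      exact ((hz y).map φ).map φ
    have h2 : τ (φ (φ (z ^ 2))) = φ (φ (z ^ 2)) := by
      simpa only [map_pow] using fixc (φ (φ z)) hz' (hsq _) (h4 _)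
    rw [hinv, hinv, h1, hφ3] at h2
    exact hφ (z ^ 2) (φ.injective h2).symm
  have hcomm := CfsgLib.FgsC.FpfOrderThree.commute_commutator φ hφ h3 hc
  have hsqc : ∀ a y : L, Commute (a ^ 2) y := by
    intro a y
    set c := ⁅a, y⁆ with hcdef
    have h2 : c ^ 2 = 1 := hcen c fun w => (hcomm a y w).symm
    have e : a * y = c * y * a := by rw [hcdef, commutatorElement_def]; group
    have e' : a * c = c * a := (hcomm a y a).eq
    change a ^ 2 * y = y * a ^ 2
    calc a ^ 2 * y = a * (a * y) := by rw [sq, mul_assoc]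
      _ = (a * c) * (y * a) := by rw [e]; group
      _ = c * (a * y) * a := by rw [e']; group
      _ = c ^ 2 * y * a ^ 2 := by rw [e, sq, sq]; group
      _ = y * a ^ 2 := by rw [h2, one_mul]
  -- squares of products
  have hmul : ∀ a b : L, (a * b) ^ 2 = a ^ 2 * b ^ 2 * ⁅b, a⁆ := by
    intro a b
    have hc' := hcomm b a
    calc (a * b) ^ 2 = a * (⁅b, a⁆ * (a * b)) * b := by rw [commutatorElement_def, sq]; group
      _ = a * (a * b) * (⁅b, a⁆ * b) := by rw [(hc' (a * b)).symm.eq]; group
      _ = a * (a * b) * (b * ⁅b, a⁆) := by rw [(hc' b).symm.eq]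
      _ = a ^ 2 * b ^ 2 * ⁅b, a⁆ := by rw [sq, sq]; group
  have hcm : ∀ u v : L, ⁅n, u⁆ * ⁅n, v⁆ = ⁅n, u * v⁆ := by
    intro u v
    have e : ⁅n, u * v⁆ = ⁅n, u⁆ * (u * ⁅n, v⁆ * u⁻¹) := by
      simp only [commutatorElement_def]; group
    rw [e, (hcomm n v u).eq, mul_inv_cancel_right]
  set x₀ := τ n with hx₀
  set x₁ := φ (τ (φ (φ n))) with hx₁
  set x₂ := φ (φ (τ (φ n))) with hx₂
  have hx₂' : (x₂ * n) ^ 2 = 1 := by
    have h := congrArg (fun z => φ (φ z)) (hsq (φ n))
    simp only [map_one, map_pow, map_mul, hφ3] at h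
    exact h
  have e0 := hsq n
  have e1 := hconjτ n
  have hprod : ∀ m : L, τ m * φ (τ (φ (φ m))) * φ (φ (τ (φ m))) = 1 := by
    intro m
    have h := congrArg τ (norm_eq_one φ hφ h3 m)
    rw [map_one, map_mul, map_mul] at h
    simp only [hinv, hφ3] at h ⊢
    exact h
  rw [← hx₀, hmul] at e0
  rw [← hx₁, hmul] at e1
  rw [hmul] at hx₂'
  have hp := hprod (n ^ 2)
  simp only [map_pow] at hp
  rw [← hx₀, ← hx₁, ← hx₂] at hp
  have hpx := hprod n
  rw [← hx₀, ← hx₁, ← hx₂] at hpx
  have hcpr : ⁅n, x₀⁆ * ⁅n, x₁⁆ * ⁅n, x₂⁆ = 1 := by rw [hcm, hcm, hpx, commutatorElement_one_right]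
  have key : ∀ a b m u v : L, (∀ y, Commute m y) → (∀ y, Commute u y) →
      a * m * u * (b * v) = a * b * (m * (u * v)) := by
    intro a b m u v hm hu
    rw [mul_assoc a m u, (((hm b).mul_left (hu b))).mul_mul_mul_comm, mul_assoc m u v]
  have hA : ∀ a y : L, a ^ 2 * y = y * a ^ 2 := fun a y => (hsqc a y).eq
  have h6 : x₀ ^ 2 * x₁ ^ 2 * x₂ ^ 2 * (n ^ 2 * n ^ 2 * n ^ 2) * (⁅n, x₀⁆ * ⁅n, x₁⁆ * ⁅n, x₂⁆) = 1 := by
    have hm : ∀ y, Commute (n ^ 2) y := hsqc n
    have hu : ∀ u y, Commute ⁅n, u⁆ y := fun u y => (hcomm n u y).symm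
    have e : (x₀ ^ 2 * n ^ 2 * ⁅n, x₀⁆) * ((x₁ ^ 2 * n ^ 2 * ⁅n, x₁⁆) * (x₂ ^ 2 * n ^ 2 * ⁅n, x₂⁆)) = 1 := by
      rw [e0, e1, hx₂', one_mul, one_mul]
    rw [mul_assoc (x₂ ^ 2) (n ^ 2), key (x₁ ^ 2) (x₂ ^ 2) (n ^ 2) ⁅n, x₁⁆ (n ^ 2 * ⁅n, x₂⁆) hm (hu x₁),
      key (x₀ ^ 2) _ (n ^ 2) ⁅n, x₀⁆ _ hm (hu x₀)] at e
    rw [show ⁅n, x₁⁆ * (n ^ 2 * ⁅n, x₂⁆) = n ^ 2 * (⁅n, x₁⁆ * ⁅n, x₂⁆) by
      rw [← mul_assoc, (hu x₁ (n ^ 2)).eq, mul_assoc],
      show ⁅n, x₀⁆ * (n ^ 2 * (n ^ 2 * (⁅n, x₁⁆ * ⁅n, x₂⁆))) =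
        n ^ 2 * (n ^ 2 * (⁅n, x₀⁆ * (⁅n, x₁⁆ * ⁅n, x₂⁆))) by
      rw [← mul_assoc, (hu x₀ (n ^ 2)).eq, mul_assoc, ← mul_assoc ⁅n, x₀⁆ (n ^ 2),
        (hu x₀ (n ^ 2)).eq, mul_assoc]] at e
    simpa only [mul_assoc] using e
  rw [hp, one_mul, hcpr, mul_one, ← pow_add, ← pow_add] at h6
  calc n ^ 2 = n ^ 2 * n ^ 4 := by rw [h4, mul_one]
    _ = 1 := by rw [← pow_add]; exact h6

end Norm

variable {G : Type u} [Group G] [Finite G]

theorem isCyclic_or_quaternion_of_fpf {T V : Subgroup G} (hV : V ≠ ⊥) (hT : IsPGroup 2 T)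
    (h : Base.IsFPF T V) (h4 : ∀ g : G, g ^ 4 = 1 ∨ g ^ 3 = 1) :
    IsCyclic T ∨ Nonempty (T ≃* QuaternionGroup 2) := by
  haveI : Fact (Nat.Prime 2) := ⟨Nat.prime_two⟩
  have e : (⊤ : Subgroup T) ≃* T := Subgroup.topEquiv
  rcases h.isCyclic_or_quaternion hV ⊤ (hT.to_subgroup ⊤) with hc | ⟨-, n, hn, ⟨q⟩⟩
  · exact Or.inl (e.isCyclic.1 hc)
  · right
    haveI : NeZero (2 ^ n) := ⟨pow_ne_zero n two_ne_zero⟩
    set g : G := ((q.symm (QuaternionGroup.a 1) : (⊤ : Subgroup T)) : T).1 with hg
    have ho : orderOf g = 2 * 2 ^ n := by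
      rw [hg, Subgroup.orderOf_coe, Subgroup.orderOf_coe, MulEquiv.orderOf_eq,
        QuaternionGroup.orderOf_a_one]
    have hn1 : n = 1 := by
      rcases h4 g with h | h
      · have h1 := Nat.le_of_dvd (by norm_num) (ho ▸ orderOf_dvd_of_pow_eq_one h)
        by_contra hne
        have : 4 ≤ 2 ^ n := by
          calc 4 = 2 ^ 2 := rfl
            _ ≤ _ := Nat.pow_le_pow_right two_pos (by omega)
        omega
      · have h1 := ho ▸ orderOf_dvd_of_pow_eq_one h
        have := (Nat.dvd_prime Nat.prime_three).1 h1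
        omega
    subst hn1
    exact ⟨e.symm.trans q⟩

/-- A group of order six with an element of order three that is self-centralising is `S₃`. -/
theorem nonempty_perm_three (h6 : Nat.card G = 6) (hnc : ∀ g : G, orderOf g ≠ 6) :
    Nonempty (G ≃* Equiv.Perm (Fin 3)) := by
  haveI : Fact (Nat.Prime 2) := ⟨Nat.prime_two⟩
  obtain ⟨t, ht⟩ := exists_prime_orderOf_dvd_card' (G := G) 2 (by rw [h6]; norm_num)
  have hidx : (zpowers t).index = 3 := by
    have h := (zpowers t).card_mul_index
    rw [Nat.card_zpowers, ht, h6] at h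
    omega
  have hcore : (zpowers t).normalCore = ⊥ := by
    by_contra hne
    have heq : (zpowers t).normalCore = zpowers t := by
      refine Subgroup.eq_of_le_of_card_ge (normalCore_le _) ?_
      rw [Nat.card_zpowers, ht]
      exact (Subgroup.one_lt_card_iff_ne_bot _).2 hne
    have hn : (zpowers t).Normal := heq ▸ normalCore_normal _
    haveI : Fact (Nat.Prime 3) := ⟨Nat.prime_three⟩
    obtain ⟨x, hx⟩ := exists_prime_orderOf_dvd_card' (G := G) 3 (by rw [h6]; norm_num)
    obtain ⟨k, hk⟩ := mem_zpowers_iff.1 (hn.conj_mem t (mem_zpowers t) x)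
    have hxt : x * t * x⁻¹ = t := by
      have h1 : ∀ y ∈ zpowers t, y = 1 ∨ y = t := by
        intro y hy
        obtain ⟨i, rfl⟩ := mem_zpowers_iff.1 hy
        rw [← zpow_mod_orderOf, ht]
        rcases Int.emod_two_eq_zero_or_one i with h | h <;> simp [h]
      rcases h1 _ (hn.conj_mem t (mem_zpowers t) x) with h | h
      · rw [mul_inv_eq_one, mul_eq_left] at h
        rw [h, orderOf_one] at ht
        omega
      · exact h
    refine hnc (x * t) ?_
    rw [Commute.orderOf_mul_eq_mul_orderOf_of_coprime (mul_inv_eq_iff_eq_mul.1 hxt)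
      (by rw [hx, ht]; decide), hx, ht]
  let f := MulAction.toPermHom G (G ⧸ zpowers t)
  have hinj : Function.Injective f := by
    rw [← MonoidHom.ker_eq_bot_iff, ← normalCore_eq_ker, hcore]
  have hc3 : Nat.card (G ⧸ zpowers t) = 3 := by rw [← index_eq_card, hidx]
  haveI := Fintype.ofFinite (G ⧸ zpowers t)
  let e3 : (G ⧸ zpowers t) ≃ Fin 3 := (Finite.equivFinOfCardEq hc3)
  refine ⟨MulEquiv.ofBijective ((Equiv.permCongrHom e3).toMonoidHom.comp f)
    ((Nat.bijective_iff_injective_and_card _).2 ⟨(Equiv.permCongrHom e3).injective.comp hinj, ?_⟩)⟩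
  rw [h6, Nat.card_perm, Nat.card_fin]
  rfl

theorem classification (h : Set.range (orderOf : G → ℕ) = {k : ℕ | 1 ≤ k ∧ k ≤ 4}) :
    ∃ (N : Subgroup G) (_ : N.Normal),
      (IsPGroup 2 ↥N ∧ Monoid.exponent ↥N = 4 ∧ Group.nilpotencyClass ↥N ≤ 2 ∧ N.index = 3) ∨
      (Cfsg.IsElementaryAbelian 2 N ∧ Nonempty (G ⧸ N ≃* Equiv.Perm (Fin 3))) ∨
      (Cfsg.IsElementaryAbelian 3 N ∧
        ((IsCyclic (G ⧸ N) ∧ N.index = 4) ∨ Nonempty (G ⧸ N ≃* QuaternionGroup 2))) := by
  classical
  haveI : Fact (Nat.Prime 2) := ⟨Nat.prime_two⟩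
  haveI : Fact (Nat.Prime 3) := ⟨Nat.prime_three⟩
  have hord : ∀ g : G, 1 ≤ orderOf g ∧ orderOf g ≤ 4 := fun g => by
    have : orderOf g ∈ Set.range (orderOf : G → ℕ) := ⟨g, rfl⟩
    rwa [h] at this
  have hex : ∀ k, 1 ≤ k → k ≤ 4 → ∃ g : G, orderOf g = k := fun k h1 h2 => by
    have : k ∈ Set.range (orderOf : G → ℕ) := by rw [h]; exact ⟨h1, h2⟩
    exact this
  have h34 : ∀ g : G, g ^ 4 = 1 ∨ g ^ 3 = 1 := fun g => by
    obtain ⟨h1, h2⟩ := hord g
    rw [← orderOf_dvd_iff_pow_eq_one, ← orderOf_dvd_iff_pow_eq_one]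
    interval_cases h : orderOf g <;> norm_num
  have h2pow : ∀ {H : Subgroup G}, IsPGroup 2 H → ∀ g ∈ H, g ^ 4 = 1 := by
    intro H hH g hg
    rcases h34 g with h | h
    · exact h
    · obtain ⟨k, hk⟩ := hH ⟨g, hg⟩
      have hk' : g ^ 2 ^ k = 1 := congrArg Subtype.val hk
      have := pow_gcd_eq_one.2 ⟨hk', h⟩
      rw [(Nat.Coprime.pow_left k (by norm_num : Nat.Coprime 2 3)).gcd_eq_one, pow_one] at this
      rw [this, one_pow]
  have h3pow : ∀ {H : Subgroup G}, IsPGroup 3 H → ∀ g ∈ H, g ^ 3 = 1 := by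
    intro H hH g hg
    rcases h34 g with h | h
    · obtain ⟨k, hk⟩ := hH ⟨g, hg⟩
      have hk' : g ^ 3 ^ k = 1 := congrArg Subtype.val hk
      have := pow_gcd_eq_one.2 ⟨hk', h⟩
      rw [(Nat.Coprime.pow_left k (by norm_num : Nat.Coprime 3 4)).gcd_eq_one, pow_one] at this
      rw [this, one_pow]
    · exact h
  -- commuting elements of orders two-power and three-power
  have hcop : ∀ a b : G, a * b = b * a → a ^ 4 = 1 → b ^ 3 = 1 → a = 1 ∨ b = 1 := by
    intro a b hab ha hb
    by_contra hne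
    push Not at hne
    have hb' : orderOf b = 3 := orderOf_eq_prime hb hne.2
    have hd : orderOf a ∣ 2 ^ 2 := orderOf_dvd_of_pow_eq_one ha
    have ha2 : 2 ∣ orderOf a := by
      obtain ⟨i, -, hi⟩ := (Nat.dvd_prime_pow Nat.prime_two).1 hd
      rw [hi]
      refine dvd_pow_self 2 fun h0 => hne.1 ?_
      rw [h0, pow_zero] at hi
      exact orderOf_eq_one_iff.1 hi
    have hcopr : (orderOf a).Coprime (orderOf b) :=
      Nat.Coprime.coprime_dvd_left hd (by rw [hb']; decide)
    have := (hord (a * b)).2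
    rw [Commute.orderOf_mul_eq_mul_orderOf_of_coprime hab hcopr, hb'] at this
    have := Nat.le_of_dvd (hord a).1 ha2
    omega
  have hprimes : (Nat.card G).primeFactors ⊆ {2, 3} := by
    intro r hr
    rw [Nat.mem_primeFactors] at hr
    haveI := Fact.mk hr.1
    obtain ⟨g, hg⟩ := exists_prime_orderOf_dvd_card' (G := G) r hr.2.1
    have h1 := hord g
    rw [hg] at h1
    simp only [Finset.mem_insert, Finset.mem_singleton]
    have := hr.1.two_le
    by_contra hne
    push Not at hne
    have : r = 4 := by omega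
    subst this
    exact absurd hr.1 (by norm_num)
  haveI : Group.IsSolvable G := FourOrbits.isSolvable_of_card_primeFactors_le_two
    ((Finset.card_le_card hprimes).trans Finset.card_le_two)
  obtain ⟨g4, hg4⟩ := hex 4 (by norm_num) le_rfl
  obtain ⟨g3, hg3⟩ := hex 3 (by norm_num) (by norm_num)
  haveI : Nontrivial G := ⟨⟨g3, 1, fun e => by rw [e, orderOf_one] at hg3; omega⟩⟩
  obtain ⟨p, hp, hpne⟩ := Base.exists_prime_pCore_ne_bot (G := G)
  haveI := Fact.mk hp
  have hpd : p ∈ (Nat.card G).primeFactors := by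
    obtain ⟨k, hk⟩ := (Base.isPGroup_pCore p G).exists_card_eq
    refine Nat.mem_primeFactors.2 ⟨hp, ?_, Nat.card_pos.ne'⟩
    have hk0 : k ≠ 0 := fun h0 => by
      rw [h0, pow_zero] at hk
      exact hpne (Subgroup.eq_bot_of_card_eq _ hk)
    exact (hk ▸ dvd_pow_self p hk0).trans (card_subgroup_dvd_card _)
  have hp23 : p = 2 ∨ p = 3 := by simpa using hprimes hpd
  rcases hp23 with rfl | rfl
  · -- the 2-core
    set N := pCore 2 G with hN
    have hNp : IsPGroup 2 N := Base.isPGroup_pCore 2 G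
    let P : Sylow 3 G := default
    have hPne : (P : Subgroup G) ≠ ⊥ := P.ne_bot_of_dvd_card (hg3 ▸ _root_.orderOf_dvd_natCard g3)
    have hfpf : Base.IsFPF (P : Subgroup G) N := by
      refine ⟨fun x _ => (normalizer_eq_top (H := N)).symm ▸ mem_top x, fun a ha ha1 => ?_⟩
      rw [eq_bot_iff]
      rintro v ⟨hvN, hvc⟩
      exact mem_bot.2 ((hcop v a (mem_centralizer_singleton_iff.1 hvc) (h2pow hNp v hvN)
        (h3pow P.isPGroup' a ha)).resolve_right ha1)
    have hPcyc : IsCyclic (P : Subgroup G) := by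
      haveI := hPne
      rcases hfpf.isCyclic_or_quaternion hpne ⊤ (P.isPGroup'.to_subgroup ⊤) with hc | ⟨h, -⟩
      · exact (Subgroup.topEquiv (G := (P : Subgroup G))).isCyclic.1 hc
      · omega
    have hP3 : Nat.card (P : Subgroup G) = 3 := by
      rw [← IsCyclic.exponent_eq_card]
      refine ((Nat.dvd_prime Nat.prime_three).1 (Monoid.exponent_dvd_of_forall_pow_eq_one
        fun x => Subtype.ext (h3pow P.isPGroup' x x.2))).resolve_left fun h1 => ?_
      rw [IsCyclic.exponent_eq_card] at h1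
      exact hPne (Subgroup.eq_bot_of_card_eq _ h1)
    -- order six elements do not exist in the quotient
    have hq6 : ∀ q : G ⧸ N, orderOf q ≠ 6 := by
      intro q hq
      obtain ⟨x, rfl⟩ := QuotientGroup.mk'_surjective N q
      have h1 := orderOf_map_dvd (QuotientGroup.mk' N) x
      rw [hq] at h1
      have := Nat.le_of_dvd (hord x).1 h1
      have := hord x
      omega
    haveI : Nontrivial (G ⧸ N) := by
      refine ⟨⟨QuotientGroup.mk' N g3, 1, fun e => ?_⟩⟩
      have hm : g3 ∈ N := (QuotientGroup.eq_one_iff g3).1 e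
      obtain ⟨k, hk⟩ := hNp ⟨g3, hm⟩
      have hk' : g3 ^ 2 ^ k = 1 := congrArg Subtype.val hk
      have := (Nat.dvd_prime_pow Nat.prime_two).1 (orderOf_dvd_of_pow_eq_one hk')
      obtain ⟨i, -, hi⟩ := this
      rw [hg3] at hi
      rcases Nat.eq_zero_or_pos i with h0 | h0
      · rw [h0] at hi; norm_num at hi
      · have : 2 ∣ 3 := hi ▸ dvd_pow_self 2 (by omega)
        omega
    obtain ⟨q, hq, hqne⟩ := Base.exists_prime_pCore_ne_bot (G := G ⧸ N)
    have hq2 : q ≠ 2 := fun e => by
      subst e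
      exact hqne (Base.pCore_quotient_pCore 2 G)
    haveI := Fact.mk hq
    set R := pCore q (G ⧸ N) with hR
    have hRp := Base.isPGroup_pCore q (G ⧸ N)
    have hR3 : q = 3 ∧ Nat.card R = 3 := by
      obtain ⟨k, hk⟩ := hRp.exists_card_eq
      have hk0 : k ≠ 0 := fun h0 => by
        rw [h0, pow_zero] at hk
        exact hqne (Subgroup.eq_bot_of_card_eq _ hk)
      have hd : Nat.card R ∣ Nat.card G :=
        (card_subgroup_dvd_card R).trans ((index_eq_card N).symm ▸ index_dvd_card N)
      have hq3 : q = 3 := by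
        have : q ∈ (Nat.card G).primeFactors :=
          Nat.mem_primeFactors.2 ⟨hq, (hk ▸ dvd_pow_self q hk0).trans hd, Nat.card_pos.ne'⟩
        have := hprimes this
        simp only [Finset.mem_insert, Finset.mem_singleton] at this
        omega
      refine ⟨hq3, ?_⟩
      subst hq3
      have hk1 : k ≤ 1 := by
        have h3 := P.card_eq_multiplicity
        rw [hP3] at h3
        have h4 : (Nat.card G).factorization 3 = 1 := by
          have := (Nat.pow_right_injective (show 2 ≤ 3 by norm_num)) (show 3 ^ 1 = _ from (pow_one 3).trans h3)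
          exact this.symm
        rw [← h4]
        exact (Nat.prime_three.pow_dvd_iff_le_factorization Nat.card_pos.ne').1 (hk ▸ hd)
      rw [hk, show k = 1 by omega, pow_one]
    obtain ⟨rfl, hRc⟩ := hR3
    haveI : R.Normal := Cfsg.pCore_normal 3 (G ⧸ N)
    have hCR : centralizer (R : Set (G ⧸ N)) = R := by
      haveI : IsCyclic R := isCyclic_of_prime_card hRc
      refine le_antisymm (fun c hc => ?_) (fun r hr => mem_centralizer_iff.2 fun s hs => ?_)
      · by_contra hcR
        obtain ⟨r, hr, hr1⟩ := (Subgroup.bot_or_exists_ne_one R).resolve_left hqne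
        have hcr : Commute c r := (mem_centralizer_iff.1 hc r hr).symm
        have hro : orderOf r = 3 := by
          have h1 : orderOf (⟨r, hr⟩ : R) ∣ 3 := hRc ▸ _root_.orderOf_dvd_natCard _
          rw [Subgroup.orderOf_mk] at h1
          exact ((Nat.dvd_prime Nat.prime_three).1 h1).resolve_left
            fun e => hr1 (orderOf_eq_one_iff.1 e)
        -- the order of c is a power of two or three
        obtain ⟨x, rfl⟩ := QuotientGroup.mk'_surjective N c
        have hox : orderOf (QuotientGroup.mk' N x) ∣ orderOf x := orderOf_map_dvd _ x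
        rcases h34 x with h4' | h3'
        · have hd : orderOf (QuotientGroup.mk' N x) ∣ 4 := hox.trans (orderOf_dvd_of_pow_eq_one h4')
          obtain ⟨i, -, hi⟩ := (Nat.dvd_prime_pow Nat.prime_two).1 (show _ ∣ 2 ^ 2 from hd)
          rcases Nat.eq_zero_or_pos i with h0 | h0
          · rw [h0, pow_zero] at hi
            exact hcR (by rw [orderOf_eq_one_iff.1 hi]; exact one_mem _)
          · have ho : orderOf ((QuotientGroup.mk' N x) ^ 2 ^ (i - 1)) = 2 := by
              rw [orderOf_pow' _ (pow_ne_zero _ two_ne_zero), hi,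
                Nat.gcd_eq_right (pow_dvd_pow 2 (Nat.sub_le i 1)), Nat.pow_div (Nat.sub_le i 1) two_pos,
                show i - (i - 1) = 1 by omega, pow_one]
            refine hq6 ((QuotientGroup.mk' N x) ^ 2 ^ (i - 1) * r) ?_
            rw [(hcr.pow_left _).orderOf_mul_eq_mul_orderOf_of_coprime (by rw [ho, hro]; decide), ho, hro]
        · -- a Sylow 3-subgroup has order three
          have hc3 : (QuotientGroup.mk' N x) ^ 3 = 1 := by rw [← map_pow, h3', map_one]
          let S : Sylow 3 (G ⧸ N) := P.mapSurjective (QuotientGroup.mk'_surjective N)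
          have hS : Nat.card (S : Subgroup (G ⧸ N)) ≤ 3 := by
            rw [Sylow.coe_mapSurjective]
            exact (Nat.le_of_dvd Nat.card_pos (card_map_dvd _ _)).trans hP3.le
          have hE : IsPGroup 3 ↥(zpowers (QuotientGroup.mk' N x) ⊔ R) := by
            refine IsPGroup.to_sup_of_normal_right (IsPGroup.of_card (n := 1) ?_) hRp
            rw [Nat.card_zpowers, pow_one]
            exact orderOf_eq_prime hc3 fun e => hcR (by rw [e]; exact one_mem _)
          obtain ⟨S', hS'⟩ := hE.exists_le_sylow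
          have hle : R ≤ (S' : Subgroup (G ⧸ N)) := le_sup_right.trans hS'
          have heq : R = (S' : Subgroup (G ⧸ N)) := Subgroup.eq_of_le_of_card_ge hle (by
            rw [hRc, S'.card_eq_multiplicity, ← S.card_eq_multiplicity]; exact hS)
          exact hcR (heq ▸ hS' (le_sup_left (a := zpowers (QuotientGroup.mk' N x)) (mem_zpowers _)))
      · exact congrArg Subtype.val ((IsCyclic.commGroup (α := R)).mul_comm ⟨s, hs⟩ ⟨r, hr⟩)
    -- index three or six
    have hidx : N.index = 3 ∨ N.index = 6 := by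
      let f := MulAut.conjNormal (H := R) (G := G ⧸ N)
      have hker : f.ker = R := by
        refine Eq.trans ?_ hCR
        ext c
        simp only [MonoidHom.mem_ker, mem_centralizer_iff, MulEquiv.ext_iff, Subtype.forall,
          MulAut.one_apply, Subtype.ext_iff, MulAut.conjNormal_apply, SetLike.mem_coe, f,
          mul_inv_eq_iff_eq_mul]
        exact ⟨fun h s hs => (h s hs).symm, fun h s hs => (h s hs).symm⟩
      have h1 : f.ker.index ∣ 2 := by
        rw [Subgroup.index_ker]
        refine (card_subgroup_dvd_card f.range).trans ?_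
        haveI : IsCyclic R := isCyclic_of_prime_card hRc
        rw [IsCyclic.card_mulAut, hRc]
        decide
      rw [hker] at h1
      have h2 := R.card_mul_index
      rw [hRc, ← index_eq_card] at h2
      rcases (Nat.dvd_prime Nat.prime_two).1 h1 with e | e <;> rw [e] at h2 <;> omega
    obtain ⟨ρ, hρ⟩ := exists_prime_orderOf_dvd_card' (G := (P : Subgroup G)) 3 (by rw [hP3])
    have hρ1 : (ρ : G) ≠ 1 := fun e => by
      have : ρ = 1 := Subtype.ext e
      rw [this, orderOf_one] at hρ; omega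
    let φ : MulAut N := MulAut.conjNormal (ρ : G)
    have hφ : ∀ x, φ x = x → x = 1 := fun x hx => Subtype.ext (hfpf.eq_one_of_commute ρ.2 hρ1 x.2
      (mul_inv_eq_iff_eq_mul.1 ((congrArg Subtype.val hx : _))))
    have hρ3 : (ρ : G) ^ 3 = 1 := by
      have := pow_orderOf_eq_one (ρ : G)
      rwa [Subgroup.orderOf_coe, hρ] at this
    have hφ3 : φ ^ 3 = 1 := by rw [← map_pow, hρ3, map_one]
    have hNc : (Nat.card N).Coprime 3 := by
      obtain ⟨k, hk⟩ := hNp.exists_card_eq
      rw [hk]
      exact Nat.Coprime.pow_left k (by norm_num)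
    haveI := hNp.isNilpotent
    have hclass : Group.nilpotencyClass N ≤ 2 := by
      rw [← _root_.lowerCentralSeries_eq_bot_iff_nilpotencyClass_le, Subgroup.lowerCentralSeries_succ,
        Subgroup.top_lowerCentralSeries_one, commutator_eq_bot_iff_le_centralizer]
      rw [_root_.commutator_def, Subgroup.commutator_le]
      intro a _ b _
      exact mem_centralizer_iff.2 fun c _ =>
        ((CfsgLib.FgsC.FpfOrderThree.commute_commutator φ hφ hφ3 hNc a b c).eq)
    rcases hidx with hidx | hidx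
    · refine ⟨N, Cfsg.pCore_normal 2 G, Or.inl ⟨hNp, ?_, hclass, hidx⟩⟩
      have h4N : g4 ∈ N := by
        rw [← QuotientGroup.eq_one_iff, ← orderOf_eq_one_iff]
        have h1 : orderOf (QuotientGroup.mk' N g4) ∣ 4 := (orderOf_map_dvd _ g4).trans hg4.dvd
        have h2 : orderOf (QuotientGroup.mk' N g4) ∣ 3 :=
          hidx ▸ (index_eq_card N).symm ▸ _root_.orderOf_dvd_natCard _
        exact Nat.eq_one_of_dvd_coprimes (by norm_num : Nat.Coprime 4 3) h1 h2
      refine Nat.dvd_antisymm (Monoid.exponent_dvd_of_forall_pow_eq_one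
        fun x => Subtype.ext (h2pow hNp x x.2)) ?_
      have := Monoid.order_dvd_exponent (⟨g4, h4N⟩ : N)
      rwa [Subgroup.orderOf_mk, hg4] at this
    · -- the quotient is S₃
      refine ⟨N, Cfsg.pCore_normal 2 G, Or.inr (Or.inl ?_)⟩
      have hcard : Nat.card (G ⧸ N) = 6 := by rw [← index_eq_card, hidx]
      refine ⟨?_, nonempty_perm_three hcard hq6⟩
      -- an involution inverting ρ
      set M := N ⊔ (P : Subgroup G) with hM
      have hPnorm : ∃ t : G, t ∉ M ∧ t ∈ normalizer ((P : Subgroup G) : Set G) := by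
        have hMn : M.Normal := by
          have hidxM : M.index = 2 := by
            have h1 : M.index ∣ 6 := hidx ▸ index_dvd_of_le le_sup_left
            have h2 : ¬ 3 ∣ M.index := fun h =>
              P.not_dvd_index (h.trans (index_dvd_of_le le_sup_right))
            have h3 : M ≠ ⊤ := by
              intro htop
              have h4 : M.map (QuotientGroup.mk' N) = ⊤ := by
                rw [htop]; exact map_top_of_surjective _ (QuotientGroup.mk'_surjective N)
              rw [hM, Subgroup.map_sup, QuotientGroup.map_mk'_self, bot_sup_eq] at h4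
              have h5 := card_map_dvd (P : Subgroup G) (QuotientGroup.mk' N)
              rw [h4, Subgroup.card_top, hcard, hP3] at h5
              norm_num at h5
            have h4 : M.index ≤ 6 := Nat.le_of_dvd (by norm_num) h1
            have h5 : M.index ≠ 1 := fun e => h3 (index_eq_one.1 e)
            interval_cases M.index <;> simp_all
          exact normal_of_index_eq_two hidxM
        haveI := hMn
        let P' : Sylow 3 M := P.subtype le_sup_right
        have htop := Sylow.normalizer_sup_eq_top P'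
        rw [Sylow.coe_subtype, map_subgroupOf_eq_of_le le_sup_right] at htop
        by_contra hno
        push Not at hno
        have hle : normalizer ((P : Subgroup G) : Set G) ≤ M := fun x hx => by
          by_contra hxM
          exact hno x hxM hx
        rw [sup_eq_right.2 hle] at htop
        have := index_eq_one.2 htop
        have h1 : M.index ∣ N.index := index_dvd_of_le le_sup_left
        haveI := hMn
        obtain ⟨s, hs⟩ := exists_prime_orderOf_dvd_card' (G := G ⧸ N) 2 (by rw [hcard]; norm_num)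
        have h2 : M.map (QuotientGroup.mk' N) = ⊤ := by
          rw [htop]; exact map_top_of_surjective _ (QuotientGroup.mk'_surjective N)
        rw [hM, Subgroup.map_sup, QuotientGroup.map_mk'_self, bot_sup_eq] at h2
        have h3 : Nat.card ((P : Subgroup G).map (QuotientGroup.mk' N)) = 6 := by
          rw [h2, Subgroup.card_top, hcard]
        have h4 := card_map_dvd (P : Subgroup G) (QuotientGroup.mk' N)
        rw [h3, hP3] at h4
        norm_num at h4
      obtain ⟨t, htM, htn⟩ := hPnorm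
      have ht4 : t ^ 4 = 1 := (h34 t).resolve_right fun h3' => by
        apply htM
        -- a 3-element normalising P lies in P
        by_cases ht1 : t = 1
        · rw [ht1]; exact one_mem _
        have hz : IsPGroup 3 (zpowers t) := IsPGroup.of_card (n := 1) (by
          rw [Nat.card_zpowers, orderOf_eq_prime h3' ht1, pow_one])
        have hsup := hz.to_sup_of_normal_right' P.isPGroup' (zpowers_le.2 htn)
        have := P.is_maximal' hsup le_sup_right
        exact le_sup_right (a := N) (this ▸ le_sup_left (a := zpowers t) (mem_zpowers t))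
      have hmemP : ∀ y ∈ (P : Subgroup G), y = 1 ∨ y = ρ ∨ y = (ρ : G) * ρ := by
        intro y hy
        have htop : zpowers ρ = ⊤ := Subgroup.eq_top_of_card_eq _ (by rw [Nat.card_zpowers, hρ, hP3])
        obtain ⟨i, hi⟩ := mem_zpowers_iff.1 (htop ▸ mem_top (⟨y, hy⟩ : (P : Subgroup G)))
        rw [← zpow_mod_orderOf, hρ] at hi
        have h1 : 0 ≤ i % ((3 : ℕ) : ℤ) := Int.emod_nonneg _ (by norm_num)
        have h2 : i % ((3 : ℕ) : ℤ) < 3 := Int.emod_lt_of_pos _ (by norm_num)
        push_cast at hi h1 h2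
        have hi' := congrArg Subtype.val hi
        interval_cases h : i % 3
        · exact Or.inl (by simpa using hi'.symm)
        · exact Or.inr (Or.inl (by simpa using hi'.symm))
        · exact Or.inr (Or.inr (by simpa [zpow_two, sq] using hi'.symm))
      have htρ : t * ρ * t⁻¹ = (ρ : G) * ρ := by
        rcases hmemP _ ((mem_normalizer_iff.1 htn _).1 ρ.2) with h | h | h
        · rw [mul_inv_eq_one, mul_eq_left] at h
          exact absurd h hρ1
        · exfalso
          rcases hcop t ρ (mul_inv_eq_iff_eq_mul.1 h) ht4 hρ3 with h' | h'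
          · exact htM (h' ▸ one_mem _)
          · exact hρ1 h'
        · exact h
      have ht2 : t * t = 1 := by
        refine (hcop (t * t) ρ ?_ ?_ hρ3).resolve_right hρ1
        · rw [← mul_inv_eq_iff_eq_mul]
          have e : t * t * (ρ : G) * (t * t)⁻¹ = t * (t * ρ * t⁻¹) * t⁻¹ := by group
          rw [e, htρ, show t * ((ρ : G) * ρ) * t⁻¹ = (t * ρ * t⁻¹) * (t * ρ * t⁻¹) by group, htρ]
          calc (ρ : G) * ρ * (ρ * ρ) = (ρ : G) ^ 3 * ρ := by simp only [pow_succ, pow_zero, one_mul, mul_assoc]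
            _ = ρ := by rw [hρ3, one_mul]
        · rw [← sq, ← pow_mul, show 2 * 4 = 4 * 2 from rfl, pow_mul, ht4, one_pow]
      let τ : MulAut N := MulAut.conjNormal t
      have hτ : ∀ x, τ (τ x) = x := fun x => by
        rw [← MulAut.mul_apply, ← map_mul, ht2, map_one, MulAut.one_apply]
      have hinv : ∀ x, τ (φ x) = φ (φ (τ x)) := fun x => by
        rw [← MulAut.mul_apply, ← map_mul, ← MulAut.mul_apply, ← MulAut.mul_apply, ← map_mul,
          ← map_mul, mul_inv_eq_iff_eq_mul.1 htρ, mul_assoc]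
      have hsq : ∀ n : N, (τ n * n) ^ 2 = 1 := by
        intro n
        apply Subtype.ext
        have htn4 : (t * (n : G)) ^ 4 = 1 := by
          refine (h34 _).resolve_right fun h3' => htM ?_
          have h1 : QuotientGroup.mk' N t ^ 3 = 1 := by
            have := congrArg (QuotientGroup.mk' N) h3'
            rwa [map_pow, map_mul, (show QuotientGroup.mk' N (n : G) = 1 from (QuotientGroup.eq_one_iff (n : G)).2 n.2),
              mul_one, map_one] at this
          have h2 : QuotientGroup.mk' N t ^ 2 = 1 := by rw [← map_pow, sq, ht2, map_one]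
          have : QuotientGroup.mk' N t = 1 := by
            calc QuotientGroup.mk' N t = QuotientGroup.mk' N t ^ 3 := by rw [pow_succ, h2, one_mul]
              _ = 1 := h1
          exact le_sup_left (b := (P : Subgroup G)) ((QuotientGroup.eq_one_iff t).1 this)
        rw [OneMemClass.coe_one, SubmonoidClass.coe_pow, Subgroup.coe_mul, MulAut.conjNormal_apply,
          inv_eq_of_mul_eq_one_right ht2, show t * (n : G) * t * n = (t * (n : G)) ^ 2 by rw [sq]; group,
          ← pow_mul]
        exact htn4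
      have hall := sq_eq_one φ τ hφ hφ3 hNc hτ hinv (fun n => Subtype.ext (h2pow hNp n n.2)) hsq
      refine ⟨⟨⟨fun a b => ?_⟩⟩, fun x hx => congrArg Subtype.val (hall ⟨x, hx⟩)⟩
      have hinv' : ∀ x : N, x⁻¹ = x := fun x => inv_eq_of_mul_eq_one_right (by rw [← sq]; exact hall x)
      rw [← hinv' (a * b), mul_inv_rev, hinv', hinv']
  · -- the 3-core
    set N := pCore 3 G with hN
    have hNp : IsPGroup 3 N := Base.isPGroup_pCore 3 G
    let T : Sylow 2 G := default
    have hTne : (T : Subgroup G) ≠ ⊥ := T.ne_bot_of_dvd_card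
      ((hg4 ▸ (by norm_num : (2 : ℕ) ∣ 4)).trans (_root_.orderOf_dvd_natCard g4))
    have hfpf : Base.IsFPF (T : Subgroup G) N := by
      refine ⟨fun x _ => (normalizer_eq_top (H := N)).symm ▸ mem_top x, fun a ha ha1 => ?_⟩
      rw [eq_bot_iff]
      rintro v ⟨hvN, hvc⟩
      exact mem_bot.2 ((hcop a v (mem_centralizer_singleton_iff.1 hvc).symm (h2pow T.isPGroup' a ha)
        (h3pow hNp v hvN)).resolve_left ha1)
    obtain ⟨t, htT, ht1⟩ := (Subgroup.bot_or_exists_ne_one (T : Subgroup G)).resolve_left hTne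
    obtain ⟨s, hsT, hs1, hs2⟩ : ∃ s ∈ (T : Subgroup G), s ≠ 1 ∧ s * s = 1 := by
      by_cases h2' : t * t = 1
      · exact ⟨t, htT, ht1, h2'⟩
      · refine ⟨t * t, mul_mem htT htT, h2', ?_⟩
        rw [← h2pow T.isPGroup' t htT]; simp only [pow_succ, pow_zero, one_mul, mul_assoc]
    have hab : ∀ a ∈ N, ∀ b ∈ N, a * b = b * a := fun a ha b hb => by
      have h1 := hfpf.conj_eq_inv hsT hs1 hs2 (mul_mem ha hb)
      rw [show s * (a * b) * s⁻¹ = (s * a * s⁻¹) * (s * b * s⁻¹) by group,
        hfpf.conj_eq_inv hsT hs1 hs2 ha, hfpf.conj_eq_inv hsT hs1 hs2 hb, ← mul_inv_rev, inv_inj] at h1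
      exact h1.symm
    refine ⟨N, Cfsg.pCore_normal 3 G, Or.inr (Or.inr ⟨⟨⟨⟨fun a b =>
      Subtype.ext (hab a a.2 b b.2)⟩⟩, h3pow hNp⟩, ?_⟩)⟩
    -- the quotient is a 2-group
    have hq3 : ¬ 3 ∣ N.index := by
      intro hd
      rw [index_eq_card] at hd
      obtain ⟨q, hq, hqne⟩ := by
        haveI : Nontrivial (G ⧸ N) := Finite.one_lt_card_iff_nontrivial.1
          (lt_of_lt_of_le (by norm_num) (Nat.le_of_dvd Nat.card_pos hd))
        exact Base.exists_prime_pCore_ne_bot (G := G ⧸ N)
      haveI := Fact.mk hq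
      have hq2 : q = 2 := by
        have hne : q ≠ 3 := fun e => by subst e; exact hqne (Base.pCore_quotient_pCore 3 G)
        obtain ⟨k, hk⟩ := (Base.isPGroup_pCore q (G ⧸ N)).exists_card_eq
        have hk0 : k ≠ 0 := fun h0 => by
          rw [h0, pow_zero] at hk
          exact hqne (Subgroup.eq_bot_of_card_eq _ hk)
        have : q ∈ (Nat.card G).primeFactors := Nat.mem_primeFactors.2 ⟨hq,
          (hk ▸ dvd_pow_self q hk0).trans ((card_subgroup_dvd_card _).trans
            ((index_eq_card N).symm ▸ index_dvd_card N)), Nat.card_pos.ne'⟩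
        have := hprimes this
        simp only [Finset.mem_insert, Finset.mem_singleton] at this
        omega
      subst hq2
      set U := pCore 2 (G ⧸ N) with hU
      haveI : U.Normal := Cfsg.pCore_normal 2 (G ⧸ N)
      let S : Sylow 2 (G ⧸ N) := T.mapSurjective (QuotientGroup.mk'_surjective N)
      have hUS : U ≤ (S : Subgroup (G ⧸ N)) := Base.pCore_le_sylow S
      have huniq : ∀ a ∈ U, ∀ b ∈ U, a ≠ 1 → b ≠ 1 → a * a = 1 → b * b = 1 → a = b := by
        intro a ha b hb ha1 hb1 ha2 hb2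
        have hinj : ∀ x ∈ (T : Subgroup G), QuotientGroup.mk' N x = 1 → x = 1 := fun x hx he => by
          have hxN : x ∈ N := (QuotientGroup.eq_one_iff x).1 he
          exact (hcop x x rfl (h2pow T.isPGroup' x hx) (h3pow hNp x hxN)).elim id id
        have ha' := hUS ha
        have hb' := hUS hb
        rw [Sylow.coe_mapSurjective] at ha' hb'
        obtain ⟨x, hx, rfl⟩ := mem_map.1 ha'
        obtain ⟨y, hy, rfl⟩ := mem_map.1 hb'
        rw [hfpf.involution_unique hpne hx (fun e => ha1 (by rw [e, map_one]))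
          (hinj _ (mul_mem hx hx) (by rw [map_mul, ha2])) hy (fun e => hb1 (by rw [e, map_one]))
          (hinj _ (mul_mem hy hy) (by rw [map_mul, hb2]))]
      obtain ⟨z, hz⟩ := exists_prime_orderOf_dvd_card' (G := U) 2 (by
        obtain ⟨k, hk⟩ := (Base.isPGroup_pCore 2 (G ⧸ N)).exists_card_eq
        refine hk ▸ dvd_pow_self 2 fun h0 => hqne ?_
        rw [h0, pow_zero] at hk
        exact Subgroup.eq_bot_of_card_eq _ hk)
      rw [← Subgroup.orderOf_coe] at hz
      obtain ⟨c, hc⟩ := exists_prime_orderOf_dvd_card' (G := G ⧸ N) 3 hd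
      have hzz : (z : G ⧸ N) * z = 1 := by rw [← sq, ← hz, pow_orderOf_eq_one]
      have hz1 : (z : G ⧸ N) ≠ 1 := fun e => by rw [e, orderOf_one] at hz; omega
      have hcz : c * z * c⁻¹ = z := huniq _ ((Cfsg.pCore_normal 2 (G ⧸ N)).conj_mem _ z.2 c) _ z.2
        (fun e => hz1 (by rwa [mul_inv_eq_one, mul_eq_left] at e)) hz1
        (by rw [show c * z * c⁻¹ * (c * z * c⁻¹) = c * (z * z) * c⁻¹ by group, hzz]; group) hzz
      obtain ⟨x, hx⟩ := QuotientGroup.mk'_surjective N (c * z)
      have h6 : orderOf (c * z) = 6 := by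
        rw [Commute.orderOf_mul_eq_mul_orderOf_of_coprime (mul_inv_eq_iff_eq_mul.1 hcz)
          (by rw [hc, hz]; decide), hc, hz]
      have h7 := orderOf_map_dvd (QuotientGroup.mk' N) x
      rw [hx, h6] at h7
      have := Nat.le_of_dvd (hord x).1 h7
      have := hord x
      omega
    -- G ⧸ N is isomorphic to T
    have hTN : Disjoint (T : Subgroup G) N :=
      IsPGroup.disjoint_of_ne 2 3 (by norm_num) _ _ T.isPGroup' hNp
    let f : (T : Subgroup G) →* G ⧸ N := (QuotientGroup.mk' N).comp (T : Subgroup G).subtype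
    have hfinj : Function.Injective f := by
      rw [injective_iff_map_eq_one]
      intro x hx
      have : (x : G) ∈ (T : Subgroup G) ⊓ N := ⟨x.2, (QuotientGroup.eq_one_iff (x : G)).1 hx⟩
      rw [hTN.eq_bot, mem_bot] at this
      exact Subtype.ext this
    have hfsurj : Function.Surjective f := by
      rw [← MonoidHom.range_eq_top]
      apply Subgroup.eq_top_of_le_card
      rw [← Nat.card_congr (MonoidHom.ofInjective hfinj).toEquiv, ← index_eq_card]
      have hd := N.index_dvd_card
      have honly : ∀ {d : ℕ}, d.Prime → d ∣ N.index → d = 2 := fun {d} hd' hdd => by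
        have := hprimes (Nat.mem_primeFactors.2 ⟨hd', hdd.trans hd, Nat.card_pos.ne'⟩)
        simp only [Finset.mem_insert, Finset.mem_singleton] at this
        exact this.resolve_right fun e => hq3 (e ▸ hdd)
      have h1 := Nat.eq_prime_pow_of_unique_prime_dvd N.index_ne_zero_of_finite honly
      rw [h1, T.card_eq_multiplicity]
      exact Nat.pow_le_pow_right two_pos
        ((Nat.prime_two.pow_dvd_iff_le_factorization Nat.card_pos.ne').1 (h1 ▸ hd))
    let e : (T : Subgroup G) ≃* G ⧸ N := MulEquiv.ofBijective f ⟨hfinj, hfsurj⟩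
    rcases isCyclic_or_quaternion_of_fpf hpne T.isPGroup' hfpf h34 with hc | hq'
    · left
      haveI : IsCyclic (G ⧸ N) := e.isCyclic.1 hc
      refine ⟨inferInstance, ?_⟩
      rw [index_eq_card, ← IsCyclic.exponent_eq_card]
      refine Nat.dvd_antisymm (Monoid.exponent_dvd_of_forall_pow_eq_one fun y => ?_) ?_
      · obtain ⟨x, rfl⟩ := e.surjective y
        rw [← map_pow, show x ^ 4 = 1 from Subtype.ext (h2pow T.isPGroup' x x.2), map_one]
      · have h1 : orderOf (QuotientGroup.mk' N g4) ∣ 4 := (orderOf_map_dvd _ g4).trans hg4.dvd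
        refine dvd_trans ?_ (Monoid.order_dvd_exponent (QuotientGroup.mk' N g4))
        obtain ⟨i, hi, hi'⟩ := (Nat.dvd_prime_pow Nat.prime_two).1 (show _ ∣ 2 ^ 2 from h1)
        rw [hi']
        rcases Nat.lt_or_ge i 2 with hlt | hge
        · exfalso
          have h2 : QuotientGroup.mk' N (g4 ^ 2) = 1 := by
            rw [map_pow, ← orderOf_dvd_iff_pow_eq_one, hi']
            exact (pow_dvd_pow 2 (show i ≤ 1 by omega)).trans (pow_one 2).dvd
          have hm : g4 ^ 2 ∈ N := (QuotientGroup.eq_one_iff _).1 h2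
          have h4' : g4 ^ 4 = 1 := by rw [← hg4, pow_orderOf_eq_one]
          rcases hcop (g4 ^ 2) (g4 ^ 2) rfl (by rw [← pow_mul, show 2 * 4 = 4 * 2 from rfl, pow_mul, h4', one_pow])
            (h3pow hNp _ hm) with h | h <;>
          · have := Nat.le_of_dvd two_pos (orderOf_dvd_of_pow_eq_one h)
            omega
        · exact pow_dvd_pow 2 hge
    · exact Or.inr (hq'.map fun q => e.symm.trans q)

end CfsgLib.FgsB.OrdersFour
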