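import Cfsg.Agent.Lib.FgsB.Basic

/-!
When is a Sylow `p`-subgroup a direct factor?
-/

set_option autoImplicit false

namespace CfsgLib.FgsB

variable {G : Type*} [Group G]

theorem eq_top_of_forall_primePow_mem [Finite G] {H : Subgroup G}
    (h : ∀ x : G, (∃ r k : ℕ, r.Prime ∧ orderOf x = r ^ k) → x ∈ H) : H = ⊤ := by
  by_contra hne
  obtain ⟨r, hr, hdvd⟩ := Nat.exists_prime_and_dvd (mt Subgroup.index_eq_one.mp hne)
  have : Fact r.Prime := ⟨hr⟩
  obtain ⟨Q⟩ := (inferInstance : Nonempty (Sylow r G))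
  have hle : (Q : Subgroup G) ≤ H := fun x hx =>
    h x (let ⟨k, hk⟩ := exists_orderOf_eq_pow_of_mem Q.2 hx; ⟨r, k, hr, hk⟩)
  exact Q.not_dvd_index (hdvd.trans (Subgroup.index_dvd_of_le hle))

theorem mem_zpowers_pow_of_coprime {x : G} {n : ℕ} (h : n.Coprime (orderOf x)) :
    x ∈ Subgroup.zpowers (x ^ n) := by
  refine ⟨Nat.gcdA n (orderOf x), ?_⟩
  have hb := Nat.gcd_eq_gcd_ab n (orderOf x)
  rw [h.gcd_eq_one] at hb
  simp only
  rw [← zpow_natCast, ← zpow_mul]
  calc x ^ ((n : ℤ) * Nat.gcdA n (orderOf x))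
      = x ^ ((n : ℤ) * Nat.gcdA n (orderOf x)) * x ^ ((orderOf x : ℤ) * Nat.gcdB n (orderOf x)) := by
        rw [zpow_mul x (orderOf x : ℤ), zpow_natCast, pow_orderOf_eq_one, one_zpow, mul_one]
    _ = x ^ (1 : ℤ) := by rw [← zpow_add, ← hb]; norm_num
    _ = x := zpow_one x

/-- An element of order prime to `p` lies in a normal `p`-complement. -/
theorem mem_of_coprime_orderOf [Finite G] {p : ℕ} [hp : Fact p.Prime] {P : Sylow p G}
    {K : Subgroup G} [K.Normal] (hsup : (P : Subgroup G) ⊔ K = ⊤) {y : G}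
    (hy : (orderOf y).Coprime p) : y ∈ K := by
  obtain ⟨n, hn⟩ := P.2.exists_card_eq
  have hco : (Nat.card (P : Subgroup G)).Coprime (orderOf y) := by
    rw [hn]; exact Nat.Coprime.pow_left n hy.symm
  have hyn : y ^ Nat.card (P : Subgroup G) ∈ K := by
    obtain ⟨u, hu, v, hv, huv⟩ := Subgroup.mem_sup_of_normal_right.mp (show y ∈ (P : Subgroup G) ⊔ K by rw [hsup]; exact Subgroup.mem_top y)
    rw [← huv]
    apply (QuotientGroup.eq_one_iff _).mp
    rw [QuotientGroup.mk_pow, QuotientGroup.mk_mul, (QuotientGroup.eq_one_iff v).mpr hv, mul_one,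
      ← QuotientGroup.mk_pow]
    have hu1 : u ^ Nat.card (P : Subgroup G) = 1 := by
      have h := pow_card_eq_one' (x := (⟨u, hu⟩ : (P : Subgroup G)))
      exact congrArg Subtype.val h
    rw [hu1, QuotientGroup.mk_one]
  obtain ⟨a, ha⟩ := mem_zpowers_pow_of_coprime hco
  rw [← ha]
  exact K.zpow_mem hyn a

/-- If every element of prime power order prime to `p` centralizes `P`, then `P` is a direct
factor. -/
theorem isDirectFactor_of_centralizing [Finite G] {p : ℕ} [hp : Fact p.Prime] (P : Sylow p G)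
    (h : ∀ y : G, (∃ r k : ℕ, r.Prime ∧ r ≠ p ∧ orderOf y = r ^ k) →
      y ∈ Subgroup.centralizer ((P : Subgroup G) : Set G)) :
    (P : Subgroup G).Normal ∧ ∃ K : Subgroup G, K.Normal ∧ K.IsComplement' (P : Subgroup G) ∧
      (P : Subgroup G) ⊓ K = ⊥ ∧ (P : Subgroup G) ⊔ K = ⊤ ∧
      K ≤ Subgroup.centralizer ((P : Subgroup G) : Set G) := by
  have hnorm : (P : Subgroup G).Normal := by
    rw [← Subgroup.normalizer_eq_top_iff]
    apply eq_top_of_forall_primePow_mem
    rintro x ⟨r, k, hr, hx⟩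
    by_cases hrp : r = p
    · -- a `p`-element of the normalizer is in `P`; get it there by a counting argument
      obtain ⟨g, hg⟩ := exists_conj_mem_sylow ⟨k, hrp ▸ hx⟩ P
      have hg' : ∀ z : G, z ∈ Subgroup.normalizer ((P : Subgroup G) : Set G) := by
        intro z
        have htop : ((P : Subgroup G) ⊔ Subgroup.centralizer ((P : Subgroup G) : Set G)) = ⊤ := by
          by_contra hne
          obtain ⟨s, hs, hdvd⟩ := Nat.exists_prime_and_dvd (mt Subgroup.index_eq_one.mp hne)
          have : Fact s.Prime := ⟨hs⟩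
          by_cases hsp : s = p
          · subst hsp
            exact P.not_dvd_index (hdvd.trans (Subgroup.index_dvd_of_le le_sup_left))
          · obtain ⟨Q⟩ := (inferInstance : Nonempty (Sylow s G))
            refine Q.not_dvd_index (hdvd.trans (Subgroup.index_dvd_of_le ?_))
            intro w hw
            obtain ⟨e, he⟩ := exists_orderOf_eq_pow_of_mem Q.2 hw
            exact Subgroup.mem_sup_right (h w ⟨s, e, hs, hsp, he⟩)
        have hle : (P : Subgroup G) ⊔ Subgroup.centralizer ((P : Subgroup G) : Set G) ≤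
            Subgroup.normalizer ((P : Subgroup G) : Set G) :=
          sup_le Subgroup.le_normalizer (Subgroup.centralizer_le_normalizer _)
        exact hle (htop ▸ Subgroup.mem_top z)
      exact hg' x
    · exact Subgroup.centralizer_le_normalizer _ (h x ⟨r, k, hr, hrp, hx⟩)
  obtain ⟨K, hK⟩ := Subgroup.exists_left_complement'_of_coprime P.card_coprime_index
  have hKc : K ≤ Subgroup.centralizer ((P : Subgroup G) : Set G) := by
    have hsub : (Subgroup.centralizer ((P : Subgroup G) : Set G)).subgroupOf K = ⊤ := by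
      apply eq_top_of_forall_primePow_mem
      rintro ⟨x, hx⟩ ⟨r, k, hr, hxo⟩
      rw [Subgroup.mem_subgroupOf]
      rw [Subgroup.orderOf_mk] at hxo
      by_cases hx1 : x = 1
      · subst hx1; exact Subgroup.one_mem _
      refine h x ⟨r, k, hr, ?_, hxo⟩
      intro hrp
      have hk0 : k ≠ 0 := fun h0 => hx1 (orderOf_eq_one_iff.mp (by rw [hxo, h0, pow_zero]))
      have hdx : orderOf x ∣ Nat.card K := Subgroup.orderOf_dvd_natCard K hx
      rw [hxo, ← hK.index_eq_card, hrp] at hdx
      exact P.not_dvd_index ((dvd_pow_self p hk0).trans hdx)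
    exact Subgroup.subgroupOf_eq_top.mp hsub
  have hsup : (P : Subgroup G) ⊔ K = ⊤ := by rw [sup_comm]; exact hK.sup_eq_top
  refine ⟨hnorm, K, ?_, hK, ?_, hsup, hKc⟩
  · rw [← Subgroup.normalizer_eq_top_iff, eq_top_iff, ← hsup, sup_le_iff]
    refine ⟨?_, Subgroup.le_normalizer⟩
    intro u hu
    refine Subgroup.centralizer_le_normalizer _ ?_
    rw [Subgroup.mem_centralizer_iff]
    intro v hv
    exact (Subgroup.mem_centralizer_iff.mp (hKc hv) u hu).symm
  · rw [inf_comm]; exact disjoint_iff.mp hK.disjoint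

end CfsgLib.FgsB
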