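import Cfsg.Prelude.Def_Transfer
import Cfsg.Agent.Lib.Transfer.NormalPComplement

/-!
# Two primes dividing no common class size
-/

set_option autoImplicit false
set_option linter.unusedSectionVars false

namespace CfsgLib.FgsB.ClassPrimes

open Subgroup

universe u

variable {G : Type u} [Group G] [Finite G]

theorem exists_sylow_le_centralizer {p : ℕ} [Fact p.Prime] {x : G}
    (h : ¬ p ∣ (centralizer ({x} : Set G)).index) :
    ∃ P : Sylow p G, x ∈ centralizer ((P : Subgroup G) : Set G) := by
  obtain ⟨T⟩ : Nonempty (Sylow p (centralizer ({x} : Set G))) := inferInstance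
  have hd : ¬ p ∣ ((T : Subgroup (centralizer ({x} : Set G))).map (centralizer ({x} : Set G)).subtype).index := by
    rw [index_map_subtype]
    exact Nat.Prime.not_dvd_mul Fact.out T.not_dvd_index h
  refine ⟨(T.2.map (centralizer ({x} : Set G)).subtype).toSylow hd, ?_⟩
  rw [mem_centralizer_iff]
  rintro _ ⟨t, -, rfl⟩
  exact (mem_centralizer_iff.mp t.2 x rfl).symm

theorem exists_conj_mem_centralizer {p : ℕ} [Fact p.Prime] (P : Sylow p G) {x : G}
    (h : ¬ p ∣ (centralizer ({x} : Set G)).index) :
    ∃ g : G, g⁻¹ * x * g ∈ centralizer ((P : Subgroup G) : Set G) := by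
  obtain ⟨Q, hQ⟩ := exists_sylow_le_centralizer h
  obtain ⟨g, hg⟩ := MulAction.exists_smul_eq G P Q
  refine ⟨g, mem_centralizer_iff.mpr fun y hy => ?_⟩
  have hy' : g * y * g⁻¹ ∈ (Q : Subgroup G) := by
    rw [← hg, Sylow.coe_subgroup_smul]
    exact ⟨y, hy, rfl⟩
  have h1 := mem_centralizer_iff.mp hQ _ hy'
  calc y * (g⁻¹ * x * g) = g⁻¹ * (g * y * g⁻¹ * x) * g := by group
    _ = g⁻¹ * (x * (g * y * g⁻¹)) * g := by rw [h1]
    _ = _ := by group

/-- The elements conjugate into a subgroup normalized by `N`. -/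
theorem card_conjugates_le {N H : Subgroup G} (hN : N ≤ normalizer (H : Set G)) :
    Nat.card {x : G // ∃ g : G, g⁻¹ * x * g ∈ H} ≤ N.index * Nat.card H := by
  have e : N.index * Nat.card H = Nat.card ((G ⧸ N) × H) := by
    rw [Nat.card_prod]
    rfl
  rw [e]
  refine Nat.card_le_card_of_surjective
    (fun z => ⟨z.1.out * z.2 * z.1.out⁻¹, z.1.out, by simpa [mul_assoc] using z.2.2⟩) ?_
  rintro ⟨x, g, hg⟩
  obtain ⟨n, hn⟩ := QuotientGroup.mk_out_eq_mul N g
  have hh : (n : G)⁻¹ * (g⁻¹ * x * g) * n ∈ H := (mem_normalizer_iff''.mp (hN n.2) _).mp hg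
  refine ⟨((g : G ⧸ N), ⟨_, hh⟩), Subtype.ext ?_⟩
  show (g : G ⧸ N).out * _ * (g : G ⧸ N).out⁻¹ = x
  rw [hn]
  group

theorem normalizer_le_normalizer_centralizer (P : Subgroup G) :
    normalizer (P : Set G) ≤ normalizer (centralizer (P : Set G) : Set G) := by
  intro n hn
  refine mem_normalizer_fintype fun x hx => ?_
  rw [SetLike.mem_coe, mem_centralizer_iff]
  intro y hy
  have h1 := mem_centralizer_iff.mp hx _ ((mem_normalizer_iff''.mp hn y).mp hy)
  calc y * (n * x * n⁻¹) = n * (n⁻¹ * y * n * x) * n⁻¹ := by group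
    _ = n * (x * (n⁻¹ * y * n)) * n⁻¹ := by rw [h1]
    _ = _ := by group

/-- Some Sylow normalizer equals its centralizer. -/
theorem normalizer_le_centralizer_or {p q : ℕ} [hp : Fact p.Prime] [hq : Fact q.Prime] (hpq : p ≠ q)
    (h : ∀ x : G, ¬ p * q ∣ (centralizer ({x} : Set G)).index) (P : Sylow p G) (Q : Sylow q G) :
    normalizer ((P : Subgroup G) : Set G) ≤ centralizer ((P : Subgroup G) : Set G) ∨
      normalizer ((Q : Subgroup G) : Set G) ≤ centralizer ((Q : Subgroup G) : Set G) := by
  classical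
  by_contra hne
  push Not at hne
  have key : ∀ {r : ℕ} (R : Sylow r G),
      ¬ normalizer ((R : Subgroup G) : Set G) ≤ centralizer ((R : Subgroup G) : Set G) →
      2 * Nat.card {x : G // ∃ g : G, g⁻¹ * x * g ∈ centralizer ((R : Subgroup G) : Set G)} ≤
        Nat.card G := by
    intro r R hR
    set N := normalizer ((R : Subgroup G) : Set G) with hN
    set C := centralizer ((R : Subgroup G) : Set G) with hC
    have hCN : C ≤ N := centralizer_le_normalizer _
    have hlt : 2 * Nat.card C ≤ Nat.card N := by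
      rw [← card_mul_index (C.subgroupOf N), Nat.card_congr (subgroupOfEquivOfLe hCN).toEquiv]
      have h1 : (C.subgroupOf N).index ≠ 1 := fun he => hR (subgroupOf_eq_top.mp (index_eq_one.mp he))
      have h2 : (C.subgroupOf N).index ≠ 0 := index_ne_zero_of_finite
      rw [mul_comm]
      exact Nat.mul_le_mul_left _ (by omega)
    calc 2 * Nat.card {x : G // ∃ g : G, g⁻¹ * x * g ∈ C}
        ≤ 2 * (N.index * Nat.card C) :=
          Nat.mul_le_mul_left _ (card_conjugates_le (normalizer_le_normalizer_centralizer _))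
      _ = N.index * (2 * Nat.card C) := by ring
      _ ≤ N.index * Nat.card N := Nat.mul_le_mul_left _ hlt
      _ = Nat.card G := index_mul_card N
  have h1 := key P hne.1
  have h2 := key Q hne.2
  haveI := Fintype.ofFinite G
  set A := Finset.univ.filter fun x : G => ∃ g : G, g⁻¹ * x * g ∈ centralizer ((P : Subgroup G) : Set G)
  set B := Finset.univ.filter fun x : G => ∃ g : G, g⁻¹ * x * g ∈ centralizer ((Q : Subgroup G) : Set G)
  have hA : Nat.card {x : G // ∃ g : G, g⁻¹ * x * g ∈ centralizer ((P : Subgroup G) : Set G)} = A.card := by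
    rw [Nat.card_eq_fintype_card, Fintype.card_subtype]
  have hB : Nat.card {x : G // ∃ g : G, g⁻¹ * x * g ∈ centralizer ((Q : Subgroup G) : Set G)} = B.card := by
    rw [Nat.card_eq_fintype_card, Fintype.card_subtype]
  have hU : A ∪ B = Finset.univ := by
    refine Finset.eq_univ_iff_forall.mpr fun x => ?_
    simp only [A, B, Finset.mem_union, Finset.mem_filter, Finset.mem_univ, true_and]
    by_cases hx : p ∣ (centralizer ({x} : Set G)).index
    · refine Or.inr (exists_conj_mem_centralizer Q fun hx' => h x ?_)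
      exact ((Nat.coprime_primes hp.out hq.out).mpr hpq).mul_dvd_of_dvd_of_dvd hx hx'
    · exact Or.inl (exists_conj_mem_centralizer P hx)
  have hI : 0 < (A ∩ B).card := Finset.card_pos.mpr ⟨1, by simp [A, B, one_mem]⟩
  have := Finset.card_union_add_card_inter A B
  rw [hU, Finset.card_univ, ← Nat.card_eq_fintype_card] at this
  omega

theorem hasNormalPComplement_or {p q : ℕ} [Fact p.Prime] [Fact q.Prime] (hpq : p ≠ q)
    (h : ∀ x : G, ¬ p * q ∣ (centralizer ({x} : Set G)).index) :
    Cfsg.HasNormalPComplement p G ∨ Cfsg.HasNormalPComplement q G := by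
  obtain ⟨P⟩ : Nonempty (Sylow p G) := inferInstance
  obtain ⟨Q⟩ : Nonempty (Sylow q G) := inferInstance
  exact (normalizer_le_centralizer_or hpq h P Q).imp
    (CfsgLib.Transfer.hasNormalPComplement_of_normalizer_le_centralizer P)
    (CfsgLib.Transfer.hasNormalPComplement_of_normalizer_le_centralizer Q)

end CfsgLib.FgsB.ClassPrimes
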