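import Cfsg.Agent.Lib.Involutions.BaerSuzuki
import Cfsg.Agent.Lib.RealElt.Basic

/-!
If the Sylow `2`-subgroup is not normal, some element of odd prime order is inverted by an element.
-/

set_option autoImplicit false

namespace CfsgLib.FgsB

open scoped Pointwise

variable {G : Type*} [Group G]

/-- A group without nontrivial normal `2`-subgroup containing the involution `t` has an element of
odd prime order inverted by a conjugate-generated element. -/
theorem exists_odd_prime_inverted_by [Finite G] {t : G} (ht : t ^ 2 = 1)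
    (hO : ∀ N : Subgroup G, N.Normal → IsPGroup 2 N → t ∉ N) :
    ∃ (x : G) (r : ℕ), r.Prime ∧ r ≠ 2 ∧ orderOf x = r ∧ t * x * t⁻¹ = x⁻¹ := by
  have : Fact (Nat.Prime 2) := ⟨Nat.prime_two⟩
  by_contra hcon
  have key : ∀ g : G, IsPGroup 2
      ↥(Subgroup.zpowers t ⊔ (Subgroup.zpowers t).map (MulAut.conj g).toMonoidHom) := by
    intro g
    rw [MonoidHom.map_zpowers]
    simp only [MulEquiv.coe_toMonoidHom, MulAut.conj_apply]
    set s := g * t * g⁻¹ with hs
    have hti : t⁻¹ = t := inv_eq_of_mul_eq_one_right (by rw [← pow_two]; exact ht)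
    have hsi : s⁻¹ = s := by rw [hs]; simp [mul_assoc, hti]
    have hinv : t * (t * s) * t⁻¹ = (t * s)⁻¹ := by
      rw [mul_inv_rev, hsi, ← mul_assoc, ← pow_two, ht, one_mul]
    have hpow : ∃ k, orderOf (t * s) = 2 ^ k := by
      by_contra h2
      have : ∃ r, r.Prime ∧ r ∣ orderOf (t * s) ∧ r ≠ 2 := by
        by_contra h3
        push Not at h3
        exact h2 ⟨_, Nat.eq_prime_pow_of_unique_prime_dvd (orderOf_pos _).ne'
          (fun {d} hd hdd => h3 d hd hdd)⟩
      obtain ⟨r, hr, hrd, hr2⟩ := this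
      refine hcon ⟨(t * s) ^ (orderOf (t * s) / r), r, hr, hr2, ?_, ?_⟩
      · exact orderOf_pow_orderOf_div (orderOf_pos _).ne' hrd
      · rw [← conj_pow, hinv, inv_pow]
    obtain ⟨k, hk⟩ := hpow
    have hA : IsPGroup 2 (Subgroup.zpowers t) := by
      obtain ⟨j, -, hj⟩ := (Nat.dvd_prime_pow Nat.prime_two).mp
        (orderOf_dvd_of_pow_eq_one (n := 2 ^ 1) (by simpa using ht))
      exact IsPGroup.of_card (n := j) (by rw [Nat.card_zpowers, hj])
    have hB : IsPGroup 2 (Subgroup.zpowers (t * s)) :=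
      IsPGroup.of_card (n := k) (by rw [Nat.card_zpowers, hk])
    have hn : Subgroup.zpowers t ≤
        Subgroup.normalizer ((Subgroup.zpowers (t * s) : Subgroup G) : Set G) := by
      rw [Subgroup.zpowers_le, Subgroup.mem_normalizer_iff]
      intro n
      constructor
      · rintro ⟨a, rfl⟩
        refine ⟨-a, ?_⟩
        simp only
        rw [← conj_zpow, hinv, inv_zpow']
      · rintro ⟨a, ha⟩
        simp only at ha
        refine ⟨-a, ?_⟩
        simp only
        have h3 : (t * s) ^ (-a) = t⁻¹ * (t * s) ^ a * t := by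
          calc (t * s) ^ (-a) = t⁻¹ * (t * (t * s) ^ (-a) * t⁻¹) * t := by group
            _ = t⁻¹ * (t * s) ^ a * t := by rw [← conj_zpow, hinv, inv_zpow', neg_neg]
        rw [h3, ha]; group
    refine (hA.to_sup_of_normal_right' hB hn).to_le (sup_le le_sup_left ?_)
    rw [Subgroup.zpowers_le]
    have hmul : t⁻¹ * (t * s) ∈ Subgroup.zpowers t ⊔ Subgroup.zpowers (t * s) :=
      Subgroup.mul_mem _ (Subgroup.inv_mem _ (Subgroup.mem_sup_left (Subgroup.mem_zpowers t)))
        (Subgroup.mem_sup_right (Subgroup.mem_zpowers _))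
    rwa [inv_mul_cancel_left] at hmul
  obtain ⟨N, hN, hNp, hle⟩ := CfsgLib.Involutions.baerSuzuki (Subgroup.zpowers t) key
  exact hO N hN hNp (hle (Subgroup.mem_zpowers t))

/-- Lifting an inverted element of prime order through a `2`-group kernel. -/
theorem exists_lift_inverted [Finite G] {N : Subgroup G} [N.Normal] (hN : IsPGroup 2 N)
    {xb tb : G ⧸ N} {r : ℕ} (hr : r.Prime) (hr2 : r ≠ 2) (hx : orderOf xb = r)
    (hinv : tb * xb * tb⁻¹ = xb⁻¹) :
    ∃ (x u : G), orderOf x = r ∧ u * x * u⁻¹ = x⁻¹ := by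
  have : Fact r.Prime := ⟨hr⟩
  obtain ⟨y, rfl⟩ := QuotientGroup.mk'_surjective N xb
  have hrdvd : r ∣ orderOf y := hx ▸ orderOf_map_dvd (QuotientGroup.mk' N) y
  set x := y ^ (orderOf y / r) with hxdef
  have hxo : orderOf x = r := orderOf_pow_orderOf_div (orderOf_pos y).ne' hrdvd
  -- the image of `x` is a generator of the same group
  set f := QuotientGroup.mk' N with hf
  have hfx : orderOf (f x) = r := by
    rcases (Nat.dvd_prime hr).mp (hxo ▸ orderOf_map_dvd f x) with h | h
    · exfalso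
      rw [orderOf_eq_one_iff, hf, ← MonoidHom.mem_ker, QuotientGroup.ker_mk'] at h
      obtain ⟨k, hk⟩ := IsPGroup.iff_orderOf.mp hN ⟨x, h⟩
      rw [Subgroup.orderOf_mk, hxo] at hk
      exact hr2 (by
        have := (Nat.prime_dvd_prime_iff_eq hr Nat.prime_two).mp
          (hr.dvd_of_dvd_pow (dvd_of_eq hk))
        exact this)
    · exact h
  have hinv' : tb * f x * tb⁻¹ = (f x)⁻¹ := by
    rw [hxdef, map_pow, ← conj_pow, hinv, inv_pow]
  obtain ⟨T, rfl⟩ := QuotientGroup.mk'_surjective N tb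
  set K := (Subgroup.zpowers (f x)).comap f with hK
  have hNK : N ≤ K := by
    intro n hn
    rw [hK, Subgroup.mem_comap, show f n = 1 from (QuotientGroup.eq_one_iff n).mpr hn]
    exact one_mem _
  have hcardK : Nat.card K = Nat.card N * r := by
    have h1 : N.relIndex K = r := by
      have h2 := Subgroup.relIndex_ker f (K := K)
      rw [hf, QuotientGroup.ker_mk'] at h2
      rw [h2, hK, Subgroup.map_comap_eq_self_of_surjective (QuotientGroup.mk'_surjective N),
        Nat.card_zpowers]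
      exact hfx
    have h3 := Subgroup.relIndex_mul_relIndex ⊥ N K bot_le hNK
    rw [Subgroup.relIndex_bot_left, Subgroup.relIndex_bot_left, h1] at h3
    exact h3.symm
  have hfact : (Nat.card K).factorization r = 1 := by
    obtain ⟨k, hk⟩ := IsPGroup.iff_card.mp hN
    rw [hcardK, hk, Nat.factorization_mul (by positivity) hr.ne_zero]
    simp [hr.factorization_self, Nat.prime_two.factorization_pow, Finsupp.single_eq_of_ne hr2]
  have hxK : x ∈ K := Subgroup.mem_zpowers (f x)
  set x' := T * x * T⁻¹ with hx'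
  have hfx' : f x' = (f x)⁻¹ := by rw [hx', map_mul, map_mul, map_inv]; exact hinv'
  have hx'K : x' ∈ K := by
    rw [hK, Subgroup.mem_comap, hfx']
    exact Subgroup.inv_mem _ (Subgroup.mem_zpowers _)
  have hx'o : orderOf x' = r := by
    rw [hx', ← hxo]
    exact (MulAut.conj T).orderOf_eq x
  let P : Sylow r K := Sylow.ofCard (Subgroup.zpowers ⟨x, hxK⟩)
    (by rw [Nat.card_zpowers, Subgroup.orderOf_mk, hxo, hfact, pow_one])
  let Q : Sylow r K := Sylow.ofCard (Subgroup.zpowers ⟨x', hx'K⟩)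
    (by rw [Nat.card_zpowers, Subgroup.orderOf_mk, hx'o, hfact, pow_one])
  obtain ⟨k, hk⟩ := MulAction.exists_smul_eq K Q P
  have hmem : k * ⟨x', hx'K⟩ * k⁻¹ ∈ Subgroup.zpowers (⟨x, hxK⟩ : K) := by
    have h1 : k * ⟨x', hx'K⟩ * k⁻¹ ∈ ((k • Q : Sylow r K) : Subgroup K) := by
      rw [Sylow.coe_subgroup_smul, Subgroup.mem_pointwise_smul_iff_inv_smul_mem]
      simp [MulAut.smul_def, mul_assoc, Q]
    rwa [hk] at h1
  obtain ⟨i, hi⟩ := hmem
  have hi' : x ^ i = (k : G) * x' * (k : G)⁻¹ := by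
    have := congrArg ((↑) : K → G) hi
    simpa using this
  refine ⟨x, (k : G) * T, hxo, ?_⟩
  have hconj : (k : G) * T * x * ((k : G) * T)⁻¹ = x ^ i := by rw [hi', hx']; group
  rw [hconj]
  have hkx : f k * (f x)⁻¹ * (f k)⁻¹ = (f x)⁻¹ := by
    obtain ⟨a, ha⟩ := Subgroup.mem_zpowers_iff.mp (show f k ∈ Subgroup.zpowers (f x) from k.2)
    rw [← ha]; group
  have h4 : (f x) ^ i = (f x) ^ (-1 : ℤ) := by
    rw [← map_zpow, hi', map_mul, map_mul, map_inv, hfx', hkx, zpow_neg_one]
  rw [zpow_eq_zpow_iff_modEq, hfx, ← hxo] at h4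
  rw [← zpow_neg_one, zpow_eq_zpow_iff_modEq]
  exact h4

/-- If the Sylow `2`-subgroups are not normal, some element of odd prime order is inverted. -/
theorem exists_odd_prime_inverted_of_not_normal [Finite G] (P : Sylow 2 G)
    (hP : ¬ (P : Subgroup G).Normal) :
    ∃ (x u : G) (r : ℕ), r.Prime ∧ r ≠ 2 ∧ orderOf x = r ∧ u * x * u⁻¹ = x⁻¹ := by
  have : Fact (Nat.Prime 2) := ⟨Nat.prime_two⟩
  set N := (P : Subgroup G).normalCore with hN
  have hNp : IsPGroup 2 N := P.isPGroup'.to_le (Subgroup.normalCore_le _)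
  have hne : N ≠ (P : Subgroup G) := fun h => hP (h ▸ Subgroup.normalCore_normal _)
  obtain ⟨y, hyP, hyN⟩ := SetLike.exists_of_lt ((Subgroup.normalCore_le _).lt_of_ne hne)
  set f := QuotientGroup.mk' N with hf
  have hy1 : f y ≠ 1 := fun h => hyN ((QuotientGroup.eq_one_iff y).mp h)
  obtain ⟨k, hk⟩ := IsPGroup.iff_orderOf.mp P.isPGroup' ⟨y, hyP⟩
  rw [Subgroup.orderOf_mk] at hk
  obtain ⟨j, -, hj⟩ := (Nat.dvd_prime_pow Nat.prime_two).mp (hk ▸ orderOf_map_dvd f y)
  have hjpos : 2 ∣ orderOf (f y) := by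
    rw [hj]
    refine dvd_pow_self 2 ?_
    rintro rfl
    exact hy1 (orderOf_eq_one_iff.mp (by simpa using hj))
  set t := f y ^ (orderOf (f y) / 2) with ht
  have hto : orderOf t = 2 := orderOf_pow_orderOf_div (orderOf_pos _).ne' hjpos
  have hO : ∀ M : Subgroup (G ⧸ N), M.Normal → IsPGroup 2 M → t ∉ M := by
    intro M hM hMp htM
    have hM' : IsPGroup 2 (M.comap f) :=
      hMp.comap_of_ker_isPGroup f (by rw [hf, QuotientGroup.ker_mk']; exact hNp)
    have : (M.comap f).Normal := hM.comap f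
    obtain ⟨Q, hQ⟩ := hM'.exists_le_sylow
    obtain ⟨g, hg⟩ := MulAction.exists_smul_eq G Q P
    have hle : M.comap f ≤ (P : Subgroup G) := by
      intro m hm
      rw [← hg, Sylow.coe_subgroup_smul, Subgroup.mem_pointwise_smul_iff_inv_smul_mem]
      refine hQ ?_
      simp only [MulAut.smul_def, ← map_inv, MulAut.conj_apply]
      exact this.conj_mem m hm g⁻¹
    have hleN : M.comap f ≤ N := Subgroup.normal_le_normalCore.mpr hle
    have : y ^ (orderOf (f y) / 2) ∈ N := hleN (by
      rw [Subgroup.mem_comap, map_pow, ← ht]; exact htM)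
    have h1 : t = 1 := by
      rw [ht, ← map_pow]; exact (QuotientGroup.eq_one_iff _).mpr this
    rw [h1, orderOf_one] at hto
    exact absurd hto (by norm_num)
  obtain ⟨xb, r, hr, hr2, hxo, hinv⟩ :=
    exists_odd_prime_inverted_by (orderOf_dvd_iff_pow_eq_one.mp (dvd_of_eq hto)) hO
  obtain ⟨x, u, hx, hu⟩ := exists_lift_inverted hNp hr hr2 hxo hinv
  exact ⟨x, u, r, hr, hr2, hx, hu⟩

end CfsgLib.FgsB
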