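import Cfsg.Agent.Lib.FgsB.DirectFactor
import Cfsg.Agent.Lib.Transfer.NormalPComplement
import Cfsg.Agent.Lib.Chars.Burnside
import Cfsg.Agent.Lib.Coprime.Hall
import Cfsg.Agent.Lib.Base.Cores
import Cfsg.Agent.Lib.Base.Fitting
import Cfsg.Agent.Lib.Base.MinimalNormal
import Cfsg.Agent.Lib.Base.Transport

/-!
Groups in which the prime-power elements of order prime to `p` have classes of `p`-power size:
they are exactly the groups with an abelian `p`-complement.
-/

set_option autoImplicit false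

open Cfsg

namespace CfsgLib.FgsB

universe u

/-- Every element of prime power order prime to `p` has `p`-power index. -/
def PrimePowIndex (p : ℕ) (G : Type u) [Group G] : Prop :=
  ∀ x : G, (∃ r k : ℕ, r.Prime ∧ r ≠ p ∧ orderOf x = r ^ k) →
    ∃ j : ℕ, (Subgroup.centralizer ({x} : Set G)).index = p ^ j

theorem relIndex_dvd_index_of_normal_right {G : Type u} [Group G] [Finite G] (C N : Subgroup G)
    [N.Normal] : C.relIndex N ∣ C.index := by
  have h1 := CfsgLib.Base.card_sup_mul_card_inf C N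
  have h2 : Nat.card C * C.relIndex (C ⊔ N) = Nat.card (C ⊔ N : Subgroup G) := by
    rw [← Subgroup.relIndex_bot_left C, ← Subgroup.relIndex_bot_left (C ⊔ N)]
    exact Subgroup.relIndex_mul_relIndex _ _ _ bot_le le_sup_left
  have h3 : Nat.card (C ⊓ N : Subgroup G) * C.relIndex N = Nat.card N := by
    rw [← Subgroup.inf_relIndex_right C N, ← Subgroup.relIndex_bot_left (C ⊓ N),
      ← Subgroup.relIndex_bot_left N]
    exact Subgroup.relIndex_mul_relIndex _ _ _ bot_le inf_le_right
  have h4 : C.relIndex N = C.relIndex (C ⊔ N) := by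
    apply Nat.eq_of_mul_eq_mul_left (Nat.mul_pos (Nat.card_pos (α := C))
      (Nat.card_pos (α := (C ⊓ N : Subgroup G))))
    calc Nat.card C * Nat.card (C ⊓ N : Subgroup G) * C.relIndex N
        = Nat.card C * (Nat.card (C ⊓ N : Subgroup G) * C.relIndex N) := by ring
      _ = Nat.card C * Nat.card N := by rw [h3]
      _ = Nat.card (C ⊔ N : Subgroup G) * Nat.card (C ⊓ N : Subgroup G) := h1.symm
      _ = Nat.card C * C.relIndex (C ⊔ N) * Nat.card (C ⊓ N : Subgroup G) := by rw [h2]
      _ = _ := by ring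
  rw [h4]
  exact Subgroup.relIndex_dvd_index_of_le le_sup_left

theorem centralizer_singleton_subgroupOf {G : Type u} [Group G] (N : Subgroup G) (x : N) :
    Subgroup.centralizer ({x} : Set N) = (Subgroup.centralizer ({(x : G)} : Set G)).subgroupOf N := by
  ext y
  simp only [Subgroup.mem_centralizer_singleton_iff, Subgroup.mem_subgroupOf]
  constructor
  · intro h; exact congrArg Subtype.val h
  · intro h; exact Subtype.ext h

theorem PrimePowIndex.subgroup {p : ℕ} (hp : p.Prime) {G : Type u} [Group G] [Finite G]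
    (h : PrimePowIndex p G) (N : Subgroup G) [N.Normal] : PrimePowIndex p N := by
  rintro x ⟨r, k, hr, hrp, hx⟩
  obtain ⟨j, hj⟩ := h x ⟨r, k, hr, hrp, by rw [Subgroup.orderOf_coe, hx]⟩
  have hd : (Subgroup.centralizer ({x} : Set N)).index ∣ p ^ j := by
    rw [centralizer_singleton_subgroupOf, ← hj]
    exact relIndex_dvd_index_of_normal_right _ N
  exact let ⟨i, _, hi⟩ := (Nat.dvd_prime_pow hp).mp hd; ⟨i, hi⟩

theorem exists_primePow_lift {G : Type u} [Group G] [Finite G] {H : Type*} [Group H] (f : G →* H)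
    (hf : Function.Surjective f) {r : ℕ} (hr : r.Prime) {y : H} {k : ℕ} (hy : orderOf y = r ^ k) :
    ∃ x : G, f x = y ∧ ∃ i : ℕ, orderOf x = r ^ i := by
  have : Fact r.Prime := ⟨hr⟩
  obtain ⟨g, rfl⟩ := hf y
  obtain ⟨a, ha', b, hb', hab, ⟨i, hi⟩, hb⟩ := CfsgLib.Transfer.exists_pPart_mul (p := r) g
  refine ⟨a, ?_, let ⟨l, _, hl⟩ := (Nat.dvd_prime_pow hr).mp hi; ⟨l, hl⟩⟩
  have hfb : f b = (f a)⁻¹ * f g := by rw [← hab, map_mul, inv_mul_cancel_left]
  have ha : ∃ e : ℕ, orderOf (f a) ∣ r ^ e := ⟨i, (orderOf_map_dvd f a).trans hi⟩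
  have hcomm : Commute (f a) (f g) := by
    have hab' : Commute a b := by
      obtain ⟨s, rfl⟩ := ha'
      obtain ⟨t, rfl⟩ := hb'
      exact (Commute.refl g).zpow_zpow s t
    exact (hab ▸ (Commute.refl a).mul_right hab').map f
  have hd : orderOf (f b) ∣ r ^ max i k := by
    have hfg : f g ^ (r ^ max i k) = 1 :=
      orderOf_dvd_iff_pow_eq_one.mp (by rw [hy]; exact pow_dvd_pow r (le_max_right i k))
    have hfa : f a ^ (r ^ max i k) = 1 :=
      orderOf_dvd_iff_pow_eq_one.mp (((orderOf_map_dvd f a).trans hi).trans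
        (pow_dvd_pow r (le_max_left i k)))
    rw [orderOf_dvd_iff_pow_eq_one, hfb, hcomm.inv_left.mul_pow, inv_pow, hfa, hfg]
    simp
  have hcop : (orderOf (f b)).Coprime (r ^ max i k) :=
    (hb.coprime_dvd_left (orderOf_map_dvd f b)).pow_right _
  have hb1 : f b = 1 := orderOf_eq_one_iff.mp (Nat.eq_one_of_dvd_coprimes hcop dvd_rfl hd)
  rw [← hab, map_mul, hb1, mul_one]

theorem PrimePowIndex.of_surjective {p : ℕ} (hp : p.Prime) {G : Type u} [Group G] [Finite G]
    (h : PrimePowIndex p G) {H : Type u} [Group H] (f : G →* H) (hf : Function.Surjective f) :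
    PrimePowIndex p H := by
  rintro y ⟨r, k, hr, hrp, hy⟩
  obtain ⟨x, rfl, i, hi⟩ := exists_primePow_lift f hf hr hy
  obtain ⟨j, hj⟩ := h x ⟨r, i, hr, hrp, hi⟩
  have hle : (Subgroup.centralizer ({x} : Set G)).map f ≤ Subgroup.centralizer ({f x} : Set H) := by
    rintro _ ⟨c, hc, rfl⟩
    rw [Subgroup.mem_centralizer_singleton_iff, ← map_mul, ← map_mul,
      Subgroup.mem_centralizer_singleton_iff.mp hc]
  have hd : (Subgroup.centralizer ({f x} : Set H)).index ∣ p ^ j := by
    rw [← hj]
    exact (Subgroup.index_dvd_of_le hle).trans (Subgroup.index_map_dvd _ hf)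
  exact let ⟨i, _, hi⟩ := (Nat.dvd_prime_pow hp).mp hd; ⟨i, hi⟩

theorem PrimePowIndex.isSolvable {p : ℕ} (hp : p.Prime) {G : Type u} [Group G] [Finite G]
    (h : PrimePowIndex p G) : Group.IsSolvable G := by
  suffices H : ∀ (n : ℕ) (G : Type u) [Group G] [Finite G], Nat.card G = n → PrimePowIndex p G →
      Group.IsSolvable G from H _ G rfl h
  intro n
  induction n using Nat.strong_induction_on with
  | h n ih =>
    intro G _ _ hn h
    rcases subsingleton_or_nontrivial G with hG | hG
    · infer_instance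
    by_cases hs : IsSimpleGroup G
    · have : Fact p.Prime := ⟨hp⟩
      by_cases hP : IsPGroup p G
      · have := hP.isNilpotent
        infer_instance
      · have hr : ∃ r : ℕ, r.Prime ∧ r ≠ p ∧ r ∣ Nat.card G := by
          by_contra hne
          push Not at hne
          refine hP ?_
          obtain ⟨k, hk⟩ : ∃ k, Nat.card G = p ^ k :=
            ⟨_, Nat.eq_prime_pow_of_unique_prime_dvd Nat.card_pos.ne' (fun {d} hd hdvd => by
              by_contra hdp; exact hne d hd hdp hdvd)⟩
          exact IsPGroup.of_card hk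
        obtain ⟨r, hr, hrp, hd⟩ := hr
        have : Fact r.Prime := ⟨hr⟩
        obtain ⟨g, hg⟩ := exists_prime_orderOf_dvd_card' (G := G) r hd
        obtain ⟨j, hj⟩ := h g ⟨r, 1, hr, hrp, by rw [pow_one, hg]⟩
        have hg1 : g ≠ 1 := fun h1 => hr.ne_one (by rw [← hg, h1, orderOf_one])
        have := hs
        have : Fact (Nat.card G).Prime := ⟨CfsgLib.Chars.prime_card_of_class_prime_pow p j hp g hg1 hj⟩
        have : IsCyclic G := isCyclic_of_prime_card rfl
        let _ : CommGroup G := IsCyclic.commGroup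
        infer_instance
    · obtain ⟨N, hN, hb, ht⟩ : ∃ N : Subgroup G, N.Normal ∧ N ≠ ⊥ ∧ N ≠ ⊤ := by
        by_contra hne
        push Not at hne
        exact hs ⟨fun N hN => (em (N = ⊥)).imp id (hne N hN)⟩
      have h1 : Nat.card N < Nat.card G := by
        refine lt_of_le_of_ne (Subgroup.card_le_card_group N) fun he => ?_
        exact ht (Subgroup.eq_top_of_card_eq N he)
      have h2 : Nat.card (G ⧸ N) < Nat.card G := by
        have := N.card_eq_card_quotient_mul_card_subgroup
        have h3 : 1 < Nat.card N := (Subgroup.one_lt_card_iff_ne_bot N).mpr hb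
        have h4 : 0 < Nat.card (G ⧸ N) := Nat.card_pos
        nlinarith
      have := ih _ (hn ▸ h1) N rfl (h.subgroup hp N)
      have := ih _ (hn ▸ h2) (G ⧸ N) rfl
        (h.of_surjective hp (QuotientGroup.mk' N) (QuotientGroup.mk'_surjective N))
      exact Group.isSolvable_of_ker_le_range N.subtype (QuotientGroup.mk' N) (by simp)

/-- With `O_p(G) = 1`, a `p`-complement is abelian. -/
theorem PrimePowIndex.isMulCommutative_of_pCore_eq_bot {p : ℕ} (hp : p.Prime) {G : Type u}
    [Group G] [Finite G] (h : PrimePowIndex p G) (hO : pCore p G = ⊥) (H : Subgroup G)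
    (hH : (Nat.card H).Coprime p) (hidx : ∃ k : ℕ, H.index = p ^ k) : IsMulCommutative H := by
  have : Fact p.Prime := ⟨hp⟩
  have := h.isSolvable hp
  obtain ⟨k, hk⟩ := hidx
  have hF : fittingSubgroup G ≤ H := by
    rw [CfsgLib.Base.fittingSubgroup_eq_iSup_pCore]
    refine iSup_le fun q => ?_
    have := Fact.mk q.2
    by_cases hqp : (q : ℕ) = p
    · rw [hqp, hO]; exact bot_le
    · have hn : (pCore (q : ℕ) G).Normal := Cfsg.pCore_normal (q : ℕ) G
      obtain ⟨a, ha⟩ := (CfsgLib.Base.isPGroup_pCore (q : ℕ) G).exists_card_eq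
      have hd1 : H.relIndex (pCore (q : ℕ) G) ∣ p ^ k := hk ▸ relIndex_dvd_index_of_normal_right H _
      have hd2 : H.relIndex (pCore (q : ℕ) G) ∣ (q : ℕ) ^ a := ha ▸ Subgroup.relIndex_dvd_card _ _
      exact Subgroup.relIndex_eq_one.mp (Nat.eq_one_of_dvd_coprimes
        (Nat.Coprime.pow _ _ ((Nat.coprime_primes q.2 hp).mpr hqp)).symm hd1 hd2)
  have hC : H ≤ Subgroup.centralizer (fittingSubgroup G : Set G) := by
    rw [CfsgLib.Base.le_centralizer_comm, CfsgLib.Base.fittingSubgroup_eq_iSup_pCore]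
    refine iSup_le fun q => ?_
    have := Fact.mk q.2
    by_cases hqp : (q : ℕ) = p
    · rw [hqp, hO]; exact bot_le
    rw [CfsgLib.Base.le_centralizer_comm]
    have hn : (pCore (q : ℕ) G).Normal := Cfsg.pCore_normal (q : ℕ) G
    obtain ⟨a, ha⟩ := (CfsgLib.Base.isPGroup_pCore (q : ℕ) G).exists_card_eq
    have htop : (Subgroup.centralizer (pCore (q : ℕ) G : Set G)).subgroupOf H = ⊤ := by
      apply eq_top_of_forall_primePow_mem
      rintro ⟨x, hx⟩ ⟨r, i, hr, hxo⟩
      rw [Subgroup.mem_subgroupOf]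
      rw [Subgroup.orderOf_mk] at hxo
      by_cases hx1 : x = 1
      · subst hx1; exact Subgroup.one_mem _
      have hrp : r ≠ p := by
        intro hrp
        have hi0 : i ≠ 0 := fun h0 => hx1 (orderOf_eq_one_iff.mp (by rw [hxo, h0, pow_zero]))
        have hdx : orderOf x ∣ Nat.card H := Subgroup.orderOf_dvd_natCard H hx
        rw [hxo, hrp] at hdx
        exact (hp.coprime_iff_not_dvd.mp hH.symm) ((dvd_pow_self p hi0).trans hdx)
      obtain ⟨j, hj⟩ := h x ⟨r, i, hr, hrp, hxo⟩
      have hd1 : (Subgroup.centralizer ({x} : Set G)).relIndex (pCore (q : ℕ) G) ∣ p ^ j :=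
        hj ▸ relIndex_dvd_index_of_normal_right _ _
      have hd2 : (Subgroup.centralizer ({x} : Set G)).relIndex (pCore (q : ℕ) G) ∣ (q : ℕ) ^ a :=
        ha ▸ Subgroup.relIndex_dvd_card _ _
      have hle := Subgroup.relIndex_eq_one.mp (Nat.eq_one_of_dvd_coprimes
        (Nat.Coprime.pow _ _ ((Nat.coprime_primes q.2 hp).mpr hqp)).symm hd1 hd2)
      rw [Subgroup.mem_centralizer_iff]
      intro u hu
      exact Subgroup.mem_centralizer_singleton_iff.mp (hle hu)
    exact Subgroup.subgroupOf_eq_top.mp htop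
  refine ⟨⟨fun a b => Subtype.ext ?_⟩⟩
  have hb : (b : G) ∈ fittingSubgroup G :=
    CfsgLib.Base.centralizer_fittingSubgroup_le (hC b.2)
  exact (Subgroup.mem_centralizer_iff.mp (hC a.2) b hb).symm

end CfsgLib.FgsB
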