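import Mathlib

/-!
Orders of the fixed-point subgroups of a `p`-group acting coprimely: the product inequality over
the elements of the acting group.
-/

set_option autoImplicit false

universe u v

namespace CfsgLib.FixProduct

open scoped Classical Pointwise

variable {A : Type v} [Group A] {N : Type u} [Group N]

/-- The common fixed points of a set of automorphisms. -/
def fix (φ : A →* MulAut N) (s : Set A) : Subgroup N where
  carrier := {n | ∀ a ∈ s, φ a n = n}
  one_mem' := fun a _ => map_one _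
  mul_mem' := fun {x y} hx hy a ha => by rw [map_mul, hx a ha, hy a ha]
  inv_mem' := fun {x} hx a ha => by rw [map_inv, hx a ha]

theorem mem_fix {φ : A →* MulAut N} {s : Set A} {n : N} :
    n ∈ fix φ s ↔ ∀ a ∈ s, φ a n = n := Iff.rfl

theorem fix_closure (φ : A →* MulAut N) (s : Set A) :
    fix φ (Subgroup.closure s : Set A) = fix φ s := by
  refine le_antisymm (fun n hn a ha => hn a (Subgroup.subset_closure ha)) fun n hn a ha => ?_
  induction ha using Subgroup.closure_induction with
  | mem x hx => exact hn x hx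
  | one => simp
  | mul x y _ _ hx hy => rw [map_mul, MulAut.mul_apply, hy, hx]
  | inv x _ hx =>
    rw [map_inv]
    conv_lhs => rw [← hx]
    exact MulAut.inv_apply_self N (φ x) n

/-- Restriction to an invariant subgroup. -/
def restr (φ : A →* MulAut N) (M : Subgroup N) (h : ∀ a, ∀ x ∈ M, φ a x ∈ M) : A →* MulAut M :=
  MonoidHom.mk'
    (fun a =>
      { toFun := fun x => ⟨φ a x, h a x x.2⟩
        invFun := fun x => ⟨φ a⁻¹ x, h a⁻¹ x x.2⟩
        left_inv := fun x => Subtype.ext (by
          show φ a⁻¹ (φ a (x : N)) = x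
          rw [map_inv]; exact MulAut.inv_apply_self N (φ a) (x : N))
        right_inv := fun x => Subtype.ext (by
          show φ a (φ a⁻¹ (x : N)) = x
          rw [map_inv]; exact MulAut.apply_inv_self N (φ a) (x : N))
        map_mul' := fun x y => Subtype.ext (map_mul (φ a) (x : N) (y : N)) })
    (fun a b => MulEquiv.ext fun x => Subtype.ext (by
      show φ (a * b) (x : N) = φ a (φ b (x : N))
      rw [map_mul]; rfl))

theorem restr_apply (φ : A →* MulAut N) (M : Subgroup N) (h : ∀ a, ∀ x ∈ M, φ a x ∈ M) (a : A)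
    (x : M) : ((restr φ M h a x : M) : N) = φ a x := rfl

theorem map_eq_of_inv (φ : A →* MulAut N) (M : Subgroup N) (h : ∀ a, ∀ x ∈ M, φ a x ∈ M) (a : A) :
    M.map (φ a : N →* N) = M := by
  refine le_antisymm ?_ fun x hx => ⟨φ a⁻¹ x, h _ x hx, ?_⟩
  · rintro _ ⟨x, hx, rfl⟩
    exact h a x hx
  · show φ a (φ a⁻¹ x) = x
    rw [map_inv]; exact MulAut.apply_inv_self N (φ a) x

/-- The induced action on an invariant quotient. -/
def quot (φ : A →* MulAut N) (M : Subgroup N) [M.Normal] (h : ∀ a, ∀ x ∈ M, φ a x ∈ M) :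
    A →* MulAut (N ⧸ M) :=
  MonoidHom.mk' (fun a => QuotientGroup.congr M M (φ a) (map_eq_of_inv φ M h a))
    (fun a b => MulEquiv.ext fun x => by
      induction x using QuotientGroup.induction_on with
      | _ y =>
        show ((φ (a * b) y : N) : N ⧸ M) = ((φ a (φ b y) : N) : N ⧸ M)
        rw [map_mul]; rfl)

theorem quot_mk (φ : A →* MulAut N) (M : Subgroup N) [M.Normal] (h : ∀ a, ∀ x ∈ M, φ a x ∈ M)
    (a : A) (y : N) : quot φ M h a (y : N ⧸ M) = ((φ a y : N) : N ⧸ M) := rfl

theorem card_fix_restr (φ : A →* MulAut N) (M : Subgroup N) (h : ∀ a, ∀ x ∈ M, φ a x ∈ M)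
    (s : Set A) :
    Nat.card (fix (restr φ M h) s) = Nat.card (fix φ s ⊓ M : Subgroup N) := by
  refine Nat.card_congr
    { toFun := fun x => ⟨(x.1 : N), fun a ha => congrArg Subtype.val (x.2 a ha), x.1.2⟩
      invFun := fun x => ⟨⟨x.1, x.2.2⟩, fun a ha => Subtype.ext (x.2.1 a ha)⟩
      left_inv := fun x => rfl
      right_inv := fun x => rfl }

variable [Finite A] [Finite N] {p : ℕ} [hp : Fact p.Prime]

/-- A `p`-group permuting a set of size prime to `p` fixes a point. -/
theorem exists_fixed {X : Type*} (B : Subgroup A) (hA : IsPGroup p A) (act : B → X → X)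
    (h1 : ∀ x, act 1 x = x) (hmul : ∀ a b x, act (a * b) x = act a (act b x))
    (hX : ¬ p ∣ Nat.card X) : ∃ x, ∀ b, act b x = x := by
  letI : MulAction B X := { smul := act, one_smul := h1, mul_smul := hmul }
  obtain ⟨x, hx⟩ := (hA.to_subgroup B).nonempty_fixed_point_of_prime_not_dvd_card X hX
  exact ⟨x, fun b => hx b⟩

theorem not_dvd_card_subgroup (hN : ¬ p ∣ Nat.card N) (M : Subgroup N) : ¬ p ∣ Nat.card M :=
  fun h => hN (h.trans M.card_subgroup_dvd_card)

/-- Coprime fixed points are multiplicative over an invariant normal subgroup. -/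
theorem card_fix_mul (φ : A →* MulAut N) (hA : IsPGroup p A) (hN : ¬ p ∣ Nat.card N)
    (M : Subgroup N) [M.Normal] (h : ∀ a, ∀ x ∈ M, φ a x ∈ M) (s : Set A) :
    Nat.card (fix φ s) = Nat.card (fix (restr φ M h) s) * Nat.card (fix (quot φ M h) s) := by
  rw [card_fix_restr, ← fix_closure φ s, ← fix_closure (quot φ M h) s]
  set B := Subgroup.closure s with hB
  let f : fix φ (B : Set A) →* fix (quot φ M h) (B : Set A) :=
    MonoidHom.mk' (fun x => ⟨((x : N) : N ⧸ M), fun a ha => by rw [quot_mk, x.2 a ha]⟩)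
      (fun x y => rfl)
  have hsurj : Function.Surjective f := by
    rintro ⟨xq, hxq⟩
    obtain ⟨n, rfl⟩ := QuotientGroup.mk_surjective xq
    have hX : Nat.card {y : N // (y : N ⧸ M) = (n : N ⧸ M)} = Nat.card M := by
      refine Nat.card_congr
        { toFun := fun y => ⟨n⁻¹ * y.1, QuotientGroup.eq.mp y.2.symm⟩
          invFun := fun m => ⟨n * m.1, (QuotientGroup.eq.mpr (by simpa using m.2)).symm⟩
          left_inv := fun y => Subtype.ext (by simp)
          right_inv := fun m => Subtype.ext (by simp) }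
    obtain ⟨y, hy⟩ := exists_fixed B hA
      (fun b (y : {y : N // (y : N ⧸ M) = (n : N ⧸ M)}) => ⟨φ b y.1, by
        rw [← quot_mk φ M h, y.2]; exact hxq _ b.2⟩)
      (fun y => Subtype.ext (by simp)) (fun a b y => Subtype.ext (by simp))
      (by rw [hX]; exact not_dvd_card_subgroup hN M)
    exact ⟨⟨y.1, fun a ha => congrArg Subtype.val (hy ⟨a, ha⟩)⟩, Subtype.ext y.2⟩
  have h1 := Subgroup.card_eq_card_quotient_mul_card_subgroup f.ker
  rw [Nat.card_congr (QuotientGroup.quotientKerEquivOfSurjective f hsurj).toEquiv] at h1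
  rw [h1, mul_comm]
  congr 1
  refine Nat.card_congr
    { toFun := fun x => ⟨(x.1 : N), x.1.2,
        (QuotientGroup.eq_one_iff _).mp (congrArg Subtype.val x.2)⟩
      invFun := fun x => ⟨⟨x.1, x.2.1⟩, Subtype.ext ((QuotientGroup.eq_one_iff _).mpr x.2.2)⟩
      left_inv := fun x => rfl
      right_inv := fun x => rfl }

/-- An invariant Sylow subgroup. -/
theorem exists_invariant_sylow {q : ℕ} [Fact q.Prime] (φ : A →* MulAut N) (hA : IsPGroup p A)
    (hN : ¬ p ∣ Nat.card N) (B : Subgroup A) :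
    ∃ S : Sylow q N, ∀ b ∈ B, ∀ x ∈ (S : Subgroup N), φ b x ∈ (S : Subgroup N) := by
  let S₀ : Sylow q N := default
  obtain ⟨S, hS⟩ := exists_fixed B hA (fun b (S : Sylow q N) => φ b • S)
    (fun S => by simp) (fun a b S => by simp [mul_smul])
    (fun hd => hN (hd.trans (S₀.card_eq_index_normalizer ▸ Subgroup.index_dvd_card _)))
  refine ⟨S, fun b hb x hx => ?_⟩
  have h1 : φ b • (S : Subgroup N) = (S : Subgroup N) := congrArg Sylow.toSubgroup (hS ⟨b, hb⟩)
  rw [← h1]
  exact Subgroup.smul_mem_pointwise_smul _ _ _ hx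

/-- The fixed points in an invariant Sylow subgroup carry the full `q`-part. -/
theorem card_fix_restr_sylow {q : ℕ} [hq : Fact q.Prime] (φ : A →* MulAut N) (hA : IsPGroup p A)
    (hN : ¬ p ∣ Nat.card N) (S : Sylow q N) (hS : ∀ a, ∀ x ∈ (S : Subgroup N), φ a x ∈ (S : Subgroup N))
    (s : Set A) :
    Nat.card (fix (restr φ (S : Subgroup N) hS) s) =
      q ^ (Nat.card (fix φ s)).factorization q := by
  rw [card_fix_restr, ← fix_closure φ s]
  set B := Subgroup.closure s
  set C := fix φ (B : Set A) with hC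
  obtain ⟨R, hR⟩ : ∃ R : Sylow q C, True := ⟨default, trivial⟩
  set R' := (R : Subgroup C).map C.subtype with hR'
  have hR'card : Nat.card R' = q ^ (Nat.card C).factorization q := by
    rw [← Sylow.card_eq_multiplicity R]
    exact (Nat.card_congr ((R : Subgroup C).equivMapOfInjective _ C.subtype_injective).toEquiv).symm
  -- a maximal invariant `q`-subgroup containing `R'`
  obtain ⟨U, ⟨hRU, hUq, hUinv⟩, hUmax⟩ := Set.Finite.exists_maximal
    (s := {U : Subgroup N | R' ≤ U ∧ IsPGroup q U ∧ ∀ b ∈ B, ∀ x ∈ U, φ b x ∈ U})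
    (Set.toFinite _) ⟨R', le_rfl, (R.2.map _), by
      rintro b hb x ⟨y, hy, rfl⟩
      exact ⟨y, hy, (y.2 b hb).symm⟩⟩
  set L := Subgroup.normalizer (U : Set N) with hL
  have hLinv : ∀ b ∈ B, ∀ x ∈ L, φ b x ∈ L := by
    intro b hb x hx
    refine Subgroup.mem_normalizer_iff.mpr fun y => ?_
    have key : ∀ z, φ b z ∈ U ↔ z ∈ U := by
      intro z
      refine ⟨fun hz => ?_, fun hz => hUinv b hb z hz⟩
      have := hUinv b⁻¹ (B.inv_mem hb) _ hz
      rwa [map_inv, MulAut.inv_apply_self] at this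
    obtain ⟨z, rfl⟩ := (φ b).surjective y
    rw [← map_inv, ← map_mul, ← map_mul, key, key]
    exact Subgroup.mem_normalizer_iff.mp hx z
  let ψ : B →* MulAut L := restr (φ.comp B.subtype) L (fun b x hx => hLinv b b.2 x hx)
  obtain ⟨T, hT⟩ := exists_invariant_sylow (q := q) ψ (hA.to_subgroup B)
    (not_dvd_card_subgroup hN L) ⊤
  have hUL : U.subgroupOf L ≤ (T : Subgroup L) := by
    haveI : (U.subgroupOf L).Normal := Subgroup.normal_subgroupOf_of_le_normalizer (le_refl L)
    have hUL' : IsPGroup q (U.subgroupOf L) := hUq.comap_subtype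
    exact hUL'.le_sylow_of_normal T
  set T' := (T : Subgroup L).map L.subtype with hT'
  have hUT : U ≤ T' := by
    conv_lhs => rw [← Subgroup.map_subgroupOf_eq_of_le (Subgroup.le_normalizer : U ≤ L)]
    exact Subgroup.map_mono hUL
  have hTU : T' ≤ U := hUmax ⟨hRU.trans hUT, T.2.map _, by
    rintro b hb x ⟨y, hy, rfl⟩
    exact ⟨ψ ⟨b, hb⟩ y, hT ⟨b, hb⟩ trivial y hy, rfl⟩⟩ hUT
  -- it is a Sylow subgroup
  obtain ⟨W, hUW⟩ := hUq.exists_le_sylow
  have hUW' : (W : Subgroup N) = U := by
    refine le_antisymm ?_ hUW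
    by_contra hne
    haveI : Group.IsNilpotent W := W.2.isNilpotent
    have hlt : U.subgroupOf (W : Subgroup N) < ⊤ := lt_top_iff_ne_top.mpr fun h =>
      hne (Subgroup.subgroupOf_eq_top.mp h)
    obtain ⟨x, hx, hxU⟩ := SetLike.exists_of_lt (normalizerCondition_of_isNilpotent _ hlt)
    have hxL : (x : N) ∈ L := by
      refine Subgroup.mem_normalizer_iff.mpr fun y => ⟨fun hy => ?_, fun hy => ?_⟩
      · exact Subgroup.mem_subgroupOf.mp
          ((Subgroup.mem_normalizer_iff.mp hx ⟨y, hUW hy⟩).mp (Subgroup.mem_subgroupOf.mpr hy))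
      · have hyW : y ∈ (W : Subgroup N) := by
          have h := mul_mem (mul_mem (inv_mem x.2) (hUW hy)) x.2
          simpa [mul_assoc] using h
        exact Subgroup.mem_subgroupOf.mp
          ((Subgroup.mem_normalizer_iff.mp hx ⟨y, hyW⟩).mpr (Subgroup.mem_subgroupOf.mpr hy))
    have h2 : IsPGroup q (((W : Subgroup N) ⊓ L).subgroupOf L) :=
      (W.2.to_le inf_le_left).comap_subtype
    have hTeq : (T : Subgroup L) = U.subgroupOf L := by
      apply Subgroup.map_injective L.subtype_injective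
      rw [Subgroup.map_subgroupOf_eq_of_le Subgroup.le_normalizer]
      exact le_antisymm hTU hUT
    have h4 : ((W : Subgroup N) ⊓ L).subgroupOf L = (T : Subgroup L) :=
      T.3 h2 (by rw [hTeq]; exact Subgroup.comap_mono (le_inf hUW Subgroup.le_normalizer))
    have h5 : (⟨x, hxL⟩ : L) ∈ U.subgroupOf L := by
      rw [← hTeq, ← h4]; exact ⟨x.2, hxL⟩
    exact hxU (Subgroup.mem_subgroupOf.mpr (Subgroup.mem_subgroupOf.mp h5))
  -- `S` and `W` are conjugate by a fixed element
  have hX : Nat.card {n : N // n • S = W} = Nat.card (Subgroup.normalizer ((S : Subgroup N) : Set N)) := by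
    obtain ⟨n₀, hn₀⟩ := MulAction.exists_smul_eq N S W
    refine Nat.card_congr
      { toFun := fun n => ⟨n₀⁻¹ * n.1, Sylow.smul_eq_iff_mem_normalizer.mp (by
          rw [mul_smul, n.2, ← hn₀, inv_smul_smul])⟩
        invFun := fun m => ⟨n₀ * m.1, by
          rw [mul_smul, Sylow.smul_eq_iff_mem_normalizer.mpr m.2, hn₀]⟩
        left_inv := fun n => Subtype.ext (by simp)
        right_inv := fun m => Subtype.ext (by simp) }
  have hWinv : ∀ b ∈ B, ∀ x ∈ (W : Subgroup N), φ b x ∈ (W : Subgroup N) := by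
    rw [hUW']; exact hUinv
  obtain ⟨c, hc⟩ := exists_fixed B hA
    (fun b (n : {n : N // n • S = W}) => ⟨φ b n.1, by
      refine Sylow.ext ?_
      rw [Sylow.coe_subgroup_smul]
      have h1 : MulAut.conj n.1 • (S : Subgroup N) = (W : Subgroup N) := by
        rw [← Sylow.coe_subgroup_smul, n.2]
      refine Subgroup.eq_of_le_of_card_ge ?_ (le_of_eq ?_)
      · intro y hy
        rw [Subgroup.mem_pointwise_smul_iff_inv_smul_mem] at hy
        obtain ⟨z, rfl⟩ := (φ b).surjective y
        refine hWinv b b.2 z ?_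
        rw [← h1, Subgroup.mem_pointwise_smul_iff_inv_smul_mem]
        have h2 := hS (b : A)⁻¹ _ hy
        simpa [MulAut.smul_def, map_inv, mul_assoc] using h2
      · rw [← h1]
        exact (Nat.card_congr (Subgroup.equivSMul (MulAut.conj (φ b n.1)) (S : Subgroup N)).toEquiv).symm.trans
          (Nat.card_congr (Subgroup.equivSMul (MulAut.conj n.1) (S : Subgroup N)).toEquiv) |>.symm⟩)
    (fun n => Subtype.ext (by simp)) (fun a b n => Subtype.ext (by simp))
    (by rw [hX]; exact not_dvd_card_subgroup hN _)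
  have hcfix : c.1 ∈ C := fun b hb => congrArg Subtype.val (hc ⟨b, hb⟩)
  -- compare
  have hle : Nat.card R' ≤ Nat.card (C ⊓ (S : Subgroup N) : Subgroup N) := by
    refine Nat.card_le_card_of_injective
      (fun x => ⟨c.1⁻¹ * x.1 * c.1, ?_, ?_⟩) ?_
    · obtain ⟨y, -, hy⟩ := x.2
      exact C.mul_mem (C.mul_mem (C.inv_mem hcfix) (hy ▸ y.2)) hcfix
    · have h1 : MulAut.conj c.1 • (S : Subgroup N) = (W : Subgroup N) := by
        rw [← Sylow.coe_subgroup_smul, c.2]
      have h2 : x.1 ∈ (W : Subgroup N) := hUW' ▸ hRU x.2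
      rw [← h1, Subgroup.mem_pointwise_smul_iff_inv_smul_mem] at h2
      show _ ∈ (S : Subgroup N)
      simpa [MulAut.smul_def, mul_assoc] using h2
    · intro a b hab
      exact Subtype.ext (mul_left_cancel (mul_right_cancel (congrArg Subtype.val hab)))
  rw [hR'card] at hle
  refine le_antisymm ?_ hle
  obtain ⟨k, hk⟩ := IsPGroup.iff_card.mp (S.2.to_le (inf_le_right : C ⊓ (S : Subgroup N) ≤ _))
  rw [hk]
  refine Nat.pow_le_pow_right hq.out.pos ?_
  rw [← hq.out.pow_dvd_iff_le_factorization Nat.card_pos.ne', ← hk]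
  exact Subgroup.card_dvd_of_le inf_le_left

omit [Finite A] in
theorem fix_pair (φ : A →* MulAut N) (x z : A) : fix φ {x, z} = fix φ {x} ⊓ fix φ {z} := by
  ext n; simp [mem_fix]

/-- The product inequality for an abelian group. -/
theorem prod_dvd_comm {N : Type u} [CommGroup N] [Finite N] (hN : ¬ p ∣ Nat.card N) (x z : A)
    (hxz : Commute x z) (hz : z ^ p = 1) (φ : A →* MulAut N) :
    (∏ i : Fin p, Nat.card (fix φ {x * z ^ (i : ℕ)})) * Nat.card (fix φ {z}) ∣
      Nat.card N * Nat.card (fix φ {x, z}) ^ p := by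
  set D := fix φ {z} with hD
  have happ : ∀ (a b : A) (m : N), φ (a * b) m = φ a (φ b m) := fun a b m => by rw [map_mul]; rfl
  have hzfix : ∀ (k : ℕ), ∀ m ∈ D, φ (z ^ k) m = m := by
    intro k m hm
    induction k with
    | zero => simp
    | succ k ihk => rw [pow_succ, happ, hm z rfl, ihk]
  have hxD : ∀ (k : ℕ), ∀ m ∈ D, φ (x ^ k) m ∈ D := by
    intro k m hm a ha
    rw [Set.mem_singleton_iff.mp ha, ← happ, ← (hxz.pow_left k).eq, happ, hm z rfl]
  let Φ : ((i : Fin p) → fix φ {x * z ^ (i : ℕ)}) →* N ⧸ D :=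
    MonoidHom.mk' (fun c => ((∏ i, (c i : N) : N) : N ⧸ D)) (fun c d => by
      rw [← QuotientGroup.mk_mul, ← Finset.prod_mul_distrib]; rfl)
  have hker : ∀ c, Φ c = 1 → ∀ j, (c j : N) ∈ D := by
    intro c hc j
    have hsum : (∏ i, (c i : N)) ∈ D := (QuotientGroup.eq_one_iff _).mp hc
    -- `x` acts on the `i`-th factor as `z ^ (p - i)`
    have hfx : ∀ i : Fin p, φ x (c i : N) = φ (z ^ (p - (i : ℕ))) (c i : N) := by
      intro i
      have h1 : φ (x * z ^ (i : ℕ)) (c i : N) = (c i : N) := (c i).2 _ rfl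
      have h2 : z ^ (p - (i : ℕ)) * (x * z ^ (i : ℕ)) = x := by
        rw [← mul_assoc, ← (hxz.pow_right _).eq, mul_assoc, ← pow_add,
          Nat.sub_add_cancel i.2.le, hz, mul_one]
      have h3 := happ (z ^ (p - (i : ℕ))) (x * z ^ (i : ℕ)) (c i : N)
      rw [h2, h1] at h3
      exact h3
    have hfk : ∀ (k : ℕ) (i : Fin p),
        φ (x ^ k) (c i : N) = φ (z ^ ((p - (i : ℕ)) * k)) (c i : N) := by
      intro k i
      induction k with
      | zero => simp
      | succ k ihk =>
        rw [pow_succ, happ, hfx, ← happ, (hxz.pow_pow k _).eq, happ, ihk, ← happ, ← pow_add]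
        congr 3; ring
    have hmem : (∏ k ∈ Finset.range p,
        ∏ i : Fin p, φ (z ^ (((j : ℕ) + (p - (i : ℕ))) * k)) (c i : N)) ∈ D := by
      refine D.prod_mem fun k _ => ?_
      have h2 := hxD k _ hsum
      rw [← hzfix ((j : ℕ) * k) _ h2] at h2
      convert h2 using 1
      rw [map_prod, map_prod]
      refine Finset.prod_congr rfl fun i _ => ?_
      rw [hfk, ← happ, ← pow_add, add_mul]
    rw [Finset.prod_comm, ← Finset.mul_prod_erase Finset.univ _ (Finset.mem_univ j)] at hmem
    have hrest : ∀ i ∈ Finset.univ.erase j,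
        ∏ k ∈ Finset.range p, φ (z ^ (((j : ℕ) + (p - (i : ℕ))) * k)) (c i : N) ∈ D := by
      intro i hi
      have hne : (i : ℕ) ≠ j := fun h => (Finset.mem_erase.mp hi).1 (Fin.ext h.symm).symm
      set m := (j : ℕ) + (p - (i : ℕ)) with hm
      have hmp : ¬ p ∣ m := by
        rintro ⟨t, ht⟩
        have h1 : 0 < m := by have := i.2; omega
        have h2 : m < 2 * p := by have := i.2; have := j.2; omega
        rw [ht, mul_comm 2 p] at h2
        have ht2 : t < 2 := Nat.lt_of_mul_lt_mul_left h2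
        have := i.2
        interval_cases t
        · omega
        · omega
      have hzm : z ∈ Subgroup.closure ({z ^ m} : Set A) := by
        rw [← Subgroup.zpowers_eq_closure, mem_zpowers_pow_iff]
        exact ((hp.out.coprime_iff_not_dvd.mpr hmp).coprime_dvd_left
          (orderOf_dvd_of_pow_eq_one hz)).symm
      intro a ha
      rw [Set.mem_singleton_iff.mp ha]
      suffices h5 : ∏ k ∈ Finset.range p, φ (z ^ (m * k)) (c i : N) ∈
          fix φ (Subgroup.closure {z ^ m} : Set A) from h5 z hzm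
      rw [fix_closure]
      intro a ha
      rw [Set.mem_singleton_iff.mp ha, map_prod]
      simp only [← happ, ← pow_add]
      set f : ℕ → N := fun k => φ (z ^ (m * k)) (c i : N) with hf
      have hcyc : f p = f 0 := by
        show φ (z ^ (m * p)) (c i : N) = φ (z ^ (m * 0)) (c i : N)
        rw [mul_comm m p, pow_mul, hz, one_pow, mul_zero, pow_zero]
      calc ∏ k ∈ Finset.range p, φ (z ^ (m + m * k)) (c i : N)
          = ∏ k ∈ Finset.range p, f (k + 1) := Finset.prod_congr rfl fun k _ => by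
            simp only [hf]; congr 3; ring
        _ = ∏ k ∈ Finset.range p, f k := by
            refine mul_right_cancel (b := f 0) ?_
            rw [← Finset.prod_range_succ', Finset.prod_range_succ, hcyc]
    have h6 := (D.mul_mem_cancel_right (D.prod_mem hrest)).mp hmem
    have hjp : (c j : N) ^ p ∈ D := by
      have : ∀ k ∈ Finset.range p,
          φ (z ^ (((j : ℕ) + (p - (j : ℕ))) * k)) (c j : N) = (c j : N) := by
        intro k _
        rw [Nat.add_sub_cancel' j.2.le, pow_mul, hz, one_pow, map_one, MulAut.one_apply]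
      rwa [Finset.prod_congr rfl this, Finset.prod_const, Finset.card_range] at h6
    have hcop : (Nat.card D).Coprime p :=
      (hp.out.coprime_iff_not_dvd.mpr (not_dvd_card_subgroup hN D)).symm
    obtain ⟨d, hd⟩ := (powCoprime hcop).surjective ⟨_, hjp⟩
    have hcopN : (Nat.card N).Coprime p := (hp.out.coprime_iff_not_dvd.mpr hN).symm
    have hdc : (d : N) = (c j : N) := (powCoprime hcopN).injective (congrArg Subtype.val hd)
    exact hdc ▸ d.2
  have hcardker : Nat.card Φ.ker = Nat.card (fix φ {x, z}) ^ p := by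
    have hmem : ∀ (i : Fin p) (m : N),
        m ∈ fix φ {x * z ^ (i : ℕ)} → m ∈ D → m ∈ fix φ {x, z} := by
      intro i m h1 h2
      rw [fix_pair]
      refine ⟨?_, h2⟩
      intro a ha
      have h3 := h1 _ rfl
      rw [happ, hzfix _ m h2] at h3
      rw [Set.mem_singleton_iff.mp ha]; exact h3
    have hmem' : ∀ (i : Fin p) (m : N), m ∈ fix φ {x, z} → m ∈ fix φ {x * z ^ (i : ℕ)} := by
      intro i m h a ha
      rw [fix_pair] at h
      rw [Set.mem_singleton_iff.mp ha, happ, hzfix _ m h.2]
      exact h.1 x rfl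
    have e : Φ.ker ≃ (Fin p → fix φ {x, z}) :=
      { toFun := fun c i => ⟨(c.1 i : N), hmem i _ (c.1 i).2 (hker c.1 c.2 i)⟩
        invFun := fun d => ⟨fun i => ⟨(d i : N), hmem' i _ (d i).2⟩, by
          refine (QuotientGroup.eq_one_iff _).mpr (D.prod_mem fun i _ => ?_)
          exact fun a ha => (d i).2 a (Set.mem_insert_of_mem _ ha)⟩
        left_inv := fun c => rfl
        right_inv := fun d => rfl }
    rw [Nat.card_congr e, Nat.card_fun, Nat.card_fin]
  have h1 := Subgroup.card_eq_card_quotient_mul_card_subgroup Φ.ker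
  rw [Nat.card_congr (QuotientGroup.quotientKerEquivRange Φ).toEquiv, Nat.card_pi, hcardker] at h1
  rw [h1, mul_right_comm, Subgroup.card_eq_card_quotient_mul_card_subgroup D]
  exact Nat.mul_dvd_mul_right (Nat.mul_dvd_mul_right Φ.range.card_subgroup_dvd_card _) _

/-- For commuting `x` and `z` with `z ^ p = 1`, the fixed subgroups of the `x * z ^ i`. -/
theorem prod_dvd_aux (hA : IsPGroup p A) (x z : A) (hxz : Commute x z) (hz : z ^ p = 1) :
    ∀ n : ℕ, ∀ {N : Type u} [Group N] [Finite N], Nat.card N ≤ n → ¬ p ∣ Nat.card N →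
      ∀ φ : A →* MulAut N,
        (∏ i : Fin p, Nat.card (fix φ {x * z ^ (i : ℕ)})) * Nat.card (fix φ {z}) ∣
          Nat.card N * Nat.card (fix φ {x, z}) ^ p := by
  intro n
  induction n using Nat.strong_induction_on with
  | _ n ih =>
  intro N _ _ hn hN φ
  by_cases hab : ∀ a b : N, a * b = b * a
  · letI : CommGroup N := { ‹Group N› with mul_comm := hab }
    exact prod_dvd_comm hN x z hxz hz φ
  by_cases hq : ∃ q, q.Prime ∧ IsPGroup q N
  · -- a `q`-group: split over the centre
    obtain ⟨q, hqp, hqN⟩ := hq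
    haveI := Fact.mk hqp
    haveI : Nontrivial N := by
      by_contra hs
      rw [not_nontrivial_iff_subsingleton] at hs
      exact hab fun a b => Subsingleton.elim _ _
    set M := Subgroup.center N with hM
    have hMinv : ∀ a, ∀ y ∈ M, φ a y ∈ M := by
      intro a y hy
      refine Subgroup.mem_center_iff.mpr fun w => ?_
      obtain ⟨w', rfl⟩ := (φ a).surjective w
      rw [← map_mul, ← map_mul, Subgroup.mem_center_iff.mp hy w']
    have hbot : M ≠ ⊥ := by
      haveI := hqN.center_nontrivial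
      exact (Subgroup.nontrivial_iff_ne_bot _).mp inferInstance
    have htop : M ≠ ⊤ := fun h => hab fun a b =>
      Subgroup.mem_center_iff.mp (h.ge (Subgroup.mem_top b)) a
    have hidx : M.index ≠ 1 := fun h => htop (Subgroup.index_eq_one.mp h)
    have hMcard : Nat.card M ≠ 1 := fun h => hbot (Subgroup.eq_bot_of_card_eq _ h)
    have hmul := M.card_mul_index
    have hpos1 : 0 < Nat.card M := Nat.card_pos
    have hpos2 : 0 < M.index := Nat.pos_of_ne_zero Subgroup.index_ne_zero_of_finite
    have hge2 : 2 ≤ M.index := by omega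
    have hge3 : 2 ≤ Nat.card M := by omega
    have h1 := ih (Nat.card M) (by nlinarith) le_rfl (not_dvd_card_subgroup hN M) (restr φ M hMinv)
    have h2 := ih (Nat.card (N ⧸ M)) (by rw [← Subgroup.index_eq_card]; nlinarith) le_rfl
      (fun h => hN (h.trans (by rw [← Subgroup.index_eq_card]; exact M.index_dvd_card)))
      (quot φ M hMinv)
    have h3 := mul_dvd_mul h1 h2
    simp only [card_fix_mul φ hA hN M hMinv]
    rw [Finset.prod_mul_distrib, mul_pow, Subgroup.card_eq_card_quotient_mul_card_subgroup M]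
    refine dvd_trans (dvd_of_eq ?_) (h3.trans (dvd_of_eq ?_)) <;> ring
  -- otherwise prime by prime
  push Not at hq
  rw [← Nat.factorization_le_iff_dvd (mul_ne_zero (Finset.prod_ne_zero_iff.mpr fun i _ =>
    Nat.card_pos.ne') Nat.card_pos.ne') (mul_ne_zero Nat.card_pos.ne' (pow_ne_zero _ Nat.card_pos.ne'))]
  intro q
  by_cases hqp : q.Prime
  swap
  · simp [Nat.factorization_eq_zero_of_not_prime _ hqp]
  haveI := Fact.mk hqp
  obtain ⟨S, hS⟩ := exists_invariant_sylow (q := q) φ hA hN ⊤
  have hSinv : ∀ a, ∀ y ∈ (S : Subgroup N), φ a y ∈ (S : Subgroup N) := fun a => hS a trivial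
  have hlt : Nat.card (S : Subgroup N) < Nat.card N := by
    refine lt_of_le_of_ne (Subgroup.card_le_card_group _) fun h => ?_
    have := S.2
    rw [Subgroup.eq_top_of_card_eq _ h] at this
    exact hq q hqp (this.of_equiv Subgroup.topEquiv)
  have h1 := ih _ (lt_of_lt_of_le hlt hn) le_rfl (not_dvd_card_subgroup hN _)
    (restr φ (S : Subgroup N) hSinv)
  simp only [card_fix_restr_sylow φ hA hN S hSinv, Sylow.card_eq_multiplicity] at h1
  rw [Finset.prod_pow_eq_pow_sum, ← pow_add, ← pow_mul, ← pow_add,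
    Nat.pow_dvd_pow_iff_le_right hqp.one_lt] at h1
  rw [Nat.factorization_mul (Finset.prod_ne_zero_iff.mpr fun i _ => Nat.card_pos.ne')
      Nat.card_pos.ne', Nat.factorization_mul Nat.card_pos.ne' (pow_ne_zero _ Nat.card_pos.ne'),
    Nat.factorization_prod (fun i _ => Nat.card_pos.ne'), Nat.factorization_pow]
  simp only [Finsupp.add_apply, Finset.sum_apply', Finsupp.smul_apply, smul_eq_mul]
  linarith

theorem prod_le_aux : ∀ n : ℕ, ∀ {A : Type v} [Group A] [Fintype A] {N : Type u} [Group N] [Finite N],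
    Nat.card A ≤ n → IsPGroup p A → ¬ p ∣ Nat.card N → ∀ φ : A →* MulAut N,
      (∏ a : A, Nat.card (fix φ {a})) ^ p ≤
        Nat.card N ^ Nat.card A * Nat.card (fix φ Set.univ) ^ (Nat.card A * (p - 1)) := by
  intro n
  induction n using Nat.strong_induction_on with
  | _ n ih =>
  intro A _ _ N _ _ hn hA hN φ
  rcases subsingleton_or_nontrivial A with hA1 | hA1
  · -- the trivial group
    have htop : ∀ s : Set A, fix φ s = ⊤ := fun s => by
      ext m
      simp only [mem_fix, Subgroup.mem_top, iff_true]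
      intro a _
      rw [Subsingleton.elim a 1, map_one, MulAut.one_apply]
    have hc : Nat.card A = 1 := Nat.card_unique
    simp only [htop, Subgroup.card_top, Finset.prod_const, Finset.card_univ,
      ← Nat.card_eq_fintype_card, hc, pow_one, one_mul]
    rw [← pow_succ', Nat.sub_add_cancel hp.out.pos]
  haveI := hA.center_nontrivial
  obtain ⟨k, hk⟩ := IsPGroup.iff_card.mp (hA.to_subgroup (Subgroup.center A))
  have hk0 : k ≠ 0 := fun h => by
    have := Finite.one_lt_card (α := Subgroup.center A)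
    rw [hk, h, pow_zero] at this; exact lt_irrefl _ this
  obtain ⟨⟨z, hzc⟩, hzo⟩ := exists_prime_orderOf_dvd_card' (G := Subgroup.center A) p
    (hk ▸ dvd_pow_self p hk0)
  rw [← Subgroup.orderOf_coe] at hzo
  simp only at hzo
  have hz : z ^ p = 1 := hzo ▸ pow_orderOf_eq_one z
  have hcomm : ∀ a, Commute a z := fun a => (Subgroup.mem_center_iff.mp hzc a)
  set D := fix φ {z} with hD
  have hDinv : ∀ a, ∀ m ∈ D, φ a m ∈ D := by
    intro a m hm b hb
    rw [Set.mem_singleton_iff.mp hb, ← MulAut.mul_apply, ← map_mul, ← (hcomm a).eq, map_mul,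
      MulAut.mul_apply, hm z rfl]
  set ψ := restr φ D hDinv with hψ
  set Z := Subgroup.zpowers z with hZ
  haveI : Z.Normal := by
    refine ⟨fun w hw g => ?_⟩
    obtain ⟨e, rfl⟩ := Subgroup.mem_zpowers_iff.mp hw
    rw [((hcomm g).zpow_right e).eq, mul_inv_cancel_right]
    exact hw
  have hker : Z ≤ ψ.ker := by
    rw [hZ, Subgroup.zpowers_le, MonoidHom.mem_ker]
    ext m
    exact m.2 z rfl
  set χ := QuotientGroup.lift Z ψ hker with hχ
  letI : Fintype (A ⧸ Z) := Fintype.ofFinite _
  have hZcard : Nat.card Z = p := by rw [hZ, Nat.card_zpowers, hzo]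
  have hAcard : Nat.card A = Nat.card (A ⧸ Z) * p := by
    rw [← hZcard]; exact Subgroup.card_eq_card_quotient_mul_card_subgroup Z
  have hlt : Nat.card (A ⧸ Z) < Nat.card A := by
    have h1 : 0 < Nat.card (A ⧸ Z) := Nat.card_pos
    have := hp.out.one_lt
    nlinarith
  have hIH := ih _ (lt_of_lt_of_le hlt hn) le_rfl (hA.to_quotient Z) (not_dvd_card_subgroup hN D) χ
  have hquot : ∀ a : A, Nat.card (fix χ {(a : A ⧸ Z)}) = Nat.card (fix φ {a, z}) := by
    intro a
    have h1 : fix χ {(a : A ⧸ Z)} = fix ψ {a} := by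
      ext m; simp [mem_fix, hχ]
    rw [h1, card_fix_restr, fix_pair]
  have huniv : Nat.card (fix χ Set.univ) = Nat.card (fix φ Set.univ) := by
    have h1 : fix χ Set.univ = fix ψ Set.univ := by
      ext m
      simp only [mem_fix, Set.mem_univ, forall_const, hχ]
      exact ⟨fun h a => h a, fun h q => QuotientGroup.induction_on q h⟩
    rw [h1, card_fix_restr, inf_eq_left.mpr (fun m hm a _ => hm a trivial)]
  set f : A → ℕ := fun a => Nat.card (fix φ {a}) with hf
  have hshift : (∏ a, f a) ^ p = ∏ a, ∏ i : Fin p, f (a * z ^ (i : ℕ)) := by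
    rw [Finset.prod_comm]
    have h1 : ∀ i : Fin p, ∏ a, f (a * z ^ (i : ℕ)) = ∏ a, f a := fun i =>
      Equiv.prod_comp (Equiv.mulRight (z ^ (i : ℕ))) f
    rw [Finset.prod_congr rfl (fun i _ => h1 i), Finset.prod_const, Finset.card_univ,
      Fintype.card_fin]
  have hbound : ∀ a, ∏ i : Fin p, f (a * z ^ (i : ℕ)) ≤ D.index * Nat.card (fix φ {a, z}) ^ p := by
    intro a
    have h1 := Nat.le_of_dvd (Nat.mul_pos Nat.card_pos (pow_pos Nat.card_pos _))
      (prod_dvd_aux hA a z (hcomm a) hz _ le_rfl hN φ)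
    rw [← D.card_mul_index, ← hD, mul_assoc, mul_comm _ (Nat.card D)] at h1
    exact Nat.le_of_mul_le_mul_left h1 Nat.card_pos
  calc (∏ a, Nat.card (fix φ {a})) ^ p = ∏ a, ∏ i : Fin p, f (a * z ^ (i : ℕ)) := hshift
    _ ≤ ∏ a : A, D.index * Nat.card (fix χ {(a : A ⧸ Z)}) ^ p :=
        Finset.prod_le_prod' fun a _ => by rw [hquot]; exact hbound a
    _ = D.index ^ Nat.card A * ((∏ q : A ⧸ Z, Nat.card (fix χ {q})) ^ p) ^ p := by
        rw [Finset.prod_mul_distrib, Finset.prod_const, Finset.card_univ,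
          ← Nat.card_eq_fintype_card, Finset.prod_pow]
        congr 2
        rw [← Equiv.prod_comp (Subgroup.groupEquivQuotientProdSubgroup (s := Z)).symm
          (fun a : A => Nat.card (fix χ {(a : A ⧸ Z)})), Fintype.prod_prod_type, ← Finset.prod_pow]
        refine Finset.prod_congr rfl fun q _ => ?_
        rw [Finset.prod_congr rfl (g := fun _ => Nat.card (fix χ {q})) (fun w _ => ?_),
          Finset.prod_const, Finset.card_univ, ← Nat.card_eq_fintype_card, hZcard]
        have h2 : ((Subgroup.groupEquivQuotientProdSubgroup (s := Z)).symm (q, w) : A ⧸ Z) = q :=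
          congrArg Prod.fst ((Subgroup.groupEquivQuotientProdSubgroup (s := Z)).apply_symm_apply (q, w))
        rw [h2]
    _ ≤ D.index ^ Nat.card A *
          (Nat.card D ^ Nat.card (A ⧸ Z) *
            Nat.card (fix φ Set.univ) ^ (Nat.card (A ⧸ Z) * (p - 1))) ^ p := by
        rw [← huniv]
        exact Nat.mul_le_mul_left _ (Nat.pow_le_pow_left hIH p)
    _ = _ := by
        rw [hAcard, ← D.card_mul_index]
        ring

/-- The product of the fixed-point orders over a `p`-group acting on a `p'`-group. -/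
theorem prod_le {A : Type v} [Group A] [Fintype A] {N : Type u} [Group N] [Finite N]
    (hA : IsPGroup p A) (hN : ¬ p ∣ Nat.card N) (φ : A →* MulAut N) :
    (∏ a : A, Nat.card (fix φ {a})) ^ p ≤
      Nat.card N ^ Nat.card A * Nat.card (fix φ Set.univ) ^ (Nat.card A * (p - 1)) :=
  prod_le_aux _ le_rfl hA hN φ

end CfsgLib.FixProduct
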