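import Mathlib.GroupTheory.GroupAction.Quotient
import Mathlib.GroupTheory.GroupAction.ConjAct
import Mathlib.GroupTheory.Index
import Mathlib.GroupTheory.OrderOfElement
import Mathlib.Algebra.Group.Conj
import Mathlib.Algebra.Group.ConjFinite
import Mathlib.Tactic
import Mathlib.GroupTheory.QuotientGroup.Basic
import Mathlib.Data.Nat.ChineseRemainder
import Mathlib.Data.Nat.Factorization.Basic

/-!
# Counting the classes of `π`-elements

In a coset `gN` with `g` a `π`-element there are as many commuting pairs `(x, n) ∈ gN × N` with `x`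
a `π`-element as with `n` a `π`-element.  Hence `k_π(G) ≤ k_π(N) k_π(G/N)`.
-/

set_option autoImplicit false
set_option linter.unusedSectionVars false

namespace CfsgLib.FgsB.ClassPiCount

open Finset

universe u

variable {G : Type u} [Group G]

/-- Every prime divisor of the order of `x` lies in `π`. -/
def PiEl (π : Set ℕ) (x : G) : Prop := ∀ q : ℕ, q.Prime → q ∣ orderOf x → q ∈ π

variable [Finite G]

theorem exists_factor (π : Set ℕ) {n : ℕ} (hn : n ≠ 0) : ∃ a b : ℕ, a * b = n ∧ a.Coprime b ∧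
    (∀ q, q.Prime → q ∣ a → q ∈ π) ∧ (∀ q, q.Prime → q ∣ b → q ∉ π) := by
  classical
  refine ⟨∏ q ∈ n.primeFactors.filter (· ∈ π), q ^ n.factorization q,
    ∏ q ∈ n.primeFactors.filter (fun q => ¬ q ∈ π), q ^ n.factorization q, ?_, ?_, ?_, ?_⟩
  · rw [prod_filter_mul_prod_filter_not]
    exact (Nat.prod_primeFactors_pow_factorization hn).symm
  · refine Nat.Coprime.prod_left fun i hi => Nat.Coprime.prod_right fun j hj => ?_
    simp only [mem_filter] at hi hj
    exact Nat.Coprime.pow _ _ ((Nat.coprime_primes (Nat.prime_of_mem_primeFactors hi.1)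
      (Nat.prime_of_mem_primeFactors hj.1)).mpr fun h => hj.2 (h ▸ hi.2))
  all_goals
    intro q hq hd
    obtain ⟨i, hi, hdi⟩ := hq.prime.exists_mem_finset_dvd hd
    simp only [mem_filter] at hi
    have := (Nat.prime_dvd_prime_iff_eq hq (Nat.prime_of_mem_primeFactors hi.1)).mp
      (hq.dvd_of_dvd_pow hdi)
    exact this ▸ hi.2

/-- A single exponent cuts out the `π`-part of every element. -/
theorem exists_piExp (π : Set ℕ) : ∃ e : ℕ, ∀ x : G, PiEl π (x ^ e) ∧
    PiEl πᶜ (x * (x ^ e)⁻¹) ∧ (PiEl π x → x ^ e = x) ∧ (PiEl πᶜ x → x ^ e = 1) := by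
  obtain ⟨a, b, hab, hco, ha, hb⟩ := exists_factor π (Nat.card_pos (α := G)).ne'
  obtain ⟨e, he1, he2⟩ := Nat.chineseRemainder hco 1 0
  refine ⟨e, fun x => ?_⟩
  have hx : orderOf x ∣ a * b := hab ▸ orderOf_dvd_natCard x
  have hbe : b ∣ e := Nat.modEq_zero_iff_dvd.mp he2
  refine ⟨fun q hq hd => ha q hq (hd.trans (orderOf_dvd_of_pow_eq_one ?_)),
    fun q hq hd => hb q hq (hd.trans (orderOf_dvd_of_pow_eq_one ?_)), fun h => ?_, fun h => ?_⟩
  · obtain ⟨c, rfl⟩ := hbe
    rw [← pow_mul, ← orderOf_dvd_iff_pow_eq_one]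
    exact hx.trans ⟨c, by ring⟩
  · have h1 : x * (x ^ e)⁻¹ = x ^ ((1 : ℤ) - e) := by
      rw [zpow_sub, zpow_one, zpow_natCast]
    rw [h1, ← zpow_natCast, ← zpow_mul, ← orderOf_dvd_iff_zpow_eq_one]
    have h2 : (a : ℤ) ∣ 1 - e := Nat.modEq_iff_dvd.mp he1
    refine (Int.natCast_dvd_natCast.mpr hx).trans ?_
    push_cast
    exact mul_dvd_mul_right h2 _
  · have h1 : orderOf x ∣ a := by
      refine Nat.Coprime.dvd_of_dvd_mul_right (Nat.coprime_of_dvd fun q hq hd1 hd2 => ?_) hx
      exact hb q hq hd2 (h q hq hd1)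
    conv_rhs => rw [← pow_one x]
    exact pow_eq_pow_iff_modEq.mpr (he1.of_dvd h1)
  · have h1 : orderOf x ∣ b := by
      refine Nat.Coprime.dvd_of_dvd_mul_left (Nat.coprime_of_dvd fun q hq hd1 hd2 => ?_) hx
      exact (h q hq hd1) (ha q hq hd2)
    exact orderOf_dvd_iff_pow_eq_one.mp (h1.trans hbe)

open scoped Classical in
/-- Commuting pairs in `S × K` with the first entry a `π`-element. -/
noncomputable def pairs₁ (π : Set ℕ) [Fintype G] (S K : Set G) : Finset (G × G) :=
  univ.filter fun p => p.1 ∈ S ∧ p.2 ∈ K ∧ Commute p.1 p.2 ∧ PiEl π p.1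

open scoped Classical in
/-- Commuting pairs in `S × K` with the second entry a `π`-element. -/
noncomputable def pairs₂ (π : Set ℕ) [Fintype G] (S K : Set G) : Finset (G × G) :=
  univ.filter fun p => p.1 ∈ S ∧ p.2 ∈ K ∧ Commute p.1 p.2 ∧ PiEl π p.2

variable [Fintype G]

theorem exists_mul_pow (M : Subgroup G) {g : G} (hg : g ∈ Subgroup.normalizer (M : Set G))
    {x : G} (hx : g⁻¹ * x ∈ M) (k : ℕ) : (g ^ k)⁻¹ * x ^ k ∈ M := by
  induction k with
  | zero => simp
  | succ k ih =>
    have h1 := (Subgroup.mem_normalizer_iff''.mp hg _).mp ih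
    have h2 : (g ^ (k + 1))⁻¹ * x ^ (k + 1) = g⁻¹ * ((g ^ k)⁻¹ * x ^ k) * g * (g⁻¹ * x) := by
      simp [pow_succ, mul_assoc]
    rw [h2]
    exact M.mul_mem h1 hx

open scoped Classical in
theorem card_pairs₁_eq_pairs₂ (π : Set ℕ) (M : Subgroup G) {g : G}
    (hg : g ∈ Subgroup.normalizer (M : Set G)) (hgπ : PiEl π g) :
    (pairs₁ π {x | g⁻¹ * x ∈ M} (M : Set G)).card =
      (pairs₂ π {x | g⁻¹ * x ∈ M} (M : Set G)).card := by
  suffices H : ∀ (n : ℕ) (M : Subgroup G) (g : G), Nat.card M ≤ n →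
      g ∈ Subgroup.normalizer (M : Set G) → PiEl π g →
      (pairs₁ π {x | g⁻¹ * x ∈ M} (M : Set G)).card =
        (pairs₂ π {x | g⁻¹ * x ∈ M} (M : Set G)).card from H _ M g le_rfl hg hgπ
  clear hg hgπ g M
  intro n
  induction n with
  | zero => intro M g hn; exact absurd hn (by have := Nat.card_pos (α := M); omega)
  | succ n ih =>
  intro M g hn hg hgπ
  obtain ⟨e, he⟩ := exists_piExp (G := G) π
  set S : Set G := {x | g⁻¹ * x ∈ M} with hS
  set T : Finset (G × G) := univ.filter fun p => p.1 ∈ S ∧ p.2 ∈ M ∧ Commute p.1 p.2 with hT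
  set W : Finset G := univ.filter fun w => w ∈ M ∧ PiEl πᶜ w with hW
  have hpart : ∀ x ∈ S, x ^ e ∈ S := by
    intro x hx
    have h1 := exists_mul_pow M hg hx e
    rwa [(he g).2.2.1 hgπ] at h1
  let d : G → ℤ := fun w =>
    ((pairs₁ π (S ∩ {x | Commute x w}) ((M : Set G) ∩ {x | Commute x w})).card : ℤ) -
      ((pairs₂ π (S ∩ {x | Commute x w}) ((M : Set G) ∩ {x | Commute x w})).card : ℤ)
  -- the fibres over the `π'`-part of the first entry
  have h1 : T.card = ∑ w ∈ W,
      (pairs₁ π (S ∩ {x | Commute x w}) ((M : Set G) ∩ {x | Commute x w})).card := by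
    rw [card_eq_sum_card_fiberwise (f := fun p => p.1 * (p.1 ^ e)⁻¹) (t := W)]
    · refine sum_congr rfl fun w hw => ?_
      simp only [hW, mem_filter, mem_univ, true_and] at hw
      refine card_bij' (fun p _ => (p.1 ^ e, p.2)) (fun q _ => (q.1 * w, q.2)) ?_ ?_ ?_ ?_
      · rintro ⟨x, m⟩ hp
        simp only [hT, mem_filter, mem_univ, true_and] at hp
        obtain ⟨⟨hx, hm, hc⟩, rfl⟩ := hp
        simp only [pairs₁, mem_filter, mem_univ, true_and, Set.mem_inter_iff,
          Set.mem_ofPred_eq, SetLike.mem_coe]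
        exact ⟨⟨hpart x hx, ((Commute.refl x).pow_left e).mul_right
          ((Commute.refl (x ^ e)).inv_right)⟩, ⟨hm, hc.symm.mul_right
          (hc.symm.pow_right e).inv_right⟩, hc.pow_left e, (he x).1⟩
      · rintro ⟨y, m⟩ hq
        simp only [pairs₁, mem_filter, mem_univ, true_and, Set.mem_inter_iff,
          Set.mem_ofPred_eq, SetLike.mem_coe] at hq
        obtain ⟨⟨hy, hyw⟩, ⟨hm, hmw⟩, hc, hyπ⟩ := hq
        simp only [hT, mem_filter, mem_univ, true_and]
        have hye : (y * w) ^ e = y := by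
          rw [hyw.mul_pow, (he y).2.2.1 hyπ, (he w).2.2.2 hw.2, mul_one]
        refine ⟨⟨?_, hm, hc.mul_left hmw.symm⟩, ?_⟩
        · simp only [hS, Set.mem_ofPred_eq] at hy ⊢
          rw [← mul_assoc]
          exact M.mul_mem hy hw.1
        · rw [hye, mul_assoc, hyw.inv_left.symm.eq, ← mul_assoc, mul_inv_cancel, one_mul]
      · rintro ⟨x, m⟩ hp
        simp only [hT, mem_filter, mem_univ, true_and] at hp
        obtain ⟨⟨hx, hm, hc⟩, rfl⟩ := hp
        refine Prod.ext ?_ rfl
        rw [← mul_assoc, ← pow_succ, pow_succ', mul_inv_cancel_right]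
      · rintro ⟨y, m⟩ hq
        simp only [pairs₁, mem_filter, mem_univ, true_and, Set.mem_inter_iff,
          Set.mem_ofPred_eq, SetLike.mem_coe] at hq
        refine Prod.ext ?_ rfl
        show (y * w) ^ e = y
        rw [hq.1.2.mul_pow, (he y).2.2.1 hq.2.2.2, (he w).2.2.2 hw.2, mul_one]
    · rintro ⟨x, m⟩ hp
      simp only [hT, coe_filter, mem_univ, true_and, Set.mem_ofPred_eq] at hp
      simp only [hW, coe_filter, mem_univ, true_and, Set.mem_ofPred_eq]
      refine ⟨?_, (he x).2.1⟩
      have h3 := M.mul_mem (M.inv_mem (hpart x hp.1)) hp.1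
      have h4 : x * (x ^ e)⁻¹ = (g⁻¹ * x ^ e)⁻¹ * (g⁻¹ * x) := by
        rw [mul_inv_rev, inv_inv, mul_assoc, mul_inv_cancel_left]
        exact ((Commute.refl x).pow_right e).inv_right.eq
      rw [h4]
      exact h3
  -- the fibres over the `π'`-part of the second entry
  have h2 : T.card = ∑ w ∈ W,
      (pairs₂ π (S ∩ {x | Commute x w}) ((M : Set G) ∩ {x | Commute x w})).card := by
    rw [card_eq_sum_card_fiberwise (f := fun p => p.2 * (p.2 ^ e)⁻¹) (t := W)]
    · refine sum_congr rfl fun w hw => ?_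
      simp only [hW, mem_filter, mem_univ, true_and] at hw
      refine card_bij' (fun p _ => (p.1, p.2 ^ e)) (fun q _ => (q.1, q.2 * w)) ?_ ?_ ?_ ?_
      · rintro ⟨x, m⟩ hp
        simp only [hT, mem_filter, mem_univ, true_and] at hp
        obtain ⟨⟨hx, hm, hc⟩, rfl⟩ := hp
        simp only [pairs₂, mem_filter, mem_univ, true_and, Set.mem_inter_iff,
          Set.mem_ofPred_eq, SetLike.mem_coe]
        exact ⟨⟨hx, hc.mul_right (hc.pow_right e).inv_right⟩, ⟨M.pow_mem hm e,
          ((Commute.refl m).pow_left e).mul_right ((Commute.refl (m ^ e)).inv_right)⟩,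
          hc.pow_right e, (he m).1⟩
      · rintro ⟨x, v⟩ hq
        simp only [pairs₂, mem_filter, mem_univ, true_and, Set.mem_inter_iff,
          Set.mem_ofPred_eq, SetLike.mem_coe] at hq
        obtain ⟨⟨hx, hxw⟩, ⟨hv, hvw⟩, hc, hvπ⟩ := hq
        simp only [hT, mem_filter, mem_univ, true_and]
        have hve : (v * w) ^ e = v := by
          rw [hvw.mul_pow, (he v).2.2.1 hvπ, (he w).2.2.2 hw.2, mul_one]
        refine ⟨⟨hx, M.mul_mem hv hw.1, hc.mul_right hxw⟩, ?_⟩
        rw [hve, mul_assoc, hvw.inv_left.symm.eq, ← mul_assoc, mul_inv_cancel, one_mul]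
      · rintro ⟨x, m⟩ hp
        simp only [hT, mem_filter, mem_univ, true_and] at hp
        obtain ⟨⟨hx, hm, hc⟩, rfl⟩ := hp
        refine Prod.ext rfl ?_
        rw [← mul_assoc, ← pow_succ, pow_succ', mul_inv_cancel_right]
      · rintro ⟨x, v⟩ hq
        simp only [pairs₂, mem_filter, mem_univ, true_and, Set.mem_inter_iff,
          Set.mem_ofPred_eq, SetLike.mem_coe] at hq
        refine Prod.ext rfl ?_
        show (v * w) ^ e = v
        rw [hq.2.1.2.mul_pow, (he v).2.2.1 hq.2.2.2, (he w).2.2.2 hw.2, mul_one]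
    · rintro ⟨x, m⟩ hp
      simp only [hT, coe_filter, mem_univ, true_and, Set.mem_ofPred_eq] at hp
      simp only [hW, coe_filter, mem_univ, true_and, Set.mem_ofPred_eq]
      exact ⟨M.mul_mem hp.2.1 (M.inv_mem (M.pow_mem hp.2.1 e)), (he m).2.1⟩
  have hd0 : ∑ w ∈ W, d w = 0 := by
    simp only [d, sum_sub_distrib, ← Nat.cast_sum, ← h1, ← h2, sub_self]
  let c : Finset G := W.filter fun w => (∀ m ∈ M, Commute m w) ∧ Commute g w
  have hdc : ∀ w ∈ W, d w = if (∀ m ∈ M, Commute m w) ∧ Commute g w then d 1 else 0 := by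
    intro w hw
    simp only [hW, mem_filter, mem_univ, true_and] at hw
    by_cases hM : ∀ m ∈ M, Commute m w
    · have eK : ((M : Set G) ∩ {x | Commute x w}) = (M : Set G) ∩ {x | Commute x 1} := by
        ext m; simpa using hM m
      by_cases hgw : Commute g w
      · rw [if_pos ⟨hM, hgw⟩]
        have eS : S ∩ {x | Commute x w} = S ∩ {x | Commute x 1} := by
          ext x
          simp only [Set.mem_inter_iff, Set.mem_ofPred_eq, Commute.one_right, and_true,
            and_iff_left_iff_imp]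
          intro hx
          simpa using hgw.mul_left (hM _ hx)
        simp only [d, eS, eK]
      · rw [if_neg fun h => hgw h.2]
        have eS : S ∩ {x | Commute x w} = (∅ : Set G) := by
          ext x
          simp only [Set.mem_inter_iff, Set.mem_ofPred_eq, Set.mem_empty_iff_false, iff_false,
            not_and]
          intro hx hc
          exact hgw (by simpa using hc.mul_left (hM _ hx).inv_left)
        simp only [d, eS]
        simp [pairs₁, pairs₂]
    · rw [if_neg fun h => hM h.1]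
      rcases Set.eq_empty_or_nonempty (S ∩ {x | Commute x w}) with he0 | ⟨x, hx, hxw⟩
      · simp only [d, he0]
        simp [pairs₁, pairs₂]
      set g' : G := x ^ e with hg'
      have hg'S : g⁻¹ * g' ∈ M := hpart x hx
      have hg'w : Commute g' w := Commute.pow_left hxw e
      set M' : Subgroup G := M ⊓ Subgroup.centralizer ({w} : Set G) with hM'
      have hlt : Nat.card M' < Nat.card M := by
        refine lt_of_le_of_ne (Subgroup.card_le_of_le inf_le_left) fun heq => hM ?_
        intro m hm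
        have := Subgroup.eq_of_le_of_card_ge (inf_le_left : M' ≤ M) heq.ge
        have hm' : m ∈ M' := this.ge hm
        exact Subgroup.mem_centralizer_singleton_iff.mp hm'.2
      have hnorm : g' ∈ Subgroup.normalizer (M' : Set G) := by
        rw [Subgroup.mem_normalizer_iff]
        intro m
        have hgN : g' ∈ Subgroup.normalizer (M : Set G) := by
          have := Subgroup.mul_mem _ hg (Subgroup.le_normalizer hg'S)
          rwa [mul_inv_cancel_left] at this
        have hgC : g' ∈ Subgroup.centralizer ({w} : Set G) :=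
          Subgroup.mem_centralizer_singleton_iff.mpr hg'w.eq
        constructor
        · exact fun h => ⟨(Subgroup.mem_normalizer_iff.mp hgN m).mp h.1,
            Subgroup.mul_mem _ (Subgroup.mul_mem _ hgC h.2) (Subgroup.inv_mem _ hgC)⟩
        · intro h
          refine ⟨(Subgroup.mem_normalizer_iff.mp hgN m).mpr h.1, ?_⟩
          have := Subgroup.mul_mem _ (Subgroup.mul_mem _ (Subgroup.inv_mem _ hgC) h.2) hgC
          simpa [mul_assoc] using this
      have hi := ih M' g' (by omega) hnorm ((he x).1)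
      have eK : ((M : Set G) ∩ {x | Commute x w}) = (M' : Set G) := by
        ext m
        simp [hM', Subgroup.mem_centralizer_singleton_iff, Commute, SemiconjBy]
      have eS : S ∩ {x | Commute x w} = {y | g'⁻¹ * y ∈ M'} := by
        ext y
        simp only [hM', Set.mem_inter_iff, Set.mem_ofPred_eq, hS, Subgroup.mem_inf,
          Subgroup.mem_centralizer_singleton_iff]
        constructor
        · rintro ⟨hy, hyw⟩
          refine ⟨?_, (hg'w.inv_left.mul_left hyw).eq⟩
          have h5 : g'⁻¹ * y = (g⁻¹ * g')⁻¹ * (g⁻¹ * y) := by simp [mul_assoc]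
          rw [h5]
          exact M.mul_mem (M.inv_mem hg'S) hy
        · rintro ⟨hy, hyw⟩
          refine ⟨?_, ?_⟩
          · have h5 := M.mul_mem hg'S hy
            simpa [mul_assoc] using h5
          · have h5 : Commute (g' * (g'⁻¹ * y)) w := hg'w.mul_left hyw
            simpa using h5
      simp only [d, eS, eK, hi, sub_self]
  rw [sum_congr rfl hdc, ← sum_filter, sum_const, nsmul_eq_mul] at hd0
  have hne : (c.card : ℤ) ≠ 0 := by
    refine Int.natCast_ne_zero.mpr (card_ne_zero_of_mem (a := 1) ?_)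
    simp [c, hW, PiEl]
    exact fun q hq h => absurd h hq.ne_one
  have := (mul_eq_zero.mp hd0).resolve_left hne
  simp only [d, Commute.one_right, Set.ofPred_true, Set.inter_univ, sub_eq_zero] at this
  exact_mod_cast this

open scoped Classical in
theorem card_coset_commute_le (N : Subgroup G) (h u : G) :
    (univ.filter fun y : G => h⁻¹ * y ∈ N ∧ Commute u y).card ≤
      (univ.filter fun y : G => y ∈ N ∧ Commute u y).card := by
  rcases (univ.filter fun y : G => h⁻¹ * y ∈ N ∧ Commute u y).eq_empty_or_nonempty with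
    he | ⟨y₁, hy₁⟩
  · simp [he]
  simp only [mem_filter, mem_univ, true_and] at hy₁
  refine card_le_card_of_injOn (fun y => y₁⁻¹ * y) (fun y hy => ?_) (fun a _ b _ hab =>
    mul_left_cancel hab)
  simp only [coe_filter, mem_univ, true_and, Set.mem_ofPred_eq] at hy ⊢
  refine ⟨?_, hy₁.2.inv_right.mul_right hy.2⟩
  have h5 : y₁⁻¹ * y = (h⁻¹ * y₁)⁻¹ * (h⁻¹ * y) := by simp [mul_assoc]
  rw [h5]
  exact N.mul_mem (N.inv_mem hy₁.1) hy.1

open scoped Classical in
theorem card_pairs₁_le (π : Set ℕ) (N : Subgroup G) [N.Normal] {g : G} (hgπ : PiEl π g) :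
    (pairs₁ π {x | g⁻¹ * x ∈ N} (N : Set G)).card ≤
      (pairs₂ π (N : Set G) (N : Set G)).card := by
  rw [card_pairs₁_eq_pairs₂ π N (by simp [Subgroup.normalizer_eq_top]) hgπ]
  rw [card_eq_sum_card_fiberwise (f := Prod.snd) (t := univ) (fun _ _ => mem_coe.mpr (mem_univ _)),
    card_eq_sum_card_fiberwise (f := Prod.snd) (t := univ) (fun _ _ => mem_coe.mpr (mem_univ _))
      (s := pairs₂ π (N : Set G) (N : Set G))]
  refine sum_le_sum fun m _ => ?_
  by_cases hm : m ∈ N ∧ PiEl π m
  · have e1 : ∀ S : Set G, ((pairs₂ π S (N : Set G)).filter fun p => p.2 = m).card =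
        (univ.filter fun y : G => y ∈ S ∧ Commute m y).card := by
      intro S
      refine card_bij' (fun p _ => p.1) (fun y _ => (y, m)) ?_ ?_ ?_ ?_
      · rintro ⟨x, v⟩ hp
        simp only [pairs₂, mem_filter, mem_univ, true_and] at hp ⊢
        obtain ⟨⟨hx, -, hc, -⟩, rfl⟩ := hp
        exact ⟨hx, hc.symm⟩
      · intro y hy
        simp only [pairs₂, mem_filter, mem_univ, true_and] at hy ⊢
        exact ⟨⟨hy.1, hm.1, hy.2.symm, hm.2⟩, trivial⟩
      · rintro ⟨x, v⟩ hp
        simp only [mem_filter] at hp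
        rw [← hp.2]
      · intro y _
        rfl
    rw [e1, e1]
    simpa using card_coset_commute_le N g m
  · refine le_of_eq_of_le (card_eq_zero.mpr ?_) (Nat.zero_le _)
    rw [filter_eq_empty_iff]
    rintro ⟨x, v⟩ hp rfl
    simp only [pairs₂, mem_filter, mem_univ, true_and] at hp
    exact hm ⟨hp.2.1, hp.2.2.2⟩

open scoped Classical in
/-- The classes of `π`-elements times the group order is the number of commuting pairs. -/
theorem card_classes_mul (π : Set ℕ) :
    Nat.card {C : ConjClasses G //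
        ∀ q : ℕ, q.Prime → (∃ g : G, ConjClasses.mk g = C ∧ q ∣ orderOf g) → q ∈ π} * Nat.card G =
      (pairs₁ π (Set.univ : Set G) Set.univ).card := by
  haveI : Fintype (ConjClasses G) := Fintype.ofFinite _
  set P : ConjClasses G → Prop := fun C =>
    ∀ q : ℕ, q.Prime → (∃ g : G, ConjClasses.mk g = C ∧ q ∣ orderOf g) → q ∈ π with hP
  have hiff : ∀ x : G, P (ConjClasses.mk x) ↔ PiEl π x := by
    refine fun x => ⟨fun h q hq hd => h q hq ⟨x, rfl, hd⟩, ?_⟩
    rintro h q hq ⟨g, hg, hd⟩
    obtain ⟨c, rfl⟩ := isConj_iff.mp (ConjClasses.mk_eq_mk_iff_isConj.mp hg)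
    refine h q hq (hd.trans (dvd_of_eq ?_))
    exact (MulEquiv.orderOf_eq (MulAut.conj c) g).symm
  rw [card_eq_sum_card_fiberwise (f := fun p => ConjClasses.mk p.1) (t := univ.filter P)]
  · rw [Nat.card_eq_fintype_card (α := {C : ConjClasses G // P C}), Fintype.card_subtype,
      ← smul_eq_mul, ← sum_const]
    refine sum_congr rfl fun C hC => ?_
    obtain ⟨x, rfl⟩ := ConjClasses.exists_rep C
    have hx : PiEl π x := (hiff x).mp (mem_filter.mp hC).2
    have horb : MulAction.orbit (ConjAct G) x = {y | IsConj y x} := by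
      ext y; rw [ConjAct.mem_orbit_conjAct]; rfl
    have h3 := MulAction.card_orbit_mul_card_stabilizer_eq_card_group (ConjAct G) x
    simp only [← Nat.card_eq_fintype_card] at h3
    rw [Nat.card_congr (ConjAct.toConjAct (G := G)).toEquiv, ← h3, horb]
    rw [card_eq_sum_card_fiberwise (f := Prod.fst) (t := univ.filter fun y : G => IsConj y x)]
    · have hc : ∀ y ∈ univ.filter (fun y : G => IsConj y x),
          (((pairs₁ π Set.univ Set.univ).filter fun p => ConjClasses.mk p.1 = ConjClasses.mk x)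
            |>.filter fun p => p.1 = y).card =
          Nat.card (MulAction.stabilizer (ConjAct G) x) := by
        intro y hy
        simp only [mem_filter, mem_univ, true_and] at hy
        obtain ⟨c, hc⟩ := isConj_iff.mp hy.symm
        rw [Nat.card_eq_fintype_card, ← Fintype.card_coe]
        refine Fintype.card_congr
          { toFun := fun p => ⟨ConjAct.toConjAct (c⁻¹ * p.1.2 * c), ?_⟩
            invFun := fun s => ⟨(y, c * ConjAct.ofConjAct (s : ConjAct G) * c⁻¹), ?_⟩
            left_inv := fun p => ?_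
            right_inv := fun s => ?_ }
        · obtain ⟨⟨a, b⟩, hp⟩ := p
          simp only [pairs₁, mem_filter, mem_univ, true_and, Set.mem_univ] at hp
          obtain ⟨⟨⟨hcm, -⟩, -⟩, rfl⟩ := hp
          rw [MulAction.mem_stabilizer_iff, ConjAct.smul_def, ConjAct.ofConjAct_toConjAct]
          dsimp only
          rw [← hc] at hcm
          have h4 : c * x * c⁻¹ * b = b * (c * x * c⁻¹) := hcm.eq
          calc c⁻¹ * b * c * x * (c⁻¹ * b * c)⁻¹
              = c⁻¹ * (b * (c * x * c⁻¹)) * b⁻¹ * c := by group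
            _ = c⁻¹ * (c * x * c⁻¹ * b) * b⁻¹ * c := by rw [h4]
            _ = x := by group
        · have hs := s.2
          rw [MulAction.mem_stabilizer_iff, ConjAct.smul_def, mul_inv_eq_iff_eq_mul] at hs
          simp only [pairs₁, mem_filter, mem_univ, true_and, Set.mem_univ]
          refine ⟨⟨⟨?_, ?_⟩, ?_⟩, trivial⟩
          · rw [← hc]
            exact ((show Commute x (ConjAct.ofConjAct (s : ConjAct G)) from hs.symm).map
              (MulAut.conj c).toMonoidHom)
          · exact (hiff y).mp (by rw [ConjClasses.mk_eq_mk_iff_isConj.mpr hy]; exact (hiff x).mpr hx)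
          · exact ConjClasses.mk_eq_mk_iff_isConj.mpr hy
        · obtain ⟨⟨a, b⟩, hp⟩ := p
          simp only [mem_filter] at hp
          apply Subtype.ext
          simp only [ConjAct.ofConjAct_toConjAct]
          exact Prod.ext hp.2.symm (by group)
        · apply Subtype.ext
          simp [mul_assoc]
      rw [sum_congr rfl hc, sum_const, smul_eq_mul]
      congr 1
      rw [Nat.card_eq_fintype_card, ← Fintype.card_subtype]
      rfl
    · intro p hp
      simp only [coe_filter, mem_univ, true_and, Set.mem_ofPred_eq] at hp ⊢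
      exact ConjClasses.mk_eq_mk_iff_isConj.mp hp.2
  · intro p hp
    simp only [pairs₁, coe_filter, mem_univ, true_and, Set.mem_ofPred_eq, Set.mem_univ] at hp ⊢
    exact (hiff _).mpr hp.2

open scoped Classical in
/-- `k_π(G) ≤ k_π(N) k_π(G/N)`. -/
theorem card_piClasses_le (π : Set ℕ) (N : Subgroup G) [N.Normal] :
    Nat.card {C : ConjClasses G //
        ∀ q : ℕ, q.Prime → (∃ g : G, ConjClasses.mk g = C ∧ q ∣ orderOf g) → q ∈ π} ≤
      Nat.card {C : ConjClasses N //
        ∀ q : ℕ, q.Prime → (∃ g : N, ConjClasses.mk g = C ∧ q ∣ orderOf g) → q ∈ π} *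
      Nat.card {C : ConjClasses (G ⧸ N) //
        ∀ q : ℕ, q.Prime → (∃ g : (G ⧸ N), ConjClasses.mk g = C ∧ q ∣ orderOf g) → q ∈ π} := by
  haveI : Fintype N := Fintype.ofFinite _
  haveI : Fintype (G ⧸ N) := Fintype.ofFinite _
  obtain ⟨e, he⟩ := exists_piExp (G := G) π
  have hN : (pairs₂ π (N : Set G) (N : Set G)).card =
      (pairs₁ (G := N) π Set.univ Set.univ).card := by
    refine (card_bij (fun p _ => ((p.2 : G), (p.1 : G))) ?_ ?_ ?_).symm
    · intro p hp
      simp only [pairs₁, pairs₂, mem_filter, mem_univ, true_and, Set.mem_univ] at hp ⊢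
      exact ⟨p.2.2, p.1.2, (congrArg Subtype.val hp.1.eq).symm, fun q hq hd =>
        hp.2 q hq (by rwa [Subgroup.orderOf_coe] at hd)⟩
    · intro p _ q _ h
      simp only [Prod.mk.injEq, SetLike.coe_eq_coe] at h
      exact Prod.ext h.2 h.1
    · rintro ⟨x, m⟩ hp
      simp only [pairs₂, mem_filter, mem_univ, true_and, SetLike.mem_coe] at hp
      refine ⟨(⟨m, hp.2.1⟩, ⟨x, hp.1⟩), ?_, rfl⟩
      simp only [pairs₁, mem_filter, mem_univ, true_and, Set.mem_univ]
      exact ⟨Subtype.ext hp.2.2.1.symm.eq, fun q hq hd =>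
        hp.2.2.2 q hq (by rwa [Subgroup.orderOf_mk] at hd)⟩
  have hmain : (pairs₁ π (Set.univ : Set G) Set.univ).card ≤
      (pairs₂ π (N : Set G) (N : Set G)).card *
        (pairs₁ (G := G ⧸ N) π Set.univ Set.univ).card := by
    refine card_le_mul_card_image_of_maps_to (f := fun p => ((p.1 : G ⧸ N), (p.2 : G ⧸ N)))
      (t := pairs₁ (G := G ⧸ N) π Set.univ Set.univ) ?_ _ ?_
    · intro p hp
      simp only [pairs₁, coe_filter, mem_filter, mem_univ, true_and, Set.mem_univ,
        Set.mem_ofPred_eq] at hp ⊢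
      exact ⟨hp.1.map (QuotientGroup.mk' N), fun q hq hd =>
        hp.2 q hq (hd.trans (orderOf_map_dvd (QuotientGroup.mk' N) p.1))⟩
    · rintro ⟨a, b⟩ -
      obtain ⟨a, rfl⟩ := QuotientGroup.mk_surjective a
      obtain ⟨b, rfl⟩ := QuotientGroup.mk_surjective b
      set F := (pairs₁ π (Set.univ : Set G) Set.univ).filter
        (fun p => ((p.1 : G ⧸ N), (p.2 : G ⧸ N)) = ((a : G ⧸ N), (b : G ⧸ N))) with hF
      rcases F.eq_empty_or_nonempty with h0 | ⟨⟨x₀, y₀⟩, h0⟩
      · simp [h0]
      simp only [hF, pairs₁, mem_filter, mem_univ, true_and, Set.mem_univ, Prod.mk.injEq] at h0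
      obtain ⟨⟨-, hx₀⟩, hxa, -⟩ := h0
      refine le_trans ?_ (card_pairs₁_le π N (g := x₀) hx₀)
      rw [card_eq_sum_card_fiberwise (f := Prod.fst) (t := univ) (fun _ _ => mem_coe.mpr (mem_univ _)),
        card_eq_sum_card_fiberwise (f := Prod.fst) (t := univ)
          (fun _ _ => mem_coe.mpr (mem_univ _))
          (s := pairs₁ π {x | x₀⁻¹ * x ∈ N} (N : Set G))]
      refine sum_le_sum fun u _ => ?_
      by_cases hu : PiEl π u ∧ x₀⁻¹ * u ∈ N
      · have e1 : (F.filter fun p => p.1 = u).card ≤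
            (univ.filter fun y : G => b⁻¹ * y ∈ N ∧ Commute u y).card := by
          refine card_le_card_of_injOn Prod.snd ?_ ?_
          · rintro ⟨x, y⟩ hp
            simp only [hF, pairs₁, coe_filter, mem_filter, mem_univ, true_and, Set.mem_univ,
              Set.mem_ofPred_eq, Prod.mk.injEq] at hp ⊢
            obtain ⟨⟨⟨hc, -⟩, -, hyb⟩, rfl⟩ := hp
            exact ⟨QuotientGroup.eq.mp hyb.symm, hc⟩
          · intro p hp q hq h
            simp only [coe_filter, Set.mem_ofPred_eq] at hp hq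
            exact Prod.ext (hp.2.trans hq.2.symm) h
        refine e1.trans ((card_coset_commute_le N b u).trans ?_)
        refine card_le_card_of_injOn (fun y => (u, y)) ?_ (fun p _ q _ h => congrArg Prod.snd h)
        intro y hy
        simp only [pairs₁, coe_filter, mem_filter, mem_univ, true_and, Set.mem_ofPred_eq,
          SetLike.mem_coe] at hy ⊢
        exact ⟨⟨hu.2, hy.1, hy.2, hu.1⟩, trivial⟩
      · refine le_of_eq_of_le (card_eq_zero.mpr ?_) (Nat.zero_le _)
        rw [filter_eq_empty_iff]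
        rintro ⟨x, y⟩ hp rfl
        simp only [hF, pairs₁, mem_filter, mem_univ, true_and, Set.mem_univ, Prod.mk.injEq] at hp
        exact hu ⟨hp.1.2, QuotientGroup.eq.mp (hxa.trans hp.2.1.symm)⟩
  rw [hN, ← card_classes_mul (G := N) π, ← card_classes_mul (G := G ⧸ N) π,
    ← card_classes_mul (G := G) π] at hmain
  refine Nat.le_of_mul_le_mul_right ?_ (Nat.card_pos (α := G))
  refine hmain.trans (le_of_eq ?_)
  rw [Subgroup.card_eq_card_quotient_mul_card_subgroup N]
  ring

end CfsgLib.FgsB.ClassPiCount
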