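import Cfsg.Agent.Lib.FgsB.ClassPrimes

/-!
# Averaging the number of prime divisors of class sizes

If a Sylow `p`-normalizer is larger than the centralizer, `p` divides the class sizes of at least
half of the elements. So at most `2σ - 1` such primes exist when every class size has at most `σ`
prime divisors; the remaining primes have normal `p`-complements.
-/

set_option autoImplicit false

namespace CfsgLib.FgsB.ClassPrimeAverage

open Subgroup CfsgLib.FgsB.ClassPrimes

universe u

variable {G : Type u} [Group G] [Finite G]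

theorem two_mul_card_conjugates_centralizer_le {p : ℕ} (P : Sylow p G)
    (hP : ¬ normalizer ((P : Subgroup G) : Set G) ≤ centralizer ((P : Subgroup G) : Set G)) :
    2 * Nat.card {x : G // ∃ g : G, g⁻¹ * x * g ∈ centralizer ((P : Subgroup G) : Set G)} ≤
      Nat.card G := by
  set N := normalizer ((P : Subgroup G) : Set G) with hN
  set C := centralizer ((P : Subgroup G) : Set G) with hC
  have hCN : C ≤ N := centralizer_le_normalizer _
  have hlt : 2 * Nat.card C ≤ Nat.card N := by
    rw [← card_mul_index (C.subgroupOf N), Nat.card_congr (subgroupOfEquivOfLe hCN).toEquiv]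
    have h1 : (C.subgroupOf N).index ≠ 1 := fun he => hP (subgroupOf_eq_top.mp (index_eq_one.mp he))
    have h2 : (C.subgroupOf N).index ≠ 0 := index_ne_zero_of_finite
    rw [mul_comm]
    exact Nat.mul_le_mul_left _ (by omega)
  calc 2 * Nat.card {x : G // ∃ g : G, g⁻¹ * x * g ∈ C}
      ≤ 2 * (N.index * Nat.card C) :=
        Nat.mul_le_mul_left _ (card_conjugates_le (normalizer_le_normalizer_centralizer _))
    _ = N.index * (2 * Nat.card C) := by ring
    _ ≤ N.index * Nat.card N := Nat.mul_le_mul_left _ hlt
    _ = Nat.card G := index_mul_card N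

/-- At least half of the elements have class size divisible by `p`. -/
theorem card_le_two_mul_card_dvd [Fintype G] {p : ℕ} [Fact p.Prime] (P : Sylow p G)
    (hP : ¬ normalizer ((P : Subgroup G) : Set G) ≤ centralizer ((P : Subgroup G) : Set G)) :
    Fintype.card G ≤
      2 * (Finset.univ.filter fun x : G => p ∣ (centralizer ({x} : Set G)).index).card := by
  classical
  have h1 := two_mul_card_conjugates_centralizer_le P hP
  rw [Nat.card_eq_fintype_card, Fintype.card_subtype, Nat.card_eq_fintype_card] at h1
  have h2 : (Finset.univ.filter fun x : G => ¬ p ∣ (centralizer ({x} : Set G)).index).card ≤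
      (Finset.univ.filter fun x : G =>
        ∃ g : G, g⁻¹ * x * g ∈ centralizer ((P : Subgroup G) : Set G)).card := by
    refine Finset.card_le_card fun x hx => ?_
    rw [Finset.mem_filter] at hx ⊢
    exact ⟨hx.1, exists_conj_mem_centralizer P hx.2⟩
  have h3 := Finset.card_filter_add_card_filter_not (s := (Finset.univ : Finset G))
    (fun x : G => p ∣ (centralizer ({x} : Set G)).index)
  rw [Finset.card_univ] at h3
  omega

/-- The primes without normal complement dividing class sizes: fewer than `2σ` of them. -/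
theorem card_lt_two_mul {σ : ℕ}
    (hσ : ∀ x : G, ((centralizer ({x} : Set G)).index).primeFactors.card ≤ σ)
    (A : Finset ℕ) (hA : ∀ p ∈ A, ∃ _ : Fact p.Prime, ∃ P : Sylow p G,
      ¬ normalizer ((P : Subgroup G) : Set G) ≤ centralizer ((P : Subgroup G) : Set G))
    (hne : A.Nonempty) : A.card < 2 * σ := by
  classical
  haveI := Fintype.ofFinite G
  have h1 : A.card * Fintype.card G ≤
      2 * ∑ p ∈ A, (Finset.univ.filter fun x : G => p ∣ (centralizer ({x} : Set G)).index).card := by
    rw [Finset.mul_sum, ← smul_eq_mul, ← Finset.sum_const]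
    refine Finset.sum_le_sum fun p hp => ?_
    obtain ⟨_, P, hP⟩ := hA p hp
    exact card_le_two_mul_card_dvd P hP
  have h2 : ∑ p ∈ A, (Finset.univ.filter fun x : G => p ∣ (centralizer ({x} : Set G)).index).card =
      ∑ x : G, (A.filter fun p => p ∣ (centralizer ({x} : Set G)).index).card := by
    simp only [Finset.card_filter]
    exact Finset.sum_comm
  have hone : (A.filter fun p => p ∣ (centralizer ({(1 : G)} : Set G)).index).card = 0 := by
    rw [Finset.card_eq_zero, Finset.filter_eq_empty_iff]
    intro p hp hd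
    obtain ⟨hpr, -⟩ := hA p hp
    have e : centralizer ({(1 : G)} : Set G) = ⊤ := by
      rw [eq_top_iff]
      intro y _
      rw [mem_centralizer_singleton_iff]
      simp
    rw [e, index_top, Nat.dvd_one] at hd
    exact hpr.out.ne_one hd
  have h3 : ∑ x : G, (A.filter fun p => p ∣ (centralizer ({x} : Set G)).index).card ≤
      ((Finset.univ : Finset G).erase 1).card * σ := by
    rw [← Finset.add_sum_erase _ _ (Finset.mem_univ (1 : G)), hone, zero_add, ← smul_eq_mul,
      ← Finset.sum_const]
    refine Finset.sum_le_sum fun x _ => le_trans (Finset.card_le_card ?_) (hσ x)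
    intro p hp
    rw [Finset.mem_filter] at hp
    obtain ⟨hpr, -⟩ := hA p hp.1
    exact Nat.mem_primeFactors.mpr ⟨hpr.out, hp.2, index_ne_zero_of_finite⟩
  rw [Finset.card_erase_of_mem (Finset.mem_univ _), Finset.card_univ] at h3
  have hG : 0 < Fintype.card G := Fintype.card_pos
  have hA0 : 0 < A.card := Finset.card_pos.mpr hne
  rw [h2] at h1
  by_contra hcon
  push Not at hcon
  obtain ⟨n, hn⟩ : ∃ n, Fintype.card G = n + 1 := ⟨Fintype.card G - 1, by omega⟩
  rw [hn] at h1 h3
  simp only [Nat.add_sub_cancel] at h3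
  nlinarith

/-- All primes dividing a class size, with one possible exception, are counted by the average. -/
theorem card_primes_le (σ : ℕ)
    (hσ : ∀ x : G, ((centralizer ({x} : Set G)).index).primeFactors.card ≤ σ)
    (hnil : ∀ p q : ℕ, p.Prime → q.Prime → p ∣ Nat.card G → q ∣ Nat.card G →
      Cfsg.HasNormalPComplement p G → Cfsg.HasNormalPComplement q G → p = q) :
    Nat.card {p : ℕ | p.Prime ∧ ∃ x : G, p ∣ (centralizer ({x} : Set G)).index} ≤ 2 * σ := by
  classical
  set T := (Nat.card G).primeFactors.filter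
    fun p => ∃ x : G, p ∣ (centralizer ({x} : Set G)).index with hT
  have hset : {p : ℕ | p.Prime ∧ ∃ x : G, p ∣ (centralizer ({x} : Set G)).index} = (T : Set ℕ) := by
    ext p
    simp only [hT, Finset.coe_filter, Set.mem_setOf_eq, Nat.mem_primeFactors]
    constructor
    · rintro ⟨hp, x, hx⟩
      exact ⟨⟨hp, hx.trans (index_dvd_card _), Nat.card_pos.ne'⟩, x, hx⟩
    · rintro ⟨⟨hp, -, -⟩, hx⟩
      exact ⟨hp, hx⟩
  rw [hset, Nat.card_coe_set_eq, Set.ncard_coe_finset]
  rcases T.eq_empty_or_nonempty with h | ⟨p₀, hp₀⟩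
  · simp [h]
  have hσ1 : 1 ≤ σ := by
    obtain ⟨hp, x, hx⟩ := Finset.mem_filter.mp hp₀
    exact le_trans (Finset.card_pos.mpr ⟨p₀, Nat.mem_primeFactors.mpr
      ⟨Nat.prime_of_mem_primeFactors hp, hx, index_ne_zero_of_finite⟩⟩) (hσ x)
  set A := T.filter fun p => ∃ _ : Fact p.Prime, ∃ P : Sylow p G,
    ¬ normalizer ((P : Subgroup G) : Set G) ≤ centralizer ((P : Subgroup G) : Set G) with hA
  have hB : (T \ A).card ≤ 1 := by
    refine Finset.card_le_one.mpr fun p hp q hq => ?_
    rw [Finset.mem_sdiff] at hp hq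
    have key : ∀ r ∈ T, r ∉ A → r.Prime ∧ r ∣ Nat.card G ∧ Cfsg.HasNormalPComplement r G := by
      intro r hr hrA
      obtain ⟨hr1, -⟩ := Finset.mem_filter.mp hr
      obtain ⟨hrp, hrd, -⟩ := Nat.mem_primeFactors.mp hr1
      haveI : Fact r.Prime := ⟨hrp⟩
      obtain ⟨R⟩ : Nonempty (Sylow r G) := inferInstance
      refine ⟨hrp, hrd, CfsgLib.Transfer.hasNormalPComplement_of_normalizer_le_centralizer R ?_⟩
      by_contra hc
      exact hrA (Finset.mem_filter.mpr ⟨hr, ⟨hrp⟩, R, hc⟩)
    obtain ⟨a, b, c⟩ := key p hp.1 hp.2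
    obtain ⟨a', b', c'⟩ := key q hq.1 hq.2
    exact hnil p q a a' b b' c c'
  have hsplit := Finset.card_sdiff_add_card_eq_card (Finset.filter_subset
    (fun p => ∃ _ : Fact p.Prime, ∃ P : Sylow p G,
      ¬ normalizer ((P : Subgroup G) : Set G) ≤ centralizer ((P : Subgroup G) : Set G)) T)
  rw [← hA] at hsplit
  rcases A.eq_empty_or_nonempty with h | h
  · rw [h, Finset.card_empty] at hsplit
    rw [h] at hB
    omega
  · have := card_lt_two_mul hσ A (fun p hp => (Finset.mem_filter.mp hp).2) h
    omega

end CfsgLib.FgsB.ClassPrimeAverage
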