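import Cfsg.Agent.Lib.FgsB.ClassTwoPairs
import Cfsg.Agent.Lib.Transfer.Control

/-!
A Sylow 2-subgroup of class at most two with nilpotent normalizers of `S`, `Z(S)` and nilpotent
centralizer of `Ω₁(Z(S))` (all inside `M`): either there is a normal 2-complement or some element
outside `M` normalises every subgroup between a four-group `E` and an index two subgroup `U`.
-/

set_option autoImplicit false
set_option linter.style.haveILetI false

open Subgroup
open scoped commutatorElement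

namespace CfsgLib.FgsB.ClassTwo

variable {G : Type*} [Group G] [Finite G] {S U M : Subgroup G} {k t v c : G}

theorem exists_good (hS2 : IsPGroup 2 S)
    (hcl : ∀ x ∈ S, ∀ y ∈ S, ∀ w ∈ S, ⁅x, y⁆ * w = w * ⁅x, y⁆)
    (hUS : U ≤ S) (ht : t ∈ S) (htU : t ∉ U) (htwo : ∀ s ∈ S, s ∈ U ∨ t⁻¹ * s ∈ U)
    (hcommU : ∀ x ∈ S, ∀ y ∈ S, ⁅x, y⁆ ∈ U) (hk : Odd (orderOf k))
    (hkU : k ∈ normalizer (U : Set G)) (hv : v ∈ U)
    (hc : t * k * t⁻¹ * k = c) (hcU : ∀ u ∈ U, c * u * c⁻¹ = v * u * v⁻¹)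
    (hnot : ¬ U ≤ centralizer ({k} : Set G)) :
    ∃ E : Subgroup G, Good S U E ∧ (∀ e ∈ E, e * e = 1) ∧
      ∀ R : Subgroup G, E ≤ R → R ≤ U → k ∈ normalizer (R : Set G) := by
  classical
  haveI := Fact.mk Nat.prime_two
  set K := zpowers k with hK
  set ZU := U ⊓ centralizer (U : Set G) with hZU
  have hKU : K ≤ normalizer (U : Set G) := zpowers_le.mpr hkU
  have hcop : (Nat.card K).Coprime (Nat.card U) := by
    obtain ⟨n, hn⟩ := IsPGroup.iff_card.mp (hS2.to_le hUS)
    rw [hn, Nat.card_zpowers]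
    exact Nat.Coprime.pow_right n (Nat.coprime_two_right.mpr hk)
  have hKs : Group.IsSolvable K := Group.isSolvable_of_comm fun x y => mul_comm' x y
  have hnU : ∀ g ∈ normalizer (U : Set G), ∀ u ∈ U, g * u * g⁻¹ ∈ U := fun g hg u hu =>
    (mem_normalizer_iff.mp hg u).mp hu
  have hnZ : ∀ g ∈ normalizer (U : Set G), ∀ u ∈ ZU, g * u * g⁻¹ ∈ ZU := fun g hg u hu => by
    refine ⟨hnU g hg u hu.1, mem_centralizer_iff.mpr fun y hy => ?_⟩
    have h1 := hnU g⁻¹ (inv_mem hg) y hy
    rw [inv_inv] at h1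
    have h2 := mem_centralizer_iff.mp hu.2 _ h1
    calc y * (g * u * g⁻¹) = g * ((g⁻¹ * y * g) * u) * g⁻¹ := by group
      _ = g * (u * (g⁻¹ * y * g)) * g⁻¹ := by rw [h2]
      _ = g * u * g⁻¹ * y := by group
  have hSU : ∀ x ∈ S, x ∈ normalizer (U : Set G) := by
    intro x hx
    rw [mem_normalizer_iff_map_conj_eq]
    refine Subgroup.eq_of_le_of_card_ge ?_
      (by rw [Subgroup.card_map_of_injective (MulAut.conj x).injective])
    rintro _ ⟨u, hu, rfl⟩
    show x * u * x⁻¹ ∈ U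
    have := mul_mem (hcommU x hx u (hUS hu)) hu
    rwa [commutatorElement_def, inv_mul_cancel_right] at this
  have hcomZ : ∀ x ∈ S, ∀ y ∈ S, ⁅x, y⁆ ∈ ZU := fun x hx y hy =>
    ⟨hcommU x hx y hy, mem_centralizer_iff.mpr fun u hu => (hcl x hx y hy u (hUS hu)).symm⟩
  -- `t k t⁻¹` is `k⁻¹` on `Z(U)`
  have hcZ : ∀ x ∈ ZU, c * x * c⁻¹ = x := fun x hx => by
    rw [hcU x hx.1, mem_centralizer_iff.mp hx.2 v hv, mul_inv_cancel_right]
  have hinv : ∀ x ∈ ZU, t * k * t⁻¹ * x * (t * k * t⁻¹)⁻¹ = k⁻¹ * x * k := by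
    intro x hx
    have h1 := hnZ k⁻¹ (inv_mem hkU) x hx
    rw [inv_inv] at h1
    calc t * k * t⁻¹ * x * (t * k * t⁻¹)⁻¹
        = (t * k * t⁻¹ * k) * (k⁻¹ * x * k) * (t * k * t⁻¹ * k)⁻¹ := by group
      _ = k⁻¹ * x * k := by rw [hc, hcZ _ h1]
  have hinvn : ∀ n : ℕ, ∀ x ∈ ZU, t * k ^ n * t⁻¹ * x * (t * k ^ n * t⁻¹)⁻¹ = (k ^ n)⁻¹ * x * k ^ n := by
    intro n
    induction n with
    | zero => intro x _; group
    | succ n ih =>
      intro x hx
      have h1 : (k ^ n)⁻¹ * x * k ^ n ∈ ZU := by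
        have := hnZ (k ^ n)⁻¹ (inv_mem (pow_mem hkU n)) x hx
        rwa [inv_inv] at this
      calc t * k ^ (n + 1) * t⁻¹ * x * (t * k ^ (n + 1) * t⁻¹)⁻¹
          = (t * k * t⁻¹) * (t * k ^ n * t⁻¹ * x * (t * k ^ n * t⁻¹)⁻¹) * (t * k * t⁻¹)⁻¹ := by
            rw [pow_succ']; group
        _ = (t * k * t⁻¹) * ((k ^ n)⁻¹ * x * k ^ n) * (t * k * t⁻¹)⁻¹ := by rw [ih x hx]
        _ = k⁻¹ * ((k ^ n)⁻¹ * x * k ^ n) * k := hinv _ h1
        _ = _ := by rw [pow_succ]; group
  obtain ⟨m, hm⟩ := exists_pow_eq_self_of_coprime (x := k) (n := 2) (Nat.coprime_two_left.mpr hk)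
  -- fixed points
  have hfix : ∀ w ∈ ZU, t * (k * w * k⁻¹) = (k * w * k⁻¹) * t → t * w = w * t → k * w = w * k := by
    intro w hw h1 h2
    have h3 := hinv (k * w * k⁻¹) (hnZ k hkU w hw)
    have h3' : k⁻¹ * (k * w * k⁻¹) * k = w := by group
    rw [h3'] at h3
    have h4 : t⁻¹ * (k * w * k⁻¹) * t = k * w * k⁻¹ := by rw [mul_assoc, ← h1, inv_mul_cancel_left]
    have h5 : t⁻¹ * w * t = w := by rw [mul_assoc, ← h2, inv_mul_cancel_left]
    have h6 : k ^ 2 * w * (k ^ 2)⁻¹ = w := by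
      calc k ^ 2 * w * (k ^ 2)⁻¹ = k * (k * w * k⁻¹) * k⁻¹ := by rw [pow_two]; group
        _ = k * (t⁻¹ * (k * w * k⁻¹) * t) * k⁻¹ := by rw [h4]
        _ = t⁻¹ * (t * k * t⁻¹ * (k * w * k⁻¹) * (t * k * t⁻¹)⁻¹) * t := by group
        _ = w := by rw [h3, h5]
    have h7 : Commute (k ^ 2) w := mul_inv_eq_iff_eq_mul.mp h6
    have := h7.pow_left m
    rwa [hm] at this
  -- `k` is trivial on `U / Z(U)`
  have hk2 : ∀ u ∈ U, k ^ 2 * u * (k ^ 2)⁻¹ * u⁻¹ ∈ ZU := by
    intro u hu
    set u1 := k * u * k⁻¹ with hu1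
    have hu1U : u1 ∈ U := hnU k hkU u hu
    set u2 := k * u1 * k⁻¹ with hu2
    have hu2U : u2 ∈ U := hnU k hkU u1 hu1U
    have hz : ⁅t⁻¹, u1⁆ ∈ ZU := hcomZ _ (inv_mem ht) _ (hUS hu1U)
    have hkz : t * (k * ⁅t⁻¹, u1⁆ * k⁻¹) * t⁻¹ ∈ ZU := hnZ t (hSU t ht) _ (hnZ k hkU _ hz)
    have key : v * u * v⁻¹ = t * (k * ⁅t⁻¹, u1⁆ * k⁻¹) * t⁻¹ * (⁅t, u2⁆ * u2) := by
      rw [← hcU u hu, ← hc, hu2, hu1]
      simp only [commutatorElement_def]
      group
    have hvu : ⁅v, u⁆ ∈ ZU := hcomZ _ (hUS hv) _ (hUS hu)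
    have htu : ⁅t, u2⁆ ∈ ZU := hcomZ _ ht _ (hUS hu2U)
    have h2 : k ^ 2 * u * (k ^ 2)⁻¹ * u⁻¹ =
        ⁅t, u2⁆⁻¹ * (t * (k * ⁅t⁻¹, u1⁆ * k⁻¹) * t⁻¹)⁻¹ * ⁅v, u⁆ := by
      have e : k ^ 2 * u * (k ^ 2)⁻¹ = u2 := by rw [hu2, hu1, pow_two]; group
      have e2 : ⁅v, u⁆ = v * u * v⁻¹ * u⁻¹ := commutatorElement_def v u
      rw [e, e2, key]
      group
    rw [h2]
    exact mul_mem (mul_mem (inv_mem htu) (inv_mem hkz)) hvu
  have htriv : ∀ u ∈ U, ∀ n : ℕ, k ^ n * u * (k ^ n)⁻¹ * u⁻¹ ∈ ZU := by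
    have hstep : ∀ (g : G), g ∈ normalizer (U : Set G) → (∀ u ∈ U, g * u * g⁻¹ * u⁻¹ ∈ ZU) →
        ∀ j : ℕ, ∀ u ∈ U, g ^ j * u * (g ^ j)⁻¹ * u⁻¹ ∈ ZU := by
      intro g hgU hg j
      induction j with
      | zero => intro u _; simp
      | succ j ih =>
        intro u hu
        have h1 := mul_mem (hnZ g hgU _ (ih u hu)) (hg u hu)
        convert h1 using 1
        rw [pow_succ']; group
    intro u hu n
    have h := hstep (k ^ 2) (pow_mem hkU 2) hk2 (m * n) u hu
    rwa [pow_mul, hm] at h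
  -- the subgroup `E`
  set E := ⁅U, K⁆ with hE
  have hpow : ∀ g ∈ K, ∃ n : ℕ, k ^ n = g := fun g hg => mem_powers_iff_mem_zpowers.mpr hg
  have hEZ : E ≤ ZU := by
    rw [hE, commutator_le]
    intro u hu g hg
    obtain ⟨n, rfl⟩ := hpow g hg
    have h1 := inv_mem (htriv u hu n)
    rw [commutatorElement_def]
    convert h1 using 1
    group
  have hEU : E ≤ U := hEZ.trans inf_le_left
  have hEK : K ≤ normalizer (E : Set G) := normalizer_commutator_ge_right U K
  have hEE : ⁅E, K⁆ = E := Coprime.commutator_commutator_eq hKU hcop (Or.inl hKs)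
  haveI hEc : IsMulCommutative E := ⟨⟨fun x y => Subtype.ext
    (mem_centralizer_iff.mp (hEZ y.2).2 x (hEU x.2))⟩⟩
  have hfp : E ⊓ centralizer (K : Set G) = ⊥ := by
    have h1 := Coprime.centralizer_inf_commutator_eq_bot (A := K) (V := E) hEK
      (hcop.coprime_dvd_right (card_dvd_of_le hEU))
    rw [hEE, inf_right_comm, inf_idem] at h1
    exact h1
  have hfp' : ∀ e ∈ E, k * e = e * k → e = 1 := by
    intro e he hc'
    have : e ∈ E ⊓ centralizer (K : Set G) := ⟨he, mem_centralizer_iff.mpr fun g hg => by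
      obtain ⟨n, rfl⟩ := hpow g hg
      exact (Commute.pow_left hc' n).eq⟩
    rwa [hfp, mem_bot] at this
  have hEk : ∀ e ∈ E, k * e * k⁻¹ ∈ E := fun e he =>
    (mem_normalizer_iff.mp (hEK (mem_zpowers k)) e).mp he
  have hEcomm : ∀ e ∈ E, ∀ u ∈ U, e * u = u * e := fun e he u hu =>
    (mem_centralizer_iff.mp (hEZ he).2 u hu).symm
  have htE : ∀ e ∈ E, t * e * t⁻¹ ∈ E := by
    have hle : E ≤ E.comap (MulAut.conj t).toMonoidHom := by
      conv_lhs => rw [← hEE]
      rw [commutator_le]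
      intro e he g hg
      obtain ⟨n, rfl⟩ := hpow g hg
      show t * ⁅e, k ^ n⁆ * t⁻¹ ∈ E
      set e' := t * e * t⁻¹ with he'
      have he'Z : e' ∈ ZU := hnZ t (hSU t ht) e (hEZ he)
      have h1 := hinvn n e'⁻¹ (inv_mem he'Z)
      have hkey : t * ⁅e, k ^ n⁆ * t⁻¹ = ⁅e', (k ^ n)⁻¹⁆ := by
        calc t * ⁅e, k ^ n⁆ * t⁻¹ = e' * (t * k ^ n * t⁻¹ * e'⁻¹ * (t * k ^ n * t⁻¹)⁻¹) := by
              rw [he', commutatorElement_def]; group
          _ = e' * ((k ^ n)⁻¹ * e'⁻¹ * k ^ n) := by rw [h1]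
          _ = _ := by rw [commutatorElement_def]; group
      rw [hkey]
      exact commutator_mem_commutator he'Z.1 (inv_mem (pow_mem (mem_zpowers k) n))
    exact fun e he => hle he
  have hnormal : ∀ s ∈ S, ∀ e ∈ E, s * e * s⁻¹ ∈ E := by
    intro s hs e he
    rcases htwo s hs with h | h
    · rwa [← hEcomm e he s h, mul_inv_cancel_right]
    · have h1 := htE e he
      rwa [show s * e * s⁻¹ = t * ((t⁻¹ * s) * e * (t⁻¹ * s)⁻¹) * t⁻¹ by group, ← hEcomm e he _ h,
        mul_inv_cancel_right]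
  -- `E` is elementary
  have ht2 : t * t ∈ U := by
    rcases htwo (t * t) (mul_mem ht ht) with h | h
    · exact h
    · rw [inv_mul_cancel_left] at h
      exact absurd h htU
  have helem : ∀ e ∈ E, e * e = 1 := by
    have hsq : ∀ y ∈ E, t * (y * y) = (y * y) * t := by
      intro y hy
      set w := ⁅t, y⁆ with hw
      have hwS : w * t = t * w := hcl t ht y (hUS (hEU hy)) t ht
      have h1 : t * y * t⁻¹ = w * y := by rw [hw, commutatorElement_def]; group
      have hwy : w * y = y * w := hcl t ht y (hUS (hEU hy)) y (hUS (hEU hy))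
      have hwt : t * w * t⁻¹ = w := by rw [← hwS, mul_inv_cancel_right]
      have h2 : w * w = 1 := by
        have h3 : (t * t) * y * (t * t)⁻¹ = y := by
          rw [← hEcomm y hy _ ht2, mul_inv_cancel_right]
        have h4 : (t * t) * y * (t * t)⁻¹ = w * w * y := by
          calc (t * t) * y * (t * t)⁻¹ = t * (t * y * t⁻¹) * t⁻¹ := by group
            _ = t * (w * y) * t⁻¹ := by rw [h1]
            _ = (t * w * t⁻¹) * (t * y * t⁻¹) := by group
            _ = w * w * y := by rw [hwt, h1, mul_assoc]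
        rw [h3] at h4
        exact mul_eq_right.mp h4.symm
      have h5 : t * (y * y) * t⁻¹ = y * y := by
        calc t * (y * y) * t⁻¹ = (t * y * t⁻¹) * (t * y * t⁻¹) := by group
          _ = (w * y) * (w * y) := by rw [h1]
          _ = w * (y * w) * y := by group
          _ = w * (w * y) * y := by rw [hwy]
          _ = (w * w) * (y * y) := by group
          _ = y * y := by rw [h2, one_mul]
      exact mul_inv_eq_iff_eq_mul.mp h5
    intro e he
    refine hfp' _ (mul_mem he he) (hfix _ (hEZ (mul_mem he he)) ?_ (hsq e he))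
    have h := hsq _ (hEk e he)
    have e2 : k * e * k⁻¹ * (k * e * k⁻¹) = k * (e * e) * k⁻¹ := by group
    rwa [e2] at h
  -- `t` does not centralise `E`
  have hUk : ∀ u ∈ U, k * u * k⁻¹ * u⁻¹ ∈ E := by
    intro u hu
    have h1 := inv_mem (commutator_mem_commutator (H₁ := U) (H₂ := K) hu (mem_zpowers k))
    rw [commutatorElement_inv, commutatorElement_def] at h1
    exact h1
  have htE' : ¬ ∀ e ∈ E, e * t = t * e := by
    intro hall
    refine hnot fun u hu => mem_centralizer_singleton_iff.mpr ?_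
    have h1 := hUk u hu
    have h2 := hfix _ (hEZ h1) (hall _ (hEk _ h1)).symm (hall _ h1).symm
    have h3 := hfp' _ h1 h2
    exact (mul_inv_eq_iff_eq_mul.mp (mul_inv_eq_one.mp h3)).symm
  have hgood : Good S U E := by
    refine ⟨hUS, ⟨t, ht, htU, htwo⟩, hEU, fun s hs => ⟨fun h => ?_, fun h e he => hEcomm e he s h⟩,
      hnormal, ?_, ?_⟩
    · refine (htwo s hs).resolve_right fun hu => htE' fun e he => ?_
      calc e * t = (e * s) * s⁻¹ * t := by group
        _ = (s * e) * s⁻¹ * t := by rw [h e he]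
        _ = t * ((t⁻¹ * s) * e) * (t⁻¹ * s)⁻¹ := by group
        _ = t * (e * (t⁻¹ * s)) * (t⁻¹ * s)⁻¹ := by rw [hEcomm e he _ hu]
        _ = t * e := by group
    · intro u hu huE
      refine hfp' _ huE ?_
      set e := k * u * k⁻¹ * u⁻¹ with he'
      have he : e ∈ E := hUk u hu
      have h1 : k * u * k⁻¹ = e * u := by rw [he']; group
      have h2 : k * (u * u) * k⁻¹ = u * u := by
        calc k * (u * u) * k⁻¹ = (k * u * k⁻¹) * (k * u * k⁻¹) := by group
          _ = (e * u) * (e * u) := by rw [h1]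
          _ = e * (u * e) * u := by group
          _ = e * (e * u) * u := by rw [hEcomm e he u hu]
          _ = (e * e) * (u * u) := by group
          _ = u * u := by rw [helem e he, one_mul]
      exact mul_inv_eq_iff_eq_mul.mp h2
    · intro u hu w hw huwE
      refine hfp' _ huwE (hfix _ (hcomZ u (hUS hu) w (hUS hw)) ?_ (hcl u (hUS hu) w (hUS hw) t ht).symm)
      have e2 : k * ⁅u, w⁆ * k⁻¹ = ⁅k * u * k⁻¹, k * w * k⁻¹⁆ := by
        simp only [commutatorElement_def]; group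
      rw [e2]
      exact (hcl _ (hUS (hnU k hkU u hu)) _ (hUS (hnU k hkU w hw)) t ht).symm
  refine ⟨E, hgood, helem, fun R hER hRU => ?_⟩
  rw [mem_normalizer_iff_map_conj_eq]
  refine Subgroup.eq_of_le_of_card_ge ?_
    (by rw [Subgroup.card_map_of_injective (MulAut.conj k).injective])
  rintro _ ⟨r, hr, rfl⟩
  show k * r * k⁻¹ ∈ R
  have h := mul_mem (hER (hUk r (hRU hr))) hr
  rwa [inv_mul_cancel_right] at h

theorem eq_one_of_primePow_odd {x : G} {n : ℕ} (h : x ^ 2 ^ n = 1) (ho : Odd (orderOf x)) : x = 1 := by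
  rw [← orderOf_eq_one_iff]
  exact Nat.eq_one_of_dvd_coprimes (Nat.Coprime.pow_left n (Nat.coprime_two_left.mpr ho))
    (orderOf_dvd_of_pow_eq_one h) dvd_rfl

/-- Either a normal 2-complement, or a moved four-group. -/
theorem complement_or_good [Fact (Nat.Prime 2)] (P : Sylow 2 G) (M : Subgroup G)
    (hcl : ∀ x ∈ (P : Subgroup G), ∀ y ∈ (P : Subgroup G), ∀ w ∈ (P : Subgroup G), ⁅x, y⁆ * w = w * ⁅x, y⁆)
    (hPM : (P : Subgroup G) ≤ M)
    (hdec : ∀ m ∈ M, ∃ v ∈ (P : Subgroup G), ∃ o ∈ centralizer ((P : Subgroup G) : Set G),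
      m = v * o ∧ Odd (orderOf o))
    (hNS : normalizer ((P : Subgroup G) : Set G) ≤ M)
    (hNZ : normalizer (((P : Subgroup G) ⊓ centralizer ((P : Subgroup G) : Set G) : Subgroup G) : Set G) ≤ M)
    (hCZ : centralizer {x : G | x ∈ (P : Subgroup G) ⊓ centralizer ((P : Subgroup G) : Set G) ∧ x * x = 1} ≤ M) :
    Cfsg.HasNormalPComplement 2 G ∨
      ∃ (U E : Subgroup G) (k : G), Good (P : Subgroup G) U E ∧ (∀ e ∈ E, e * e = 1) ∧ k ∉ M ∧
        ∀ R : Subgroup G, E ≤ R → R ≤ U → k ∈ normalizer (R : Set G) := by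
  classical
  set S := (P : Subgroup G) with hS
  set Z := S ⊓ centralizer (S : Set G) with hZ
  have hS2 : IsPGroup 2 S := P.isPGroup'
  obtain ⟨N, hNcard⟩ := IsPGroup.iff_card.mp hS2
  -- 2-elements of `M` lie in `S`
  have htwoM : ∀ m ∈ M, ∀ n : ℕ, m ^ 2 ^ n = 1 → m ∈ S := by
    intro m hm n hn
    obtain ⟨v, hv, o, ho, rfl, hodd⟩ := hdec m hm
    have hc : Commute v o := mem_centralizer_iff.mp ho v hv
    have hvN : v ^ 2 ^ N = 1 := orderOf_dvd_iff_pow_eq_one.mp (hNcard ▸ S.orderOf_dvd_natCard hv)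
    have h1 : o ^ (2 ^ (n + N)) = 1 := by
      have h2 : (v * o) ^ 2 ^ (n + N) = 1 := by rw [pow_add, pow_mul, hn, one_pow]
      rw [hc.mul_pow] at h2
      rwa [show v ^ 2 ^ (n + N) = 1 by rw [pow_add, mul_comm, pow_mul, hvN, one_pow], one_mul] at h2
    rw [eq_one_of_primePow_odd h1 hodd, mul_one]
    exact hv
  have hMS : ∀ g ∈ M, ∀ x ∈ S, g * x * g⁻¹ ∈ S := by
    intro g hg x hx
    refine htwoM _ (mul_mem (mul_mem hg (hPM hx)) (inv_mem hg)) N ?_
    rw [conj_pow, orderOf_dvd_iff_pow_eq_one.mp (hNcard ▸ S.orderOf_dvd_natCard hx), mul_one, mul_inv_cancel]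
  by_cases hwc : ∀ g : G, (∀ z ∈ Z, g * z * g⁻¹ ∈ S) → ∀ z ∈ Z, g * z * g⁻¹ ∈ Z
  · -- weakly closed: fusion is controlled by `M`
    left
    rw [CfsgLib.Transfer.hasNormalPComplement_iff_inf_eq_bot P,
      CfsgLib.Transfer.inf_pResidual_eq_of_fusion P hPM ?_]
    · have hM : Cfsg.HasNormalPComplement 2 M := by
        refine CfsgLib.Transfer.hasNormalPComplement_of_fusion (P.subtype hPM) fun x hx g hgx => ?_
        rw [Sylow.coe_subtype, mem_subgroupOf] at hx
        obtain ⟨v, hv, o, ho, hg, -⟩ := hdec g g.2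
        refine ⟨⟨v, hPM hv⟩, by rw [Sylow.coe_subtype, mem_subgroupOf]; exact hv, Subtype.ext ?_⟩
        show v * (x : G) * v⁻¹ = (g : G) * x * (g : G)⁻¹
        rw [hg]
        calc v * (x : G) * v⁻¹ = v * ((x : G) * o) * o⁻¹ * v⁻¹ := by group
          _ = v * (o * x) * o⁻¹ * v⁻¹ := by rw [mem_centralizer_iff.mp ho x hx]
          _ = _ := by group
      have h := (CfsgLib.Transfer.hasNormalPComplement_iff_inf_eq_bot (P.subtype hPM)).mp hM
      rw [Sylow.coe_subtype] at h
      rw [eq_bot_iff]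
      rintro x ⟨hx, y, hy, rfl⟩
      have : y ∈ (S.subgroupOf M) ⊓ Cfsg.pResidual 2 M := ⟨hx, hy⟩
      rw [h, mem_bot] at this
      rw [this]; exact one_mem _
    · intro x hx g hgx
      set y := g * x * g⁻¹ with hy
      set C := centralizer ({y} : Set G) with hC
      have hZC : Z ≤ C := fun z hz => mem_centralizer_singleton_iff.mpr
        (mem_centralizer_iff.mp hz.2 y hgx).symm
      set Z' := Z.map (MulAut.conj g).toMonoidHom with hZ'
      have hZ'C : Z' ≤ C := by
        rintro _ ⟨z, hz, rfl⟩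
        show g * z * g⁻¹ ∈ C
        rw [hC, mem_centralizer_singleton_iff, hy]
        calc g * z * g⁻¹ * (g * x * g⁻¹) = g * (z * x) * g⁻¹ := by group
          _ = g * (x * z) * g⁻¹ := by rw [mem_centralizer_iff.mp hz.2 x hx]
          _ = _ := by group
      have hZp : IsPGroup 2 Z := hS2.to_le inf_le_left
      obtain ⟨T, hT⟩ := (hZp.comap_subtype (K := C) : IsPGroup 2 (Z.subgroupOf C)).exists_le_sylow
      obtain ⟨T', hT'⟩ := ((hZp.map (MulAut.conj g).toMonoidHom).comap_subtype (K := C) :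
        IsPGroup 2 (Z'.subgroupOf C)).exists_le_sylow
      obtain ⟨d, hd⟩ := MulAction.exists_smul_eq C T' T
      have hTp : IsPGroup 2 ((T : Subgroup C).map C.subtype) := T.isPGroup'.map _
      obtain ⟨Q, hQ⟩ := hTp.exists_le_sylow
      obtain ⟨h, hh⟩ := MulAction.exists_smul_eq G Q P
      have hconjS : ∀ q ∈ (Q : Subgroup G), h * q * h⁻¹ ∈ S := fun q hq => by
        have h2 : MulAut.conj h • q ∈ ((h • Q : Sylow 2 G) : Subgroup G) :=
          Subgroup.smul_mem_pointwise_smul _ _ _ hq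
        rw [hh] at h2
        exact h2
      have hZQ : ∀ z ∈ Z, h * z * h⁻¹ ∈ S := fun z hz => hconjS z (hQ ⟨⟨z, hZC hz⟩, hT hz, rfl⟩)
      have hZQ' : ∀ z ∈ Z, h * ((d : G) * g) * z * (h * ((d : G) * g))⁻¹ ∈ S := by
        intro z hz
        have h1 : (⟨g * z * g⁻¹, hZ'C ⟨z, hz, rfl⟩⟩ : C) ∈ (T' : Subgroup C) := hT' ⟨z, hz, rfl⟩
        have h2 : MulAut.conj d • (⟨g * z * g⁻¹, hZ'C ⟨z, hz, rfl⟩⟩ : C) ∈
            ((d • T' : Sylow 2 C) : Subgroup C) := Subgroup.smul_mem_pointwise_smul _ _ _ h1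
        rw [hd] at h2
        have h3 := hconjS _ (hQ ⟨_, h2, rfl⟩)
        simpa [mul_assoc] using h3
      have hN1 : ∀ b : G, (∀ z ∈ Z, b * z * b⁻¹ ∈ S) → b ∈ normalizer (Z : Set G) := by
        intro b hb
        rw [mem_normalizer_iff_map_conj_eq]
        refine Subgroup.eq_of_le_of_card_ge ?_
          (by rw [Subgroup.card_map_of_injective (MulAut.conj b).injective])
        rintro _ ⟨z, hz, rfl⟩
        exact hwc b hb z hz
      have hdg : (d : G) * g ∈ normalizer (Z : Set G) := by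
        have := mul_mem (inv_mem (hN1 h hZQ)) (hN1 _ hZQ')
        rwa [inv_mul_cancel_left] at this
      refine ⟨(d : G) * g, hNZ hdg, ?_⟩
      have hdy : (d : G) * y = y * d := mem_centralizer_singleton_iff.mp d.2
      calc (d : G) * g * x * ((d : G) * g)⁻¹ = (d : G) * y * (d : G)⁻¹ := by rw [hy]; group
        _ = y := by rw [hdy, mul_inv_cancel_right]
  · right
    push Not at hwc
    obtain ⟨g, hgS, z₁, hz₁, hz₁'⟩ := hwc
    -- `D₁` and its normaliser
    set Z' := Z.map (MulAut.conj g).toMonoidHom with hZ'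
    have hZ'S : Z' ≤ S := by
      rintro _ ⟨z, hz, rfl⟩
      exact hgS z hz
    set D := Z ⊔ Z' with hD
    have hDS : D ≤ S := sup_le inf_le_left hZ'S
    have hZZ' : ∀ z ∈ Z, ∀ y ∈ S, y * z = z * y := fun z hz y hy => mem_centralizer_iff.mp hz.2 y hy
    have hDab : D ≤ centralizer (D : Set G) := by
      have h1 : ∀ y ∈ D, D ≤ centralizer ({y} : Set G) → y ∈ centralizer (D : Set G) := fun y _ hy =>
        mem_centralizer_iff.mpr fun x hx => mem_centralizer_singleton_iff.mp (hy hx)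
      refine sup_le (fun a ha => ?_) (fun a ha => ?_)
      · refine h1 a (mem_sup_left ha) fun x hx => mem_centralizer_singleton_iff.mpr (hZZ' a ha x (hDS hx))
      · refine h1 a (mem_sup_right ha) (sup_le (fun x hx => ?_) fun x hx => ?_)
        · exact mem_centralizer_singleton_iff.mpr (hZZ' x hx a (hZ'S ha)).symm
        · obtain ⟨a, ha, rfl⟩ := ha
          obtain ⟨x, hx, rfl⟩ := hx
          rw [mem_centralizer_singleton_iff]
          show (MulAut.conj g) x * (MulAut.conj g) a = (MulAut.conj g) a * (MulAut.conj g) x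
          rw [← map_mul, ← map_mul, hZZ' a ha x hx.1]
    have hDcomm : ∀ a ∈ D, ∀ b ∈ D, a * b = b * a := fun a ha b hb =>
      (mem_centralizer_iff.mp (hDab ha) b hb).symm
    let D1 : Subgroup G :=
      { carrier := {d | d ∈ D ∧ d * d = 1}
        mul_mem' := fun {a b} ha hb => ⟨mul_mem ha.1 hb.1, by
          calc a * b * (a * b) = a * (b * a) * b := by group
            _ = a * (a * b) * b := by rw [hDcomm a ha.1 b hb.1]
            _ = (a * a) * (b * b) := by group
            _ = 1 := by rw [ha.2, hb.2, one_mul]⟩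
        one_mem' := ⟨one_mem D, mul_one 1⟩
        inv_mem' := fun {a} ha => ⟨inv_mem ha.1, by rw [← mul_inv_rev, ha.2, inv_one]⟩ }
    set H := normalizer (D1 : Set G) with hH
    set C := centralizer (D1 : Set G) with hCdef
    have hCM : C ≤ M := fun c hc => hCZ (mem_centralizer_iff.mpr fun x hx =>
      mem_centralizer_iff.mp hc x ⟨mem_sup_left hx.1, hx.2⟩)
    have hD1S : D1 ≤ S := fun d hd => hDS hd.1
    have hcommZ : ∀ x ∈ S, ∀ y ∈ S, ⁅x, y⁆ ∈ Z := fun x hx y hy =>
      ⟨S.mul_mem (S.mul_mem (S.mul_mem hx hy) (S.inv_mem hx)) (S.inv_mem hy),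
        mem_centralizer_iff.mpr fun w hw => (hcl x hx y hy w hw).symm⟩
    have hZC : Z ≤ C := fun z hz => mem_centralizer_iff.mpr fun d hd => hZZ' z hz d (hD1S hd)
    have hnorm : ∀ (T : Subgroup G), (∀ x ∈ T, ∀ d ∈ D, x * d * x⁻¹ ∈ D) → T ≤ H := by
      intro T hT x hx
      rw [hH, mem_normalizer_iff_map_conj_eq]
      refine Subgroup.eq_of_le_of_card_ge ?_
        (by rw [Subgroup.card_map_of_injective (MulAut.conj x).injective])
      rintro _ ⟨d, hd, rfl⟩
      refine ⟨hT x hx d hd.1, ?_⟩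
      show x * d * x⁻¹ * (x * d * x⁻¹) = 1
      calc x * d * x⁻¹ * (x * d * x⁻¹) = x * (d * d) * x⁻¹ := by group
        _ = 1 := by rw [hd.2]; group
    have hSH : S ≤ H := hnorm S fun x hx d hd => by
      have := mul_mem (mem_sup_left (T := Z') (hcommZ x hx d (hDS hd))) hd
      rwa [commutatorElement_def, inv_mul_cancel_right] at this
    have hS'H : S.map (MulAut.conj g).toMonoidHom ≤ H := by
      refine hnorm _ ?_
      rintro _ ⟨x, hx, rfl⟩ d hd
      show g * x * g⁻¹ * d * (g * x * g⁻¹)⁻¹ ∈ D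
      -- write the element through `S ∩ S^g`
      have hd' : g⁻¹ * d * g ∈ S := by
        have : D ≤ S.map (MulAut.conj g).toMonoidHom := by
          refine sup_le (fun z hz => ?_) (map_mono inf_le_left)
          have hzc : ∀ w ∈ Z', w * z = z * w := fun w hw => hZZ' z hz w (hZ'S hw)
          have hzn : g⁻¹ * z * g ∈ centralizer (Z : Set G) := by
            rw [mem_centralizer_iff]
            intro w hw
            have h2 := hzc _ ⟨w, hw, rfl⟩
            have h2' : g * w * g⁻¹ * z = z * (g * w * g⁻¹) := h2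
            calc w * (g⁻¹ * z * g) = g⁻¹ * (g * w * g⁻¹ * z) * g := by group
              _ = g⁻¹ * (z * (g * w * g⁻¹)) * g := by rw [h2']
              _ = g⁻¹ * z * g * w := by group
          refine ⟨g⁻¹ * z * g, htwoM _ (hCZ (centralizer_le (fun w hw => hw.1) hzn)) N ?_, ?_⟩
          · have hz2 : z ^ 2 ^ N = 1 := orderOf_dvd_iff_pow_eq_one.mp (hNcard ▸ S.orderOf_dvd_natCard hz.1)
            have h3 : (g⁻¹ * z * (g⁻¹)⁻¹) ^ 2 ^ N = 1 := by rw [conj_pow, hz2, mul_one, mul_inv_cancel]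
            rwa [inv_inv] at h3
          · show g * (g⁻¹ * z * g) * g⁻¹ = z
            group
        obtain ⟨w, hw, rfl⟩ := this hd
        show g⁻¹ * (g * w * g⁻¹) * g ∈ S
        rw [show g⁻¹ * (g * w * g⁻¹) * g = w by group]; exact hw
      have hcz : g * ⁅x, g⁻¹ * d * g⁆ * g⁻¹ ∈ D :=
        mem_sup_right ⟨_, hcommZ x hx _ hd', rfl⟩
      have h5 := mul_mem hcz hd
      convert h5 using 1
      rw [commutatorElement_def]; group
    -- the quotient `H / C`
    haveI hCn : (C.subgroupOf H).Normal := by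
      refine ⟨fun c hc h => ?_⟩
      rw [mem_subgroupOf, hCdef, mem_centralizer_iff] at hc ⊢
      intro d hd
      have hd' : (h : G)⁻¹ * d * h ∈ D1 := by
        have := (mem_normalizer_iff.mp (inv_mem h.2) d).mp hd
        rwa [inv_inv] at this
      have h1 := hc _ hd'
      show d * ((h : G) * c * (h : G)⁻¹) = (h : G) * c * (h : G)⁻¹ * d
      calc d * ((h : G) * c * (h : G)⁻¹) = h * (((h : G)⁻¹ * d * h) * c) * (h : G)⁻¹ := by group
        _ = h * (c * ((h : G)⁻¹ * d * h)) * (h : G)⁻¹ := by rw [h1]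
        _ = _ := by group
    let f := QuotientGroup.mk' (C.subgroupOf H)
    have hf := QuotientGroup.mk'_surjective (C.subgroupOf H)
    have hfone : ∀ y : H, f y = 1 ↔ (y : G) ∈ C := fun y => QuotientGroup.eq_one_iff y
    let T : Sylow 2 (H ⧸ C.subgroupOf H) := (P.subtype hSH).mapSurjective hf
    have hT : (T : Subgroup (H ⧸ C.subgroupOf H)) = (S.subgroupOf H).map f := by
      rw [Sylow.coe_mapSurjective, Sylow.coe_subtype]
    have hTex : ∀ a ∈ (T : Subgroup (H ⧸ C.subgroupOf H)), ∃ x : H, (x : G) ∈ S ∧ f x = a := by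
      intro a ha; rw [hT] at ha; exact ha
    have hTab : ∀ a ∈ (T : Subgroup (H ⧸ C.subgroupOf H)), ∀ b ∈ (T : Subgroup (H ⧸ C.subgroupOf H)),
        a * b = b * a := by
      intro a ha b hb
      obtain ⟨x, hx, rfl⟩ := hTex a ha
      obtain ⟨y, hy, rfl⟩ := hTex b hb
      rw [← commutatorElement_eq_one_iff_mul_comm, ← map_commutatorElement, hfone]
      exact hZC (hcommZ x hx y hy)
    have hTsq : ∀ a ∈ (T : Subgroup (H ⧸ C.subgroupOf H)), a * a = 1 := by
      intro a ha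
      obtain ⟨x, hx, rfl⟩ := hTex a ha
      rw [← map_mul, hfone, hCdef, mem_centralizer_iff]
      intro d hd
      have hdS := hD1S hd
      set w := ⁅(x : G), d⁆ with hw
      have hwS := hcommZ x hx d hdS
      have h1 : (x : G) * d * (x : G)⁻¹ = w * d := by rw [hw, commutatorElement_def]; group
      have hdw : d * w = w * d := hZZ' w hwS d hdS
      have h2 : w * w = 1 := by
        have h3 : (w * d) * (w * d) = 1 := by
          rw [← h1]
          calc (x : G) * d * (x : G)⁻¹ * ((x : G) * d * (x : G)⁻¹) = x * (d * d) * (x : G)⁻¹ := by group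
            _ = 1 := by rw [hd.2]; group
        calc w * w = w * w * (d * d) := by rw [hd.2, mul_one]
          _ = w * (w * d) * d := by group
          _ = w * (d * w) * d := by rw [hdw]
          _ = (w * d) * (w * d) := by group
          _ = 1 := h3
      have h4 : (x : G) * x * d * ((x : G) * x)⁻¹ = d := by
        calc (x : G) * x * d * ((x : G) * x)⁻¹ = x * ((x : G) * d * (x : G)⁻¹) * (x : G)⁻¹ := by group
          _ = x * (w * d) * (x : G)⁻¹ := by rw [h1]
          _ = (x * w * (x : G)⁻¹) * ((x : G) * d * (x : G)⁻¹) := by group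
          _ = w * w * d := by rw [hZZ' w hwS x hx, mul_inv_cancel_right, h1, mul_assoc]
          _ = d := by rw [h2, one_mul]
      show d * ((x : G) * x) = (x : G) * x * d
      exact (mul_inv_eq_iff_eq_mul.mp h4).symm
    have hX : ∀ x : H, f x ∈ (T : Subgroup (H ⧸ C.subgroupOf H)) → (x : G) ∈ M := by
      intro x hx
      obtain ⟨y, hy, hyx⟩ := hTex _ hx
      have h1 : f (y⁻¹ * x) = 1 := by rw [map_mul, map_inv, hyx, inv_mul_cancel]
      have h2 := hCM ((hfone _).mp h1)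
      have h3 := mul_mem (hPM hy) h2
      rwa [Subgroup.coe_mul, Subgroup.coe_inv, mul_inv_cancel_left] at h3
    have hTN : normalizer ((T : Subgroup (H ⧸ C.subgroupOf H)) : Set (H ⧸ C.subgroupOf H)) ≤
        centralizer ((T : Subgroup (H ⧸ C.subgroupOf H)) : Set (H ⧸ C.subgroupOf H)) := by
      intro n' hn
      obtain ⟨n, rfl⟩ := hf n'
      have hnM : (n : G) ∈ M := by
        refine hNS ?_
        rw [mem_normalizer_iff_map_conj_eq]
        refine Subgroup.eq_of_le_of_card_ge ?_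
          (by rw [Subgroup.card_map_of_injective (MulAut.conj (n : G)).injective])
        rintro _ ⟨s, hs, rfl⟩
        show (n : G) * s * (n : G)⁻¹ ∈ S
        refine htwoM _ (hX (n * ⟨s, hSH hs⟩ * n⁻¹) ?_) N ?_
        · rw [map_mul, map_mul, map_inv]
          exact (mem_normalizer_iff.mp hn _).mp (by rw [hT]; exact ⟨_, hs, rfl⟩)
        · rw [conj_pow, orderOf_dvd_iff_pow_eq_one.mp (hNcard ▸ S.orderOf_dvd_natCard hs), mul_one, mul_inv_cancel]
      obtain ⟨v, hv, o, ho, hno, -⟩ := hdec _ hnM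
      rw [mem_centralizer_iff]
      intro a ha
      obtain ⟨x, hx, rfl⟩ := hTex a ha
      rw [← commutatorElement_eq_one_iff_mul_comm, ← map_commutatorElement, hfone]
      refine hZC ?_
      show ⁅(x : G), (n : G)⁆ ∈ Z
      have e : ⁅(x : G), v * o⁆ = ⁅(x : G), v⁆ := by
        have hox : (x : G) * o = o * x := mem_centralizer_iff.mp ho x hx
        rw [commutatorElement_def, commutatorElement_def]
        calc (x : G) * (v * o) * (x : G)⁻¹ * (v * o)⁻¹ = x * v * (o * (x : G)⁻¹) * o⁻¹ * v⁻¹ := by group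
          _ = x * v * ((x : G)⁻¹ * o) * o⁻¹ * v⁻¹ := by rw [(Commute.inv_left hox).eq.symm]
          _ = _ := by group
      rw [hno, e]
      exact hcommZ x hx v hv
    have hcomp := MonoidHom.ker_transferSylow_isComplement' T hTN
    set K := (MonoidHom.transferSylow T hTN).ker with hKdef
    set TT := (T : Subgroup (H ⧸ C.subgroupOf H)) with hTT
    have hKodd : Odd (Nat.card K) := by
      rw [← hcomp.index_eq_card, Nat.odd_iff, ← Nat.two_dvd_ne_zero]
      exact T.not_dvd_index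
    -- `T` does not centralise `K`
    have hnc : ¬ K ≤ centralizer (TT : Set (H ⧸ C.subgroupOf H)) := by
      intro hc
      have hall : ∀ y : H, f y ∈ centralizer (TT : Set (H ⧸ C.subgroupOf H)) := by
        intro y
        have h1 : K ⊔ TT = ⊤ := hcomp.sup_eq_top
        have h2 : f y ∈ K ⊔ TT := h1.symm ▸ mem_top _
        refine (sup_le hc (fun a ha => mem_centralizer_iff.mpr fun b hb => hTab b hb a ha)) h2
      refine hz₁' ?_
      have hgM : g ∈ M := by
        refine hNS ?_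
        rw [mem_normalizer_iff_map_conj_eq]
        refine Subgroup.eq_of_le_of_card_ge ?_
          (by rw [Subgroup.card_map_of_injective (MulAut.conj g).injective])
        rintro _ ⟨s, hs, rfl⟩
        show g * s * g⁻¹ ∈ S
        set y : H := ⟨g * s * g⁻¹, hS'H ⟨s, hs, rfl⟩⟩ with hy
        refine htwoM _ (hX y ?_) N ?_
        · -- `f y` is a 2-element centralising `T`
          have hpow : f y ^ 2 ^ N = 1 := by
            rw [← map_pow, show y ^ 2 ^ N = 1 from Subtype.ext (by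
              show (g * s * g⁻¹) ^ 2 ^ N = 1
              rw [conj_pow, orderOf_dvd_iff_pow_eq_one.mp (hNcard ▸ S.orderOf_dvd_natCard hs),
                mul_one, mul_inv_cancel]), map_one]
          have hp : IsPGroup 2 (zpowers (f y)) := by
            obtain ⟨j, -, hj⟩ := (Nat.dvd_prime_pow Nat.prime_two).mp (orderOf_dvd_of_pow_eq_one hpow)
            exact IsPGroup.of_card (n := j) (by rw [Nat.card_zpowers, hj])
          have hle : zpowers (f y) ≤ normalizer (TT : Set (H ⧸ C.subgroupOf H)) :=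
            (zpowers_le.mpr (hall y)).trans (centralizer_le_normalizer _)
          have := T.is_maximal' (IsPGroup.to_sup_of_normal_right' hp T.isPGroup' hle) le_sup_right
          have h2 : f y ∈ zpowers (f y) ⊔ (T : Subgroup (H ⧸ C.subgroupOf H)) := mem_sup_left (mem_zpowers (f y))
          rw [this] at h2
          exact h2
        · show (g * s * g⁻¹) ^ 2 ^ N = 1
          rw [conj_pow, orderOf_dvd_iff_pow_eq_one.mp (hNcard ▸ S.orderOf_dvd_natCard hs),
            mul_one, mul_inv_cancel]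
      have h1 := hMS g hgM z₁ hz₁.1
      refine ⟨h1, mem_centralizer_iff.mpr fun w hw => ?_⟩
      have h2 := hMS g⁻¹ (inv_mem hgM) w hw
      rw [inv_inv] at h2
      calc w * (g * z₁ * g⁻¹) = g * ((g⁻¹ * w * g) * z₁) * g⁻¹ := by group
        _ = g * (z₁ * (g⁻¹ * w * g)) * g⁻¹ := by rw [hZZ' z₁ hz₁ _ h2]
        _ = _ := by group
    -- a hyperplane of `T` with a moved fixed point
    obtain ⟨T₁, hT₁⟩ := (Set.toFinite {B : Subgroup (H ⧸ C.subgroupOf H) | B ≤ TT ∧
      ¬ K ⊓ centralizer (B : Set (H ⧸ C.subgroupOf H)) ≤ centralizer (TT : Set (H ⧸ C.subgroupOf H))}).exists_maximal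
      ⟨⊥, bot_le, by
        intro h
        refine hnc ((le_inf le_rfl fun y _ => ?_).trans h)
        rw [mem_centralizer_iff]
        intro z hz
        rw [mem_bot.mp hz, one_mul, mul_one]⟩
    obtain ⟨⟨hT₁T, hT₁nc⟩, hT₁max⟩ := hT₁
    have hne : ∃ a ∈ TT, a ∉ T₁ := SetLike.not_le_iff_exists.mp fun h =>
      hT₁nc (inf_le_right.trans (centralizer_le h))
    obtain ⟨s₀, hs₀, hs₀T⟩ := hne
    set K₁ := K ⊓ centralizer (T₁ : Set (H ⧸ C.subgroupOf H)) with hK₁
    have hext : ∀ a ∈ TT, a ∉ T₁ → K₁ ⊓ centralizer ({a} : Set (H ⧸ C.subgroupOf H)) ≤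
        centralizer (TT : Set (H ⧸ C.subgroupOf H)) := by
      intro a ha haT
      by_contra hc
      have hmem : T₁ ⊔ zpowers a ∈ {B : Subgroup (H ⧸ C.subgroupOf H) | B ≤ TT ∧
          ¬ K ⊓ centralizer (B : Set (H ⧸ C.subgroupOf H)) ≤ centralizer (TT : Set (H ⧸ C.subgroupOf H))} := by
        refine ⟨sup_le hT₁T (zpowers_le.mpr ha), fun h => hc (fun y hy => h ⟨hy.1.1, ?_⟩)⟩
        refine mem_centralizer_iff.mpr fun b hb => ?_
        have hle : T₁ ⊔ zpowers a ≤ centralizer ({y} : Set (H ⧸ C.subgroupOf H)) :=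
          sup_le (fun b hb => mem_centralizer_singleton_iff.mpr (mem_centralizer_iff.mp hy.1.2 b hb))
            (zpowers_le.mpr (mem_centralizer_singleton_iff.mpr (mem_centralizer_singleton_iff.mp hy.2).symm))
        exact mem_centralizer_singleton_iff.mp (hle hb)
      have := hT₁max hmem le_sup_left
      exact haT (this (mem_sup_right (mem_zpowers a)))
    have hK₁n : ∀ b ∈ TT, ∀ y ∈ K₁, b * y * b⁻¹ ∈ K₁ := by
      intro b hb y hy
      refine ⟨(inferInstance : K.Normal).conj_mem y hy.1 b, mem_centralizer_iff.mpr fun r hr => ?_⟩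
      have hrb := hTab r (hT₁T hr) b hb
      calc r * (b * y * b⁻¹) = (r * b) * y * b⁻¹ := by group
        _ = b * (r * y) * b⁻¹ := by rw [hrb]; group
        _ = b * (y * r) * b⁻¹ := by rw [mem_centralizer_iff.mp hy.2 r hr]
        _ = b * y * (r * b⁻¹) := by group
        _ = b * y * (b⁻¹ * r) := by rw [(Commute.inv_right hrb).eq]
        _ = _ := by group
    have hhyp : ∀ a ∈ TT, a ∈ T₁ ∨ s₀⁻¹ * a ∈ T₁ := by
      intro a ha
      by_contra hcon
      push Not at hcon
      obtain ⟨haT, hsaT⟩ := hcon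
      have hs₀i : s₀⁻¹ = s₀ := inv_eq_of_mul_eq_one_left (hTsq s₀ hs₀)
      rw [hs₀i] at hsaT
      set A := zpowers s₀ ⊔ zpowers a with hA
      have hAT : A ≤ TT := sup_le (zpowers_le.mpr hs₀) (zpowers_le.mpr ha)
      haveI : IsMulCommutative A := ⟨⟨fun x y => Subtype.ext (hTab x (hAT x.2) y (hAT y.2))⟩⟩
      have hAnorm : A ≤ normalizer (K₁ : Set (H ⧸ C.subgroupOf H)) := by
        intro b hb
        rw [mem_normalizer_iff_map_conj_eq]
        refine Subgroup.eq_of_le_of_card_ge ?_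
          (by rw [Subgroup.card_map_of_injective (MulAut.conj b).injective])
        rintro _ ⟨y, hy, rfl⟩
        exact hK₁n b (hAT hb) y hy
      have hcop : (Nat.card A).Coprime (Nat.card K₁) := by
        obtain ⟨j, hj⟩ := IsPGroup.iff_card.mp (T.isPGroup'.to_le hAT)
        rw [hj]
        exact Nat.Coprime.pow_left j (Nat.coprime_two_left.mpr
          (hKodd.of_dvd_nat (card_dvd_of_le inf_le_left)))
      have hgen := Coprime.le_of_cyclic_quotient (R := centralizer (TT : Set (H ⧸ C.subgroupOf H)))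
        hAnorm hcop fun B hB hBc => ?_
      · exact hT₁nc hgen
      · by_cases hBT : B ≤ T₁
        · exfalso
          obtain ⟨b, hb, hBb⟩ := hBc
          have hbsq := hTsq b (hAT hb)
          let Q : Subgroup (H ⧸ C.subgroupOf H) :=
            { carrier := {x | x ∈ TT ∧ (x ∈ T₁ ∨ b * x ∈ T₁)}
              one_mem' := ⟨one_mem _, Or.inl (one_mem _)⟩
              mul_mem' := fun {x y} hx hy => ⟨mul_mem hx.1 hy.1, by
                rcases hx.2 with h | h <;> rcases hy.2 with h' | h'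
                · exact Or.inl (mul_mem h h')
                · right
                  have := mul_mem h h'
                  rwa [← mul_assoc, hTab x hx.1 b (hAT hb), mul_assoc] at this
                · right
                  have := mul_mem h h'
                  rwa [mul_assoc] at this
                · left
                  have := mul_mem h h'
                  rwa [show b * x * (b * y) = b * (x * b) * y by group, hTab x hx.1 b (hAT hb),
                    show b * (b * x) * y = (b * b) * (x * y) by group, hbsq, one_mul] at this⟩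
              inv_mem' := fun {x} hx => by
                rw [inv_eq_of_mul_eq_one_left (hTsq x hx.1)]
                exact hx }
          have hAQ : A ≤ Q := hBb ▸ sup_le (fun x hx => ⟨hAT (hB hx), Or.inl (hBT hx)⟩)
            (zpowers_le.mpr ⟨hAT hb, Or.inr (by rw [hbsq]; exact one_mem _)⟩)
          have h1 := ((hAQ (mem_sup_left (mem_zpowers s₀))).2).resolve_left hs₀T
          have h2 := ((hAQ (mem_sup_right (mem_zpowers a))).2).resolve_left haT
          have h3 := mul_mem h1 h2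
          rw [show b * s₀ * (b * a) = b * (s₀ * b) * a by group, hTab s₀ hs₀ b (hAT hb),
            show b * (b * s₀) * a = (b * b) * (s₀ * a) by group, hbsq, one_mul] at h3
          exact hsaT h3
        · obtain ⟨b, hbB, hbT⟩ := SetLike.not_le_iff_exists.mp hBT
          exact le_trans (inf_le_inf_left _ (centralizer_le (Set.singleton_subset_iff.mpr hbB)))
            (hext b (hAT (hB hbB)) hbT)
    have hs₀i : s₀⁻¹ = s₀ := inv_eq_of_mul_eq_one_left (hTsq s₀ hs₀)
    obtain ⟨k₀, hk₀, hk₀c⟩ := SetLike.not_le_iff_exists.mp hT₁nc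
    set kb := s₀ * k₀ * s₀⁻¹ * k₀⁻¹ with hkb
    have hkbK : kb ∈ K₁ := mul_mem (hK₁n s₀ hs₀ k₀ hk₀) (inv_mem hk₀)
    have hkb1 : kb ≠ 1 := fun e => hk₀c (hext s₀ hs₀ hs₀T ⟨hk₀, mem_centralizer_singleton_iff.mpr
      (mul_inv_eq_iff_eq_mul.mp (mul_inv_eq_one.mp e)).symm⟩)
    have hkbinv : s₀ * kb * s₀⁻¹ = kb⁻¹ := by
      calc s₀ * kb * s₀⁻¹ = (s₀ * s₀) * k₀ * s₀⁻¹ * k₀⁻¹ * s₀⁻¹ := by rw [hkb]; group
        _ = k₀ * s₀ * k₀⁻¹ * s₀⁻¹ := by rw [hTsq s₀ hs₀, hs₀i, one_mul]
        _ = kb⁻¹ := by rw [hkb]; group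
    obtain ⟨t, htS, htf⟩ := hTex s₀ hs₀
    obtain ⟨x, hxf⟩ := hf kb
    obtain ⟨α, β, hβ, hαβ⟩ := Nat.exists_eq_pow_mul_and_not_dvd (orderOf_pos x).ne' 2 (by omega)
    have hkbodd : Odd (orderOf kb) := hKodd.of_dvd_nat (K.orderOf_dvd_natCard hkbK.1)
    obtain ⟨e, he0, he1⟩ := Nat.chineseRemainder
      (show Nat.Coprime (2 ^ α) (orderOf kb) from Nat.Coprime.pow_left α (Nat.coprime_two_left.mpr hkbodd)) 0 1
    rw [Nat.modEq_zero_iff_dvd] at he0
    set k : H := x ^ e with hkdef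
    have hfk : f k = kb := by
      rw [hkdef, map_pow, hxf]
      conv_rhs => rw [← pow_one kb]
      exact pow_eq_pow_iff_modEq.mpr he1
    have hkodd : Odd (orderOf (k : G)) := by
      rw [Subgroup.orderOf_coe]
      obtain ⟨e', rfl⟩ := he0
      refine Odd.of_dvd_nat (Nat.odd_iff.mpr (Nat.two_dvd_ne_zero.mp hβ)) (orderOf_dvd_of_pow_eq_one ?_)
      rw [hkdef, ← pow_mul, show 2 ^ α * e' * β = (2 ^ α * β) * e' by ring, ← hαβ, pow_mul,
        pow_orderOf_eq_one, one_pow]
    set U := S ⊓ (T₁.comap f).map H.subtype with hU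
    have hUmem : ∀ y : H, (y : G) ∈ U ↔ (y : G) ∈ S ∧ f y ∈ T₁ := by
      intro y
      constructor
      · rintro ⟨h1, y', hy', he'⟩
        exact ⟨h1, Subtype.ext he' ▸ hy'⟩
      · exact fun h => ⟨h.1, y, h.2, rfl⟩
    have hcommU : ∀ a ∈ S, ∀ b ∈ S, ⁅a, b⁆ ∈ U := by
      intro a ha b hb
      have hz := hcommZ a ha b hb
      refine (hUmem ⟨⁅a, b⁆, hSH hz.1⟩).mpr ⟨hz.1, ?_⟩
      rw [(hfone _).mpr (hZC hz)]
      exact one_mem _
    have hkU : (k : G) ∈ normalizer (U : Set G) := by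
      rw [mem_normalizer_iff_map_conj_eq]
      refine Subgroup.eq_of_le_of_card_ge ?_
        (by rw [Subgroup.card_map_of_injective (MulAut.conj (k : G)).injective])
      rintro _ ⟨u, hu, rfl⟩
      show (k : G) * u * (k : G)⁻¹ ∈ U
      obtain ⟨huS, hu'⟩ := (hUmem ⟨u, hSH hu.1⟩).mp hu
      set y : H := k * ⟨u, hSH hu.1⟩ * k⁻¹ with hy
      have hfy : f y = f ⟨u, hSH hu.1⟩ := by
        rw [hy, map_mul, map_mul, map_inv, hfk, ← mem_centralizer_iff.mp hkbK.2 _ hu', mul_inv_cancel_right]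
      refine (hUmem y).mpr ⟨htwoM _ (hX y (hfy ▸ hT₁T hu')) N ?_, hfy ▸ hu'⟩
      show ((k : G) * u * (k : G)⁻¹) ^ 2 ^ N = 1
      rw [conj_pow, orderOf_dvd_iff_pow_eq_one.mp (hNcard ▸ S.orderOf_dvd_natCard huS), mul_one, mul_inv_cancel]
    set cc : H := t * k * t⁻¹ * k with hcc
    have hcC : (cc : G) ∈ C := by
      rw [← hfone, hcc, map_mul, map_mul, map_mul, map_inv, htf, hfk, hkbinv, inv_mul_cancel]
    obtain ⟨v, hv, o, ho, hvo, -⟩ := hdec _ (hCM hcC)
    have hoC : o ∈ C := centralizer_le (fun d hd => hD1S hd) ho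
    have hvC : v ∈ C := by
      have := mul_mem hcC (inv_mem hoC)
      rwa [hvo, mul_inv_cancel_right] at this
    have hvU : v ∈ U := (hUmem ⟨v, hSH hv⟩).mpr ⟨hv, by rw [(hfone ⟨v, hSH hv⟩).mpr hvC]; exact one_mem _⟩
    have hnot : ¬ U ≤ centralizer ({(k : G)} : Set G) := by
      intro h
      refine hkb1 ?_
      rw [← hfk, hfone, hCdef, mem_centralizer_iff]
      intro d hd
      have hdU : d ∈ U := (hUmem ⟨d, hSH (hD1S hd)⟩).mpr ⟨hD1S hd, by
        rw [(hfone ⟨d, hSH (hD1S hd)⟩).mpr (mem_centralizer_iff.mpr fun d' hd' => hDcomm d' hd'.1 d hd.1)]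
        exact one_mem _⟩
      exact mem_centralizer_singleton_iff.mp (h hdU)
    have htU : (t : G) ∉ U := fun h => hs₀T (htf ▸ ((hUmem t).mp h).2)
    have htwo : ∀ a ∈ S, a ∈ U ∨ (t : G)⁻¹ * a ∈ U := by
      intro a ha
      rcases hhyp (f ⟨a, hSH ha⟩) (by rw [hT]; exact ⟨_, ha, rfl⟩) with h | h
      · exact Or.inl ((hUmem ⟨a, hSH ha⟩).mpr ⟨ha, h⟩)
      · refine Or.inr ((hUmem (t⁻¹ * ⟨a, hSH ha⟩)).mpr ⟨mul_mem (inv_mem htS) ha, ?_⟩)
        rwa [map_mul, map_inv, htf]
    obtain ⟨E, hgood, helem, hR⟩ := exists_good hS2 hcl inf_le_left htS htU htwo hcommU hkodd hkU hvU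
      (c := (cc : G)) rfl (fun u hu => by
        have : u * o = o * u := mem_centralizer_iff.mp ho u hu.1
        rw [hvo]
        calc v * o * u * (v * o)⁻¹ = v * (o * u) * o⁻¹ * v⁻¹ := by group
          _ = v * (u * o) * o⁻¹ * v⁻¹ := by rw [this]
          _ = _ := by group) hnot
    refine ⟨U, E, k, hgood, helem, fun hkM => hnot fun u hu => ?_, hR⟩
    obtain ⟨v', hv', o', ho', hk', hodd'⟩ := hdec _ hkM
    have hc' : Commute v' o' := mem_centralizer_iff.mp ho' v' hv'
    have h1 : (v' * o') ^ (orderOf (k : G) * orderOf o') = 1 := by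
      rw [← hk', pow_mul, pow_orderOf_eq_one, one_pow]
    rw [hc'.mul_pow, mul_comm (orderOf (k : G)), pow_mul o', pow_orderOf_eq_one, one_pow, mul_one] at h1
    have hv1 : v' = 1 := eq_one_of_primePow_odd
      (orderOf_dvd_iff_pow_eq_one.mp (hNcard ▸ S.orderOf_dvd_natCard hv'))
      ((hodd'.mul hkodd).of_dvd_nat (orderOf_dvd_of_pow_eq_one h1))
    rw [mem_centralizer_singleton_iff, hk', hv1, one_mul]
    exact mem_centralizer_iff.mp ho' u hu.1

end CfsgLib.FgsB.ClassTwo
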