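import Mathlib
import Cfsg.Agent.Lib.Coprime.Action2

/-!
The four-group of an index two subgroup of a class two 2-group moved by an inverted element of
odd order, and the combinatorics of such four-groups.
-/

set_option autoImplicit false
set_option linter.style.haveILetI false

open Subgroup
open scoped commutatorElement

namespace CfsgLib.FgsB.ClassTwo

variable {G : Type*} [Group G] {S U U₁ U₂ U₃ E E₁ E₂ E₃ : Subgroup G} {z z₁ z₂ : G}

/-- The abstract properties of the pair `(U, E)`. -/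
structure Good (S U E : Subgroup G) : Prop where
  le : U ≤ S
  two : ∃ t ∈ S, t ∉ U ∧ ∀ s ∈ S, s ∈ U ∨ t⁻¹ * s ∈ U
  eU : E ≤ U
  cent : ∀ s ∈ S, ((∀ e ∈ E, e * s = s * e) ↔ s ∈ U)
  normal : ∀ s ∈ S, ∀ e ∈ E, s * e * s⁻¹ ∈ E
  sq : ∀ u ∈ U, u * u ∈ E → u * u = 1
  comm : ∀ u ∈ U, ∀ v ∈ U, ⁅u, v⁆ ∈ E → ⁅u, v⁆ = 1

theorem Good.map (h : Good S U E) (σ : G ≃* G) (hS : S.map σ.toMonoidHom = S) :
    Good S (U.map σ.toMonoidHom) (E.map σ.toMonoidHom) := by
  have hS' : ∀ s ∈ S, ∃ r ∈ S, σ r = s := fun s hs => by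
    rw [← hS] at hs
    obtain ⟨r, hr, hrs⟩ := hs
    exact ⟨r, hr, hrs⟩
  have hmem : ∀ {X : Subgroup G} {x : G}, σ x ∈ X.map σ.toMonoidHom ↔ x ∈ X := fun {X x} =>
    ⟨fun ⟨y, hy, hyx⟩ => σ.injective hyx ▸ hy, fun hx => ⟨x, hx, rfl⟩⟩
  refine ⟨hS ▸ map_mono h.le, ?_, map_mono h.eU, ?_, ?_, ?_, ?_⟩
  · obtain ⟨t, ht, htU, hs⟩ := h.two
    refine ⟨σ t, hS ▸ ⟨t, ht, rfl⟩, fun hc => htU (hmem.mp hc), fun s hsS => ?_⟩
    obtain ⟨r, hr, rfl⟩ := hS' s hsS
    rw [← map_inv, ← map_mul]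
    exact (hs r hr).imp hmem.mpr hmem.mpr
  · intro s hsS
    obtain ⟨r, hr, rfl⟩ := hS' s hsS
    rw [hmem, ← h.cent r hr]
    constructor
    · intro hc e he
      exact σ.injective (by rw [map_mul, map_mul]; exact hc (σ e) ⟨e, he, rfl⟩)
    · rintro hc _ ⟨e, he, rfl⟩
      show σ e * σ r = σ r * σ e
      rw [← map_mul, ← map_mul, hc e he]
  · rintro s hsS _ ⟨e, he, rfl⟩
    obtain ⟨r, hr, rfl⟩ := hS' s hsS
    refine ⟨r * e * r⁻¹, h.normal r hr e he, ?_⟩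
    show σ (r * e * r⁻¹) = σ r * σ e * (σ r)⁻¹
    simp
  · rintro _ ⟨u, hu, rfl⟩ hc
    show σ u * σ u = 1
    have hc' : σ (u * u) ∈ E.map σ.toMonoidHom := by rwa [map_mul]
    rw [← map_mul, h.sq u hu (hmem.mp hc'), map_one]
  · rintro _ ⟨u, hu, rfl⟩ _ ⟨v, hv, rfl⟩ hc
    show ⁅σ u, σ v⁆ = 1
    have hc' : σ ⁅u, v⁆ ∈ E.map σ.toMonoidHom := by rwa [map_commutatorElement]
    rw [← map_commutatorElement, h.comm u hu v hv (hmem.mp hc'), map_one]

/-- All commutators of `E` with `S` are powers of `z`. -/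
def Zed (S E : Subgroup G) (z : G) : Prop := ∀ e ∈ E, ∀ s ∈ S, ⁅e, s⁆ = 1 ∨ ⁅e, s⁆ = z

theorem Zed.map (h : Zed S E z) (σ : G ≃* G) (hS : S.map σ.toMonoidHom = S) :
    Zed S (E.map σ.toMonoidHom) (σ z) := by
  rintro _ ⟨e, he, rfl⟩ s hs
  rw [← hS] at hs
  obtain ⟨r, hr, rfl⟩ := hs
  show ⁅σ e, σ r⁆ = 1 ∨ ⁅σ e, σ r⁆ = σ z
  rw [← map_commutatorElement]
  rcases h e he r hr with h1 | h1
  · left; rw [h1, map_one]
  · right; rw [h1]

theorem Good.ne_bot_comm (h : Good S U E) : ∃ e ∈ E, ∃ s ∈ S, ⁅e, s⁆ ≠ 1 := by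
  obtain ⟨t, ht, htU, -⟩ := h.two
  by_contra hc
  push Not at hc
  exact htU ((h.cent t ht).mp fun e he => commutatorElement_eq_one_iff_mul_comm.mp (hc e he t ht))

theorem Zed.unique (h : Good S U E) (h1 : Zed S E z₁) (h2 : Zed S E z₂) : z₁ = z₂ := by
  obtain ⟨e, he, s, hs, hne⟩ := h.ne_bot_comm
  rw [← (h1 e he s hs).resolve_left hne, ← (h2 e he s hs).resolve_left hne]

theorem Good.diff_mem (h : Good S U E) {a b : G} (ha : a ∈ S) (hb : b ∈ S) (haU : a ∉ U)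
    (hbU : b ∉ U) : a⁻¹ * b ∈ U := by
  obtain ⟨t, _, _, hs⟩ := h.two
  have ha' := (hs a ha).resolve_left haU
  have hb' := (hs b hb).resolve_left hbU
  have := mul_mem (inv_mem ha') hb'
  simpa [mul_assoc] using this

theorem Good.comm_eq (h : Good S U E) {e a b : G} (he : e ∈ E) (ha : a ∈ S) (hb : b ∈ S)
    (haU : a ∉ U) (hbU : b ∉ U) : ⁅e, a⁆ = ⁅e, b⁆ := by
  obtain ⟨u, hu, rfl⟩ : ∃ u ∈ U, b = a * u :=
    ⟨a⁻¹ * b, h.diff_mem ha hb haU hbU, by rw [mul_inv_cancel_left]⟩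
  have hc : e * u = u * e := (h.cent u (h.le hu)).mpr hu e he
  have h2 : u * e⁻¹ * u⁻¹ = e⁻¹ := by
    rw [mul_inv_eq_iff_eq_mul]; exact (Commute.inv_left hc).eq.symm
  rw [commutatorElement_def, commutatorElement_def]
  calc e * a * e⁻¹ * a⁻¹ = e * a * (u * e⁻¹ * u⁻¹) * a⁻¹ := by rw [h2]
    _ = e * (a * u) * e⁻¹ * (a * u)⁻¹ := by group

theorem Good.le_symm (h1 : Good S U₁ E₁) (h2 : Good S U₂ E₂) (h : E₂ ≤ U₁) : E₁ ≤ U₂ :=
  fun x hx => (h2.cent x (h1.le (h1.eU hx))).mp fun e he =>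
    ((h1.cent e (h2.le (h2.eU he))).mpr (h he) x hx).symm

theorem Good.zed_half (h1 : Good S U₁ E₁) (h2 : Good S U₂ E₂) {a b : G} (ha : a ∈ E₁) (haU : a ∉ U₂)
    (hb : b ∈ E₂) (hbU : b ∉ U₁) : Zed S E₁ ⁅a, b⁆ := by
  intro e he s hs
  by_cases hsU : s ∈ U₁
  · exact Or.inl (commutatorElement_eq_one_iff_mul_comm.mpr ((h1.cent s hs).mpr hsU e he))
  have hbS : b ∈ S := h2.le (h2.eU hb)
  have haS : a ∈ S := h1.le (h1.eU ha)
  have heS : e ∈ S := h1.le (h1.eU he)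
  rw [h1.comm_eq he hs hbS hsU hbU]
  by_cases heU : e ∈ U₂
  · exact Or.inl (commutatorElement_eq_one_iff_mul_comm.mpr ((h2.cent e heS).mpr heU b hb).symm)
  · right
    rw [← commutatorElement_inv b e, ← commutatorElement_inv b a, h2.comm_eq hb heS haS heU haU]

theorem Good.exists_zed (h1 : Good S U₁ E₁) (h2 : Good S U₂ E₂) (h : ¬ E₂ ≤ U₁) :
    ∃ z : G, z ≠ 1 ∧ z ∈ E₁ ∧ (∀ x ∈ E₁, ∀ y ∈ E₂, x ∉ U₂ → y ∉ U₁ → ⁅x, y⁆ = z) ∧
      Zed S E₁ z ∧ Zed S E₂ z⁻¹ := by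
  have h' : ¬ E₁ ≤ U₂ := fun hc => h (h2.le_symm h1 hc)
  obtain ⟨b, hb, hbU⟩ := SetLike.not_le_iff_exists.mp h
  obtain ⟨a, ha, haU⟩ := SetLike.not_le_iff_exists.mp h'
  have haS : a ∈ S := h1.le (h1.eU ha)
  have hbS : b ∈ S := h2.le (h2.eU hb)
  refine ⟨⁅a, b⁆, fun hne => haU ?_, ?_, ?_, h1.zed_half h2 ha haU hb hbU,
    by rw [commutatorElement_inv]; exact h2.zed_half h1 hb hbU ha haU⟩
  · refine (h2.cent a haS).mp fun e he => ?_
    by_cases heU : e ∈ U₁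
    · exact ((h1.cent e (h2.le (h2.eU he))).mpr heU a ha).symm
    · refine (commutatorElement_eq_one_iff_mul_comm.mp ?_).symm
      rw [h1.comm_eq ha (h2.le (h2.eU he)) hbS heU hbU, hne]
  · rw [commutatorElement_def, mul_assoc, mul_assoc, ← mul_assoc b]
    exact mul_mem ha (h1.normal b hbS _ (inv_mem ha))
  · intro x hx y hy hxU hyU
    have hxS : x ∈ S := h1.le (h1.eU hx)
    rw [h1.comm_eq hx (h2.le (h2.eU hy)) hbS hyU hbU, ← commutatorElement_inv b x,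
      ← commutatorElement_inv b a, h2.comm_eq hb hxS haS hxU haU]

/-- Commuting four-groups with the same commutator come from the same subgroup. -/
theorem Good.eq_of_le (h1 : Good S U₁ E₁) (h2 : Good S U₂ E₂) (hz : Zed S E₂ z) (hzE : z ∈ E₁)
    (hle : E₂ ≤ U₁) : U₁ = U₂ := by
  have hUle : U₁ ≤ U₂ := fun u hu => (h2.cent u (h1.le hu)).mp fun e he => by
    refine commutatorElement_eq_one_iff_mul_comm.mp ?_
    rcases hz e he u (h1.le hu) with h | h
    · exact h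
    · exact h1.comm e (hle he) u hu (by rw [h]; exact hzE)
  refine le_antisymm hUle fun u hu => ?_
  by_contra huU
  obtain ⟨t, ht, htU, -⟩ := h2.two
  have ht1 : t ∉ U₁ := fun hc => htU (hUle hc)
  have := hUle (h1.diff_mem (h2.le hu) ht huU ht1)
  have := mul_mem hu this
  rw [mul_inv_cancel_left] at this
  exact htU this

theorem exists_not_mem_two {X A B : Subgroup G} (hA : ¬ X ≤ A) (hB : ¬ X ≤ B) :
    ∃ x ∈ X, x ∉ A ∧ x ∉ B := by
  obtain ⟨a, ha, haA⟩ := SetLike.not_le_iff_exists.mp hA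
  obtain ⟨b, hb, hbB⟩ := SetLike.not_le_iff_exists.mp hB
  by_cases haB : a ∈ B
  · by_cases hbA : b ∈ A
    · exact ⟨a * b, mul_mem ha hb, fun h => haA ((mul_mem_cancel_right hbA).mp h),
        fun h => hbB ((mul_mem_cancel_left haB).mp h)⟩
    · exact ⟨b, hb, hbA, hbB⟩
  · exact ⟨a, ha, haA, haB⟩

theorem Good.no_triangle (hcl : ∀ x ∈ S, ∀ y ∈ S, ∀ w ∈ S, ⁅x, y⁆ * w = w * ⁅x, y⁆)
    (h1 : Good S U₁ E₁) (h2 : Good S U₂ E₂) (h3 : Good S U₃ E₃)
    (he : ∀ e ∈ E₁, e * e = 1) (he2 : ∀ e ∈ E₂, e * e = 1) (he3 : ∀ e ∈ E₃, e * e = 1)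
    (z1 : Zed S E₁ z) (z2 : Zed S E₂ z) (z3 : Zed S E₃ z)
    (n12 : ¬ E₂ ≤ U₁) (n13 : ¬ E₃ ≤ U₁) (n23 : ¬ E₃ ≤ U₂) (hzE : z ∈ E₁) (hz : z ≠ 1) : False := by
  have n21 : ¬ E₁ ≤ U₂ := fun hc => n12 (h2.le_symm h1 hc)
  have n31 : ¬ E₁ ≤ U₃ := fun hc => n13 (h3.le_symm h1 hc)
  have n32 : ¬ E₂ ≤ U₃ := fun hc => n23 (h3.le_symm h2 hc)
  obtain ⟨a, ha, ha2, ha3⟩ := exists_not_mem_two n21 n31
  obtain ⟨b, hb, hb1, hb3⟩ := exists_not_mem_two n12 n32
  obtain ⟨c, hc, hc1, hc2⟩ := exists_not_mem_two n13 n23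
  have haS : a ∈ S := h1.le (h1.eU ha)
  have hbS : b ∈ S := h2.le (h2.eU hb)
  have hcS : c ∈ S := h3.le (h3.eU hc)
  obtain ⟨w, hw1, -, hw, hzw, -⟩ := h1.exists_zed h2 n12
  have hab : ⁅a, b⁆ = z := (hw a ha b hb ha2 hb1).trans (Zed.unique h1 hzw z1)
  obtain ⟨w', -, -, hw', hzw', -⟩ := h1.exists_zed h3 n13
  have hac : ⁅a, c⁆ = z := (hw' a ha c hc ha3 hc1).trans (Zed.unique h1 hzw' z1)
  obtain ⟨w'', -, -, hw'', hzw'', -⟩ := h2.exists_zed h3 n23
  have hbc : ⁅b, c⁆ = z := (hw'' b hb c hc hb3 hc2).trans (Zed.unique h2 hzw'' z2)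
  have hzz : z * z = 1 := he z hzE
  have hzc : ∀ x ∈ S, z * x = x * z := fun x hx => by rw [← hab]; exact hcl a haS b hbS x hx
  have hba : b * a = z * (a * b) := by
    have e1 : a * b = z * (b * a) := by rw [← hab, commutatorElement_def]; group
    rw [e1, ← mul_assoc, hzz, one_mul]
  have hca : a * c = z * (c * a) := by rw [← hac, commutatorElement_def]; group
  have hcb : b * c = z * (c * b) := by rw [← hbc, commutatorElement_def]; group
  set f := c * a * b with hf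
  have hfS : f ∈ S := mul_mem (mul_mem hcS haS) hbS
  have haf : a * f = f * a := by
    calc a * f = (a * c) * a * b := by rw [hf]; group
      _ = z * (c * a) * a * b := by rw [hca]
      _ = (z * c) * (a * a) * b := by group
      _ = (c * z) * (a * a) * b := by rw [hzc c hcS]
      _ = c * (z * (a * a) * b) := by group
      _ = c * a * (b * a) := by
        rw [hba, mul_assoc c a, ← mul_assoc a z (a * b), ← hzc a haS]; group
      _ = f * a := by rw [hf]; group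
  have hfU : f ∈ U₁ := by
    by_contra hfU
    have := h1.comm_eq ha hfS hbS hfU hb1
    rw [hab, commutatorElement_eq_one_iff_mul_comm.mpr haf] at this
    exact hz this.symm
  have hff : f * f = z := by
    calc f * f = c * (a * (b * c)) * (a * b) := by rw [hf]; group
      _ = c * ((a * z) * (c * b)) * (a * b) := by rw [hcb]; group
      _ = (c * z) * (a * c) * (b * a) * b := by rw [← hzc a haS]; group
      _ = (z * c) * (z * (c * a)) * (z * (a * b)) * b := by rw [hzc c hcS, hca, hba]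
      _ = z * ((c * z) * c) * ((a * z) * a) * (b * b) := by group
      _ = z * ((z * c) * c) * ((z * a) * a) * (b * b) := by rw [hzc c hcS, hzc a haS]
      _ = z * (z * (c * c)) * (z * (a * a)) * (b * b) := by group
      _ = z := by simp only [he3 c hc, he a ha, he2 b hb, mul_one]; rw [hzz, one_mul]
  exact hz (hff ▸ h1.sq f hfU (by rw [hff]; exact hzE))

/-- Key: in an orbit of a group of odd order all the four-groups commute. -/
theorem Good.orbit_le (hcl : ∀ x ∈ S, ∀ y ∈ S, ∀ w ∈ S, ⁅x, y⁆ * w = w * ⁅x, y⁆)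
    (h : Good S U E) (he : ∀ e ∈ E, e * e = 1) (σ : MulAut G) (hodd : Odd (orderOf σ))
    (hS : S.map σ.toMonoidHom = S) : E.map σ.toMonoidHom ≤ U := by
  by_contra hne
  have h' := h.map σ hS
  obtain ⟨z, hz1, hzE, -, hzed, hzed'⟩ := h.exists_zed h' hne
  have hzinv : z⁻¹ = z := inv_eq_of_mul_eq_one_left (he z hzE)
  rw [hzinv] at hzed'
  have hσz : σ z = z := Zed.unique h' (hzed.map σ hS) hzed'
  have h'' := h'.map σ hS
  have hzed'' : Zed S ((E.map σ.toMonoidHom).map σ.toMonoidHom) z := by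
    have := hzed'.map σ hS
    rwa [hσz] at this
  have hmap : (E.map σ.toMonoidHom).map σ.toMonoidHom = E.map (σ * σ).toMonoidHom := by
    rw [Subgroup.map_map]; rfl
  have n23 : ¬ (E.map σ.toMonoidHom).map σ.toMonoidHom ≤ U.map σ.toMonoidHom := fun hc =>
    hne ((Subgroup.map_le_map_iff_of_injective σ.injective).mp hc)
  have hel : ∀ (τ : MulAut G), ∀ e ∈ E.map τ.toMonoidHom, e * e = 1 := by
    rintro τ _ ⟨e, hee, rfl⟩
    show τ e * τ e = 1
    rw [← map_mul, he e hee, map_one]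
  by_cases h13 : (E.map σ.toMonoidHom).map σ.toMonoidHom ≤ U
  · have heq := h.eq_of_le h'' hzed'' hzE h13
    have hfix : U.map σ.toMonoidHom = U := by
      have hsq : ∀ n : ℕ, U.map ((σ * σ) ^ n).toMonoidHom = U := by
        intro n
        induction n with
        | zero => exact Subgroup.map_id U
        | succ n ih =>
          rw [pow_succ]
          show U.map (((σ * σ) ^ n).toMonoidHom.comp (σ * σ).toMonoidHom) = U
          rw [← Subgroup.map_map]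
          have : U.map (σ * σ).toMonoidHom = U := by
            conv_rhs => rw [heq]
            rw [Subgroup.map_map]; rfl
          rw [this, ih]
      obtain ⟨n, hn⟩ := exists_pow_eq_self_of_coprime
        (x := σ) (n := 2) (Nat.coprime_two_left.mpr hodd)
      have := hsq n
      have e : (σ * σ) ^ n = σ := by rw [← pow_two]; exact hn
      rwa [e] at this
    exact hne ((Subgroup.map_mono h.eU).trans hfix.le)
  · exact Good.no_triangle hcl h h' h'' he (hel σ) (fun e hee => hel (σ * σ) e (hmap ▸ hee))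
      hzed hzed' hzed'' hne h13 n23 hzE hz1

end CfsgLib.FgsB.ClassTwo
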