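import Cfsg.Agent.Lib.FT.OddOrderTheorem
import Cfsg.Agent.Lib.Involutions.ZStar.Main
import Cfsg.Agent.Lib.Chars.Burnside
import Cfsg.Agent.Lib.Base.Cores

/-!
# Elements outside a nonsolvable normal subgroup all of prime power order
-/

set_option autoImplicit false
set_option linter.unusedSectionVars false

namespace CfsgLib.FgsB.CosetPrimePower

open Subgroup Cfsg

universe u

theorem dvd_of_isPrimePow {n p q : ℕ} (h : IsPrimePow n) (hp : p.Prime) (hq : q.Prime) (hpn : p ∣ n)
    (hqn : q ∣ n) : p = q := by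
  obtain ⟨s, k, hs, -, rfl⟩ := (isPrimePow_nat_iff n).mp h
  exact ((Nat.prime_dvd_prime_iff_eq hp hs).mp (hp.dvd_of_dvd_pow hpn)).trans
    ((Nat.prime_dvd_prime_iff_eq hq hs).mp (hq.dvd_of_dvd_pow hqn)).symm

section Fpf

variable {H : Type u} [Group H] [Finite H] {V : Type u} [CommGroup V] [Finite V]

/-- A normal subgroup in which `x` is fixed-point-free, all of whose translates of `x` are
fixed-point-free on `V` and coprime to `V`, centralizes `V`. -/
theorem act_eq_of_fpf (α : H →* MulAut V) (K : Subgroup H) [K.Normal] (x : H) {q : ℕ}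
    (hq : q.Prime) (hxq : orderOf x = q) (hfK : ∀ i, x ^ i ≠ 1 → ∀ k ∈ K, Commute k (x ^ i) → k = 1)
    (hfV : ∀ k ∈ K, ∀ v : V, α (k * x) v = v → v = 1)
    (hco : (Nat.card K).Coprime (Nat.card V)) {k₀ : H} (hk₀ : k₀ ∈ K) (v : V) : α k₀ v = v := by
  classical
  haveI := Fintype.ofFinite K
  -- translates of `x` are conjugates of `x`
  have hnorm : ∀ (c : K) (i : ℕ), (c : H) * x ^ i * (c : H)⁻¹ * (x ^ i)⁻¹ ∈ K := fun c i => by
    have := ‹K.Normal›.conj_mem _ (K.inv_mem c.2) (x ^ i)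
    simpa [mul_assoc] using K.mul_mem c.2 this
  let φ : ℕ → K → K := fun i c => ⟨(c : H) * x ^ i * (c : H)⁻¹ * (x ^ i)⁻¹, hnorm c i⟩
  have hφ : ∀ i, x ^ i ≠ 1 → Function.Bijective (φ i) := by
    intro i hi
    refine Finite.injective_iff_bijective.mp fun c d hcd => ?_
    have h1 := congrArg Subtype.val hcd
    simp only [φ, mul_left_inj] at h1
    have h2 : Commute ((d : H)⁻¹ * c) (x ^ i) := by
      have h3 := congrArg (fun y => (d : H)⁻¹ * y * c) h1
      simpa [Commute, SemiconjBy, mul_assoc] using h3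
    exact (Subtype.ext (eq_of_inv_mul_eq_one (hfK i hi _ (K.mul_mem (K.inv_mem d.2) c.2) h2))).symm
  have hS : ∀ c : K, ∏ i ∈ Finset.range q, α (((c : H) * x * (c : H)⁻¹) ^ i) v = 1 := by
    intro c
    have hy : (c : H) * x * (c : H)⁻¹ = ((c : H) * x * (c : H)⁻¹ * x⁻¹) * x := by simp
    refine hfV ((c : H) * x * (c : H)⁻¹ * x⁻¹) (by simpa using hnorm c 1) _ ?_
    rw [← hy, map_prod]
    set y := (c : H) * x * (c : H)⁻¹
    have hy' : y ^ q = 1 := by rw [conj_pow, ← hxq, pow_orderOf_eq_one]; simp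
    have hg : ∀ i, α y (α (y ^ i) v) = α (y ^ (i + 1)) v := fun i => by
      rw [pow_succ', map_mul α y (y ^ i)]; rfl
    simp only [hg]
    have e1 := Finset.prod_range_succ' (fun i => α (y ^ i) v) q
    have e2 := Finset.prod_range_succ (fun i => α (y ^ i) v) q
    rw [e1, hy', ← pow_zero y] at e2
    exact mul_right_cancel e2
  have hprod : ∏ c : K, ∏ i ∈ Finset.range q, α (((c : H) * x * (c : H)⁻¹) ^ i) v = 1 :=
    Finset.prod_eq_one fun c _ => hS c
  rw [Finset.prod_comm, ← Finset.insert_erase (Finset.mem_range.mpr hq.pos),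
    Finset.prod_insert (Finset.notMem_erase 0 _)] at hprod
  simp only [pow_zero, map_one, MulAut.one_apply, Finset.prod_const, Finset.card_univ] at hprod
  set R := ∏ i ∈ (Finset.range q).erase 0, ∏ c : K, α (((c : H) * x * (c : H)⁻¹) ^ i) v with hR
  have hfix : α k₀ R = R := by
    rw [hR, map_prod]
    refine Finset.prod_congr rfl fun i hi => ?_
    have hi1 : x ^ i ≠ 1 := by
      obtain ⟨hi0, hiq⟩ := Finset.mem_erase.mp hi
      exact pow_ne_one_of_lt_orderOf hi0 (hxq ▸ Finset.mem_range.mp hiq)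
    have hrw : ∀ c : K, α (((c : H) * x * (c : H)⁻¹) ^ i) v = α ((φ i c : K) : H) (α (x ^ i) v) := by
      intro c
      rw [← MulAut.mul_apply, ← map_mul]
      simp [φ, conj_pow]
    simp only [hrw]
    rw [Fintype.prod_bijective (φ i) (hφ i hi1) _ (fun k : K => α (k : H) (α (x ^ i) v)) fun c => rfl,
      map_prod]
    refine Fintype.prod_bijective (fun k : K => (⟨k₀, hk₀⟩ : K) * k)
      (Group.mulLeft_bijective _) _ _ fun k => ?_
    rw [← MulAut.mul_apply, ← map_mul]
    rfl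
  have hw : α k₀ (v ^ Fintype.card K) = v ^ Fintype.card K := by
    rw [eq_inv_of_mul_eq_one_left hprod, map_inv, hfix]
  have h1 : (α k₀ v / v) ^ Fintype.card K = 1 := by
    rw [div_pow, ← map_pow, hw, div_self']
  refine div_eq_one.mp ?_
  rw [← orderOf_eq_one_iff]
  refine Nat.eq_one_of_dvd_coprimes hco ?_ (orderOf_dvd_natCard _)
  rw [Nat.card_eq_fintype_card]
  exact orderOf_dvd_of_pow_eq_one h1

end Fpf

variable {G : Type u} [Group G] [Finite G]

/-- Two involutions of `G/N` in a common 2-subgroup coincide when the outer 2-elements act without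
fixed points on an odd abelian group and the inner ones trivially. -/
theorem false_of_action {X H : Type u} [Group X] [Finite X] [Group H] [Finite H] (π : H →* X)
    (hπ : Function.Surjective π) {V : Type u} [CommGroup V] [Finite V] [Nontrivial V]
    (α : H →* MulAut V)
    (hout : ∀ t : H, (∃ k : ℕ, orderOf t = 2 ^ k) → π t ≠ 1 → ∀ v : V, α t v = v → v = 1)
    (hin : ∀ t : H, (∃ k : ℕ, orderOf t = 2 ^ k) → π t = 1 → ∀ v : V, α t v = v)
    (hpp : ∀ y : X, y ≠ 1 → IsPrimePow (orderOf y)) : Group.IsSolvable X := by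
  haveI : Fact (Nat.Prime 2) := ⟨Nat.prime_two⟩
  obtain ⟨T⟩ : Nonempty (Sylow 2 H) := inferInstance
  have hpow : ∀ t ∈ (T : Subgroup H), ∃ k : ℕ, orderOf t = 2 ^ k := fun t ht => by
    obtain ⟨k, hk⟩ := IsPGroup.iff_orderOf.mp T.isPGroup' ⟨t, ht⟩
    exact ⟨k, by rwa [← Subgroup.orderOf_coe] at hk⟩
  -- one involution in the image of `T`
  have hone : ∀ a b : X, orderOf a = 2 → orderOf b = 2 → a ∈ (T.mapSurjective hπ : Subgroup X) →
      b ∈ (T.mapSurjective hπ : Subgroup X) → a = b := by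
    rintro _ _ ha hb ⟨a, haT, rfl⟩ ⟨b, hbT, rfl⟩
    have hne : ∀ c : H, orderOf (π c) = 2 → π c ≠ 1 := fun c hc h => by
      rw [h, orderOf_one] at hc; omega
    have hsq : ∀ c : H, orderOf (π c) = 2 → π c * π c = 1 := fun c hc => by
      rw [← sq, ← hc, pow_orderOf_eq_one]
    have hinv : ∀ c ∈ (T : Subgroup H), orderOf (π c) = 2 → ∀ v : V, α c v = v⁻¹ := by
      intro c hcT hc v
      have h1 : ∀ w : V, α c (α c w) = w := fun w => by
        rw [← MulAut.mul_apply, ← map_mul]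
        exact hin _ (hpow _ (mul_mem hcT hcT)) (by rw [map_mul, hsq c hc]) w
      refine eq_inv_of_mul_eq_one_left (hout c (hpow c hcT) (hne c hc) _ ?_)
      rw [map_mul, h1, mul_comm]
    by_contra hab
    obtain ⟨v, hv⟩ := exists_ne (1 : V)
    refine hv (hout (a * b) (hpow _ (mul_mem haT hbT)) ?_ v ?_)
    · intro h
      rw [map_mul] at h
      exact hab ((mul_eq_one_iff_eq_inv.mp h).trans (inv_eq_of_mul_eq_one_right (hsq b hb)))
    · rw [map_mul, MulAut.mul_apply, hinv b hbT hb, map_inv, hinv a haT ha, inv_inv]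
  by_contra hns
  have heven : 2 ∣ Nat.card X := by
    by_contra h
    exact hns (CfsgLib.FT.isSolvable_of_odd (Nat.odd_iff.mpr (Nat.two_dvd_ne_zero.mp h)))
  obtain ⟨z, hz⟩ := exists_prime_orderOf_dvd_card' 2 heven
  have hiso : IsIsolatedInvolution z := by
    refine ⟨hz, fun g hc => ?_⟩
    set w := g * z * g⁻¹
    have hw : orderOf w = 2 := by
      rw [← hz]; exact MulEquiv.orderOf_eq (MulAut.conj g) z
    have hQ : IsPGroup 2 ↥(zpowers z ⊔ zpowers w) := by
      refine IsPGroup.to_sup_of_normal_right' (IsPGroup.of_card (n := 1) (by rw [Nat.card_zpowers, hz, pow_one]))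
        (IsPGroup.of_card (n := 1) (by rw [Nat.card_zpowers, hw, pow_one])) ?_
      rw [zpowers_le, mem_normalizer_iff]
      intro u
      constructor
      · rintro ⟨i, rfl⟩
        refine ⟨i, ?_⟩
        simp [(hc.zpow_right i).eq]
      · rintro ⟨i, hi⟩
        refine ⟨i, mul_left_cancel (a := z) (mul_right_cancel (b := z⁻¹) (hi.symm.trans ?_).symm)⟩
        simp [(hc.zpow_right i).eq]
    obtain ⟨S, hS⟩ := hQ.exists_le_sylow
    obtain ⟨c, hc'⟩ := MulAction.exists_smul_eq X S (T.mapSurjective hπ)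
    have hmem : ∀ u ∈ zpowers z ⊔ zpowers w, c * u * c⁻¹ ∈ (T.mapSurjective hπ : Subgroup X) := by
      intro u hu
      rw [← hc', Sylow.coe_subgroup_smul, mem_pointwise_smul_iff_inv_smul_mem]
      simpa [MulAut.smul_def, mul_assoc] using hS hu
    have := hone (c * z * c⁻¹) (c * w * c⁻¹) (by rw [← hz]; exact MulEquiv.orderOf_eq (MulAut.conj c) z)
      (by rw [← hw]; exact MulEquiv.orderOf_eq (MulAut.conj c) w)
      (hmem z (mem_sup_left (mem_zpowers z))) (hmem w (mem_sup_right (mem_zpowers w)))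
    exact (mul_left_cancel (mul_right_cancel this)).symm
  set O := oddCore X
  have hOs : Group.IsSolvable O := CfsgLib.FT.isSolvable_of_odd (CfsgLib.Base.odd_card_oddCore X)
  obtain ⟨y, p, hp, hp2, hy⟩ : ∃ (y : X ⧸ O) (p : ℕ), p.Prime ∧ p ≠ 2 ∧ orderOf y = p := by
    by_contra hall
    push Not at hall
    refine hns ?_
    have h2 : IsPGroup 2 (X ⧸ O) := by
      refine IsPGroup.iff_card.mpr ⟨_, Nat.eq_prime_pow_of_unique_prime_dvd Nat.card_pos.ne' fun {d} hd hdd => ?_⟩
      by_contra hd2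
      haveI := Fact.mk hd
      obtain ⟨y, hy⟩ := exists_prime_orderOf_dvd_card' d hdd
      exact hall y d hd hd2 hy
    haveI : Group.IsNilpotent (X ⧸ O) := h2.isNilpotent
    haveI := hOs
    exact Group.isSolvable_of_ker_le_range O.subtype (QuotientGroup.mk' O) (by simp)
  have hzne : orderOf (z : X ⧸ O) = 2 := by
    refine orderOf_eq_prime ?_ ?_
    · rw [← QuotientGroup.mk_pow, show z ^ 2 = 1 from hz ▸ pow_orderOf_eq_one z, QuotientGroup.mk_one]
    · intro h
      have h1 := (Subgroup.orderOf_dvd_natCard O ((QuotientGroup.eq_one_iff z).mp h))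
      rw [hz] at h1
      exact (Nat.not_even_iff_odd.mpr (CfsgLib.Base.odd_card_oddCore X)) (even_iff_two_dvd.mpr h1)
  obtain ⟨y, rfl⟩ := QuotientGroup.mk_surjective y
  have hcomm : Commute (z : X ⧸ O) (y : X ⧸ O) := by
    have h1 := CfsgLib.Involutions.ZStar.centralModCore hiso y
    have h2 := (QuotientGroup.eq_one_iff _).mpr h1
    simp only [QuotientGroup.mk_mul, QuotientGroup.mk_inv] at h2
    exact (mul_inv_eq_iff_eq_mul.mp (mul_inv_eq_one.mp h2) : _)
  have hord : orderOf ((z * y : X) : X ⧸ O) = 2 * p := by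
    rw [QuotientGroup.mk_mul, hcomm.orderOf_mul_eq_mul_orderOf_of_coprime
      (by rw [hzne, hy]; exact (Nat.coprime_primes Nat.prime_two hp).mpr (Ne.symm hp2)), hzne, hy]
  have hd : 2 * p ∣ orderOf (z * y) := hord ▸ orderOf_map_dvd (QuotientGroup.mk' O) (z * y)
  have hzy : z * y ≠ 1 := by
    intro h
    rw [h, orderOf_one, Nat.dvd_one] at hd
    omega
  exact hp2 (dvd_of_isPrimePow (hpp _ hzy) hp Nat.prime_two ((dvd_mul_left _ _).trans hd)
    ((dvd_mul_right _ _).trans hd))

/-- If all elements outside a nonsolvable normal subgroup `N` have prime power order then `G/N` is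
solvable. -/
theorem isSolvable_quotient (N : Subgroup G) [N.Normal] (hns : ¬ Group.IsSolvable N)
    (h : ∀ x : G, x ∉ N → IsPrimePow (orderOf x)) : Group.IsSolvable (G ⧸ N) := by
  classical
  by_contra hX
  have hpp : ∀ y : G ⧸ N, y ≠ 1 → IsPrimePow (orderOf y) := by
    intro y hy
    obtain ⟨g, rfl⟩ := QuotientGroup.mk_surjective y
    exact IsPrimePow.dvd (h g (fun hg => hy ((QuotientGroup.eq_one_iff g).mpr hg)))
      (orderOf_map_dvd (QuotientGroup.mk' N) g) (fun h1 => hy (orderOf_eq_one_iff.mp h1))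
  -- an element outside `N` does not commute with one inside of coprime order
  have hout : ∀ (x v : G) (p : ℕ), x ∉ N → v ∈ N → v ≠ 1 → p.Prime → p ∣ orderOf x →
      ¬ p ∣ orderOf v → ¬ Commute x v := by
    intro x v p hx hv hv1 hp hpx hpv hc
    have hxk : ∃ k : ℕ, orderOf x = p ^ k := by
      obtain ⟨s, k, hs, -, hk⟩ := (isPrimePow_nat_iff _).mp (h x hx)
      exact ⟨k, by rw [← hk, dvd_of_isPrimePow (h x hx) hp hs hpx
        (hk ▸ dvd_pow_self _ (by rintro rfl; rw [pow_zero] at hk; rw [← hk, Nat.dvd_one] at hpx; exact hp.ne_one hpx))]⟩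
    obtain ⟨k, hk⟩ := hxk
    have hco : (orderOf x).Coprime (orderOf v) := by
      rw [hk]; exact ((hp.coprime_iff_not_dvd).mpr hpv).pow_left k
    have hxv : x * v ∉ N := fun hm => hx (by simpa using mul_mem hm (inv_mem hv))
    have ho := hc.orderOf_mul_eq_mul_orderOf_of_coprime hco
    have hv2 : (orderOf v).minFac.Prime := Nat.minFac_prime fun h1 => hv1 (orderOf_eq_one_iff.mp h1)
    refine hpv ?_
    rw [dvd_of_isPrimePow (h _ hxv) hp hv2 (ho ▸ hpx.trans (dvd_mul_right _ _))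
      (ho ▸ (Nat.minFac_dvd _).trans (dvd_mul_left _ _))]
    exact Nat.minFac_dvd _
  obtain ⟨r, hr, hr2, hrN⟩ : ∃ r, r.Prime ∧ r ≠ 2 ∧ r ∣ Nat.card N := by
    by_contra hall
    push Not at hall
    refine hns ?_
    have h2 : IsPGroup 2 N := IsPGroup.iff_card.mpr ⟨_, Nat.eq_prime_pow_of_unique_prime_dvd
      Nat.card_pos.ne' fun {d} hd hdd => by by_contra hd2; exact hall d hd hd2 hdd⟩
    haveI : Fact (Nat.Prime 2) := ⟨Nat.prime_two⟩
    haveI : Group.IsNilpotent N := h2.isNilpotent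
    infer_instance
  haveI := Fact.mk hr
  obtain ⟨R⟩ : Nonempty (Sylow r N) := inferInstance
  set R' : Subgroup G := (R : Subgroup N).map N.subtype with hR'
  set H₀ : Set (Subgroup G) := {H | H ≤ normalizer (R' : Set G) ∧ H ⊔ N = ⊤}
  obtain ⟨H, ⟨hHR, hHN⟩, hmin⟩ := H₀.toFinite.exists_minimal ⟨_, le_rfl, R.normalizer_sup_eq_top⟩
  set K : Subgroup H := N.subgroupOf H with hK
  have hKnil : ∀ (p : ℕ) [Fact p.Prime] (P : Sylow p K), ((P : Subgroup K).map K.subtype).Normal := by
    intro p _ P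
    rw [← normalizer_eq_top_iff]
    set M := normalizer (((P : Subgroup K).map K.subtype : Subgroup H) : Set H)
    have h1 : M ⊔ K = ⊤ := P.normalizer_sup_eq_top
    have h2 : M.map H.subtype ⊔ N = ⊤ := by
      rw [eq_top_iff, ← hHN]
      refine sup_le ?_ le_sup_right
      calc H = (M ⊔ K).map H.subtype := by rw [h1, ← MonoidHom.range_eq_map, range_subtype]
        _ = M.map H.subtype ⊔ K.map H.subtype := Subgroup.map_sup _ _ _
        _ ≤ _ := sup_le_sup le_rfl (by rw [hK, subgroupOf_map_subtype]; exact inf_le_left)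
    have h3 : H ≤ M.map H.subtype := hmin ⟨(map_subtype_le M).trans hHR, h2⟩ (map_subtype_le M)
    rw [eq_top_iff]
    intro g _
    obtain ⟨m, hm, hmg⟩ := h3 g.2
    rwa [← Subtype.ext hmg]
  let π : H →* G ⧸ N := (QuotientGroup.mk' N).comp H.subtype
  have hπ : Function.Surjective π := by
    intro y
    obtain ⟨g, rfl⟩ := QuotientGroup.mk_surjective y
    obtain ⟨a, ha, b, hb, rfl⟩ := mem_sup_of_normal_right.mp (hHN.ge (mem_top g))
    exact ⟨⟨a, ha⟩, by simp [π, (QuotientGroup.eq_one_iff b).mpr hb]⟩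
  have hπ1 : ∀ t : H, π t = 1 ↔ (t : G) ∈ N := fun t => QuotientGroup.eq_one_iff (t : G)
  have hπK : ∀ t : H, π t = 1 ↔ t ∈ K := fun t => (hπ1 t).trans mem_subgroupOf.symm
  by_cases hKodd : ∃ s, s.Prime ∧ s ≠ 2 ∧ s ∣ Nat.card K
  · -- the centre of an odd Sylow subgroup of `K`
    obtain ⟨s, hs, hs2, hsK⟩ := hKodd
    haveI := Fact.mk hs
    obtain ⟨P⟩ : Nonempty (Sylow s K) := inferInstance
    set P' : Subgroup H := (P : Subgroup K).map K.subtype
    haveI : P'.Normal := hKnil s P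
    set V : Subgroup H := (center P').map P'.subtype
    haveI : V.Normal := ConjAct.normal_of_characteristic_of_normal
    haveI : IsMulCommutative V := by
      refine ⟨⟨?_⟩⟩
      rintro ⟨_, a, ha, rfl⟩ ⟨_, b, -, rfl⟩
      exact Subtype.ext (congrArg P'.subtype ((mem_center_iff.mp ha b).symm))
    have hPs : IsPGroup s P' := P.isPGroup'.map _
    haveI : Nontrivial P' := by
      rw [← Finite.one_lt_card_iff_nontrivial, card_map_of_injective K.subtype_injective,
        P.card_eq_multiplicity]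
      exact Nat.one_lt_pow (Nat.pos_iff_ne_zero.mp (hs.factorization_pos_of_dvd Nat.card_pos.ne' hsK)) hs.one_lt
    haveI : Nontrivial V := by
      haveI := hPs.center_nontrivial
      exact ((center P').equivMapOfInjective P'.subtype P'.subtype_injective).toEquiv.symm.nontrivial
    have hVN : ∀ v : V, (((v : H) : G)) ∈ N := by
      rintro ⟨_, ⟨_, k, -, rfl⟩, -, rfl⟩
      exact mem_subgroupOf.mp k.2
    have hVs : ∀ v : V, ∃ k : ℕ, orderOf ((v : H) : G) = s ^ k := by
      intro v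
      obtain ⟨k, hk⟩ := IsPGroup.iff_orderOf.mp (hPs.to_le (map_subtype_le (center P'))) v
      exact ⟨k, by rw [Subgroup.orderOf_coe, Subgroup.orderOf_coe, hk]⟩
    let _ : CommGroup V := { (inferInstance : Group V) with mul_comm := fun a b => mul_comm' a b }
    refine hX (false_of_action π hπ (MulAut.conjNormal : H →* MulAut V) ?_ ?_ hpp)
    · rintro t ⟨k, hk⟩ ht v hv
      by_contra hv1
      have hc : Commute (t : G) ((v : H) : G) := by
        have h1 := congrArg (fun u : V => ((u : H) : G)) hv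
        simp only [MulAut.conjNormal_apply, coe_mul, coe_inv] at h1
        exact mul_inv_eq_iff_eq_mul.mp h1
      have hk0 : k ≠ 0 := by
        rintro rfl
        rw [pow_zero, orderOf_eq_one_iff] at hk
        exact ht (by rw [hk, map_one])
      obtain ⟨j, hj⟩ := hVs v
      refine hout t _ 2 (fun hm => ht ((hπ1 t).mpr hm)) (hVN v)
        (fun e => hv1 (Subtype.ext (Subtype.ext e))) Nat.prime_two
        (by rw [Subgroup.orderOf_coe, hk]; exact dvd_pow_self 2 hk0) ?_ hc
      rw [hj]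
      exact fun h2 => hs2 ((Nat.prime_dvd_prime_iff_eq Nat.prime_two hs).mp
        (Nat.prime_two.dvd_of_dvd_pow h2)).symm
    · rintro t ⟨k, hk⟩ ht v
      haveI : Fact (Nat.Prime 2) := ⟨Nat.prime_two⟩
      have htK : t ∈ K := (hπK t).mp ht
      obtain ⟨Q, hQ⟩ := (IsPGroup.of_card (G := zpowers (⟨t, htK⟩ : K)) (n := k)
        (by rw [Nat.card_zpowers, Subgroup.orderOf_mk, hk])).exists_le_sylow
      set Q' : Subgroup H := (Q : Subgroup K).map K.subtype
      haveI : Q'.Normal := hKnil 2 Q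
      have htQ : t ∈ Q' := ⟨⟨t, htK⟩, hQ (mem_zpowers _), rfl⟩
      have hdisj : Disjoint Q' P' := (Q.isPGroup'.map _).disjoint_of_ne 2 s hs2.symm _ _ hPs
      have hc : Commute t (v : H) := commute_of_normal_of_disjoint Q' P' inferInstance inferInstance
        hdisj t (v : H) htQ (map_subtype_le _ v.2)
      refine Subtype.ext ?_
      rw [MulAut.conjNormal_apply, hc.eq, mul_inv_cancel_right]
  -- `K` is a `2`-group
  push Not at hKodd
  haveI : Fact (Nat.Prime 2) := ⟨Nat.prime_two⟩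
  have hK2 : IsPGroup 2 K := IsPGroup.iff_card.mpr ⟨_, Nat.eq_prime_pow_of_unique_prime_dvd
    Nat.card_pos.ne' fun {d} hd hdd => by by_contra hd2; exact hKodd d hd hd2 hdd⟩
  obtain ⟨q, hq, hq2, hqr, hqX⟩ : ∃ q, q.Prime ∧ q ≠ 2 ∧ q ≠ r ∧ q ∣ Nat.card (G ⧸ N) := by
    by_contra hall
    push Not at hall
    refine hX (CfsgLib.Chars.isSolvable_of_primeFactors_pair 2 r fun d hd hdd => ?_)
    by_contra hd2
    push Not at hd2
    exact hall d hd hd2.1 hd2.2 hdd
  haveI := Fact.mk hq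
  obtain ⟨x, hx⟩ := exists_prime_orderOf_dvd_card' (G := H) q
    (hqX.trans (Subgroup.card_dvd_of_surjective π hπ))
  have hxK : ∀ k ∈ K, π (k * x) ≠ 1 ∧ π (k * x) ^ q = 1 := by
    intro k hk
    rw [map_mul, (hπK k).mpr hk, one_mul, ← map_pow, ← hx, pow_orderOf_eq_one, map_one]
    refine ⟨fun h1 => ?_, rfl⟩
    obtain ⟨j, hj⟩ := IsPGroup.iff_orderOf.mp hK2 ⟨x, (hπK x).mp h1⟩
    rw [Subgroup.orderOf_mk, hx] at hj
    exact hq2 ((Nat.prime_dvd_prime_iff_eq hq Nat.prime_two).mp
      (hq.dvd_of_dvd_pow (show q ∣ 2 ^ j by rw [← hj])))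
  set V : Subgroup G := (center (R : Subgroup N)).map ((N.subtype).comp (R : Subgroup N).subtype)
  have hinj : Function.Injective ((N.subtype).comp (R : Subgroup N).subtype) :=
    N.subtype_injective.comp (R : Subgroup N).subtype_injective
  have hVR : V ≤ R' := by rintro _ ⟨a, -, rfl⟩; exact ⟨a, a.2, rfl⟩
  have hVr : IsPGroup r V := (R.isPGroup'.map N.subtype).to_le hVR
  haveI : Nontrivial (R : Subgroup N) := by
    rw [← Finite.one_lt_card_iff_nontrivial, R.card_eq_multiplicity]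
    exact Nat.one_lt_pow (Nat.pos_iff_ne_zero.mp (hr.factorization_pos_of_dvd Nat.card_pos.ne' hrN)) hr.one_lt
  haveI : Nontrivial V := by
    haveI := R.isPGroup'.center_nontrivial
    exact ((center (R : Subgroup N)).equivMapOfInjective _ hinj).toEquiv.symm.nontrivial
  have hVc : ∀ a ∈ V, ∀ b ∈ R', a * b = b * a := by
    rintro _ ⟨a, ha, rfl⟩ _ ⟨b, hb, rfl⟩
    have := congrArg (fun u : (R : Subgroup N) => ((u : N) : G)) (mem_center_iff.mp ha ⟨b, hb⟩).symm
    simpa using this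
  haveI : IsMulCommutative V := ⟨⟨fun a b => Subtype.ext (hVc a a.2 b (hVR b.2))⟩⟩
  have hstab : ∀ g ∈ normalizer (R' : Set G), ∀ a ∈ V, g * a * g⁻¹ ∈ V := by
    intro g hg a ha
    obtain ⟨c, hc, hce⟩ := (mem_normalizer_iff.mp hg a).mp (hVR ha)
    refine ⟨⟨c, hc⟩, ?_, hce⟩
    rw [SetLike.mem_coe, mem_center_iff]
    intro d
    apply hinj
    simp only [map_mul]
    have hd : ((d : N) : G) ∈ R' := ⟨d, d.2, rfl⟩
    have h1 := hVc a ha _ ((mem_normalizer_iff''.mp hg _).mp hd)
    change ((d : N) : G) * (c : G) = (c : G) * ((d : N) : G)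
    rw [show (c : G) = g * a * g⁻¹ from hce]
    calc ((d : N) : G) * (g * a * g⁻¹) = g * (g⁻¹ * ((d : N) : G) * g * a) * g⁻¹ := by group
      _ = g * (a * (g⁻¹ * ((d : N) : G) * g)) * g⁻¹ := by rw [h1]
      _ = (g * a * g⁻¹) * ((d : N) : G) := by group
  have hHV : H ≤ normalizer (V : Set G) := hHR.trans fun g hg => by
    rw [mem_normalizer_iff]
    refine fun a => ⟨hstab g hg a, fun ha => ?_⟩
    simpa [mul_assoc] using hstab g⁻¹ (inv_mem hg) _ ha
  let α : H →* MulAut V := (normalizerMonoidHom V).comp (inclusion hHV)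
  have hα : ∀ (t : H) (v : V), ((α t v : V) : G) = t * v * (t : G)⁻¹ := fun t v => rfl
  have hfix : ∀ (t : H) (v : V) (p : ℕ), p.Prime → p ≠ r → π t ≠ 1 → p ∣ orderOf t →
      α t v = v → v = 1 := by
    intro t v p hp hpr ht hpt hv
    by_contra hv1
    refine hout t v p (fun hm => ht ((hπ1 t).mpr hm)) ((map_subtype_le (R : Subgroup N)) (hVR v.2))
      (fun e => hv1 (Subtype.ext e)) hp (by rwa [Subgroup.orderOf_coe]) (fun hd => ?_) ?_
    · obtain ⟨j, hj⟩ := IsPGroup.iff_orderOf.mp hVr v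
      rw [Subgroup.orderOf_coe, hj] at hd
      exact hpr ((Nat.prime_dvd_prime_iff_eq hp hr).mp (hp.dvd_of_dvd_pow hd))
    · have h1 := congrArg Subtype.val hv
      rw [hα] at h1
      exact mul_inv_eq_iff_eq_mul.mp h1
  let _ : CommGroup V := { (inferInstance : Group V) with mul_comm := fun a b => mul_comm' a b }
  refine hX (false_of_action π hπ α ?_ ?_ hpp)
  · rintro t ⟨k, hk⟩ ht v hv
    refine hfix t v 2 Nat.prime_two hr2.symm ht (hk ▸ dvd_pow_self 2 ?_) hv
    rintro rfl
    rw [pow_zero, orderOf_eq_one_iff] at hk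
    exact ht (by rw [hk, map_one])
  · intro t _ ht v
    refine act_eq_of_fpf α K x hq hx ?_ ?_ ?_ ((hπK t).mp ht) v
    · intro i hi k hk hc
      by_contra hk1
      have hio : orderOf (x ^ i) = q :=
        ((Nat.dvd_prime hq).mp (hx ▸ orderOf_pow_dvd i)).resolve_left
          fun e => hi (orderOf_eq_one_iff.mp e)
      obtain ⟨j, hj⟩ := IsPGroup.iff_orderOf.mp hK2 ⟨k, hk⟩
      rw [Subgroup.orderOf_mk] at hj
      refine hout ((x ^ i : H) : G) (k : G) q (fun hm => ?_) (mem_subgroupOf.mp hk)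
        (fun e => hk1 (Subtype.ext e)) hq (by rw [Subgroup.orderOf_coe, hio]) ?_
        (hc.symm.map H.subtype)
      · obtain ⟨j', hj'⟩ := IsPGroup.iff_orderOf.mp hK2 ⟨x ^ i, mem_subgroupOf.mpr hm⟩
        rw [Subgroup.orderOf_mk, hio] at hj'
        exact hq2 ((Nat.prime_dvd_prime_iff_eq hq Nat.prime_two).mp
          (hq.dvd_of_dvd_pow (show q ∣ 2 ^ j' by rw [← hj'])))
      · rw [Subgroup.orderOf_coe, hj]
        exact fun hd => hq2 ((Nat.prime_dvd_prime_iff_eq hq Nat.prime_two).mp (hq.dvd_of_dvd_pow hd))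
    · intro k hk v hv
      refine hfix (k * x) v q hq hqr (hxK k hk).1 ?_ hv
      rw [← orderOf_eq_prime (hxK k hk).2 (hxK k hk).1]
      exact orderOf_map_dvd π _
    · obtain ⟨a, ha⟩ := IsPGroup.iff_card.mp hK2
      obtain ⟨b, hb⟩ := IsPGroup.iff_card.mp hVr
      rw [ha, hb]
      exact Nat.coprime_pow_primes _ _ Nat.prime_two hr hr2.symm

end CfsgLib.FgsB.CosetPrimePower
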