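import Mathlib

/-!
An element congruent to the identity modulo `p` on a cyclic `p`-group acts as a `p`-element.
-/

set_option autoImplicit false

namespace CfsgLib.FgsB

variable {G : Type*} [Group G]

/-- If `g` sends `x` to `x ^ a` then `g ^ n` sends `x` to `x ^ (a ^ n)`. -/
theorem conj_pow_of_conj_eq_zpow {g x : G} {a : ℤ} (h : g * x * g⁻¹ = x ^ a) (n : ℕ) :
    g ^ n * x * (g ^ n)⁻¹ = x ^ (a ^ n) := by
  induction n with
  | zero => simp
  | succ n ih =>
    calc g ^ (n + 1) * x * (g ^ (n + 1))⁻¹ = g * (g ^ n * x * (g ^ n)⁻¹) * g⁻¹ := by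
          rw [pow_succ']; group
      _ = (g * x * g⁻¹) ^ (a ^ n) := by rw [ih, conj_zpow]
      _ = x ^ (a ^ (n + 1)) := by rw [h, ← zpow_mul, pow_succ']

/-- If `a ≡ 1` modulo `p` then `g ^ p ^ j` centralizes `x`. -/
theorem commute_pow_of_conj_eq_zpow {p j : ℕ} {g x : G} {a : ℤ} (hx : orderOf x = p ^ j)
    (h : g * x * g⁻¹ = x ^ a) (ha : (p : ℤ) ∣ a - 1) : Commute (g ^ p ^ j) x := by
  have h1 := conj_pow_of_conj_eq_zpow h (p ^ j)
  have h2 : x ^ (a ^ p ^ j) = x := by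
    conv_rhs => rw [← zpow_one x]
    rw [zpow_eq_zpow_iff_modEq, hx]
    have h3 := dvd_sub_pow_of_dvd_sub ha j
    rw [one_pow] at h3
    refine (Int.modEq_iff_dvd.mpr ?_).symm
    push_cast
    exact (pow_dvd_pow (p : ℤ) (Nat.le_succ j)).trans h3
  rw [h2] at h1
  exact mul_inv_eq_iff_eq_mul.mp h1

end CfsgLib.FgsB
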