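import Cfsg.Agent.Lib.Coprime.Action2
import Cfsg.Agent.Lib.Base.Transport

/-!
# Generation of fixed points by commutator subgroups with cyclic quotients
-/

set_option autoImplicit false
set_option linter.unusedSectionVars false

namespace CfsgLib.FgsB.CyclicGeneration

open Subgroup
open scoped commutatorElement Pointwise

universe u

variable {G : Type u} [Group G] [Finite G]

/-- Averaging: a fixed element with prescribed image under every map to an abelian group. -/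
theorem exists_avg {Γ M : Subgroup G} [Fintype Γ] (hΓ : Γ ≤ normalizer (M : Set G))
    (hcop : (Nat.card Γ).Coprime (Nat.card M)) (hs : Group.IsSolvable M) (m : M) :
    ∃ e : M, (e : G) ∈ centralizer (Γ : Set G) ∧ ∀ {U : Type u} [CommGroup U] (Φ : M →* U),
      Φ e = ∏ g : Γ, Φ ⟨g * m * (g : G)⁻¹, (mem_normalizer_iff.mp (hΓ g.2) m).mp m.2⟩ := by
  classical
  let f : Γ → M := fun g => ⟨g * m * (g : G)⁻¹, (mem_normalizer_iff.mp (hΓ g.2) m).mp m.2⟩
  set L : M := ((Finset.univ : Finset Γ).toList.map f).prod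
  have hL : ∀ {U : Type u} [CommGroup U] (Φ : M →* U), Φ L = ∏ g : Γ, Φ (f g) := by
    intro U _ Φ
    rw [map_list_prod, List.map_map, ← Finset.prod_map_toList]
    rfl
  have hmap : ⁅M, M⁆ = (commutator ↥M).map M.subtype := by
    rw [_root_.commutator_def, map_commutator, ← MonoidHom.range_eq_map, range_subtype]
  have hfix : ∀ a ∈ Γ, (L : G)⁻¹ * (a * L * a⁻¹) ∈ ⁅M, M⁆ := by
    intro a ha
    let c : M →* M :=
      { toFun := fun x => ⟨a * x * a⁻¹, (mem_normalizer_iff.mp (hΓ ha) x).mp x.2⟩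
        map_one' := Subtype.ext (by simp)
        map_mul' := fun x y => Subtype.ext (by simp [mul_assoc]) }
    have h1 : Abelianization.of L = Abelianization.of (c L) := by
      have h2 := hL (Abelianization.of.comp c)
      rw [MonoidHom.comp_apply] at h2
      rw [h2, hL Abelianization.of]
      refine (Fintype.prod_equiv (Equiv.mulLeft (⟨a, ha⟩ : Γ)) _ _ fun g => ?_).symm
      refine congrArg Abelianization.of (Subtype.ext ?_)
      show a * (g * m * (g : G)⁻¹) * a⁻¹ = a * g * m * (a * g)⁻¹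
      group
    rw [hmap]
    refine ⟨L⁻¹ * c L, ?_, rfl⟩
    rw [← Abelianization.ker_of, SetLike.mem_coe, MonoidHom.mem_ker, map_mul, map_inv, h1,
      inv_mul_cancel]
  have hle : ⁅M, M⁆ ≤ M := commutator_le_self M
  obtain ⟨c, hc, hLc⟩ := CfsgLib.Coprime.exists_centralizing_in_coset
    (hΓ.trans fun g hg => CfsgLib.Base.map_conj_eq_self_iff.mp (by
      rw [map_commutator, CfsgLib.Base.map_conj_eq_self_iff.mpr hg]))
    (hcop.coprime_dvd_right (card_dvd_of_le hle)) (Or.inr (CfsgLib.Coprime.isSolvable_of_le hle hs))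
    hfix
  have hcM : c ∈ M := by simpa using mul_mem L.2 (hle hLc)
  refine ⟨⟨c, hcM⟩, hc, fun {U} _ Φ => ?_⟩
  rw [← hL Φ]
  obtain ⟨x, hx, hxe⟩ : (L : G)⁻¹ * c ∈ (commutator ↥M).map M.subtype := hmap ▸ hLc
  have : x = L⁻¹ * ⟨c, hcM⟩ := Subtype.ext hxe
  have h3 : Φ x = 1 := Abelianization.commutator_subset_ker Φ hx
  rw [this, map_mul, map_inv, inv_mul_eq_one] at h3
  exact h3.symm

theorem eq_one_of_pow_eq_one {V : Type*} [Group V] [Finite V] {n : ℕ}
    (h : n.Coprime (Nat.card V)) {v : V} (hv : v ^ n = 1) : v = 1 :=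
  orderOf_eq_one_iff.mp (Nat.eq_one_of_dvd_coprimes h (orderOf_dvd_of_pow_eq_one hv)
    (orderOf_dvd_natCard v))

variable (A B Y : Subgroup G)

/-- The subgroup generated by the pieces `C_Y(B) ∩ [C_Y(B₀), A]`. -/
def pieces : Subgroup G :=
  ⨆ B₀ : {B₀ : Subgroup G // B₀ ≤ B ∧ ∀ [(B₀.subgroupOf B).Normal], IsCyclic (↥B ⧸ B₀.subgroupOf B)},
    Y ⊓ centralizer (B : Set G) ⊓ ⁅Y ⊓ centralizer ((B₀ : Subgroup G) : Set G), A⁆

theorem pieces_le : pieces A B Y ≤ Y ⊓ centralizer (B : Set G) := iSup_le fun _ => inf_le_left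

theorem cyclic_quot {B₀ : Subgroup G} {a : G} (ha : a ∈ B) (hBa : B₀ ⊔ zpowers a = B) :
    ∀ [(B₀.subgroupOf B).Normal], IsCyclic (↥B ⧸ B₀.subgroupOf B) := by
  intro _
  refine ⟨⟨QuotientGroup.mk ⟨a, ha⟩, fun q => ?_⟩⟩
  obtain ⟨⟨b, hb⟩, rfl⟩ := QuotientGroup.mk_surjective q
  have hle : B₀ ≤ B := hBa ▸ le_sup_left
  have htop : B₀.subgroupOf B ⊔ zpowers (⟨a, ha⟩ : B) = ⊤ := by
    apply map_injective B.subtype_injective
    rw [Subgroup.map_sup, map_subgroupOf_eq_of_le hle, MonoidHom.map_zpowers,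
      ← MonoidHom.range_eq_map, range_subtype]
    exact hBa
  obtain ⟨x, hx, y, hy, hxy⟩ := mem_sup_of_normal_left.mp (htop ▸ mem_top (⟨b, hb⟩ : B))
  obtain ⟨i, rfl⟩ := hy
  refine ⟨i, ?_⟩
  show ((⟨a, ha⟩ : B) : ↥B ⧸ B₀.subgroupOf B) ^ i = _
  rw [← hxy, QuotientGroup.mk_mul, (QuotientGroup.eq_one_iff x).mpr hx, one_mul,
    QuotientGroup.mk_zpow]

variable {A B Y}

theorem piece_le {B₀ : Subgroup G} {a : G} (ha : a ∈ B) (hBa : B₀ ⊔ zpowers a = B) :
    Y ⊓ centralizer (B : Set G) ⊓ ⁅Y ⊓ centralizer (B₀ : Set G), A⁆ ≤ pieces A B Y :=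
  le_iSup_of_le ⟨B₀, hBa ▸ le_sup_left, cyclic_quot B ha hBa⟩ le_rfl

variable [IsMulCommutative A] (hB : B ≤ A) (hAY : A ≤ normalizer (Y : Set G))

include hB hAY

theorem le_centralizer_of_le {B₀ : Subgroup G} (h : B₀ ≤ A) :
    A ≤ centralizer (B₀ : Set G) :=
  (le_centralizer_iff_isMulCommutative.mpr inferInstance).trans (centralizer_le h)

theorem le_normalizer_inf_cent {B₀ : Subgroup G} (h : B₀ ≤ A) :
    A ≤ normalizer ((Y ⊓ centralizer (B₀ : Set G) : Subgroup G) : Set G) :=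
  (le_inf hAY ((le_centralizer_of_le hB hAY h).trans le_normalizer)).trans
    inf_normalizer_le_normalizer_inf

theorem mem_normalizer_pieces {g : G} (hgY : g ∈ normalizer (Y : Set G))
    (hgA : g ∈ centralizer (A : Set G)) : g ∈ normalizer (pieces A B Y : Set G) := by
  have hc : ∀ C : Subgroup G, C ≤ A → g ∈ normalizer (centralizer (C : Set G) : Set G) := fun C hC =>
    le_normalizer (centralizer_le hC hgA)
  have hn : ∀ C : Subgroup G, C ≤ A →
      g ∈ normalizer ((Y ⊓ centralizer (C : Set G) : Subgroup G) : Set G) := fun C hC =>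
    inf_normalizer_le_normalizer_inf ⟨hgY, hc C hC⟩
  refine CfsgLib.Base.map_conj_eq_self_iff.mp ?_
  rw [pieces, Subgroup.map_iSup]
  refine iSup_congr fun B₀ => ?_
  have h1 := hn B hB
  have h2 : g ∈ normalizer ((⁅Y ⊓ centralizer ((B₀ : Subgroup G) : Set G), A⁆ : Subgroup G) : Set G) := by
    refine CfsgLib.Base.map_conj_eq_self_iff.mp ?_
    rw [map_commutator, CfsgLib.Base.map_conj_eq_self_iff.mpr (hn _ (B₀.2.1.trans hB)),
      CfsgLib.Base.map_conj_eq_self_iff.mpr (centralizer_le_normalizer _ hgA)]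
  exact CfsgLib.Base.map_conj_eq_self_iff.mpr (inf_normalizer_le_normalizer_inf ⟨h1, h2⟩)

theorem commutator_inf_le_pieces :
    ⁅Y ⊓ centralizer (B : Set G), A⁆ ≤ pieces A B Y := by
  refine le_trans (le_inf (CfsgLib.Coprime.commutator_le_of_le_normalizer
    (le_normalizer_inf_cent hB hAY hB)) le_rfl) (piece_le (a := 1) (one_mem B) ?_)
  simp

variable (hcop : (Nat.card A).Coprime (Nat.card Y)) (hsY : Group.IsSolvable Y) (hYA : ⁅Y, A⁆ = Y)

include hcop hsY hYA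

/-- The main step along the derived series. -/
theorem step {D : Subgroup G} (hDY : D ≤ Y) (hYD : Y ≤ normalizer (D : Set G))
    (hAD : A ≤ normalizer (D : Set G))
    (H : Y ⊓ centralizer (B : Set G) ≤ pieces A B Y ⊔ D)
    (hsrc : D = Y ∨ ∃ M : Subgroup G, M ≤ Y ∧ A ≤ normalizer (M : Set G) ∧ D = ⁅M, M⁆) :
    D ⊓ centralizer (A : Set G) ≤ pieces A B Y ⊔ ⁅D, D⁆ := by
  classical
  haveI := Fintype.ofFinite A
  set Z := pieces A B Y with hZ
  have hZY : Z ≤ Y := (pieces_le A B Y).trans inf_le_left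
  have hcB : centralizer (A : Set G) ≤ centralizer (B : Set G) := centralizer_le hB
  set R := (Z ⊓ D) ⊔ ⁅D, D⁆ with hR
  have hRD : R ≤ D := sup_le inf_le_right (commutator_le_self D)
  haveI hRn : (R.subgroupOf D).Normal := by
    refine ⟨fun x hx g => mem_subgroupOf.mpr ?_⟩
    have h1 : ((g * x * g⁻¹ : D) : G) = ⁅(g : G), (x : G)⁆ * x := by
      simp [commutatorElement_def]
    rw [h1]
    exact mul_mem (mem_sup_right (commutator_mem_commutator g.2 x.2)) (mem_subgroupOf.mp hx)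
  let _ : CommGroup (↥D ⧸ R.subgroupOf D) :=
    { (inferInstance : Group (↥D ⧸ R.subgroupOf D)) with
      mul_comm := fun a b => by
        obtain ⟨a, rfl⟩ := QuotientGroup.mk_surjective a
        obtain ⟨b, rfl⟩ := QuotientGroup.mk_surjective b
        refine commutatorElement_eq_one_iff_mul_comm.mp ((map_commutatorElement
          (QuotientGroup.mk' (R.subgroupOf D)) a b).symm.trans
            ((QuotientGroup.eq_one_iff (N := R.subgroupOf D) ⁅a, b⁆).mpr ?_))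
        exact mem_subgroupOf.mpr (mem_sup_right (commutator_mem_commutator a.2 b.2)) }
  let m : D →* ↥D ⧸ R.subgroupOf D := QuotientGroup.mk' _
  have hmR : ∀ d : D, (d : G) ∈ R → m d = 1 := fun d hd => (QuotientGroup.eq_one_iff d).mpr hd
  let π : D →* ↥D ⧸ R.subgroupOf D :=
    { toFun := fun d => ∏ a : A, m ⟨a * d * (a : G)⁻¹, (mem_normalizer_iff.mp (hAD a.2) d).mp d.2⟩
      map_one' := Finset.prod_eq_one fun a _ => hmR _ (by simp)
      map_mul' := fun x y => by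
        rw [← Finset.prod_mul_distrib]
        refine Finset.prod_congr rfl fun a _ => ?_
        rw [← map_mul]
        exact congrArg m (Subtype.ext (by simp [mul_assoc])) }
  have hπA : ∀ (b : G) (hb : b ∈ A) (d : D),
      π ⟨b * d * b⁻¹, (mem_normalizer_iff.mp (hAD hb) d).mp d.2⟩ = π d := by
    intro b hb d
    refine Fintype.prod_equiv (Equiv.mulRight (⟨b, hb⟩ : A)) _ _ fun a => ?_
    refine congrArg m (Subtype.ext ?_)
    show a * (b * d * b⁻¹) * (a : G)⁻¹ = a * b * d * (a * b)⁻¹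
    group
  have hAZ : A ≤ normalizer (Z : Set G) := fun a ha => mem_normalizer_pieces hB hAY (hAY ha)
    (le_centralizer_iff_isMulCommutative.mpr inferInstance ha)
  have hAD' : A ≤ normalizer ((⁅D, D⁆ : Subgroup G) : Set G) := fun g hg => by
    refine CfsgLib.Base.map_conj_eq_self_iff.mp ?_
    rw [map_commutator, CfsgLib.Base.map_conj_eq_self_iff.mpr (hAD hg)]
  have hYD' : Y ≤ normalizer ((⁅D, D⁆ : Subgroup G) : Set G) := fun g hg => by
    refine CfsgLib.Base.map_conj_eq_self_iff.mp ?_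
    rw [map_commutator, CfsgLib.Base.map_conj_eq_self_iff.mpr (hYD hg)]
  have hπR : ∀ d : D, (d : G) ∈ R → π d = 1 := fun d hd => Finset.prod_eq_one fun a _ => hmR _
    ((mem_normalizer_iff.mp (CfsgLib.Coprime.le_normalizer_sup_sup
      (CfsgLib.Coprime.le_normalizer_inf_inf hAZ hAD) hAD' a.2) d).mp hd)
  have hsD : Group.IsSolvable D := CfsgLib.Coprime.isSolvable_of_le hDY hsY
  have hcopV : ∀ n : ℕ, n ∣ Nat.card A → n.Coprime (Nat.card (↥D ⧸ R.subgroupOf D)) := fun n hn =>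
    (hcop.coprime_dvd_left hn).coprime_dvd_right
      ((card_quotient_dvd_card _).trans (card_dvd_of_le hDY))
  suffices htop : ∀ d : D, π d = 1 by
    intro d hd
    have h := htop ⟨d, hd.1⟩
    have h2 : π ⟨d, hd.1⟩ = m ⟨d, hd.1⟩ ^ Nat.card A := by
      rw [Nat.card_eq_fintype_card]
      refine Finset.prod_eq_pow_card fun a _ => ?_
      refine congrArg m (Subtype.ext ?_)
      show a * d * (a : G)⁻¹ = d
      rw [mem_centralizer_iff.mp hd.2 a a.2, mul_inv_cancel_right]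
    rw [h2] at h
    have h3 := eq_one_of_pow_eq_one (hcopV _ dvd_rfl) h
    have h4 : R ≤ Z ⊔ ⁅D, D⁆ := sup_le_sup_right inf_le_left _
    exact h4 (mem_subgroupOf.mp ((QuotientGroup.eq_one_iff _).mp h3))
  have hlift : ∀ X : Subgroup G, X ≤ D → (∀ x (hx : x ∈ D), x ∈ X → π ⟨x, hx⟩ = 1) →
      X = D → ∀ d : D, π d = 1 := fun X _ h he d => h d d.2 (he.ge d.2)
  rcases hsrc with hY | ⟨M, hMY, hAM, hDM⟩
  · intro d
    have hle : ⁅Y, A⁆ ≤ (π.ker.map D.subtype) := by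
      refine commutator_le.mpr fun y hy a ha => ⟨⟨y, hY.ge hy⟩ *
        ⟨a * y⁻¹ * a⁻¹, (mem_normalizer_iff.mp (hAD ha) _).mp (inv_mem (hY.ge hy))⟩, ?_, ?_⟩
      · rw [SetLike.mem_coe, MonoidHom.mem_ker, map_mul]
        have h := hπA a ha (⟨y, hY.ge hy⟩ : D)⁻¹
        simp only [coe_inv] at h
        rw [h, map_inv, mul_inv_cancel]
      · simp [commutatorElement_def, mul_assoc]
    obtain ⟨x, hx, hxe⟩ := hle (hYA.ge (hDY d.2))
    rwa [show x = d from Subtype.ext hxe] at hx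
  -- elements of the pieces
  have hW : ∀ B₀ : Subgroup G, ∀ b ∈ B, B₀ ⊔ zpowers b = B → ∀ d : D,
      (d : G) ∈ ⁅Y ⊓ centralizer (B₀ : Set G), A⁆ → π d = 1 := by
    intro B₀ b hb hBb d hd
    set M₀ := ⁅Y ⊓ centralizer (B₀ : Set G), A⁆ ⊓ D
    obtain ⟨e, he, hΦ⟩ := exists_avg (M := M₀)
      (CfsgLib.Coprime.le_normalizer_inf_inf (normalizer_commutator_ge_right _ A) hAD)
      (hcop.coprime_dvd_right (card_dvd_of_le (inf_le_right.trans hDY)))
      (CfsgLib.Coprime.isSolvable_of_le inf_le_right hsD) ⟨d, hd, d.2⟩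
    have h := hΦ (m.comp (inclusion inf_le_right))
    show π d = 1
    refine h.symm.trans (hmR _ (mem_sup_left ⟨piece_le hb hBb ⟨⟨hDY e.2.2, hcB he⟩, e.2.1⟩, e.2.2⟩))
  have hmZ : ∀ c ∈ Y ⊓ centralizer (A : Set G), ∃ z ∈ Z, ∃ d ∈ D, c = z * d := by
    intro c hc
    obtain ⟨z, hz, d, hd, rfl⟩ : c ∈ (Z : Set G) * (D : Set G) := by
      rw [← coe_mul_of_left_le_normalizer_right Z D (hZY.trans hYD)]
      exact H ⟨hc.1, hcB hc.2⟩
    exact ⟨z, hz, d, hd, rfl⟩
  have hcommD : ∀ (d : D) {y : G}, y ∈ Y → ⁅(d : G), y⁆ ∈ D := fun d y hy => by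
    rw [commutatorElement_def, mul_assoc, mul_assoc, ← mul_assoc y]
    exact mul_mem d.2 ((mem_normalizer_iff.mp (hYD hy) _).mp (inv_mem d.2))
  have hmconj : ∀ (g x : D), m (g * x * g⁻¹) = m x := fun g x => by
    rw [map_mul, map_mul, map_inv, mul_inv_cancel_comm]
  let ψ : ∀ y, y ∈ Y → (D →* ↥D ⧸ R.subgroupOf D) := fun y hy =>
    MonoidHom.mk' (fun d => m ⟨⁅(d : G), y⁆, hcommD d hy⟩) fun x t => by
      rw [← hmconj x ⟨⁅(t : G), y⁆, hcommD t hy⟩, mul_comm, ← map_mul]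
      refine congrArg m (Subtype.ext ?_)
      show ⁅(x : G) * t, y⁆ = x * ⁅(t : G), y⁆ * (x : G)⁻¹ * ⁅(x : G), y⁆
      simp only [commutatorElement_def]
      group
  have hπconj : ∀ (g x : D), π (g * x * g⁻¹) = π x := fun g x => by
    rw [map_mul, map_mul, map_inv, mul_inv_cancel_comm]
  -- every commutator with `Y` is killed
  let P : Set G := {y | ∃ hy : y ∈ Y, ∀ d : D, π ⟨⁅(d : G), y⁆, hcommD d hy⟩ = 1}
  have hPmul : ∀ x ∈ P, ∀ y ∈ P, x * y ∈ P := by
    rintro x ⟨hx, hx1⟩ y ⟨hy, hy1⟩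
    refine ⟨mul_mem hx hy, fun d => ?_⟩
    set e : D := ⟨⁅(d : G), y⁆, hcommD d hy⟩
    have h1 : (⟨⁅(d : G), x * y⁆, hcommD d (mul_mem hx hy)⟩ : D) =
        ⟨⁅(d : G), x⁆, hcommD d hx⟩ * ((⟨⁅(e : G), x⁆, hcommD e hx⟩)⁻¹ * e) := Subtype.ext (by
      show ⁅(d : G), x * y⁆ = ⁅(d : G), x⁆ * (⁅⁅(d : G), y⁆, x⁆⁻¹ * ⁅(d : G), y⁆)
      simp only [commutatorElement_def]
      group)
    rw [h1, map_mul, map_mul, map_inv, hx1 d, hx1 e, hy1 d]
    simp
  have hPone : (1 : G) ∈ P := ⟨one_mem Y, fun d => hπR _ (by simp)⟩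
  let Pg : Subgroup G :=
    { carrier := P
      one_mem' := hPone
      mul_mem' := fun {x y} hx hy => hPmul x hx y hy
      inv_mem' := fun {x} hx => by
        have : ∀ k : ℕ, x ^ k ∈ P := fun k => by
          induction k with
          | zero => simpa using hPone
          | succ k ih => rw [pow_succ]; exact hPmul _ ih _ hx
        rw [inv_eq_of_mul_eq_one_right (b := x ^ (orderOf x - 1)) (by
          rw [← pow_succ', Nat.sub_add_cancel (orderOf_pos x), pow_orderOf_eq_one])]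
        exact this _ }
  have hPY : Y ≤ Pg := by
    haveI : IsMulCommutative B := ⟨⟨fun a b => Subtype.ext (congrArg (Subtype.val : ↥A → G)
      ((inferInstance : IsMulCommutative A).is_comm.comm ⟨a, hB a.2⟩ ⟨b, hB b.2⟩))⟩⟩
    refine CfsgLib.Coprime.le_of_cyclic_quotient (A := B) (hB.trans hAY)
      (hcop.coprime_dvd_left (card_dvd_of_le hB)) fun B₀ hB₀ ⟨b, hb, hBb⟩ => ?_
    rw [← CfsgLib.Coprime.commutator_sup_centralizer (A := A)
      (le_normalizer_inf_cent hB hAY (hB₀.trans hB))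
      (hcop.coprime_dvd_right (card_dvd_of_le inf_le_left))
      (Or.inr (CfsgLib.Coprime.isSolvable_of_le inf_le_left hsY))]
    refine sup_le (fun w hw => ?_) (fun c hc => ?_)
    · have hwC : w ∈ Y ⊓ centralizer (B₀ : Set G) := CfsgLib.Coprime.commutator_le_of_le_normalizer
        (le_normalizer_inf_cent hB hAY (hB₀.trans hB)) hw
      refine ⟨hwC.1, fun d => ?_⟩
      haveI := Fintype.ofFinite B₀
      obtain ⟨e, he, hΦ⟩ := exists_avg (Γ := B₀) (M := D) ((hB₀.trans hB).trans hAD)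
        ((hcop.coprime_dvd_left (card_dvd_of_le (hB₀.trans hB))).coprime_dvd_right
          (card_dvd_of_le hDY)) hsD d
      let θ : D →* ↥D ⧸ R.subgroupOf D :=
        MonoidHom.mk' (fun x => π ⟨⁅(x : G), w⁆, hcommD x hwC.1⟩) fun x t => by
          rw [← hπconj x ⟨⁅(t : G), w⁆, hcommD t hwC.1⟩, mul_comm, ← map_mul]
          refine congrArg π (Subtype.ext ?_)
          show ⁅(x : G) * t, w⁆ = x * ⁅(t : G), w⁆ * (x : G)⁻¹ * ⁅(x : G), w⁆
          simp only [commutatorElement_def]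
          group
      have h := hΦ θ
      have hterm : ∀ g : B₀,
          θ ⟨g * d * (g : G)⁻¹, (mem_normalizer_iff.mp (hAD (hB (hB₀ g.2))) d).mp d.2⟩ =
            π ⟨⁅(d : G), w⁆, hcommD d hwC.1⟩ := fun g => by
        rw [← hπA g (hB (hB₀ g.2)) ⟨⁅(d : G), w⁆, hcommD d hwC.1⟩]
        refine congrArg π (Subtype.ext ?_)
        show ⁅(g : G) * d * (g : G)⁻¹, w⁆ = g * ⁅(d : G), w⁆ * (g : G)⁻¹
        rw [← MulAut.conj_apply, ← MulAut.conj_apply, map_commutatorElement]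
        congr 1
        rw [MulAut.conj_apply, mem_centralizer_iff.mp hwC.2 g g.2, mul_inv_cancel_right]
      rw [Finset.prod_congr rfl (fun g _ => hterm g), Finset.prod_const, Finset.card_univ,
        ← Nat.card_eq_fintype_card] at h
      refine eq_one_of_pow_eq_one (hcopV _ (card_dvd_of_le (hB₀.trans hB))) (h.symm.trans ?_)
      refine hW B₀ b hb hBb _ ?_
      show ⁅(e : G), w⁆ ∈ _
      rw [commutatorElement_def]
      exact mul_mem ((mem_normalizer_iff.mp (normalizer_commutator_ge_left _ A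
        (⟨hDY e.2, he⟩ : (e : G) ∈ Y ⊓ centralizer (B₀ : Set G))) w).mp hw) (inv_mem hw)
    · refine ⟨hc.1.1, fun d => ?_⟩
      obtain ⟨e, he, hΦ⟩ := exists_avg (Γ := A) (M := D) hAD
        (hcop.coprime_dvd_right (card_dvd_of_le hDY)) hsD d
      have h := hΦ (ψ c hc.1.1)
      have h2 : π ⟨⁅(d : G), c⁆, hcommD d hc.1.1⟩ = ψ c hc.1.1 e := by
        rw [h]
        refine Finset.prod_congr rfl fun a _ => congrArg m (Subtype.ext ?_)
        show (a : G) * ⁅(d : G), c⁆ * (a : G)⁻¹ = ⁅(a : G) * d * (a : G)⁻¹, c⁆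
        rw [← MulAut.conj_apply, ← MulAut.conj_apply, map_commutatorElement]
        congr 1
        rw [MulAut.conj_apply, mem_centralizer_iff.mp hc.2 a a.2, mul_inv_cancel_right]
      rw [h2]
      obtain ⟨z, hz, t, ht, hct⟩ := hmZ c ⟨hc.1.1, hc.2⟩
      refine hmR _ ?_
      show ⁅(e : G), c⁆ ∈ R
      have h3 : ⁅(e : G), c⁆ = ⁅(e : G), z⁆ * (z * ⁅(e : G), t⁆ * z⁻¹) := by
        rw [hct]; simp only [commutatorElement_def]; group
      rw [h3]
      refine mul_mem (mem_sup_left ⟨?_, hcommD e (hZY hz)⟩)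
        (mem_sup_right ((mem_normalizer_iff.mp (hYD' (hZY hz)) _).mp
          (commutator_mem_commutator e.2 ht)))
      rw [commutatorElement_def]
      exact mul_mem ((mem_normalizer_iff.mp
        (mem_normalizer_pieces hB hAY (le_normalizer (hDY e.2)) he) z).mp hz) (Z.inv_mem hz)
  have hstep1 : ∀ (d : D) {y : G} (hy : y ∈ Y), π ⟨⁅(d : G), y⁆, hcommD d hy⟩ = 1 :=
    fun d y hy => (hPY hy).2 d
  have hπY : ∀ (y : G) (hy : y ∈ Y) (d : D),
      π ⟨y * d * y⁻¹, (mem_normalizer_iff.mp (hYD hy) d).mp d.2⟩ = π d := by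
    intro y hy d
    have h1 : (⟨y * d * y⁻¹, (mem_normalizer_iff.mp (hYD hy) d).mp d.2⟩ : D) =
        (⟨⁅(d : G), y⁆, hcommD d hy⟩)⁻¹ * d := Subtype.ext (by
      show y * d * y⁻¹ = ⁅(d : G), y⁆⁻¹ * d
      simp only [commutatorElement_def]
      group)
    rw [h1, map_mul, map_inv, hstep1 d hy]
    simp
  have hMD : ∀ {x t : G}, x ∈ M → t ∈ M → ⁅x, t⁆ ∈ D := fun hx ht =>
    hDM ▸ commutator_mem_commutator hx ht
  have hχl : ∀ {x y t : G} (hx : x ∈ M) (hy : y ∈ M) (ht : t ∈ M),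
      π ⟨⁅x * y, t⁆, hMD (mul_mem hx hy) ht⟩ = π ⟨⁅x, t⁆, hMD hx ht⟩ * π ⟨⁅y, t⁆, hMD hy ht⟩ := by
    intro x y t hx hy ht
    rw [← hπY x (hMY hx) ⟨⁅y, t⁆, hMD hy ht⟩, mul_comm, ← map_mul]
    refine congrArg π (Subtype.ext ?_)
    show ⁅x * y, t⁆ = x * ⁅y, t⁆ * x⁻¹ * ⁅x, t⁆
    simp only [commutatorElement_def]
    group
  have hχr : ∀ {x y t : G} (hx : x ∈ M) (hy : y ∈ M) (ht : t ∈ M),
      π ⟨⁅t, x * y⁆, hMD ht (mul_mem hx hy)⟩ = π ⟨⁅t, x⁆, hMD ht hx⟩ * π ⟨⁅t, y⁆, hMD ht hy⟩ := by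
    intro x y t hx hy ht
    rw [← hπY x (hMY hx) ⟨⁅t, y⁆, hMD ht hy⟩, ← map_mul]
    refine congrArg π (Subtype.ext ?_)
    show ⁅t, x * y⁆ = ⁅t, x⁆ * (x * ⁅t, y⁆ * x⁻¹)
    simp only [commutatorElement_def]
    group
  have hsM : Group.IsSolvable M := CfsgLib.Coprime.isSolvable_of_le hMY hsY
  let K : Subgroup G :=
    { carrier := {x | ∃ hx : x ∈ M, ∀ t (ht : t ∈ M), π ⟨⁅x, t⁆, hMD hx ht⟩ = 1}
      one_mem' := ⟨one_mem M, fun t _ => hπR _ (by simp)⟩
      mul_mem' := by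
        rintro x y ⟨hx, hx1⟩ ⟨hy, hy1⟩
        exact ⟨mul_mem hx hy, fun t ht => by rw [hχl hx hy ht, hx1 t ht, hy1 t ht, one_mul]⟩
      inv_mem' := by
        rintro x ⟨hx, hx1⟩
        refine ⟨inv_mem hx, fun t ht => ?_⟩
        have h := hχl (inv_mem hx) hx ht
        rw [hx1 t ht, mul_one] at h
        rw [← h]
        exact hπR _ (by simp) }
  have hMK : M ≤ K := by
    haveI : IsMulCommutative B := ⟨⟨fun a b => Subtype.ext (congrArg (Subtype.val : ↥A → G)
      ((inferInstance : IsMulCommutative A).is_comm.comm ⟨a, hB a.2⟩ ⟨b, hB b.2⟩))⟩⟩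
    refine CfsgLib.Coprime.le_of_cyclic_quotient (A := B) (hB.trans hAM)
      ((hcop.coprime_dvd_left (card_dvd_of_le hB)).coprime_dvd_right (card_dvd_of_le hMY))
      fun B₀ hB₀ ⟨b, hb, hBb⟩ => ?_
    intro x hx
    refine ⟨hx.1, fun t ht => ?_⟩
    haveI := Fintype.ofFinite B₀
    obtain ⟨e, he, hΦ⟩ := exists_avg (Γ := B₀) (M := M) ((hB₀.trans hB).trans hAM)
      ((hcop.coprime_dvd_left (card_dvd_of_le (hB₀.trans hB))).coprime_dvd_right
        (card_dvd_of_le hMY)) hsM ⟨t, ht⟩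
    let θ : M →* ↥D ⧸ R.subgroupOf D :=
      MonoidHom.mk' (fun y => π ⟨⁅x, (y : G)⁆, hMD hx.1 y.2⟩) fun y y' => hχr y.2 y'.2 hx.1
    have h := hΦ θ
    have hterm : ∀ g : B₀,
        θ ⟨g * t * (g : G)⁻¹, (mem_normalizer_iff.mp (hAM (hB (hB₀ g.2))) t).mp ht⟩ =
          π ⟨⁅x, t⁆, hMD hx.1 ht⟩ := fun g => by
      rw [← hπA g (hB (hB₀ g.2)) ⟨⁅x, t⁆, hMD hx.1 ht⟩]
      refine congrArg π (Subtype.ext ?_)
      show ⁅x, (g : G) * t * (g : G)⁻¹⁆ = g * ⁅x, t⁆ * (g : G)⁻¹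
      rw [← MulAut.conj_apply, ← MulAut.conj_apply, map_commutatorElement]
      congr 1
      rw [MulAut.conj_apply, mem_centralizer_iff.mp hx.2 g g.2, mul_inv_cancel_right]
    rw [Finset.prod_congr rfl (fun g _ => hterm g), Finset.prod_const, Finset.card_univ,
      ← Nat.card_eq_fintype_card] at h
    refine eq_one_of_pow_eq_one (hcopV _ (card_dvd_of_le (hB₀.trans hB))) (h.symm.trans ?_)
    -- both arguments now centralise `B₀`
    show π ⟨⁅x, (e : G)⁆, hMD hx.1 e.2⟩ = 1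
    have hCn : A ≤ normalizer ((M ⊓ centralizer (B₀ : Set G) : Subgroup G) : Set G) :=
      (le_inf hAM ((le_centralizer_of_le hB hAY (hB₀.trans hB)).trans le_normalizer)).trans
        inf_normalizer_le_normalizer_inf
    have hWW : ∀ w ∈ ⁅M ⊓ centralizer (B₀ : Set G), A⁆, ∀ y ∈ M ⊓ centralizer (B₀ : Set G),
        ∀ (hwy : ⁅w, y⁆ ∈ D), π ⟨⁅w, y⁆, hwy⟩ = 1 := by
      intro w hw y hy hwy
      refine hW B₀ b hb hBb _ ?_
      have hw' : w ∈ ⁅Y ⊓ centralizer (B₀ : Set G), A⁆ :=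
        commutator_mono (inf_le_inf_right _ hMY) le_rfl hw
      show ⁅w, y⁆ ∈ _
      rw [commutatorElement_def, mul_assoc, mul_assoc, ← mul_assoc y]
      exact mul_mem hw' ((mem_normalizer_iff.mp (normalizer_commutator_ge_left _ A
        (⟨hMY hy.1, hy.2⟩ : y ∈ Y ⊓ centralizer (B₀ : Set G))) _).mp (inv_mem hw'))
    have hcopC : (Nat.card A).Coprime (Nat.card ↥(M ⊓ centralizer (B₀ : Set G))) :=
      hcop.coprime_dvd_right (card_dvd_of_le (inf_le_left.trans hMY))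
    have hsC : Group.IsSolvable A ∨ Group.IsSolvable ↥(M ⊓ centralizer (B₀ : Set G)) :=
      Or.inr (CfsgLib.Coprime.isSolvable_of_le inf_le_left hsM)
    obtain ⟨c, hc, hxc⟩ := CfsgLib.Coprime.exists_commutator_mul_centralizer hCn hcopC hsC hx
    obtain ⟨c', hc', hec⟩ := CfsgLib.Coprime.exists_commutator_mul_centralizer hCn hcopC hsC
      (⟨e.2, he⟩ : (e : G) ∈ M ⊓ centralizer (B₀ : Set G))
    have hxcM : x * c⁻¹ ∈ M := mul_mem hx.1 (inv_mem hc.1.1)
    have hecM : (e : G) * c'⁻¹ ∈ M := mul_mem e.2 (inv_mem hc'.1.1)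
    have h1 : π ⟨⁅x, (e : G)⁆, hMD hx.1 e.2⟩ = π ⟨⁅c, (e : G)⁆, hMD hc.1.1 e.2⟩ := by
      have h2 := hχl hxcM hc.1.1 e.2
      rw [hWW _ hxc e ⟨e.2, he⟩, one_mul] at h2
      rw [← h2]
      exact congrArg π (Subtype.ext (by simp))
    have h2 : π ⟨⁅c, (e : G)⁆, hMD hc.1.1 e.2⟩ = π ⟨⁅c, c'⁆, hMD hc.1.1 hc'.1.1⟩ := by
      have h3 := hχr hecM hc'.1.1 hc.1.1
      have h4 : π ⟨⁅c, (e : G) * c'⁻¹⁆, hMD hc.1.1 hecM⟩ = 1 := by
        have h5 := hWW _ hec c hc.1 (hMD hecM hc.1.1)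
        rw [← inv_inj, ← map_inv, inv_one]
        refine Eq.trans (congrArg π (Subtype.ext ?_)) h5
        show ⁅c, (e : G) * c'⁻¹⁆⁻¹ = _
        rw [commutatorElement_inv]
      rw [h4, one_mul] at h3
      rw [← h3]
      exact congrArg π (Subtype.ext (by simp))
    rw [h1, h2]
    obtain ⟨z, hz, t₁, ht₁, hct⟩ := hmZ c ⟨hMY hc.1.1, hc.2⟩
    obtain ⟨z', hz', t₂, ht₂, hct'⟩ := hmZ c' ⟨hMY hc'.1.1, hc'.2⟩
    have hDleM : D ≤ M := hDM.le.trans (commutator_le_self M)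
    have hzM : z ∈ M := by
      rw [show z = c * t₁⁻¹ by rw [hct, mul_inv_cancel_right]]
      exact mul_mem hc.1.1 (inv_mem (hDleM ht₁))
    have hzM' : z' ∈ M := by
      rw [show z' = c' * t₂⁻¹ by rw [hct', mul_inv_cancel_right]]
      exact mul_mem hc'.1.1 (inv_mem (hDleM ht₂))
    subst hct hct'
    rw [hχl hzM (hDleM ht₁) hc'.1.1, hstep1 ⟨t₁, ht₁⟩ (hMY hc'.1.1), mul_one,
      hχr hzM' (hDleM ht₂) hzM]
    have h6 : π ⟨⁅z, t₂⁆, hMD hzM (hDleM ht₂)⟩ = 1 := by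
      rw [← inv_inj, ← map_inv, inv_one]
      refine Eq.trans (congrArg π (Subtype.ext ?_)) (hstep1 ⟨t₂, ht₂⟩ (hMY hzM))
      show ⁅z, t₂⁆⁻¹ = _
      rw [commutatorElement_inv]
    rw [h6, mul_one]
    refine hπR _ (mem_sup_left ⟨?_, hMD hzM hzM'⟩)
    show ⁅z, z'⁆ ∈ Z
    rw [commutatorElement_def]
    exact mul_mem (mul_mem (mul_mem hz hz') (inv_mem hz)) (inv_mem hz')
  intro d
  have hle : ⁅M, M⁆ ≤ π.ker.map D.subtype := commutator_le.mpr fun x hx t ht =>
    ⟨⟨⁅x, t⁆, hMD hx ht⟩, (hMK hx).2 t ht, rfl⟩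
  obtain ⟨x, hx, hxe⟩ := hle (hDM.le d.2)
  rwa [show x = d from Subtype.ext hxe] at hx

theorem eq_pieces : Y ⊓ centralizer (B : Set G) = pieces A B Y := by
  refine le_antisymm ?_ (pieces_le A B Y)
  let D : ℕ → Subgroup G := fun k => (derivedSeries Y k).map Y.subtype
  have hDs : ∀ k, D (k + 1) = ⁅D k, D k⁆ := fun k => by
    simp only [D, derivedSeries_succ, map_commutator]
  have hD0 : D 0 = Y := by simp [D, ← MonoidHom.range_eq_map]
  have hDY : ∀ k, D k ≤ Y := fun k => map_subtype_le _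
  have hn : ∀ k, Y ⊔ A ≤ normalizer (D k : Set G) := by
    intro k
    induction k with
    | zero => rw [hD0]; exact sup_le le_normalizer hAY
    | succ k ih =>
      rw [hDs]
      intro g hg
      refine CfsgLib.Base.map_conj_eq_self_iff.mp ?_
      rw [map_commutator, CfsgLib.Base.map_conj_eq_self_iff.mpr (ih hg)]
  have hk : ∀ k, Y ⊓ centralizer (B : Set G) ≤ pieces A B Y ⊔ D k := by
    intro k
    induction k with
    | zero => rw [hD0]; exact inf_le_left.trans le_sup_right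
    | succ k ih =>
      have hfix := step hB hAY hcop hsY hYA (hDY k) (le_sup_left.trans (hn k))
        (le_sup_right.trans (hn k)) ih (by
          rcases k with _ | j
          · exact Or.inl hD0
          · exact Or.inr ⟨D j, hDY j, le_sup_right.trans (hn j), hDs j⟩)
      intro x hx
      have hZY : pieces A B Y ≤ normalizer (D k : Set G) :=
        ((pieces_le A B Y).trans inf_le_left).trans (le_sup_left.trans (hn k))
      obtain ⟨z, hz, d, hd, rfl⟩ : x ∈ (pieces A B Y : Set G) * (D k : Set G) := by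
        rw [← coe_mul_of_left_le_normalizer_right _ _ hZY]
        exact ih hx
      have hdB : d ∈ centralizer (B : Set G) := by
        simpa using (centralizer (B : Set G)).mul_mem ((centralizer (B : Set G)).inv_mem (pieces_le A B Y hz).2) hx.2
      refine mul_mem (mem_sup_left hz) ?_
      rw [hDs]
      obtain ⟨c, hc, hdc⟩ := CfsgLib.Coprime.exists_commutator_mul_centralizer
        (K := D k ⊓ centralizer (B : Set G)) (A := A)
        ((le_inf (le_sup_right.trans (hn k)) ((le_centralizer_of_le hB hAY hB).trans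
          le_normalizer)).trans inf_normalizer_le_normalizer_inf)
        (hcop.coprime_dvd_right (card_dvd_of_le (inf_le_left.trans (hDY k))))
        (Or.inr (CfsgLib.Coprime.isSolvable_of_le (inf_le_left.trans (hDY k)) hsY)) ⟨hd, hdB⟩
      have h1 : d * c⁻¹ ∈ pieces A B Y :=
        commutator_inf_le_pieces hB hAY (commutator_mono (inf_le_inf_right _ (hDY k)) le_rfl hdc)
      simpa using mul_mem (mem_sup_left h1) (hfix ⟨hc.1.1, hc.2⟩)
  obtain ⟨n, hnb⟩ := (Group.isSolvable_def Y).mp hsY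
  have h := hk n
  simp only [D, hnb, Subgroup.map_bot, sup_bot_eq] at h
  exact h

end CfsgLib.FgsB.CyclicGeneration
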