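import Cfsg.Prelude.Def_Transfer
import Mathlib
import Cfsg.Agent.Lib.Base.Transport
import Cfsg.Agent.Lib.Coprime.Basic
import Cfsg.Agent.Lib.Coprime.Action
import Cfsg.Agent.Lib.Coprime.Action2
import Cfsg.Agent.Lib.PLocal.Constrained
import Cfsg.Agent.Lib.Transfer.NormalPComplement
import Cfsg.Agent.Lib.Transfer.Reduction
import Cfsg.Agent.Lib.FT.OddOrderTheorem

set_option autoImplicit false
set_option linter.style.haveILetI false
open Cfsg

namespace CfsgLib.FgsB.CycDich
open Subgroup CfsgLib.Base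
open scoped Pointwise commutatorElement

universe u

section cyclic
variable {G : Type u} [Group G] [Finite G]

/-- Subgroups of a cyclic subgroup are determined by their order. -/
theorem eq_of_card_eq {P A B : Subgroup G} (hP : IsCyclic P) (hA : A ≤ P) (hB : B ≤ P)
    (h : Nat.card A = Nat.card B) : A = B := by
  classical
  haveI := hP
  haveI : Fintype P := Fintype.ofFinite _
  set d := Nat.card A
  have hd : 0 < d := Nat.card_pos
  have key : ∀ C : Subgroup G, C ≤ P → Nat.card C = d →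
      (C : Set G) = Subtype.val '' {x : P | x ^ d = 1} := by
    intro C hC hcard
    refine Set.eq_of_subset_of_ncard_le (fun x hx => ⟨⟨x, hC hx⟩, Subtype.ext ?_, rfl⟩) ?_ (Set.toFinite _)
    · show x ^ d = 1
      rw [← hcard]
      exact congrArg Subtype.val (pow_card_eq_one' (x := (⟨x, hx⟩ : C)))
    · rw [Set.ncard_image_of_injective _ Subtype.val_injective, ← Nat.card_coe_set_eq (C : Set G)]
      show _ ≤ Nat.card C
      rw [hcard]
      refine le_of_eq_of_le ?_ (IsCyclic.card_pow_eq_one_le (α := P) hd)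
      rw [Set.ncard_eq_toFinset_card']
      congr 1
      ext x
      simp
  exact SetLike.coe_injective ((key A hA rfl).trans (key B hB h.symm).symm)

/-- An element normalising a cyclic subgroup normalises all of its subgroups. -/
theorem mem_normalizer_of_le_cyclic {P A : Subgroup G} (hP : IsCyclic P) (hA : A ≤ P) {g : G}
    (hg : g ∈ normalizer (P : Set G)) : g ∈ normalizer (A : Set G) := by
  rw [← map_conj_eq_self_iff]
  refine eq_of_card_eq hP ?_ hA (card_map_conj g A)
  refine (map_mono hA).trans (le_of_eq ?_)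
  exact map_conj_eq_self_iff.mpr hg

variable {p : ℕ} [Fact p.Prime]

theorem cyclic_inf_ne_bot {P A B : Subgroup G} (hP : IsCyclic P) (hPp : IsPGroup p P) (hA : A ≤ P)
    (hB : B ≤ P) (hA1 : A ≠ ⊥) (hB1 : B ≠ ⊥) : A ⊓ B ≠ ⊥ := by
  obtain ⟨m, hm⟩ := IsPGroup.iff_card.mp (hPp.to_le hA)
  obtain ⟨n, hn⟩ := IsPGroup.iff_card.mp (hPp.to_le hB)
  have hm0 : m ≠ 0 := fun h => hA1 (Subgroup.card_eq_one.mp (by rw [hm, h, pow_zero]))
  have hn0 : n ≠ 0 := fun h => hB1 (Subgroup.card_eq_one.mp (by rw [hn, h, pow_zero]))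
  obtain ⟨a, ha⟩ := exists_prime_orderOf_dvd_card' (G := A) p (hm ▸ dvd_pow_self p hm0)
  obtain ⟨b, hb⟩ := exists_prime_orderOf_dvd_card' (G := B) p (hn ▸ dvd_pow_self p hn0)
  have e : zpowers (a : G) = zpowers (b : G) := eq_of_card_eq hP (zpowers_le.mpr (hA a.2))
    (zpowers_le.mpr (hB b.2)) (by rw [Nat.card_zpowers, Nat.card_zpowers, orderOf_coe, orderOf_coe, ha, hb])
  intro h
  have : (a : G) ∈ A ⊓ B := ⟨a.2, (e.le.trans (zpowers_le.mpr b.2)) (mem_zpowers _)⟩
  rw [h, mem_bot] at this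
  rw [← orderOf_coe, this, orderOf_one] at ha
  exact (Fact.out : p.Prime).one_lt.ne ha

/-- A `p'`-element fixing a non-trivial element of a cyclic `p`-group centralises it. -/
theorem centralizes_of_fix {P : Subgroup G} (hP : IsCyclic P) (hPp : IsPGroup p P) {h u : G}
    (hn : h ∈ normalizer (P : Set G)) (ho : ¬ p ∣ orderOf h) (hu : u ∈ P) (hu1 : u ≠ 1)
    (hc : h * u = u * h) : h ∈ centralizer (P : Set G) := by
  haveI := hP
  haveI : IsMulCommutative P := ⟨⟨IsCyclic.isMulCommutative.is_comm.comm⟩⟩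
  have hA : zpowers h ≤ normalizer (P : Set G) := zpowers_le.mpr hn
  obtain ⟨k, hk⟩ := IsPGroup.iff_card.mp hPp
  have hcop : (Nat.card (zpowers h)).Coprime (Nat.card P) := by
    rw [Nat.card_zpowers, hk]
    exact (((Fact.out : p.Prime).coprime_iff_not_dvd.mpr ho).symm).pow_right k
  have h0 := CfsgLib.Coprime.centralizer_inf_commutator_eq_bot hA hcop
  have hcom : ⁅P, zpowers h⁆ = ⊥ := by
    by_contra hne
    refine cyclic_inf_ne_bot hP hPp (inf_le_left : P ⊓ centralizer (zpowers h : Set G) ≤ P)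
      (CfsgLib.Coprime.commutator_le_of_le_normalizer hA) ?_ hne ?_
    · intro hb
      refine hu1 (mem_bot.mp (hb ▸ (mem_inf.mpr ⟨hu, ?_⟩)))
      rw [zpowers_eq_closure, centralizer_closure]
      exact mem_centralizer_singleton_iff.mpr hc.symm
    · rw [eq_bot_iff] at h0 ⊢
      exact fun x hx => h0 (mem_inf.mpr ⟨mem_inf.mpr ⟨hx.1.1, hx.1.2⟩, hx.2⟩)
  exact (commutator_eq_bot_iff_le_centralizer.mp (by rw [commutator_comm]; exact hcom)) (mem_zpowers h)

end cyclic

section main
variable {G : Type u} [Group G] [Finite G] {p : ℕ} [hp : Fact p.Prime]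

/-- A `p`-element normalising a Sylow `p`-subgroup lies in it. -/
theorem mem_sylow_of_normalizes (Q : Sylow p G) {x : G} (hx : x ∈ normalizer ((Q : Subgroup G) : Set G))
    (hxp : ∃ k, orderOf x ∣ p ^ k) : x ∈ (Q : Subgroup G) := by
  obtain ⟨k, hk⟩ := hxp
  obtain ⟨j, -, hj⟩ := (Nat.dvd_prime_pow hp.out).mp hk
  have hz : IsPGroup p (zpowers x) := IsPGroup.of_card (n := j) (by rw [Nat.card_zpowers, hj])
  have hs : IsPGroup p ↥((Q : Subgroup G) ⊔ zpowers x) :=
    Q.isPGroup'.to_sup_of_normal_left' hz (zpowers_le.mpr hx)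
  have h := Q.is_maximal' hs le_sup_left
  exact h ▸ mem_sup_right (mem_zpowers x)

/-- The hypotheses in force. -/
structure Cfg (p : ℕ) (G : Type u) [Group G] : Prop where
  hab : ∀ H : Subgroup G, ¬ p ∣ Nat.card H → IsMulCommutative H
  simple : ∀ M : Subgroup G, M.Normal → M = ⊥ ∨ M = ⊤
  cyc : ∀ Q : Sylow p G, IsCyclic (Q : Subgroup G)
  moved : ∀ Q : Sylow p G, ∃ h ∈ normalizer ((Q : Subgroup G) : Set G),
    h ∉ centralizer ((Q : Subgroup G) : Set G) ∧ ¬ p ∣ orderOf h
  local_le : ∀ (Q : Sylow p G) (U : Subgroup G), U ≠ ⊤ → (Q : Subgroup G) ≤ U →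
    (∃ h ∈ U, h ∈ normalizer ((Q : Subgroup G) : Set G) ∧ h ∉ centralizer ((Q : Subgroup G) : Set G) ∧
      ¬ p ∣ orderOf h) → U ≤ normalizer ((Q : Subgroup G) : Set G)
  notnormal : ∀ Q : Sylow p G, ¬ (Q : Subgroup G).Normal

variable (c : Cfg p G)
include c

theorem Cfg.bot_ne (Q : Sylow p G) : (Q : Subgroup G) ≠ ⊥ := fun e =>
  c.notnormal Q (e ▸ inferInstance)

theorem Cfg.center_bot : Subgroup.center G = ⊥ := by
  rcases c.simple (Subgroup.center G) inferInstance with h | h
  · exact h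
  · obtain ⟨Q⟩ : Nonempty (Sylow p G) := inferInstance
    obtain ⟨x, -, hx, -⟩ := c.moved Q
    exact absurd (mem_centralizer_iff.mpr fun y _ => mem_center_iff.mp (h ▸ mem_top x) y) hx

theorem Cfg.p_ne_two : p ≠ 2 := by
  intro h2
  obtain ⟨Q⟩ : Nonempty (Sylow p G) := inferInstance
  obtain ⟨h, hn, hc, ho⟩ := c.moved Q
  have hne := c.bot_ne Q
  obtain ⟨k, hk⟩ := IsPGroup.iff_card.mp Q.isPGroup'
  have hk0 : k ≠ 0 := fun e => hne (Subgroup.card_eq_one.mp (by rw [hk, e, pow_zero]))
  obtain ⟨u, hu⟩ := exists_prime_orderOf_dvd_card' (G := (Q : Subgroup G)) p (hk ▸ dvd_pow_self p hk0)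
  have hu1 : (u : G) ≠ 1 := fun e => by
    rw [← orderOf_coe, e, orderOf_one] at hu; exact hp.out.one_lt.ne hu
  have hmem := mem_normalizer_of_le_cyclic (c.cyc Q) (zpowers_le.mpr u.2) hn
  have h1 : h * u * h⁻¹ ∈ zpowers (u : G) := (mem_normalizer_iff.mp hmem _).mp (mem_zpowers _)
  obtain ⟨j, hj⟩ := mem_zpowers_iff.mp h1
  have hu2 : (u : G) ^ (2 : ℤ) = 1 := by
    have ho2 : orderOf (u : G) = 2 := by rw [orderOf_coe, hu, h2]
    rw [zpow_two, ← pow_two, ← ho2]; exact pow_orderOf_eq_one _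
  refine hc (centralizes_of_fix (c.cyc Q) Q.isPGroup' hn ho u.2 hu1 ?_)
  rcases Int.even_or_odd' j with ⟨i, rfl | rfl⟩
  · rw [zpow_mul, hu2, one_zpow] at hj
    refine absurd ?_ hu1
    calc (u : G) = h⁻¹ * (h * u * h⁻¹) * h := by group
      _ = 1 := by rw [← hj]; group
  · rw [zpow_add, zpow_mul, hu2, one_zpow, one_mul, zpow_one] at hj
    exact mul_inv_eq_iff_eq_mul.mp hj.symm

/-- F1: centralisers of non-identity `p`-elements. -/
theorem Cfg.cent_le (Q : Sylow p G) {u : G} (hu : u ∈ (Q : Subgroup G)) (hu1 : u ≠ 1) :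
    centralizer ({u} : Set G) ≤ centralizer ((Q : Subgroup G) : Set G) := by
  haveI := c.cyc Q
  have hQc : ∀ a ∈ (Q : Subgroup G), ∀ b ∈ (Q : Subgroup G), a * b = b * a := fun a ha b hb =>
    congrArg Subtype.val (IsCyclic.isMulCommutative.is_comm.comm (⟨a, ha⟩ : (Q : Subgroup G)) ⟨b, hb⟩)
  set U := normalizer ((zpowers u : Subgroup G) : Set G) with hU
  have hUle : U ≤ normalizer ((Q : Subgroup G) : Set G) := by
    obtain ⟨h, hn, hc, ho⟩ := c.moved Q
    refine c.local_le Q U ?_ (fun x hx => ?_)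
      ⟨h, mem_normalizer_of_le_cyclic (c.cyc Q) (zpowers_le.mpr hu) hn, hn, hc, ho⟩
    · intro htop
      rcases c.simple _ (normalizer_eq_top_iff.mp htop) with e | e
      · exact hu1 (zpowers_eq_bot.mp e)
      · refine c.notnormal Q ?_
        rw [show (Q : Subgroup G) = ⊤ from top_le_iff.mp (e ▸ zpowers_le.mpr hu)]
        infer_instance
    · exact mem_normalizer_of_le_cyclic (c.cyc Q) (zpowers_le.mpr hu) (le_normalizer hx)
  intro x hx
  have hxN : x ∈ normalizer ((Q : Subgroup G) : Set G) := by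
    refine hUle (centralizer_le_normalizer _ ?_)
    rw [zpowers_eq_closure, centralizer_closure]; exact hx
  obtain ⟨a, ha, b, hb, hab, hap, hbp⟩ := CfsgLib.Transfer.exists_pPart_mul (p := p) x
  have haQ := mem_sylow_of_normalizes Q (zpowers_le.mpr hxN ha) hap
  rw [← hab]
  refine mul_mem (mem_centralizer_iff.mpr fun y hy => hQc y hy a haQ)
    (centralizes_of_fix (c.cyc Q) Q.isPGroup' (zpowers_le.mpr hxN hb)
      (CfsgLib.Transfer.coprime_orderOf_iff.mp hbp) hu hu1 ?_)
  exact mem_centralizer_singleton_iff.mp (zpowers_le.mpr hx hb)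

/-- F2: centralisers of `p'`-elements centralising a Sylow subgroup. -/
theorem Cfg.cent_eq (Q : Sylow p G) {x : G} (hx : x ∈ centralizer ((Q : Subgroup G) : Set G))
    (hxo : ¬ p ∣ orderOf x) (hx1 : x ≠ 1) :
    centralizer ({x} : Set G) = normalizer ((Q : Subgroup G) : Set G) := by
  set N := normalizer ((Q : Subgroup G) : Set G) with hN
  have hQN : (Q : Subgroup G) ≤ N := le_normalizer
  haveI hnor : ((Q : Subgroup G).subgroupOf N).Normal := normal_in_normalizer
  have hcop : (Nat.card ((Q : Subgroup G).subgroupOf N)).Coprime ((Q : Subgroup G).subgroupOf N).index := by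
    rw [card_subgroupOf hQN]
    obtain ⟨k, hk⟩ := IsPGroup.iff_card.mp Q.isPGroup'
    rw [hk]
    exact (hp.out.coprime_iff_not_dvd.mpr fun hd =>
      Q.not_dvd_index (hd.trans (relIndex_dvd_index_of_le hQN))).pow_left k
  obtain ⟨H, hH⟩ := exists_right_complement'_of_coprime hcop
  have hHp : ¬ p ∣ Nat.card (H.map N.subtype) := by
    rw [card_map_subtype, ← hH.symm.index_eq_card]
    exact fun hd => Q.not_dvd_index (hd.trans (relIndex_dvd_index_of_le hQN))
  have hHc := c.hab _ hHp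
  have hprod : ∀ z ∈ N, ∃ a ∈ (Q : Subgroup G), ∃ b ∈ H.map N.subtype, a * b = z := by
    intro z hz
    obtain ⟨⟨⟨a, ha⟩, ⟨b, hb⟩⟩, e⟩ := hH.2 (⟨z, hz⟩ : N)
    exact ⟨(a : G), ha, (b : G), ⟨b, hb, rfl⟩, congrArg Subtype.val e⟩
  have hxN : x ∈ N := centralizer_le_normalizer _ hx
  have hxH : x ∈ H.map N.subtype := by
    obtain ⟨a, ha, b, hb, e⟩ := hprod x hxN
    have hcab : Commute a b := by
      have h1 : Commute a x := mem_centralizer_iff.mp hx a ha
      have : b = a⁻¹ * x := by rw [← e, inv_mul_cancel_left]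
      rw [this]; exact ((Commute.refl a).inv_right).mul_right h1
    have h1 : a ^ orderOf x * b ^ orderOf x = 1 := by rw [← hcab.mul_pow, e, pow_orderOf_eq_one]
    have h2 : a ^ orderOf x = 1 := by
      have hm : a ^ orderOf x ∈ (Q : Subgroup G) ⊓ H.map N.subtype :=
        mem_inf.mpr ⟨pow_mem ha _, by rw [eq_inv_of_mul_eq_one_left h1]; exact inv_mem (pow_mem hb _)⟩
      have hbot : (Q : Subgroup G) ⊓ H.map N.subtype = ⊥ := by
        refine CfsgLib.Base.inf_eq_bot_of_coprime ?_
        obtain ⟨k, hk⟩ := IsPGroup.iff_card.mp Q.isPGroup'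
        rw [hk]; exact (hp.out.coprime_iff_not_dvd.mpr hHp).pow_left k
      rwa [hbot, mem_bot] at hm
    have ha1 : a = 1 := by
      obtain ⟨k, hk⟩ := IsPGroup.iff_card.mp Q.isPGroup'
      have hak : orderOf a ∣ p ^ k := hk ▸ (Q : Subgroup G).orderOf_dvd_natCard ha
      exact orderOf_eq_one_iff.mp (Nat.eq_one_of_dvd_coprimes ((hp.out.coprime_iff_not_dvd.mpr hxo).pow_left k)
        hak (orderOf_dvd_of_pow_eq_one h2))
    rw [← e, ha1, one_mul]; exact hb
  have hle : N ≤ centralizer ({x} : Set G) := by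
    intro z hz
    obtain ⟨a, ha, b, hb, rfl⟩ := hprod z hz
    exact mul_mem (mem_centralizer_singleton_iff.mpr (mem_centralizer_iff.mp hx a ha))
      (mem_centralizer_singleton_iff.mpr (congrArg Subtype.val (hHc.is_comm.comm ⟨b, hb⟩ ⟨x, hxH⟩)))
  refine le_antisymm ?_ hle
  obtain ⟨h, hn, hc, ho⟩ := c.moved Q
  refine c.local_le Q _ (fun htop => hx1 ?_) (hQN.trans hle) ⟨h, hle hn, hn, hc, ho⟩
  rw [← mem_bot, ← c.center_bot, mem_center_iff]
  exact fun g => mem_centralizer_singleton_iff.mp (htop ▸ mem_top g)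

/-- F3: an involution normalising but not centralising inverts. -/
theorem Cfg.inverts (Q : Sylow p G) {s z : G} (hs : s * s = 1)
    (hsN : s ∈ normalizer ((Q : Subgroup G) : Set G))
    (hsC : s ∉ centralizer ((Q : Subgroup G) : Set G)) (hz : z ∈ (Q : Subgroup G)) :
    s * z * s⁻¹ = z⁻¹ := by
  haveI := c.cyc Q
  have hw : s * z * s⁻¹ ∈ (Q : Subgroup G) := (mem_normalizer_iff.mp hsN z).mp hz
  have hcm : z * (s * z * s⁻¹) = (s * z * s⁻¹) * z :=
    congrArg Subtype.val (IsCyclic.isMulCommutative.is_comm.comm (⟨z, hz⟩ : (Q : Subgroup G)) ⟨_, hw⟩)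
  by_contra hne
  have hu1 : z * (s * z * s⁻¹) ≠ 1 := fun e => hne (eq_inv_of_mul_eq_one_right e)
  refine hsC (c.cent_le Q (mul_mem hz hw) hu1 (mem_centralizer_singleton_iff.mpr ?_))
  have hsi : s⁻¹ = s := inv_eq_of_mul_eq_one_right hs
  calc s * (z * (s * z * s⁻¹)) = (s * z * s⁻¹) * ((s * s) * z * s⁻¹) := by group
    _ = (s * z * s⁻¹) * z * s⁻¹ := by rw [hs, one_mul]; group
    _ = z * (s * z * s⁻¹) * s := by rw [hcm, hsi]

theorem Cfg.sq_inj (Q : Sylow p G) {z : G} (hz : z ∈ (Q : Subgroup G)) (h : z * z = 1) : z = 1 := by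
  obtain ⟨k, hk⟩ := IsPGroup.iff_card.mp Q.isPGroup'
  have h1 : orderOf z ∣ p ^ k := hk ▸ (Q : Subgroup G).orderOf_dvd_natCard hz
  have h2 : orderOf z ∣ 2 := orderOf_dvd_of_pow_eq_one (by rw [pow_two, h])
  exact orderOf_eq_one_iff.mp (Nat.eq_one_of_dvd_coprimes
    (((Nat.coprime_primes hp.out Nat.prime_two).mpr c.p_ne_two).pow_left k) h1 h2)

/-- F4: two non-commuting involutions. -/
theorem Cfg.pair {s s' : G} (hs : s * s = 1) (hs' : s' * s' = 1) (hne : s * s' ≠ s' * s) :
    ∃ Q : Sylow p G, s ∈ normalizer ((Q : Subgroup G) : Set G) ∧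
      s ∉ centralizer ((Q : Subgroup G) : Set G) ∧
      s' ∈ normalizer ((Q : Subgroup G) : Set G) ∧ s' ∉ centralizer ((Q : Subgroup G) : Set G) ∧
      ∃ z ∈ (Q : Subgroup G), ∃ k ∈ centralizer ((Q : Subgroup G) : Set G),
        k * k = 1 ∧ z * z ≠ 1 ∧ s * s' = z * k := by
  have hsi : s⁻¹ = s := inv_eq_of_mul_eq_one_right hs
  have hsi' : s'⁻¹ = s' := inv_eq_of_mul_eq_one_right hs'
  set x := s * s' with hx
  have hinv : s * x * s⁻¹ = x⁻¹ := by
    rw [hx, mul_inv_rev, hsi, hsi', ← mul_assoc, hs, one_mul]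
  have hx2 : x * x ≠ 1 := fun e => hne (by
    have : x⁻¹ = x := inv_eq_of_mul_eq_one_right e
    rw [hx, mul_inv_rev, hsi, hsi'] at this
    exact this.symm)
  -- a power of prime order or order four
  obtain ⟨y, hyx, hy2⟩ : ∃ y ∈ zpowers x, y * y ≠ 1 ∧ ∃ q k, q.Prime ∧ orderOf y = q ^ (k + 1) := by
    set n := orderOf x with hn
    by_cases hodd : ∃ q, q.Prime ∧ q ≠ 2 ∧ q ∣ n
    · obtain ⟨q, hq, hq2, hqn⟩ := hodd
      have ho : orderOf (x ^ (n / q)) = q := orderOf_pow_orderOf_div (orderOf_pos x).ne' hqn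
      refine ⟨x ^ (n / q), pow_mem (mem_zpowers x) _, fun e => ?_, q, 0, hq, by rw [ho, pow_one]⟩
      have := orderOf_dvd_of_pow_eq_one (show (x ^ (n / q)) ^ 2 = 1 by rw [pow_two, e])
      rw [ho] at this
      exact hq2 ((Nat.prime_dvd_prime_iff_eq hq Nat.prime_two).mp this)
    · push Not at hodd
      have hn2 := Nat.eq_prime_pow_of_unique_prime_dvd (orderOf_pos x).ne'
        (fun {q} hq hd => by_contra fun hq2 => hodd q hq hq2 hd)
      set j := (orderOf x).primeFactorsList.length with hj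
      have hj2 : 2 ≤ j := by
        by_contra hlt
        refine hx2 ?_
        rw [← pow_two, ← orderOf_dvd_iff_pow_eq_one, hn2]
        exact (pow_dvd_pow 2 (show j ≤ 1 by omega)).trans (by norm_num)
      have hd4 : 4 ∣ n := by
        rw [hn, hn2]; exact (show (4 : ℕ) = 2 ^ 2 by norm_num) ▸ pow_dvd_pow 2 hj2
      have ho : orderOf (x ^ (n / 4)) = 4 := orderOf_pow_orderOf_div (orderOf_pos x).ne' hd4
      refine ⟨x ^ (n / 4), pow_mem (mem_zpowers x) _, fun e => ?_, 2, 1, Nat.prime_two, by rw [ho]; norm_num⟩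
      have := orderOf_dvd_of_pow_eq_one (show (x ^ (n / 4)) ^ 2 = 1 by rw [pow_two, e])
      rw [ho] at this
      norm_num at this
  obtain ⟨hy2, q, k₀, hq, hyo⟩ := hy2
  have hys : s * y * s⁻¹ = y⁻¹ := by
    obtain ⟨i, rfl⟩ := mem_zpowers_iff.mp hyx
    rw [← conj_zpow, hinv, inv_zpow]
  have hyc : s * y ≠ y * s := fun e => hy2 (by
    have : y⁻¹ = y := by rw [← hys, e, mul_inv_cancel_right]
    calc y * y = y⁻¹ * y := by rw [this]
      _ = 1 := inv_mul_cancel y)
  have hy1 : y ≠ 1 := fun e => hy2 (by rw [e, one_mul])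
  have hsy : zpowers s ≤ normalizer ((centralizer ({y} : Set G) : Subgroup G) : Set G) := by
    have h1 : s ∈ normalizer ((zpowers y : Subgroup G) : Set G) := by
      rw [← map_conj_eq_self_iff, MonoidHom.map_zpowers,
        show (MulAut.conj s).toMonoidHom y = y⁻¹ from hys, zpowers_inv]
    have h2 := CfsgLib.PLocal.normalizer_le_centralizer_normalizer (zpowers y) h1
    rw [zpowers_eq_closure y, centralizer_closure] at h2
    exact zpowers_le.mpr h2
  have hsC : s ∈ normalizer ((centralizer ({y} : Set G) : Subgroup G) : Set G) := hsy (mem_zpowers s)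
  have hpC : p ∣ Nat.card (centralizer ({y} : Set G)) := by
    by_contra hnd
    have hU : ¬ p ∣ Nat.card ↥(zpowers s ⊔ centralizer ({y} : Set G)) := by
      intro hd
      rcases hp.out.dvd_mul.mp (hd.trans (CfsgLib.Coprime.card_sup_dvd hsy)) with h | h
      · rw [Nat.card_zpowers] at h
        exact c.p_ne_two ((Nat.prime_dvd_prime_iff_eq hp.out Nat.prime_two).mp
          (h.trans (orderOf_dvd_of_pow_eq_one (by rw [pow_two, hs]))))
      · exact hnd h
    exact hyc (congrArg Subtype.val ((c.hab _ hU).is_comm.comm ⟨s, mem_sup_left (mem_zpowers s)⟩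
      ⟨y, mem_sup_right (mem_centralizer_singleton_iff.mpr rfl)⟩))
  obtain ⟨v, hv⟩ := exists_prime_orderOf_dvd_card' p hpC
  have hvp : IsPGroup p (zpowers (v : G)) := IsPGroup.of_card (n := 1) (by
    rw [Nat.card_zpowers, orderOf_coe, hv, pow_one])
  obtain ⟨Q, hQ⟩ := hvp.exists_le_sylow
  have hv1 : (v : G) ≠ 1 := fun e => by
    rw [← orderOf_coe, e, orderOf_one] at hv; exact hp.out.one_lt.ne hv
  have hyQ : y ∈ centralizer ((Q : Subgroup G) : Set G) := c.cent_le Q (hQ (mem_zpowers _)) hv1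
    (mem_centralizer_singleton_iff.mpr (mem_centralizer_singleton_iff.mp v.2).symm)
  have hCN : centralizer ({y} : Set G) ≤ normalizer ((Q : Subgroup G) : Set G) ∧
      (Q : Subgroup G) ≤ centralizer ({y} : Set G) := by
    refine ⟨?_, fun a ha => mem_centralizer_singleton_iff.mpr (mem_centralizer_iff.mp hyQ a ha)⟩
    by_cases hqp : q = p
    · subst hqp
      have : y ∈ (Q : Subgroup G) := mem_sylow_of_normalizes Q (centralizer_le_normalizer _ hyQ)
        ⟨k₀ + 1, hyo.dvd⟩
      exact (c.cent_le Q this hy1).trans (centralizer_le_normalizer _)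
    · refine (c.cent_eq Q hyQ (fun hd => hqp ?_) hy1).le
      rw [hyo] at hd
      exact ((Nat.prime_dvd_prime_iff_eq hp.out hq).mp (hp.out.dvd_of_dvd_pow hd)).symm
  have hsN : s ∈ normalizer ((Q : Subgroup G) : Set G) := by
    rw [← map_conj_eq_self_iff]
    have hle : (Q : Subgroup G).map (MulAut.conj s).toMonoidHom ≤ normalizer ((Q : Subgroup G) : Set G) := by
      rintro _ ⟨a, ha, rfl⟩
      exact hCN.1 ((mem_normalizer_iff.mp hsC a).mp (hCN.2 ha))
    refine eq_of_le_of_card_ge (fun a ha => ?_) (card_map_conj s _).ge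
    refine mem_sylow_of_normalizes Q (hle ha) ?_
    obtain ⟨k, hk⟩ := IsPGroup.iff_card.mp (Q.isPGroup'.map (MulAut.conj s).toMonoidHom)
    exact ⟨k, hk ▸ Subgroup.orderOf_dvd_natCard _ ha⟩
  have hqp : q = p := by
    by_contra hqp
    refine hyc ?_
    have hyo' : ¬ p ∣ orderOf y := fun hd => hqp (by
      rw [hyo] at hd
      exact ((Nat.prime_dvd_prime_iff_eq hp.out hq).mp (hp.out.dvd_of_dvd_pow hd)).symm)
    rw [← c.cent_eq Q hyQ hyo' hy1] at hsN
    exact mem_centralizer_singleton_iff.mp hsN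
  have hyQ' : y ∈ (Q : Subgroup G) := mem_sylow_of_normalizes Q (centralizer_le_normalizer _ hyQ)
    ⟨k₀ + 1, hqp ▸ hyo.dvd⟩
  have hsQ : s ∉ centralizer ((Q : Subgroup G) : Set G) := fun h =>
    hyc (mem_centralizer_iff.mp h y hyQ').symm
  have hxQ : x ∈ centralizer ((Q : Subgroup G) : Set G) := by
    refine c.cent_le Q hyQ' hy1 (mem_centralizer_singleton_iff.mpr ?_)
    obtain ⟨i, rfl⟩ := mem_zpowers_iff.mp hyx
    exact ((Commute.refl x).zpow_right i).eq
  have e' : s' = s * x := by rw [hx, ← mul_assoc, hs, one_mul]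
  obtain ⟨a, ha, b, hb, hab, hap, hbp⟩ := CfsgLib.Transfer.exists_pPart_mul (p := p) x
  have haQ : a ∈ (Q : Subgroup G) :=
    mem_sylow_of_normalizes Q (centralizer_le_normalizer _ (zpowers_le.mpr hxQ ha)) hap
  have hbQ : b ∈ centralizer ((Q : Subgroup G) : Set G) := zpowers_le.mpr hxQ hb
  have hbo := CfsgLib.Transfer.coprime_orderOf_iff.mp hbp
  have hbb : b * b = 1 := by
    rcases eq_or_ne b 1 with e | hb1
    · rw [e, one_mul]
    have hsb : s * b = b * s := mem_centralizer_singleton_iff.mp ((c.cent_eq Q hbQ hbo hb1).ge hsN)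
    have : s * b * s⁻¹ = b⁻¹ := by
      obtain ⟨i, rfl⟩ := mem_zpowers_iff.mp hb
      rw [← conj_zpow, hinv, inv_zpow]
    rw [hsb, mul_inv_cancel_right] at this
    calc b * b = b⁻¹ * b := by rw [← this]
      _ = 1 := inv_mul_cancel b
  refine ⟨Q, hsN, hsQ, e' ▸ mul_mem hsN (centralizer_le_normalizer _ hxQ), fun h => hsQ ?_,
    a, haQ, b, hbQ, hbb, fun ea => hx2 ?_, hab.symm⟩
  · have := mul_mem (e' ▸ h : s * x ∈ centralizer ((Q : Subgroup G) : Set G)) (inv_mem hxQ)
    rwa [mul_inv_cancel_right] at this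
  · have hcab : Commute a b := mem_centralizer_iff.mp hbQ a haQ
    rw [← hab, hcab.symm.mul_mul_mul_comm, ea, hbb, one_mul]

/-- The product of two involutions inverting a Sylow subgroup centralises it. -/
theorem Cfg.mul_mem_cent (Q : Sylow p G) {s t : G} (hs : s * s = 1) (ht : t * t = 1)
    (hsN : s ∈ normalizer ((Q : Subgroup G) : Set G)) (hsC : s ∉ centralizer ((Q : Subgroup G) : Set G))
    (htN : t ∈ normalizer ((Q : Subgroup G) : Set G)) (htC : t ∉ centralizer ((Q : Subgroup G) : Set G)) :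
    s * t ∈ centralizer ((Q : Subgroup G) : Set G) := by
  refine mem_centralizer_iff.mpr fun z hz => ?_
  have h1 := c.inverts Q hs hsN hsC (inv_mem hz)
  have h2 := c.inverts Q ht htN htC hz
  rw [inv_inv] at h1
  have : s * t * z * (s * t)⁻¹ = z := by
    calc s * t * z * (s * t)⁻¹ = s * (t * z * t⁻¹) * s⁻¹ := by group
      _ = z := by rw [h2, h1]
  exact (mul_inv_eq_iff_eq_mul.mp this).symm

theorem Cfg.odd_order {x : G} (h : x * x = 1) : ¬ p ∣ orderOf x := fun hd =>
  c.p_ne_two ((Nat.prime_dvd_prime_iff_eq hp.out Nat.prime_two).mp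
    (hd.trans (orderOf_dvd_of_pow_eq_one (by rw [pow_two, h]))))

theorem Cfg.exists_mover (T : Sylow 2 G) (hT : (T : Subgroup G) ≠ ⊥) :
    ∃ y ∈ normalizer ((T : Subgroup G) : Set G),
      y ∉ centralizer ((T : Subgroup G) : Set G) ∧ y ^ p ∈ centralizer ((T : Subgroup G) : Set G) ∧
      ∃ k, orderOf y ∣ p ^ k := by
  haveI : Fact (Nat.Prime 2) := ⟨Nat.prime_two⟩
  have hTp : ¬ p ∣ Nat.card (T : Subgroup G) := by
    obtain ⟨n, hn⟩ := IsPGroup.iff_card.mp T.isPGroup'
    rw [hn]
    exact fun hd => c.p_ne_two ((Nat.prime_dvd_prime_iff_eq hp.out Nat.prime_two).mp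
      (hp.out.dvd_of_dvd_pow hd))
  obtain ⟨y, hyN, hyC⟩ : ∃ y ∈ normalizer ((T : Subgroup G) : Set G),
      y ∉ centralizer ((T : Subgroup G) : Set G) := by
    by_contra hcon
    push Not at hcon
    obtain ⟨Q⟩ : Nonempty (Sylow p G) := inferInstance
    have h2 := MonoidHom.ker_transferSylow_isComplement' T hcon
    rcases c.simple _ (MonoidHom.normal_ker (MonoidHom.transferSylow T hcon)) with e | e
    · rw [e] at h2
      have htop : (T : Subgroup G) = ⊤ := isComplement'_bot_left.mp h2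
      have hcard : Nat.card G = Nat.card (T : Subgroup G) := by rw [htop, card_top]
      exact c.bot_ne Q (Subgroup.card_eq_one.mp (by
        obtain ⟨k, hk⟩ := IsPGroup.iff_card.mp Q.isPGroup'
        have hd : Nat.card (Q : Subgroup G) ∣ Nat.card (T : Subgroup G) :=
          hcard ▸ card_subgroup_dvd_card _
        rw [hk] at hd ⊢
        rcases k with _ | k
        · exact pow_zero _
        · exact absurd ((dvd_pow_self p (Nat.succ_ne_zero k)).trans hd) hTp))
    · rw [e] at h2
      exact hT (isComplement'_top_left.mp h2)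
  obtain ⟨a, ha, b, hb, hab, hap, hbp⟩ := CfsgLib.Transfer.exists_pPart_mul (p := p) y
  have hbT : b ∈ centralizer ((T : Subgroup G) : Set G) := by
    have hbn : zpowers b ≤ normalizer ((T : Subgroup G) : Set G) :=
      zpowers_le.mpr (zpowers_le.mpr hyN hb)
    have hU : ¬ p ∣ Nat.card ↥(zpowers b ⊔ (T : Subgroup G)) := by
      intro hd
      rcases hp.out.dvd_mul.mp (hd.trans (CfsgLib.Coprime.card_sup_dvd hbn)) with h | h
      · rw [Nat.card_zpowers] at h
        exact CfsgLib.Transfer.coprime_orderOf_iff.mp hbp h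
      · exact hTp h
    exact mem_centralizer_iff.mpr fun z hz => congrArg Subtype.val
      ((c.hab _ hU).is_comm.comm ⟨z, mem_sup_right hz⟩ ⟨b, mem_sup_left (mem_zpowers b)⟩)
  have haC : a ∉ centralizer ((T : Subgroup G) : Set G) := fun h => hyC (hab ▸ mul_mem h hbT)
  obtain ⟨k, hk⟩ := hap
  classical
  have hex : ∃ j, a ^ p ^ j ∈ centralizer ((T : Subgroup G) : Set G) :=
    ⟨k, by rw [orderOf_dvd_iff_pow_eq_one.mp hk]; exact one_mem _⟩
  obtain ⟨j, hj⟩ : ∃ j, Nat.find hex = j + 1 := by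
    refine Nat.exists_eq_succ_of_ne_zero fun h0 => haC ?_
    have := Nat.find_spec hex
    rwa [h0, pow_zero, pow_one] at this
  refine ⟨a ^ p ^ j, pow_mem (zpowers_le.mpr hyN ha) _, Nat.find_min hex (by omega), ?_, k, ?_⟩
  · have := Nat.find_spec hex
    rwa [hj, pow_succ, pow_mul] at this
  · exact (orderOf_pow_dvd _).trans hk

/-- No involution centralises a Sylow subgroup: impossible. -/
theorem Cfg.false_odd (hK : ∀ (Q : Sylow p G) (s : G), s * s = 1 →
    s ∈ centralizer ((Q : Subgroup G) : Set G) → s = 1) {t : G} (ht : t * t = 1) (ht1 : t ≠ 1) :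
    False := by
  classical
  haveI : Fact (Nat.Prime 2) := ⟨Nat.prime_two⟩
  have hCp : ∀ s : G, s * s = 1 → s ≠ 1 → ¬ p ∣ Nat.card (centralizer ({s} : Set G)) := by
    intro s hs hs1 hd
    obtain ⟨v, hv⟩ := exists_prime_orderOf_dvd_card' p hd
    obtain ⟨Q, hQ⟩ := (IsPGroup.of_card (n := 1) (by
      rw [Nat.card_zpowers, orderOf_coe, hv, pow_one]) : IsPGroup p (zpowers (v : G))).exists_le_sylow
    have hv1 : (v : G) ≠ 1 := fun e => by
      rw [← orderOf_coe, e, orderOf_one] at hv; exact hp.out.one_lt.ne hv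
    exact hs1 (hK Q s hs (c.cent_le Q (hQ (mem_zpowers _)) hv1
      (mem_centralizer_singleton_iff.mpr (mem_centralizer_singleton_iff.mp v.2).symm)))
  set A := centralizer ({t} : Set G) with hA
  have hAc : IsMulCommutative A := c.hab _ (hCp t ht ht1)
  let Inv : Set G := {s | s * s = 1 ∧ s ≠ 1}
  let Com : Set G := {s | s ∈ Inv ∧ s * t = t * s}
  -- fixed-point-free actions of `p`-groups
  have orb : ∀ (y : G) (S : Set G), (∃ k, orderOf y ∣ p ^ k) →
      (∀ s ∈ S, y * s * y⁻¹ ∈ S) → (∀ s ∈ S, y * s * y⁻¹ ≠ s) → p ∣ S.ncard := by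
    intro y S hy hS hfree
    have hz : ∀ g ∈ zpowers y, ∀ s ∈ S, g * s * g⁻¹ ∈ S := by
      intro g hg s hs
      obtain ⟨i, rfl⟩ := (mem_powers_iff_mem_zpowers.mpr hg :
        g ∈ Submonoid.powers y)
      induction i with
      | zero => simpa using hs
      | succ i ih =>
        have : y ^ (i + 1) * s * (y ^ (i + 1))⁻¹ = y * (y ^ i * s * (y ^ i)⁻¹) * y⁻¹ := by
          rw [pow_succ']; group
        rw [this]
        exact hS _ (ih (pow_mem (mem_zpowers y) i))
    letI : MulAction (zpowers y) S :=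
      { smul := fun g s => ⟨(g : G) * s * (g : G)⁻¹, hz g g.2 s s.2⟩
        one_smul := fun s => Subtype.ext (by show (1 : G) * s * (1 : G)⁻¹ = s; group)
        mul_smul := fun g g' s => Subtype.ext (by
          show ((g : G) * g') * s * ((g : G) * g')⁻¹ = g * (g' * s * (g' : G)⁻¹) * (g : G)⁻¹
          group) }
    obtain ⟨k, hk⟩ := hy
    obtain ⟨j, -, hj⟩ := (Nat.dvd_prime_pow hp.out).mp hk
    have hP : IsPGroup p (zpowers y) := IsPGroup.of_card (n := j) (by rw [Nat.card_zpowers, hj])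
    have h := hP.card_modEq_card_fixedPoints S
    haveI : IsEmpty (MulAction.fixedPoints (zpowers y) S) :=
      ⟨fun ⟨s, hs⟩ => hfree s s.2 (congrArg Subtype.val (hs ⟨y, mem_zpowers y⟩))⟩
    rw [@Nat.card_of_isEmpty (MulAction.fixedPoints (zpowers y) S) _, Nat.card_coe_set_eq] at h
    exact Nat.modEq_zero_iff_dvd.mp h
  -- all involutions
  obtain ⟨P₀⟩ : Nonempty (Sylow p G) := inferInstance
  obtain ⟨u, hu, hu1⟩ := (bot_or_exists_ne_one _).resolve_left (c.bot_ne P₀)
  have h1 : p ∣ Inv.ncard := by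
    obtain ⟨k, hk⟩ := IsPGroup.iff_card.mp P₀.isPGroup'
    have huo : orderOf u ∣ p ^ k := hk ▸ (P₀ : Subgroup G).orderOf_dvd_natCard hu
    refine orb u Inv ⟨k, huo⟩ (fun s hs => ⟨?_, fun e => hs.2 ?_⟩) fun s hs e => ?_
    · calc u * s * u⁻¹ * (u * s * u⁻¹) = u * (s * s) * u⁻¹ := by group
        _ = 1 := by rw [hs.1]; group
    · calc s = u⁻¹ * (u * s * u⁻¹) * u := by group
        _ = 1 := by rw [e]; group
    · refine hu1 (orderOf_eq_one_iff.mp (Nat.eq_one_of_dvd_coprimes
        ((hp.out.coprime_iff_not_dvd.mpr (hCp s hs.1 hs.2)).pow_left k) huo ?_))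
      exact Subgroup.orderOf_dvd_natCard _ (mem_centralizer_singleton_iff.mpr (mul_inv_eq_iff_eq_mul.mp e))
  -- involutions commuting with `t`
  have h2 : p ∣ Com.ncard := by
    have htp : IsPGroup 2 (zpowers t) := by
      intro g
      obtain ⟨i, hi⟩ := mem_zpowers_iff.mp g.2
      refine ⟨1, Subtype.ext ?_⟩
      rw [pow_one, SubmonoidClass.coe_pow, ← hi, pow_two, ← (Commute.refl _).mul_zpow, ht, one_zpow]; rfl
    obtain ⟨T, hT⟩ := htp.exists_le_sylow
    have htT : t ∈ (T : Subgroup G) := hT (mem_zpowers t)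
    have hTne : (T : Subgroup G) ≠ ⊥ := fun e => ht1 (by rwa [e, mem_bot] at htT)
    have hTodd : ¬ p ∣ Nat.card (T : Subgroup G) := by
      obtain ⟨n, hn⟩ := IsPGroup.iff_card.mp T.isPGroup'
      rw [hn]
      exact fun hd => c.p_ne_two ((Nat.prime_dvd_prime_iff_eq hp.out Nat.prime_two).mp
        (hp.out.dvd_of_dvd_pow hd))
    have hTA : (T : Subgroup G) ≤ A := fun a ha => mem_centralizer_singleton_iff.mpr
      (congrArg Subtype.val ((c.hab _ hTodd).is_comm.comm ⟨a, ha⟩ ⟨t, htT⟩))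
    have hin : ∀ s : G, s * s = 1 → s ∈ A → s ∈ (T : Subgroup G) := by
      intro s hs hsA
      have hz : IsPGroup 2 (zpowers s) := by
        intro g
        obtain ⟨i, hi⟩ := mem_zpowers_iff.mp g.2
        refine ⟨1, Subtype.ext ?_⟩
        rw [pow_one, SubmonoidClass.coe_pow, ← hi, pow_two, ← (Commute.refl _).mul_zpow, hs, one_zpow]; rfl
      have hn : zpowers s ≤ normalizer ((T : Subgroup G) : Set G) := zpowers_le.mpr
        (centralizer_le_normalizer _ (mem_centralizer_iff.mpr fun a ha =>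
          congrArg Subtype.val (hAc.is_comm.comm ⟨a, hTA ha⟩ ⟨s, hsA⟩)))
      have h := T.is_maximal' (T.isPGroup'.to_sup_of_normal_left' hz hn) le_sup_left
      exact h ▸ mem_sup_right (mem_zpowers s)
    obtain ⟨y, hyN, hyC, -, hyp⟩ := c.exists_mover T hTne
    refine orb y Com hyp (fun s hs => ?_) fun s hs e => ?_
    · have hsT : s ∈ (T : Subgroup G) := hin s hs.1.1 (mem_centralizer_singleton_iff.mpr hs.2)
      refine ⟨⟨?_, fun e => hs.1.2 ?_⟩,
        mem_centralizer_singleton_iff.mp (hTA ((mem_normalizer_iff.mp hyN s).mp hsT))⟩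
      · calc y * s * y⁻¹ * (y * s * y⁻¹) = y * (s * s) * y⁻¹ := by group
          _ = 1 := by rw [hs.1.1]; group
      · calc s = y⁻¹ * (y * s * y⁻¹) * y := by group
          _ = 1 := by rw [e]; group
    · obtain ⟨k, hk⟩ := hyp
      have hy1 : y = 1 := orderOf_eq_one_iff.mp (Nat.eq_one_of_dvd_coprimes
        ((hp.out.coprime_iff_not_dvd.mpr (hCp s hs.1.1 hs.1.2)).pow_left k) hk
        (Subgroup.orderOf_dvd_natCard _ (mem_centralizer_singleton_iff.mpr (mul_inv_eq_iff_eq_mul.mp e))))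
      exact hyC (hy1 ▸ one_mem _)
  -- Sylow subgroups inverted by `t`
  let F : Set (Sylow p G) := {Q | t ∈ normalizer ((Q : Subgroup G) : Set G)}
  have htC : ∀ Q : Sylow p G, t ∉ centralizer ((Q : Subgroup G) : Set G) := fun Q h =>
    ht1 (hK Q t ht h)
  have hP : ∀ Q : Sylow p G, Nat.card (Q : Subgroup G) = Nat.card (P₀ : Subgroup G) := fun Q => by
    rw [Q.card_eq_multiplicity, P₀.card_eq_multiplicity]
  have hcount : (Inv \ Com).ncard = F.ncard * (Nat.card (P₀ : Subgroup G) - 1) := by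
    let α := Σ Q : F, {z : ((Q : Sylow p G) : Subgroup G) // z ≠ 1}
    let f : α → G := fun a => t * (a.2.1 : G)
    have hf : Function.Injective f := by
      rintro ⟨⟨Q, hQ⟩, ⟨z, hz⟩⟩ ⟨⟨Q', hQ'⟩, ⟨z', hz'⟩⟩ e
      have e' : (z : G) = z' := mul_left_cancel e
      have hz0 : (z : G) ≠ 1 := fun h => hz (Subtype.ext h)
      have hQQ : Q = Q' := by
        refine Sylow.ext (eq_of_le_of_card_ge (fun a ha => mem_sylow_of_normalizes Q' ?_ ?_) ?_)
        · refine centralizer_le_normalizer _ (c.cent_le Q' (e' ▸ z'.2) hz0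
            (mem_centralizer_singleton_iff.mpr ?_))
          haveI := c.cyc Q
          exact congrArg Subtype.val (IsCyclic.isMulCommutative.is_comm.comm (⟨a, ha⟩ : (Q : Subgroup G)) z)
        · obtain ⟨k, hk⟩ := IsPGroup.iff_card.mp Q.isPGroup'
          exact ⟨k, hk ▸ Subgroup.orderOf_dvd_natCard _ ha⟩
        · rw [hP Q, hP Q']
      subst hQQ
      have : z = z' := Subtype.ext e'
      subst this
      rfl
    have hr : Set.range f = Inv \ Com := by
      ext s
      constructor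
      · rintro ⟨⟨⟨Q, hQ⟩, ⟨z, hz⟩⟩, rfl⟩
        have hzi := c.inverts Q ht hQ (htC Q) z.2
        have hz0 : (z : G) ≠ 1 := fun h => hz (Subtype.ext h)
        have hti : t⁻¹ = t := inv_eq_of_mul_eq_one_right ht
        have hne : t * (z : G) * t ≠ (z : G) := fun h => hz0 (c.sq_inj Q z.2 (by
          calc (z : G) * z = (t * (z : G) * t⁻¹) * z := by rw [hti, h]
            _ = 1 := by rw [hzi, inv_mul_cancel]))
        refine ⟨⟨?_, fun h => htC Q ?_⟩, fun h => hne ?_⟩
        · show t * (z : G) * (t * z) = 1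
          calc t * (z : G) * (t * z) = (t * (z : G) * t⁻¹) * z := by rw [hti]; group
            _ = 1 := by rw [hzi, inv_mul_cancel]
        · have : t = (z : G)⁻¹ := eq_inv_of_mul_eq_one_left h
          rw [this]
          haveI := c.cyc Q
          exact inv_mem (mem_centralizer_iff.mpr fun a ha =>
            congrArg Subtype.val (IsCyclic.isMulCommutative.is_comm.comm (⟨a, ha⟩ : (Q : Subgroup G)) z))
        · have h2 : t * (z : G) * t = t * (t * (z : G)) := h.2
          rw [h2, ← mul_assoc, ht, one_mul]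
      · rintro ⟨⟨hs, hs1⟩, hsc⟩
        have hne : t * s ≠ s * t := fun e => hsc ⟨⟨hs, hs1⟩, e.symm⟩
        obtain ⟨Q, htN, -, -, -, z, hz, k, hk, hk2, hz2, e⟩ := c.pair ht hs hne
        have : k = 1 := hK Q k hk2 hk
        rw [this, mul_one] at e
        refine ⟨⟨⟨Q, htN⟩, ⟨⟨z, hz⟩, fun h => hz2 ?_⟩⟩, ?_⟩
        · have : z = 1 := congrArg Subtype.val h
          rw [this, one_mul]
        · show t * z = s
          rw [← e, ← mul_assoc, ht, one_mul]
    have hα : Nat.card α = F.ncard * (Nat.card (P₀ : Subgroup G) - 1) := by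
      haveI : Fintype F := Fintype.ofFinite _
      haveI : ∀ Q : F, Fintype {z : ((Q : Sylow p G) : Subgroup G) // z ≠ 1} := fun _ => Fintype.ofFinite _
      rw [Nat.card_sigma, Finset.sum_const_nat (m := Nat.card (P₀ : Subgroup G) - 1), Finset.card_univ,
        ← Nat.card_eq_fintype_card, Nat.card_coe_set_eq]
      intro Q _
      rw [← hP (Q : Sylow p G)]
      haveI : Fintype ((Q : Sylow p G) : Subgroup G) := Fintype.ofFinite _
      rw [Nat.card_eq_fintype_card, Nat.card_eq_fintype_card, Fintype.card_subtype_compl,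
        Fintype.card_subtype_eq]
    rw [← hr, ← Nat.card_coe_set_eq, Nat.card_range_of_injective hf, hα]
  have hF : ¬ p ∣ F.ncard := by
    intro hd
    by_cases hFe : F = ∅
    · have hsub : Inv ⊆ Com := fun s hs => by
        by_contra hn
        have h0 : (Inv \ Com).ncard = 0 := by rw [hcount, hFe, Set.ncard_empty, zero_mul]
        rw [Set.ncard_eq_zero] at h0
        exact (h0 ▸ (⟨hs, hn⟩ : s ∈ Inv \ Com) : s ∈ (∅ : Set G))
      have hmem : ∀ g : G, g * t * g⁻¹ ∈ A := fun g => by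
        refine mem_centralizer_singleton_iff.mpr (hsub ⟨?_, fun e => ht1 ?_⟩).2
        · calc g * t * g⁻¹ * (g * t * g⁻¹) = g * (t * t) * g⁻¹ := by group
            _ = 1 := by rw [ht]; group
        · calc t = g⁻¹ * (g * t * g⁻¹) * g := by group
            _ = 1 := by rw [e]; group
      set M := Subgroup.normalClosure ({t} : Set G)
      have hMA : M ≤ A := by
        refine (closure_le _).mpr fun x hx => ?_
        obtain ⟨a, ha, hx⟩ := Group.mem_conjugatesOfSet_iff.mp hx
        rw [Set.mem_singleton_iff] at ha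
        obtain ⟨g, rfl⟩ := isConj_iff.mp hx
        rw [ha]; exact hmem g
      rcases c.simple M normalClosure_normal with e | e
      · exact ht1 (by
          have : t ∈ M := subset_normalClosure rfl
          rwa [e, mem_bot] at this)
      · refine hu1 (mem_bot.mp (c.center_bot ▸ mem_center_iff.mpr fun g => ?_))
        exact congrArg Subtype.val (hAc.is_comm.comm ⟨g, hMA (e ▸ mem_top g)⟩ ⟨u, hMA (e ▸ mem_top u)⟩)
    obtain ⟨Q₀, hQ₀⟩ := Set.nonempty_iff_ne_empty.mpr hFe
    have horb : MulAction.orbit A Q₀ = F := by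
      ext Q
      constructor
      · rintro ⟨⟨a, ha⟩, rfl⟩
        show t ∈ normalizer (((⟨a, ha⟩ : A) • Q₀ : Sylow p G) : Subgroup G)
        rw [← map_conj_eq_self_iff]
        show ((Q₀ : Subgroup G).map (MulAut.conj a).toMonoidHom).map (MulAut.conj t).toMonoidHom =
          (Q₀ : Subgroup G).map (MulAut.conj a).toMonoidHom
        rw [Subgroup.map_map]
        have : (MulAut.conj t).toMonoidHom.comp (MulAut.conj a).toMonoidHom =
            (MulAut.conj a).toMonoidHom.comp (MulAut.conj t).toMonoidHom := by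
          have e : t * a = a * t := (mem_centralizer_singleton_iff.mp ha).symm
          ext x
          show t * (a * x * a⁻¹) * t⁻¹ = a * (t * x * t⁻¹) * a⁻¹
          calc t * (a * x * a⁻¹) * t⁻¹ = (t * a) * x * (t * a)⁻¹ := by group
            _ = (a * t) * x * (a * t)⁻¹ := by rw [e]
            _ = _ := by group
        rw [this, ← Subgroup.map_map, map_conj_eq_self_iff.mpr hQ₀]
      · intro hQ
        obtain ⟨g, rfl⟩ := MulAction.exists_smul_eq G Q₀ Q
        set Q := g • Q₀ with hQdef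
        have hQm : (Q : Subgroup G) = (Q₀ : Subgroup G).map (MulAut.conj g).toMonoidHom := rfl
        set t' := g * t * g⁻¹ with ht'
        have ht'2 : t' * t' = 1 := by
          calc g * t * g⁻¹ * (g * t * g⁻¹) = g * (t * t) * g⁻¹ := by group
            _ = 1 := by rw [ht]; group
        have ht'N : t' ∈ normalizer ((Q : Subgroup G) : Set G) := by
          rw [← map_conj_eq_self_iff, hQm, Subgroup.map_map]
          have : (MulAut.conj t').toMonoidHom.comp (MulAut.conj g).toMonoidHom =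
              (MulAut.conj g).toMonoidHom.comp (MulAut.conj t).toMonoidHom := by
            ext x; simp [ht', mul_assoc]
          rw [this, ← Subgroup.map_map, map_conj_eq_self_iff.mpr hQ₀]
        have ht'C : t' ∉ centralizer ((Q : Subgroup G) : Set G) := fun h => ht1 (by
          have := hK Q t' ht'2 h
          calc t = g⁻¹ * t' * g := by rw [ht']; group
            _ = 1 := by rw [this]; group)
        by_cases hcom : t * t' = t' * t
        · have h1 := hK Q (t * t') (by
            calc t * t' * (t * t') = t * (t' * t) * t' := by group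
              _ = (t * t) * (t' * t') := by rw [← hcom]; group
              _ = 1 := by rw [ht, ht'2, one_mul]) (c.mul_mem_cent Q ht ht'2 hQ (htC Q) ht'N ht'C)
          have htt : t' = t := (mul_left_cancel (h1.trans ht.symm))
          refine ⟨⟨g, mem_centralizer_singleton_iff.mpr ?_⟩, rfl⟩
          rw [ht'] at htt
          exact (mul_inv_eq_iff_eq_mul.mp htt)
        · obtain ⟨R, htR, -, -, -, z, hz, k, hk, hk2, hz2, e⟩ := c.pair ht ht'2 hcom
          rw [hK R k hk2 hk, mul_one] at e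
          have hz1 : z ≠ 1 := fun h => hz2 (by rw [h, one_mul])
          have hzC : z ∈ centralizer ((Q : Subgroup G) : Set G) :=
            e ▸ c.mul_mem_cent Q ht ht'2 hQ (htC Q) ht'N ht'C
          have hzQ : z ∈ (Q : Subgroup G) := by
            obtain ⟨k, hk⟩ := IsPGroup.iff_card.mp R.isPGroup'
            exact mem_sylow_of_normalizes Q (centralizer_le_normalizer _ hzC)
              ⟨k, hk ▸ Subgroup.orderOf_dvd_natCard _ hz⟩
          -- a square root of `z` in `Q`
          obtain ⟨w, hw, hwz⟩ : ∃ w ∈ (Q : Subgroup G), w * w = z := by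
            have ho : Odd (orderOf z) := by
              obtain ⟨k, hk⟩ := IsPGroup.iff_card.mp Q.isPGroup'
              exact ((hp.out.odd_of_ne_two c.p_ne_two).pow).of_dvd_nat
                (hk ▸ Subgroup.orderOf_dvd_natCard _ hzQ)
            obtain ⟨m, hm⟩ := ho
            refine ⟨z ^ (m + 1), pow_mem hzQ _, ?_⟩
            rw [← pow_add, show m + 1 + (m + 1) = orderOf z + 1 by omega, pow_succ, pow_orderOf_eq_one,
              one_mul]
          have hwt : w * t' * w⁻¹ = t := by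
            have hi := c.inverts Q ht'2 ht'N ht'C (inv_mem hw)
            rw [inv_inv] at hi
            have ht'i : t'⁻¹ = t' := inv_eq_of_mul_eq_one_right ht'2
            have e2 : t = z * t' := by rw [← e, mul_assoc, ht'2, mul_one]
            calc w * t' * w⁻¹ = w * (t' * w⁻¹ * t'⁻¹) * t' := by group
              _ = t := by rw [hi, hwz, e2]
          refine ⟨⟨w * g, mem_centralizer_singleton_iff.mpr ?_⟩, ?_⟩
          · refine mul_inv_eq_iff_eq_mul.mp ?_
            rw [show w * g * t * (w * g)⁻¹ = w * (g * t * g⁻¹) * w⁻¹ by group]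
            exact hwt
          · show (w * g) • Q₀ = Q
            rw [mul_smul]
            exact Sylow.smul_eq_iff_mem_normalizer.mpr (le_normalizer hw)
    rw [← horb, ← Nat.card_coe_set_eq, Nat.card_congr (MulAction.orbitEquivQuotientStabilizer A Q₀)] at hd
    exact hCp t ht ht1 (hd.trans (Subgroup.index_dvd_card _))
  have hsplit := Set.ncard_sdiff_add_ncard_of_subset (show Com ⊆ Inv from fun s hs => hs.1)
  rw [hcount] at hsplit
  have h3 : p ∣ F.ncard * (Nat.card (P₀ : Subgroup G) - 1) :=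
    (Nat.dvd_add_left h2).mp (hsplit.symm ▸ h1)
  rcases hp.out.dvd_mul.mp h3 with h | h
  · exact hF h
  · obtain ⟨k, hk⟩ := IsPGroup.iff_card.mp P₀.isPGroup'
    have hk0 : k ≠ 0 := fun e => c.bot_ne P₀ (Subgroup.card_eq_one.mp (by rw [hk, e, pow_zero]))
    rw [hk] at h
    have h4 : p ∣ p ^ k := dvd_pow_self p hk0
    have h5 := Nat.dvd_sub h4 h
    rw [Nat.sub_sub_self (Nat.one_le_pow _ _ hp.out.pos)] at h5
    exact hp.out.ne_one (Nat.dvd_one.mp h5)

/-- Some involution centralises a Sylow subgroup: impossible. -/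
theorem Cfg.false_even {Q₀ : Sylow p G} {k₀ : G} (hk₀ : k₀ * k₀ = 1) (hk1 : k₀ ≠ 1)
    (hkQ : k₀ ∈ centralizer ((Q₀ : Subgroup G) : Set G)) : False := by
  classical
  haveI : Fact (Nat.Prime 2) := ⟨Nat.prime_two⟩
  have hCk : ∀ (Q : Sylow p G) (k : G), k * k = 1 → k ≠ 1 →
      k ∈ centralizer ((Q : Subgroup G) : Set G) →
      centralizer ({k} : Set G) = normalizer ((Q : Subgroup G) : Set G) := fun Q k h h1 hQ =>
    c.cent_eq Q hQ (c.odd_order h) h1
  -- elementary abelian 2-subgroups through `k`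
  have hfour : ∀ (Q : Sylow p G) (T : Sylow 2 G) (k : G), k * k = 1 → k ≠ 1 →
      k ∈ centralizer ((Q : Subgroup G) : Set G) → k ∈ (T : Subgroup G) →
      ∃ y ∈ normalizer ((T : Subgroup G) : Set G), (∃ j, orderOf y ∣ p ^ j) ∧
        y * k * y⁻¹ ∉ centralizer ((Q : Subgroup G) : Set G) ∧
        (∀ s ∈ (T : Subgroup G), s * s = 1 → s ∈ centralizer ((Q : Subgroup G) : Set G) → s = 1 ∨ s = k) ∧
        ∀ s ∈ (T : Subgroup G), s * s = 1 → s ≠ 1 →
          s = k ∨ s = y * k * y⁻¹ ∨ s = k * (y * k * y⁻¹) := by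
    intro Q T k hk hk1 hkQ hkT
    have hTne : (T : Subgroup G) ≠ ⊥ := fun e => hk1 (by rwa [e, mem_bot] at hkT)
    have hTp : ¬ p ∣ Nat.card (T : Subgroup G) := by
      obtain ⟨n, hn⟩ := IsPGroup.iff_card.mp T.isPGroup'
      rw [hn]
      exact fun hd => c.p_ne_two ((Nat.prime_dvd_prime_iff_eq hp.out Nat.prime_two).mp
        (hp.out.dvd_of_dvd_pow hd))
    have hTc : ∀ a ∈ (T : Subgroup G), ∀ b ∈ (T : Subgroup G), a * b = b * a := fun a ha b hb =>
      congrArg Subtype.val ((c.hab _ hTp).is_comm.comm ⟨a, ha⟩ ⟨b, hb⟩)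
    have hTN : (T : Subgroup G) ≤ normalizer ((Q : Subgroup G) : Set G) := by
      rw [← hCk Q k hk hk1 hkQ]
      exact fun a ha => mem_centralizer_singleton_iff.mpr (hTc a ha k hkT)
    obtain ⟨y, hyN, hyC, hyp, hyo⟩ := c.exists_mover T hTne
    have hmul2 : ∀ a b : G, a * a = 1 → b * b = 1 → a * b = b * a → a * b * (a * b) = 1 := by
      intro a b ha hb hab
      calc a * b * (a * b) = a * (b * a) * b := by group
        _ = (a * a) * (b * b) := by rw [← hab]; group
        _ = 1 := by rw [ha, hb, one_mul]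
    -- the central involutions of `T` meet their conjugates trivially
    have hsep : ∀ g ∈ normalizer ((T : Subgroup G) : Set G), (∃ j, orderOf g ∣ p ^ j) →
        g ∉ centralizer ((T : Subgroup G) : Set G) → ∀ s ∈ (T : Subgroup G), s * s = 1 → s ≠ 1 →
        s ∈ centralizer ((Q : Subgroup G) : Set G) →
        g * s * g⁻¹ ∉ centralizer ((Q : Subgroup G) : Set G) := by
      intro g hg hgo hgC s hsT hs hs1 hsQ hin
      have h1 := hCk Q s hs hs1 hsQ
      have hs'1 : g * s * g⁻¹ ≠ 1 := fun e => hs1 (by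
        calc s = g⁻¹ * (g * s * g⁻¹) * g := by group
          _ = 1 := by rw [e]; group)
      have hs'2 : g * s * g⁻¹ * (g * s * g⁻¹) = 1 := by
        calc g * s * g⁻¹ * (g * s * g⁻¹) = g * (s * s) * g⁻¹ := by group
          _ = 1 := by rw [hs]; group
      have h2 := hCk Q _ hs'2 hs'1 hin
      have hgN : g ∈ normalizer ((Q : Subgroup G) : Set G) := by
        rw [← map_conj_eq_self_iff]
        refine eq_of_le_of_card_ge ?_ (card_map_conj g _).ge
        rintro _ ⟨a, ha, rfl⟩
        refine mem_sylow_of_normalizes Q ?_ ?_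
        · rw [← h2]
          have ha' : a ∈ centralizer ({s} : Set G) := h1.ge (le_normalizer ha)
          refine mem_centralizer_singleton_iff.mpr ?_
          show g * a * g⁻¹ * (g * s * g⁻¹) = g * s * g⁻¹ * (g * a * g⁻¹)
          calc g * a * g⁻¹ * (g * s * g⁻¹) = g * (a * s) * g⁻¹ := by group
            _ = g * (s * a) * g⁻¹ := by rw [mem_centralizer_singleton_iff.mp ha']
            _ = _ := by group
        · obtain ⟨j, hj⟩ := IsPGroup.iff_card.mp Q.isPGroup'
          refine ⟨j, ?_⟩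
          rw [show (MulAut.conj g).toMonoidHom a = MulAut.conj g a from rfl, MulEquiv.orderOf_eq]
          exact hj ▸ Subgroup.orderOf_dvd_natCard _ ha
      have hgQ : g ∈ (Q : Subgroup G) := mem_sylow_of_normalizes Q hgN hgo
      refine hgC (mem_centralizer_iff.mpr fun a ha => ?_)
      have hbot : (Q : Subgroup G) ⊓ (T : Subgroup G) = ⊥ := by
        refine CfsgLib.Base.inf_eq_bot_of_coprime ?_
        obtain ⟨j, hj⟩ := IsPGroup.iff_card.mp Q.isPGroup'
        rw [hj]; exact (hp.out.coprime_iff_not_dvd.mpr hTp).pow_left j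
      refine (commutatorElement_eq_one_iff_mul_comm.mp (mem_bot.mp (hbot ▸ mem_inf.mpr ⟨?_, ?_⟩))).symm
      · rw [commutatorElement_def, mul_assoc, mul_assoc, ← mul_assoc a]
        exact mul_mem hgQ ((mem_normalizer_iff.mp (hTN ha) _).mp (inv_mem hgQ))
      · rw [commutatorElement_def]
        exact mul_mem ((mem_normalizer_iff.mp hg a).mp ha) (inv_mem ha)
    set s₁ := y * k * y⁻¹ with hs₁
    have hs₁T : s₁ ∈ (T : Subgroup G) := (mem_normalizer_iff.mp hyN k).mp hkT
    have hs₁2 : s₁ * s₁ = 1 := by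
      calc y * k * y⁻¹ * (y * k * y⁻¹) = y * (k * k) * y⁻¹ := by group
        _ = 1 := by rw [hk]; group
    have hs₁C : s₁ ∉ centralizer ((Q : Subgroup G) : Set G) := hsep y hyN hyo hyC k hkT hk hk1 hkQ
    -- every central involution of `T` is `k`
    have honly : ∀ s ∈ (T : Subgroup G), s * s = 1 → s ∈ centralizer ((Q : Subgroup G) : Set G) →
        s = 1 ∨ s = k := by
      intro s hsT hs hsQ
      by_contra hcon
      push Not at hcon
      obtain ⟨hs1, hsk⟩ := hcon
      set s₂ := y * s * y⁻¹ with hs₂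
      have hs₂T : s₂ ∈ (T : Subgroup G) := (mem_normalizer_iff.mp hyN s).mp hsT
      have hs₂2 : s₂ * s₂ = 1 := by
        calc y * s * y⁻¹ * (y * s * y⁻¹) = y * (s * s) * y⁻¹ := by group
          _ = 1 := by rw [hs]; group
      have hm : s₁ * s₂ ∈ centralizer ((Q : Subgroup G) : Set G) :=
        c.mul_mem_cent Q hs₁2 hs₂2 (hTN hs₁T) hs₁C (hTN hs₂T) (hsep y hyN hyo hyC s hsT hs hs1 hsQ)
      refine hsep y hyN hyo hyC (k * s) (mul_mem hkT hsT) (hmul2 _ _ hk hs (hTc k hkT s hsT)) ?_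
        (mul_mem hkQ hsQ) ?_
      · exact fun e => hsk (mul_left_cancel (e.trans hk.symm))
      · rw [show y * (k * s) * y⁻¹ = s₁ * s₂ by rw [hs₁, hs₂]; group]
        exact hm
    refine ⟨y, hyN, hyo, hs₁C, honly, fun s hsT hs hs1 => ?_⟩
    by_cases hsQ : s ∈ centralizer ((Q : Subgroup G) : Set G)
    · exact Or.inl ((honly s hsT hs hsQ).resolve_left hs1)
    · have hm := c.mul_mem_cent Q hs₁2 hs (hTN hs₁T) hs₁C (hTN hsT) hsQ
      rcases honly _ (mul_mem hs₁T hsT) (hmul2 _ _ hs₁2 hs (hTc _ hs₁T _ hsT)) hm with e | e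
      · exact Or.inr (Or.inl (mul_left_cancel (e.trans hs₁2.symm)))
      · refine Or.inr (Or.inr ?_)
        calc s = s₁ * (s₁ * s) := by rw [← mul_assoc, hs₁2, one_mul]
          _ = s₁ * k := by rw [e]
          _ = k * s₁ := hTc _ hs₁T _ hkT
  -- elementary abelian subgroups lie in Sylow subgroups
  have hz2 : ∀ s : G, s * s = 1 → IsPGroup 2 (zpowers s) := by
    intro s hs g
    obtain ⟨i, hi⟩ := mem_zpowers_iff.mp g.2
    refine ⟨1, Subtype.ext ?_⟩
    rw [pow_one, SubmonoidClass.coe_pow, ← hi, pow_two, ← (Commute.refl _).mul_zpow, hs, one_zpow]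
    rfl
  have hsyl : ∀ s s' : G, s * s = 1 → s' * s' = 1 → Commute s s' →
      IsPGroup 2 ↥(zpowers s ⊔ zpowers s') := by
    intro s s' hs hs' hc
    refine (hz2 s hs).to_sup_of_normal_left' (hz2 s' hs')
      ((zpowers_le.mpr ?_).trans (centralizer_le_normalizer _))
    rw [zpowers_eq_closure, centralizer_closure]
    exact mem_centralizer_singleton_iff.mpr hc.symm.eq
  have hcnj : ∀ g s : G, s * s = 1 → g * s * g⁻¹ * (g * s * g⁻¹) = 1 := fun g s hs => by
    calc g * s * g⁻¹ * (g * s * g⁻¹) = g * (s * s) * g⁻¹ := by group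
      _ = 1 := by rw [hs]; group
  -- a single class of involutions
  have hconj : ∀ s : G, s * s = 1 → s ≠ 1 → ∃ g, g * k₀ * g⁻¹ = s := by
    intro s hs hs1
    obtain ⟨T, hT⟩ := (hz2 k₀ hk₀).exists_le_sylow
    obtain ⟨T', hT'⟩ := (hz2 s hs).exists_le_sylow
    obtain ⟨g, hg⟩ := MulAction.exists_smul_eq G T T'
    obtain ⟨a, haT, hag⟩ : ∃ a ∈ (T : Subgroup G), g * a * g⁻¹ = s := by
      have h : s ∈ ((g • T : Sylow 2 G) : Subgroup G) := by
        rw [hg]; exact hT' (mem_zpowers s)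
      obtain ⟨a, ha, e⟩ := h
      exact ⟨a, ha, e⟩
    obtain ⟨y, hyN, ⟨j, hj⟩, hyk, -, hall⟩ := hfour Q₀ T k₀ hk₀ hk1 hkQ (hT (mem_zpowers k₀))
    have hk₀T : k₀ ∈ (T : Subgroup G) := hT (mem_zpowers k₀)
    have hne : y * k₀ * y⁻¹ ≠ k₀ := fun e => hyk (by rwa [e])
    have ha2 : a * a = 1 := by
      have : a = g⁻¹ * s * g⁻¹⁻¹ := by rw [← hag]; group
      rw [this]; exact hcnj _ _ hs
    have ha1 : a ≠ 1 := fun e => hs1 (by rw [← hag, e]; group)
    suffices h : ∃ x, x * k₀ * x⁻¹ = a by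
      obtain ⟨x, hx⟩ := h
      exact ⟨g * x, by rw [← hag, ← hx]; group⟩
    rcases hall a haT ha2 ha1 with e | e | e
    · exact ⟨1, by rw [e]; group⟩
    · exact ⟨y, e.symm⟩
    rcases hall _ ((mem_normalizer_iff.mp hyN a).mp haT) (hcnj y a ha2)
      (fun h => ha1 (conj_eq_one_iff.mp h)) with h | h | h
    · exact ⟨y⁻¹, by rw [← h]; group⟩
    · exact ⟨1, by rw [mul_left_cancel (mul_right_cancel h)]; group⟩
    exfalso
    rw [← e] at h
    have h1 : y * (y * k₀ * y⁻¹) * y⁻¹ = k₀ := by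
      set s₁ := y * k₀ * y⁻¹ with hs₁
      have hs₁T : s₁ ∈ (T : Subgroup G) := (mem_normalizer_iff.mp hyN _).mp hk₀T
      rcases hall _ ((mem_normalizer_iff.mp hyN _).mp hs₁T) (hcnj y s₁ (hcnj y k₀ hk₀))
        (fun h => hk1 (conj_eq_one_iff.mp (conj_eq_one_iff.mp h))) with h' | h' | h'
      · exact h'
      · exact absurd (mul_left_cancel (mul_right_cancel h')) hne
      · rw [← e] at h'
        have h3 : s₁ = a := mul_left_cancel (mul_right_cancel (h'.trans h.symm))
        rw [e] at h3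
        exact absurd (mul_eq_right.mp h3.symm) hk1
    have hc2 : Commute (y ^ 2) k₀ := by
      show y ^ 2 * k₀ = k₀ * y ^ 2
      calc y ^ 2 * k₀ = (y * (y * k₀ * y⁻¹) * y⁻¹) * y ^ 2 := by rw [pow_two]; simp [mul_assoc]
        _ = k₀ * y ^ 2 := by rw [h1]
    obtain ⟨m, hm⟩ : Odd (orderOf y) := ((hp.out.odd_of_ne_two c.p_ne_two).pow).of_dvd_nat hj
    have hy : y = (y ^ 2) ^ (m + 1) := by
      rw [← pow_mul, show 2 * (m + 1) = orderOf y + 1 by omega, pow_succ, pow_orderOf_eq_one, one_mul]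
    refine hne (mul_inv_eq_iff_eq_mul.mpr ?_)
    rw [hy]
    exact (hc2.pow_left _).eq
  have hsmul : ∀ (g k : G) (Q : Sylow p G), k ∈ centralizer ((Q : Subgroup G) : Set G) →
      g * k * g⁻¹ ∈ centralizer (((g • Q : Sylow p G) : Subgroup G) : Set G) := by
    intro g k Q hk
    refine mem_centralizer_iff.mpr ?_
    rintro _ ⟨a, ha, rfl⟩
    show g * a * g⁻¹ * (g * k * g⁻¹) = g * k * g⁻¹ * (g * a * g⁻¹)
    calc g * a * g⁻¹ * (g * k * g⁻¹) = g * (a * k) * g⁻¹ := by group
      _ = g * (k * a) * g⁻¹ := by rw [mem_centralizer_iff.mp hk a ha]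
      _ = _ := by group
  have hkey : ∀ s : G, s * s = 1 → s ≠ 1 →
      ∃ Q : Sylow p G, s ∈ centralizer ((Q : Subgroup G) : Set G) := by
    intro s hs hs1
    obtain ⟨g, rfl⟩ := hconj s hs hs1
    exact ⟨g • Q₀, hsmul g k₀ Q₀ hkQ⟩
  have hcomm : ∀ (Q : Sylow p G) (k s : G), k * k = 1 → k ≠ 1 →
      k ∈ centralizer ((Q : Subgroup G) : Set G) →
      s ∈ normalizer ((Q : Subgroup G) : Set G) → s * k = k * s := fun Q k s h h1 hQ hs =>
    mem_centralizer_singleton_iff.mp ((hCk Q k h h1 hQ).ge hs)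
  have huniq : ∀ (Q : Sylow p G) (k s : G), k * k = 1 → k ≠ 1 →
      k ∈ centralizer ((Q : Subgroup G) : Set G) → s * s = 1 → s ≠ 1 →
      s ∈ centralizer ((Q : Subgroup G) : Set G) → s = k := by
    intro Q k s hk hk1 hkQ hs hs1 hsQ
    have hc : Commute k s := (hcomm Q k s hk hk1 hkQ (centralizer_le_normalizer _ hsQ)).symm
    obtain ⟨T, hT⟩ := (hsyl k s hk hs hc).exists_le_sylow
    obtain ⟨y, -, -, -, honly, -⟩ := hfour Q T k hk hk1 hkQ (hT (mem_sup_left (mem_zpowers k)))
    exact (honly s (hT (mem_sup_right (mem_zpowers s))) hs hsQ).resolve_left hs1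
  -- the commuting graph on involutions is a friendship graph
  let ι := {s : G // s * s = 1 ∧ s ≠ 1}
  haveI : Fintype ι := Fintype.ofFinite _
  let adj : ι → ι → Prop := fun a b => a ≠ b ∧ (a : G) * b = b * a
  have hfr : ∀ a b : ι, a ≠ b → ∃! u, adj a u ∧ adj u b := by
    rintro ⟨a, ha, ha1⟩ ⟨b, hb, hb1⟩ hab
    have hab' : a ≠ b := fun e => hab (Subtype.ext e)
    by_cases hc : a * b = b * a
    · have hw2 : a * b * (a * b) = 1 := by
        calc a * b * (a * b) = a * (b * a) * b := by group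
          _ = (a * a) * (b * b) := by rw [← hc]; group
          _ = 1 := by rw [ha, hb, one_mul]
      have hw1 : a * b ≠ 1 := fun e => hab' (mul_left_cancel (ha.trans e.symm))
      have hwa : a ≠ a * b := fun e => hb1 (mul_eq_left.mp e.symm)
      have hwb : a * b ≠ b := fun e => ha1 (mul_eq_right.mp e)
      refine ⟨⟨a * b, hw2, hw1⟩, ⟨⟨fun e => hwa (congrArg Subtype.val e), ?_⟩,
        ⟨fun e => hwb (congrArg Subtype.val e), ?_⟩⟩, ?_⟩
      · show a * (a * b) = a * b * a
        rw [mul_assoc, ← hc]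
      · show a * b * b = b * (a * b)
        rw [← mul_assoc b, ← hc]
      rintro ⟨u, hu, hu1⟩ ⟨⟨hau, hcau⟩, hub, hcub⟩
      refine Subtype.ext ?_
      show u = a * b
      obtain ⟨Q, haQ⟩ := hkey a ha ha1
      have hn : zpowers u ≤ centralizer ((zpowers a ⊔ zpowers b : Subgroup G) : Set G) := by
        rw [le_centralizer_iff]
        refine sup_le ?_ ?_ <;> rw [zpowers_le, zpowers_eq_closure, centralizer_closure,
          mem_centralizer_singleton_iff]
        · exact hcau
        · exact hcub.symm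
      obtain ⟨T, hT⟩ := ((hsyl a b ha hb hc).to_sup_of_normal_left' (hz2 u hu)
        (hn.trans (centralizer_le_normalizer _))).exists_le_sylow
      have haT : a ∈ (T : Subgroup G) := hT (mem_sup_left (mem_sup_left (mem_zpowers a)))
      have hbT : b ∈ (T : Subgroup G) := hT (mem_sup_left (mem_sup_right (mem_zpowers b)))
      have huT : u ∈ (T : Subgroup G) := hT (mem_sup_right (mem_zpowers u))
      obtain ⟨y, -, -, -, -, hall⟩ := hfour Q T a ha ha1 haQ haT
      have hua : u ≠ a := fun e => hau (Subtype.ext e.symm)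
      have hub' : u ≠ b := fun e => hub (Subtype.ext e)
      rcases (hall b hbT hb hb1).resolve_left (Ne.symm hab') with e | e <;>
        rcases (hall u huT hu hu1).resolve_left hua with e' | e'
      · exact absurd (e'.trans e.symm) hub'
      · rw [e', e]
      · rw [e', e, ← mul_assoc, ha, one_mul]
      · exact absurd (e'.trans e.symm) hub'
    · obtain ⟨Q, haN, haC, hbN, hbC, z, hz, k, hk, hkk, hz2', e⟩ := c.pair ha hb hc
      obtain ⟨g, hg⟩ := MulAction.exists_smul_eq G Q₀ Q
      have hkQ' : g * k₀ * g⁻¹ ∈ centralizer ((Q : Subgroup G) : Set G) := hg ▸ hsmul g k₀ Q₀ hkQ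
      have hk'1 : g * k₀ * g⁻¹ ≠ 1 := fun h => hk1 (conj_eq_one_iff.mp h)
      refine ⟨⟨g * k₀ * g⁻¹, hcnj g k₀ hk₀, hk'1⟩, ⟨⟨fun h => haC ?_, ?_⟩, fun h => hbC ?_, ?_⟩, ?_⟩
      · exact (show a = g * k₀ * g⁻¹ from congrArg Subtype.val h) ▸ hkQ'
      · exact hcomm Q _ a (hcnj g k₀ hk₀) hk'1 hkQ' haN
      · exact (show g * k₀ * g⁻¹ = b from congrArg Subtype.val h) ▸ hkQ'
      · exact (hcomm Q _ b (hcnj g k₀ hk₀) hk'1 hkQ' hbN).symm
      rintro ⟨u, hu, hu1⟩ ⟨⟨-, hcau⟩, -, hcub⟩
      refine Subtype.ext (huniq Q _ u (hcnj g k₀ hk₀) hk'1 hkQ' hu hu1 ?_)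
      refine c.cent_le Q (mul_mem hz hz) hz2' (mem_centralizer_singleton_iff.mpr ?_)
      have hcm : Commute u (a * b) := (Commute.symm hcau).mul_right hcub
      have hzk : Commute z k := mem_centralizer_iff.mp hk z hz
      have hsq : a * b * (a * b) = z * z := by rw [e, hzk.symm.mul_mul_mul_comm, hkk, mul_one]
      rw [← hsq]
      exact (hcm.mul_right hcm).eq
  let nb : ι → Finset ι := fun a => Finset.univ.filter (adj a)
  let a₀ : ι := ⟨k₀, hk₀, hk1⟩
  have hreg : ∀ a : ι, (nb a).card = (nb a₀).card := by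
    rintro ⟨a, ha, ha1⟩
    obtain ⟨g, rfl⟩ := hconj a ha ha1
    let e : ι ≃ ι := (MulAut.conj g).toEquiv.subtypeEquiv fun s => by
      show s * s = 1 ∧ s ≠ 1 ↔ g * s * g⁻¹ * (g * s * g⁻¹) = 1 ∧ g * s * g⁻¹ ≠ 1
      rw [show g * s * g⁻¹ * (g * s * g⁻¹) = g * (s * s) * g⁻¹ by group, conj_eq_one_iff, ne_eq, ne_eq,
        conj_eq_one_iff]
    refine (Finset.card_equiv e fun x => ?_).symm
    have he : ∀ x y : ι, adj x y ↔ adj (e x) (e y) := fun x y => and_congr e.injective.ne_iff.symm (by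
      show (x : G) * y = y * x ↔ MulAut.conj g x * MulAut.conj g y = MulAut.conj g y * MulAut.conj g x
      rw [← map_mul, ← map_mul, (MulAut.conj g).injective.eq_iff])
    simp only [nb, Finset.mem_filter, Finset.mem_univ, true_and]
    exact he a₀ x
  have hd3 : 3 ≤ (nb a₀).card := by
    obtain ⟨T, hT⟩ := (hz2 k₀ hk₀).exists_le_sylow
    obtain ⟨y, hyN, -, hyk, -, -⟩ := hfour Q₀ T k₀ hk₀ hk1 hkQ (hT (mem_zpowers k₀))
    set t := y * k₀ * y⁻¹ with ht
    have htT : t ∈ (T : Subgroup G) := (mem_normalizer_iff.mp hyN k₀).mp (hT (mem_zpowers k₀))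
    have ht2 : t * t = 1 := hcnj y k₀ hk₀
    have htp : ¬ p ∣ Nat.card (T : Subgroup G) := by
      obtain ⟨n, hn⟩ := IsPGroup.iff_card.mp T.isPGroup'
      rw [hn]
      exact fun hd => c.p_ne_two ((Nat.prime_dvd_prime_iff_eq hp.out Nat.prime_two).mp
        (hp.out.dvd_of_dvd_pow hd))
    have htN : t ∈ normalizer ((Q₀ : Subgroup G) : Set G) :=
      (hCk Q₀ k₀ hk₀ hk1 hkQ).le (mem_centralizer_singleton_iff.mpr (congrArg Subtype.val
        ((c.hab _ htp).is_comm.comm ⟨t, htT⟩ ⟨k₀, hT (mem_zpowers k₀)⟩)))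
    have hzc : ∀ z : (Q₀ : Subgroup G), t * z ∉ centralizer ((Q₀ : Subgroup G) : Set G) := by
      intro z h
      haveI := c.cyc Q₀
      refine hyk ?_
      have hz : (z : G) ∈ centralizer ((Q₀ : Subgroup G) : Set G) := mem_centralizer_iff.mpr
        fun a ha => congrArg Subtype.val (IsCyclic.isMulCommutative.is_comm.comm (⟨a, ha⟩ : (Q₀ : Subgroup G)) z)
      have h2 := mul_mem h (inv_mem hz)
      rwa [mul_inv_cancel_right] at h2
    let f : ↥(Q₀ : Subgroup G) → ι := fun z => ⟨t * z, by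
      have hzi := c.inverts Q₀ ht2 htN hyk z.2
      calc t * (z : G) * (t * z) = (t * (z : G) * t⁻¹) * z := by
            rw [inv_eq_of_mul_eq_one_right ht2]; group
        _ = 1 := by rw [hzi, inv_mul_cancel], fun h => hzc z (by rw [h]; exact one_mem _)⟩
    haveI : Fintype (Q₀ : Subgroup G) := Fintype.ofFinite _
    have hsub : Finset.univ.image f ⊆ nb a₀ := by
      intro u hu
      obtain ⟨z, -, rfl⟩ := Finset.mem_image.mp hu
      refine Finset.mem_filter.mpr ⟨Finset.mem_univ _, fun h => hzc z ?_, ?_⟩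
      · have : k₀ = t * (z : G) := congrArg Subtype.val h
        rwa [← this]
      · exact (hcomm Q₀ k₀ _ hk₀ hk1 hkQ (mul_mem htN (le_normalizer z.2))).symm
    have hinj : Function.Injective f := fun a b h =>
      Subtype.ext (mul_left_cancel (congrArg Subtype.val h))
    refine le_trans ?_ (Finset.card_le_card hsub)
    rw [Finset.card_image_of_injective _ hinj, Finset.card_univ, ← Nat.card_eq_fintype_card]
    obtain ⟨n, hn⟩ := IsPGroup.iff_card.mp Q₀.isPGroup'
    have hn0 : n ≠ 0 := fun e => c.bot_ne Q₀ (Subgroup.card_eq_one.mp (by rw [hn, e, pow_zero]))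
    have hp3 : 3 ≤ p := by
      have := hp.out.two_le
      have := c.p_ne_two
      omega
    rw [hn]
    exact hp3.trans (Nat.le_self_pow hn0 p)
  obtain ⟨q, hq, hqd⟩ := Nat.exists_prime_and_dvd (show (nb a₀).card - 1 ≠ 1 by omega)
  haveI : Fact q.Prime := ⟨hq⟩
  have hd1 : ((nb a₀).card : ZMod q) = 1 := by
    have h := (CharP.cast_eq_zero_iff (ZMod q) q _).mpr hqd
    rw [Nat.cast_sub (by omega), Nat.cast_one, sub_eq_zero] at h
    exact h
  let M : Matrix ι ι (ZMod q) := Matrix.of fun a b => if adj a b then 1 else 0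
  let J : Matrix ι ι (ZMod q) := Matrix.of fun _ _ => 1
  have hrow : ∀ a, (∑ b, M a b) = 1 := fun a => by
    show (∑ b, if adj a b then (1 : ZMod q) else 0) = 1
    rw [Finset.sum_boole]
    exact (congrArg Nat.cast (hreg a)).trans hd1
  have hMJ : M * J = J := by
    ext a b
    show ∑ i, M a i * 1 = 1
    simp only [mul_one]
    exact hrow a
  have hMM : M * M = J := by
    ext a b
    show ∑ i, (if adj a i then (1 : ZMod q) else 0) * (if adj i b then 1 else 0) = 1
    simp only [ite_zero_mul_ite_zero, mul_one]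
    rw [Finset.sum_boole]
    by_cases hab : a = b
    · subst hab
      rw [show (Finset.univ.filter fun i => adj a i ∧ adj i a) = nb a from Finset.filter_congr fun i _ =>
        ⟨fun h => h.1, fun h => ⟨h, Ne.symm h.1, h.2.symm⟩⟩]
      exact (congrArg Nat.cast (hreg a)).trans hd1
    · obtain ⟨u, hu, huu⟩ := hfr a b hab
      rw [show (Finset.univ.filter fun i => adj a i ∧ adj i b) = {u} from
        Finset.eq_singleton_iff_unique_mem.mpr ⟨Finset.mem_filter.mpr ⟨Finset.mem_univ _, hu⟩,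
          fun i hi => huu i (Finset.mem_filter.mp hi).2⟩, Finset.card_singleton, Nat.cast_one]
  have hpow : ∀ n, M ^ (n + 2) = J := by
    intro n
    induction n with
    | zero => rw [zero_add, pow_two, hMM]
    | succ n ih => rw [show n + 1 + 2 = n + 2 + 1 from rfl, pow_succ', ih, hMJ]
  have htr : J.trace = 0 := by
    rw [← hpow (q - 2), show q - 2 + 2 = q from by have := hq.two_le; omega, ZMod.trace_pow_card]
    have : M.trace = 0 := Finset.sum_eq_zero fun a _ => if_neg fun h => h.1 rfl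
    rw [this, zero_pow hq.ne_zero]
  have hJ : J.trace = (Fintype.card ι : ZMod q) := by simp [Matrix.trace, J]
  have hJJ : (Fintype.card ι : ZMod q) = 1 := by
    have h : (J * J) a₀ a₀ = J a₀ a₀ := by
      have : J * J = J := by nth_rw 1 [← hMM]; rw [mul_assoc, hMJ, hMJ]
      rw [this]
    simpa [Matrix.mul_apply, J] using h
  exact one_ne_zero (hJJ.symm.trans (hJ.symm.trans htr))

end main

section assembly
variable {p : ℕ} [hp : Fact p.Prime]

/-- The elements of order prime to `p` of a group with a normal `p`-complement lie in it. -/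
theorem mem_of_index_eq_pow {G : Type u} [Group G] [Finite G] {K : Subgroup G} (hK : K.Normal)
    {k : ℕ} (hk : K.index = p ^ k) {x : G} (hx : ¬ p ∣ orderOf x) : x ∈ K := by
  have h1 : orderOf (x : G ⧸ K) ∣ p ^ k := by
    rw [← hk, Subgroup.index]
    exact _root_.orderOf_dvd_natCard _
  have h2 : orderOf (x : G ⧸ K) ∣ orderOf x := orderOf_map_dvd (QuotientGroup.mk' K) x
  exact (QuotientGroup.eq_one_iff x).mp (orderOf_eq_one_iff.mp (Nat.eq_one_of_dvd_coprimes
    ((hp.out.coprime_iff_not_dvd.mpr hx).pow_left k) h1 h2))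

theorem map_subtype_normal_of_compl {G : Type u} [Group G] [Finite G] {L : Subgroup G} (hL : L.Normal)
    {K : Subgroup L} (hK : K.Normal) (hKp : ¬ p ∣ Nat.card K) {k : ℕ} (hk : K.index = p ^ k) :
    (K.map L.subtype).Normal := by
  refine ⟨?_⟩
  rintro _ ⟨x, hx, rfl⟩ g
  refine ⟨⟨g * x * g⁻¹, hL.conj_mem x x.2 g⟩, mem_of_index_eq_pow hK hk fun hd => hKp ?_, rfl⟩
  rw [← orderOf_coe] at hd
  have e : orderOf (g * (x : G) * g⁻¹) = orderOf (x : G) := MulEquiv.orderOf_eq (MulAut.conj g) _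
  rw [show orderOf ((⟨g * x * g⁻¹, hL.conj_mem x x.2 g⟩ : L) : G) = orderOf (g * (x : G) * g⁻¹) from rfl,
    e, orderOf_coe] at hd
  exact hd.trans (Subgroup.orderOf_dvd_natCard K hx)

theorem map_subtype_normal_of_sylow {G : Type u} [Group G] [Finite G] {L : Subgroup G} (hL : L.Normal)
    (Q : Sylow p L) (hQ : (Q : Subgroup L).Normal) : ((Q : Subgroup L).map L.subtype).Normal := by
  refine ⟨?_⟩
  rintro _ ⟨x, hx, rfl⟩ g
  refine ⟨⟨g * x * g⁻¹, hL.conj_mem x x.2 g⟩, mem_sylow_of_normalizes Q ?_ ?_, rfl⟩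
  · rw [normalizer_eq_top_iff.mpr hQ]; exact mem_top _
  · obtain ⟨k, hk⟩ := IsPGroup.iff_card.mp Q.isPGroup'
    refine ⟨k, ?_⟩
    have e : orderOf (g * (x : G) * g⁻¹) = orderOf (x : G) := MulEquiv.orderOf_eq (MulAut.conj g) _
    rw [← orderOf_coe]
    show orderOf (g * (x : G) * g⁻¹) ∣ p ^ k
    rw [e, orderOf_coe]
    exact hk ▸ Subgroup.orderOf_dvd_natCard _ hx

/-- A cyclic Sylow subgroup and abelian `p'`-subgroups: normal `p`-complement or normal Sylow subgroup. -/
theorem dichotomy (n : ℕ) : ∀ {G : Type u} [Group G] [Finite G], Nat.card G ≤ n →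
    ∀ P : Sylow p G, IsCyclic P → (∀ H : Subgroup G, ¬ p ∣ Nat.card H → IsMulCommutative H) →
    Cfsg.HasNormalPComplement p G ∨ (P : Subgroup G).Normal := by
  induction n with
  | zero =>
    intro G _ _ h
    exact absurd h (by have := Nat.card_pos (α := G); omega)
  | succ n ih =>
  intro G _ _ hn P₁ hcyc hab
  by_contra hcon
  rw [not_or] at hcon
  obtain ⟨hnc, hnn₁⟩ := hcon
  haveI := hcyc
  have cyc : ∀ Q : Sylow p G, IsCyclic (Q : Subgroup G) := fun Q => isCyclic_of_surjective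
    (P₁.equiv Q) (P₁.equiv Q).surjective
  have hnn : ∀ Q : Sylow p G, ¬ (Q : Subgroup G).Normal := fun Q hQ => hnn₁ (by
    letI := Sylow.unique_of_normal Q hQ
    rwa [Subsingleton.elim P₁ Q])
  have hQc : ∀ Q : Sylow p G, (Q : Subgroup G) ≤ centralizer ((Q : Subgroup G) : Set G) := fun Q a ha =>
    mem_centralizer_iff.mpr fun b hb => by
      haveI := cyc Q
      exact congrArg Subtype.val
        (IsCyclic.isMulCommutative.is_comm.comm (⟨b, hb⟩ : (Q : Subgroup G)) ⟨a, ha⟩)
  have moved : ∀ Q : Sylow p G, ∃ h ∈ normalizer ((Q : Subgroup G) : Set G),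
      h ∉ centralizer ((Q : Subgroup G) : Set G) ∧ ¬ p ∣ orderOf h := by
    intro Q
    by_contra hno
    refine hnc (CfsgLib.Transfer.hasNormalPComplement_of_normalizer_le_centralizer Q fun x hx => ?_)
    obtain ⟨a, ha, b, hb, hab', hap, hbp⟩ := CfsgLib.Transfer.exists_pPart_mul (p := p) x
    rw [← hab']
    refine mul_mem (hQc Q (mem_sylow_of_normalizes Q (zpowers_le.mpr hx ha) hap)) ?_
    by_contra hbC
    exact hno ⟨b, zpowers_le.mpr hx hb, hbC, CfsgLib.Transfer.coprime_orderOf_iff.mp hbp⟩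
  have subcyc : ∀ {L : Subgroup G} (R : Sylow p L), IsCyclic R := by
    intro L R
    obtain ⟨Q, hQ⟩ := (R.isPGroup'.map L.subtype).exists_le_sylow
    haveI := cyc Q
    exact isCyclic_of_injective ((inclusion hQ).comp ((R : Subgroup L).equivMapOfInjective L.subtype
      L.subtype_injective).toMonoidHom) ((inclusion_injective hQ).comp (MulEquiv.injective _))
  have subab : ∀ (L : Subgroup G) (H : Subgroup L), ¬ p ∣ Nat.card H → IsMulCommutative H := by
    intro L H hH
    have h := hab (H.map L.subtype) (by rwa [card_map_subtype])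
    exact ⟨⟨fun a b => by
      apply Subtype.ext
      apply Subtype.ext
      have := congrArg Subtype.val (h.is_comm.comm (⟨_, mem_map_of_mem L.subtype a.2⟩ : H.map L.subtype)
        ⟨_, mem_map_of_mem L.subtype b.2⟩)
      simpa using this⟩⟩
  have subIH : ∀ {L : Subgroup G}, L ≠ ⊤ → ∀ R : Sylow p L,
      Cfsg.HasNormalPComplement p L ∨ (R : Subgroup L).Normal := fun {L} hL R =>
    ih (by
      have : Nat.card L < Nat.card G := (Subgroup.card_le_card_group L).lt_of_ne fun e => hL (eq_top_of_card_eq L e)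
      omega) R (subcyc R) (subab L)
  have local_le : ∀ (Q : Sylow p G) (U : Subgroup G), U ≠ ⊤ → (Q : Subgroup G) ≤ U →
      (∃ h ∈ U, h ∈ normalizer ((Q : Subgroup G) : Set G) ∧ h ∉ centralizer ((Q : Subgroup G) : Set G) ∧
        ¬ p ∣ orderOf h) → U ≤ normalizer ((Q : Subgroup G) : Set G) := by
    intro Q U hU hQU ⟨h, hhU, hhN, hhC, hho⟩
    rcases subIH hU (Q.subtype hQU) with hc | hnor
    · obtain ⟨K, hK, hKp, k, hk⟩ := CfsgLib.Transfer.hasNormalPComplement_iff_exists.mp hc
      refine absurd (mem_centralizer_iff.mpr fun z hz => ?_) hhC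
      have hhK : (⟨h, hhU⟩ : U) ∈ K := mem_of_index_eq_pow hK hk (by rwa [← orderOf_coe])
      have h1 : h * z * h⁻¹ * z⁻¹ ∈ K.map U.subtype :=
        ⟨⟨h, hhU⟩ * (⟨z, hQU hz⟩ * ⟨h, hhU⟩⁻¹ * ⟨z, hQU hz⟩⁻¹),
          mul_mem hhK (hK.conj_mem _ (inv_mem hhK) _), by simp [mul_assoc]⟩
      have h2 : h * z * h⁻¹ * z⁻¹ ∈ (Q : Subgroup G) :=
        mul_mem ((mem_normalizer_iff.mp hhN z).mp hz) (inv_mem hz)
      have hbot : (Q : Subgroup G) ⊓ K.map U.subtype = ⊥ := by
        refine CfsgLib.Base.inf_eq_bot_of_coprime ?_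
        obtain ⟨m, hm⟩ := IsPGroup.iff_card.mp Q.isPGroup'
        rw [hm, card_map_subtype]; exact (hp.out.coprime_iff_not_dvd.mpr hKp).pow_left m
      have h3 := hbot ▸ mem_inf.mpr ⟨h2, h1⟩
      rw [mem_bot, mul_inv_eq_one, mul_inv_eq_iff_eq_mul] at h3
      exact h3.symm
    · exact le_normalizer_of_normal_subgroupOf (hK := hnor) hQU
  -- no normal subgroups of order prime to `p`
  have no_p' : ∀ M : Subgroup G, M.Normal → ¬ p ∣ Nat.card M → M = ⊥ := by
    intro M hM hMp
    by_contra hM1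
    haveI := hM
    obtain ⟨h, hhN, hhC, hho⟩ := moved P₁
    have hn' : zpowers h ≤ normalizer (M : Set G) := by
      rw [normalizer_eq_top_iff.mpr hM]; exact le_top
    have hU : ¬ p ∣ Nat.card ↥(zpowers h ⊔ M) := by
      intro hd
      rcases hp.out.dvd_mul.mp (hd.trans (CfsgLib.Coprime.card_sup_dvd hn')) with h' | h'
      · rw [Nat.card_zpowers] at h'; exact hho h'
      · exact hMp h'
    have hhM : h ∈ centralizer (M : Set G) := mem_centralizer_iff.mpr fun m hm => congrArg Subtype.val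
      ((hab _ hU).is_comm.comm ⟨m, mem_sup_right hm⟩ ⟨h, mem_sup_left (mem_zpowers h)⟩)
    have hCn : (centralizer (M : Set G)).Normal := by
      rw [← normalizer_eq_top_iff, eq_top_iff, ← normalizer_eq_top_iff.mpr hM]
      exact CfsgLib.PLocal.normalizer_le_centralizer_normalizer M
    have hPM : (P₁ : Subgroup G) ≤ centralizer (M : Set G) := by
      intro z hz
      let f : ↥(P₁ : Subgroup G) → ↥(P₁ : Subgroup G) := fun w =>
        ⟨h * w * h⁻¹ * (w : G)⁻¹, mul_mem ((mem_normalizer_iff.mp hhN _).mp w.2) (inv_mem w.2)⟩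
      have hf : Function.Injective f := by
        intro a b e
        have e' : h * (a : G) * h⁻¹ * (a : G)⁻¹ = h * b * h⁻¹ * (b : G)⁻¹ := congrArg Subtype.val e
        refine Subtype.ext (inv_mul_eq_one.mp ?_).symm
        by_contra hne
        refine hhC (centralizes_of_fix hcyc P₁.isPGroup' hhN hho (mul_mem (inv_mem b.2) a.2) hne ?_)
        have hab2 : (b : G)⁻¹ * a = a * (b : G)⁻¹ := congrArg Subtype.val
          (IsCyclic.isMulCommutative.is_comm.comm (b⁻¹ : (P₁ : Subgroup G)) a)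
        calc h * ((b : G)⁻¹ * a) = (h * b * h⁻¹)⁻¹ * (h * (a : G) * h⁻¹ * (a : G)⁻¹) * a * h := by group
          _ = (b : G)⁻¹ * a * h := by rw [e']; group
      obtain ⟨w, hw⟩ := (Finite.injective_iff_surjective.mp hf) ⟨z, hz⟩
      have : h * (w : G) * h⁻¹ * (w : G)⁻¹ = z := congrArg Subtype.val hw
      rw [← this, mul_assoc, mul_assoc, ← mul_assoc (w : G)]
      exact mul_mem hhM (hCn.conj_mem _ (inv_mem hhM) _)
    let R : Sylow p (G ⧸ M) := P₁.mapSurjective (QuotientGroup.mk'_surjective M)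
    have hRc : IsCyclic R := by
      haveI := hcyc
      exact isCyclic_of_surjective ((QuotientGroup.mk' M).subgroupMap (P₁ : Subgroup G))
        ((QuotientGroup.mk' M).subgroupMap_surjective _)
    have hqab : ∀ H : Subgroup (G ⧸ M), ¬ p ∣ Nat.card H → IsMulCommutative H := by
      intro H hH
      have h := hab (H.comap (QuotientGroup.mk' M)) (by
        rw [CfsgLib.Base.card_comap_mk']
        exact fun hd => (hp.out.dvd_mul.mp hd).elim hMp hH)
      refine ⟨⟨?_⟩⟩
      rintro ⟨a, ha⟩ ⟨b, hb⟩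
      obtain ⟨a, rfl⟩ := QuotientGroup.mk'_surjective M a
      obtain ⟨b, rfl⟩ := QuotientGroup.mk'_surjective M b
      refine Subtype.ext ?_
      show QuotientGroup.mk' M a * QuotientGroup.mk' M b = QuotientGroup.mk' M b * QuotientGroup.mk' M a
      rw [← map_mul, ← map_mul]
      exact congrArg _ (congrArg Subtype.val (h.is_comm.comm ⟨a, ha⟩ ⟨b, hb⟩))
    rcases ih (by
      have h1 := Subgroup.card_eq_card_quotient_mul_card_subgroup M
      have h2 : 1 < Nat.card M := Finite.one_lt_card_iff_nontrivial.mpr ((nontrivial_iff_ne_bot M).mpr hM1)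
      have h3 : 0 < Nat.card (G ⧸ M) := Nat.card_pos
      nlinarith) R hRc hqab with hc | hRn
    · exact hnc (CfsgLib.Transfer.hasNormalPComplement_of_quotient_coprime M
        (hp.out.coprime_iff_not_dvd.mpr hMp).symm hc)
    · refine hnn₁ ⟨fun z hz g => ?_⟩
      have hPMn : ((P₁ : Subgroup G) ⊔ M).Normal := by
        have : ((P₁ : Subgroup G).map (QuotientGroup.mk' M)).Normal := hRn
        have h2 := this.comap (QuotientGroup.mk' M)
        rwa [comap_map_eq, QuotientGroup.ker_mk'] at h2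
      have hle : (P₁ : Subgroup G) ⊔ M ≤ normalizer ((P₁ : Subgroup G) : Set G) :=
        sup_le le_normalizer ((le_centralizer_iff.mp hPM).trans (centralizer_le_normalizer _))
      refine mem_sylow_of_normalizes P₁ (hle (hPMn.conj_mem z (mem_sup_left hz) g)) ?_
      obtain ⟨k, hk⟩ := IsPGroup.iff_card.mp P₁.isPGroup'
      refine ⟨k, ?_⟩
      rw [show orderOf (g * z * g⁻¹) = orderOf z from MulEquiv.orderOf_eq (MulAut.conj g) z]
      exact hk ▸ Subgroup.orderOf_dvd_natCard _ hz
  -- a normal proper subgroup gives a normal `p`-subgroup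
  have getp : ∀ L : Subgroup G, L.Normal → L ≠ ⊤ →
      ∃ Z : Subgroup G, Z.Normal ∧ IsPGroup p Z ∧ ∀ R : Sylow p L, (R : Subgroup L).map L.subtype = Z := by
    intro L hL hLt
    obtain ⟨R⟩ : Nonempty (Sylow p L) := inferInstance
    rcases subIH hLt R with hc | hRn
    · obtain ⟨K, hK, hKp, k, hk⟩ := CfsgLib.Transfer.hasNormalPComplement_iff_exists.mp hc
      have hKG := no_p' _ (map_subtype_normal_of_compl hL hK hKp hk) (by rwa [card_map_subtype])
      have hLp : IsPGroup p L := IsPGroup.of_card (n := k) (by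
        rw [← card_mul_index K, hk, show Nat.card K = 1 by rw [← card_map_subtype, hKG, card_bot], one_mul])
      refine ⟨L, hL, hLp, fun R' => ?_⟩
      rw [show (R' : Subgroup L) = ⊤ from (R'.is_maximal' (hLp.to_subgroup ⊤) le_top).symm,
        ← MonoidHom.range_eq_map, range_subtype]
    · refine ⟨_, map_subtype_normal_of_sylow hL R hRn, R.isPGroup'.map _, fun R' => ?_⟩
      letI := Sylow.unique_of_normal R hRn
      rw [Subsingleton.elim R' R]
  have simple : ∀ M : Subgroup G, M.Normal → M = ⊥ ∨ M = ⊤ := by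
    intro M hM
    by_contra hcon
    push Not at hcon
    obtain ⟨hM1, hMt⟩ := hcon
    obtain ⟨Z, hZn, hZp, hZ⟩ := getp M hM hMt
    have hZ1 : Z ≠ ⊥ := by
      intro e
      obtain ⟨R⟩ : Nonempty (Sylow p M) := inferInstance
      refine hM1 (no_p' M hM fun hd => R.not_dvd_index ?_)
      have hR : (R : Subgroup M) = ⊥ := (map_eq_bot_iff_of_injective _ M.subtype_injective).mp (by
        rw [hZ R, e])
      rwa [hR, index_bot]
    obtain ⟨Q, hZQ'⟩ := hZp.exists_le_sylow
    have hZQ : Z ≤ (P₁ : Subgroup G) := by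
      obtain ⟨g, hg⟩ := MulAction.exists_smul_eq G Q P₁
      intro z hz
      rw [← hg]
      exact ⟨g⁻¹ * z * g⁻¹⁻¹, hZQ' (hZn.conj_mem z hz g⁻¹), by simp [mul_assoc]⟩
    obtain ⟨z, hz, hz1⟩ := (bot_or_exists_ne_one Z).resolve_left hZ1
    obtain ⟨h, hhN, hhC, hho⟩ := moved P₁
    set L := centralizer (Z : Set G) with hL
    have hLn : L.Normal := by
      rw [← normalizer_eq_top_iff, eq_top_iff, ← normalizer_eq_top_iff.mpr hZn]
      exact CfsgLib.PLocal.normalizer_le_centralizer_normalizer Z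
    have hLt : L ≠ ⊤ := fun e => hhC (centralizes_of_fix hcyc P₁.isPGroup' hhN hho (hZQ hz) hz1
      (mem_centralizer_iff.mp (show h ∈ centralizer (Z : Set G) by rw [← hL, e]; exact mem_top h) z hz).symm)
    have hPL : (P₁ : Subgroup G) ≤ L := fun a ha => mem_centralizer_iff.mpr fun b hb =>
      mem_centralizer_iff.mp (hQc P₁ ha) b (hZQ hb)
    obtain ⟨Z', hZ'n, -, hZ'⟩ := getp L hLn hLt
    refine hnn₁ ?_
    have : ((P₁.subtype hPL : Sylow p L) : Subgroup L).map L.subtype = (P₁ : Subgroup G) := by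
      rw [Sylow.coe_subtype, subgroupOf_map_subtype, inf_eq_left.mpr hPL]
    rw [← this, hZ']
    exact hZ'n
  have c : Cfg p G := ⟨hab, simple, cyc, moved, local_le, hnn⟩
  have heven : 2 ∣ Nat.card G := by
    by_contra h2
    have hodd : Odd (Nat.card G) := Nat.odd_iff.mpr (Nat.two_dvd_ne_zero.mp h2)
    haveI hsol : Group.IsSolvable G := CfsgLib.FT.isSolvable_of_odd hodd
    haveI : Nontrivial G := by
      by_contra hnt
      rw [not_nontrivial_iff_subsingleton] at hnt
      exact c.bot_ne P₁ (Subsingleton.elim _ _)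
    rcases simple (commutator G) inferInstance with e | e
    · refine hnn₁ ⟨fun z hz g => ?_⟩
      have : ⁅g, z⁆ ∈ commutator G := by
        rw [_root_.commutator_def]; exact commutator_mem_commutator (mem_top _) (mem_top _)
      rw [e, mem_bot, commutatorElement_eq_one_iff_mul_comm] at this
      rwa [this, mul_inv_cancel_right]
    · exact (Group.IsSolvable.commutator_lt_top_of_nontrivial G).ne e
  obtain ⟨t, ht⟩ := exists_prime_orderOf_dvd_card' (G := G) 2 heven
  have ht2 : t * t = 1 := by rw [← pow_two, ← ht, pow_orderOf_eq_one]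
  have ht1 : t ≠ 1 := fun e => by rw [e, orderOf_one] at ht; norm_num at ht
  by_cases hK : ∀ (Q : Sylow p G) (s : G), s * s = 1 →
      s ∈ centralizer ((Q : Subgroup G) : Set G) → s = 1
  · exact c.false_odd hK ht2 ht1
  · push Not at hK
    obtain ⟨Q, s, hs, hsQ, hs1⟩ := hK
    exact c.false_even hs hs1 hsQ

end assembly

end CfsgLib.FgsB.CycDich
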