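import Mathlib
import Cfsg.Agent.Lib.SolvStruct.PiElements
import Cfsg.Agent.Lib.CharsMore.NormalComplement

/-!
A π-homogeneous group in which every π-subgroup is conjugate into one π-subgroup `H` has a normal
π-complement: `H` controls the fusion of its `p`-subgroups, inductively of all its elements, and
Brauer's normal complement theorem applies.
-/

set_option autoImplicit false
set_option linter.style.haveILetI false

namespace CfsgLib.FgsB.DPiHomogeneous

open Subgroup CfsgLib.SolvStruct.PiElements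

/-- every prime divisor of the order lies in `π` -/
abbrev PiGrp (π : Set ℕ) {G : Type*} [Group G] (H : Subgroup G) : Prop :=
  ∀ p : ℕ, p.Prime → p ∣ Nat.card H → p ∈ π

/-- every π-subgroup is conjugate into `H` -/
abbrev Covers (π : Set ℕ) {G : Type*} [Group G] (H : Subgroup G) : Prop :=
  ∀ Y : Subgroup G, PiGrp π Y → ∃ g : G, ∀ y ∈ Y, g * y * g⁻¹ ∈ H

variable {G : Type*} [Group G] [Finite G] {π : Set ℕ}

/-- The automizer of a π-subgroup is induced by a π-subgroup of the normaliser. -/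
theorem exists_lift (hhom : Homog πᶜ G) {B : Subgroup G} (hB : PiGrp π B) :
    ∃ L : Subgroup G, PiGrp π L ∧ L ≤ normalizer (B : Set G) ∧
      ∀ n ∈ normalizer (B : Set G), ∃ l ∈ L, l⁻¹ * n ∈ centralizer (B : Set G) := by
  suffices h : ∀ m, ∀ L : Subgroup G, Nat.card L = m → L ≤ normalizer (B : Set G) →
      (∀ n ∈ normalizer (B : Set G), ∃ l ∈ L, l⁻¹ * n ∈ centralizer (B : Set G)) →
      ∃ L : Subgroup G, PiGrp π L ∧ L ≤ normalizer (B : Set G) ∧
        ∀ n ∈ normalizer (B : Set G), ∃ l ∈ L, l⁻¹ * n ∈ centralizer (B : Set G) from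
    h _ _ rfl le_rfl fun n hn => ⟨n, hn, by rw [inv_mul_cancel]; exact one_mem _⟩
  intro m
  induction m using Nat.strong_induction_on with
  | _ m ih =>
    intro L hm hLN hcov
    by_cases hL : PiGrp π L
    · exact ⟨L, hL, hLN, hcov⟩
    simp only [PiGrp, not_forall] at hL
    obtain ⟨p, hp, hpL, hpπ⟩ := hL
    haveI := Fact.mk hp
    let T : Sylow p L := default
    haveI := centralizer_subgroupOf_normalizer_normal B
    let D : Subgroup L := (centralizer (B : Set G)).subgroupOf L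
    haveI : D.Normal := ⟨fun d hd l => by
      have := Normal.conj_mem (centralizer_subgroupOf_normalizer_normal B)
        ⟨d.1, hLN d.2⟩ hd ⟨l.1, hLN l.2⟩
      exact this⟩
    have hTD : (T : Subgroup L) ≤ D := fun t ht => by
      obtain ⟨k, hk⟩ := IsPGroup.iff_orderOf.1 T.2 ⟨t, ht⟩
      rw [Subgroup.orderOf_mk] at hk
      exact hhom B (fun q hq hd hqπ => hqπ (hB q hq hd)) p hp hpπ _ (hLN t.2)
        ⟨k, (Subgroup.orderOf_coe t).trans hk⟩
    let L1 : Subgroup L := normalizer ((T : Subgroup L) : Set L)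
    have hsup : L1 ⊔ D = ⊤ := Sylow.normalizer_sup_eq_top' T hTD
    have hTL1 : (T : Subgroup L) ≤ L1 := le_normalizer
    let T1 : Sylow p L1 := T.subtype hTL1
    haveI : (T1 : Subgroup L1).Normal := by
      show ((T : Subgroup L).subgroupOf L1).Normal
      exact normal_in_normalizer
    obtain ⟨C2, hC2⟩ := exists_right_complement'_of_coprime T1.card_coprime_index
    refine ih _ ?_ (C2.map (L.subtype.comp L1.subtype)) rfl ?_ ?_
    · rw [← hm, Subgroup.card_map_of_injective (f := L.subtype.comp L1.subtype)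
        (L.subtype_injective.comp L1.subtype_injective)]
      have h1 : p ∣ Nat.card (T1 : Subgroup L1) := by
        show p ∣ Nat.card ((T : Subgroup L).subgroupOf L1)
        rw [Nat.card_congr (subgroupOfEquivOfLe hTL1).toEquiv]
        exact T.dvd_card_of_dvd_card hpL
      have h2 : 2 ≤ Nat.card (T1 : Subgroup L1) :=
        hp.two_le.trans (Nat.le_of_dvd Nat.card_pos h1)
      have h3 := hC2.card_mul
      have h4 : Nat.card L1 ≤ Nat.card L := Nat.card_le_card_of_injective _ L1.subtype_injective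
      have h5 : 0 < Nat.card C2 := Nat.card_pos
      nlinarith
    · rintro _ ⟨c, -, rfl⟩
      exact hLN c.1.2
    · intro n hn
      obtain ⟨l, hl, hln⟩ := hcov n hn
      obtain ⟨a, ha, d, hd, had⟩ := mem_sup_of_normal_right.1
        (hsup ▸ mem_top (⟨l, hl⟩ : L) : (⟨l, hl⟩ : L) ∈ L1 ⊔ D)
      obtain ⟨t, ht, c, hc, htc⟩ : ∃ t ∈ (T1 : Subgroup L1), ∃ c ∈ C2, t * c = ⟨a, ha⟩ := by
        obtain ⟨⟨t, c⟩, e⟩ := hC2.2 ⟨a, ha⟩
        exact ⟨t, t.2, c, c.2, e⟩
      refine ⟨_, ⟨c, hc, rfl⟩, ?_⟩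
      have htc' : c⁻¹ * t * c ∈ (T1 : Subgroup L1) := by
        simpa using Normal.conj_mem (inferInstance : (T1 : Subgroup L1).Normal) t ht c⁻¹
      have e : ((c : L) : G)⁻¹ * n =
          (((c⁻¹ * t * c : L1) : L) : G) * ((d : G) * (l⁻¹ * n)) := by
        have e1 : l = ((t : L) : G) * ((c : L) : G) * (d : G) := by
          have := congrArg (fun z : L => (z : G)) had
          rw [← show ((t * c : L1) : L) = a from congrArg Subtype.val htc] at this
          simpa using this.symm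
        simp only [Subgroup.coe_mul, Subgroup.coe_inv]
        rw [e1]
        group
      rw [MonoidHom.comp_apply, Subgroup.coe_subtype, Subgroup.coe_subtype, e]
      exact mul_mem (hTD htc') (mul_mem hd hln)

/-- Any automizer element of `B` is induced by `H`, provided images of `B` in `P` can be brought
back to `B` by `H`. -/
theorem normalizer_realize {H : Subgroup G} (hcov : Covers π H) (hhom : Homog πᶜ G) {p : ℕ}
    [Fact p.Prime] (hp : p ∈ π) (P : Sylow p G) (hPH : (P : Subgroup G) ≤ H) {B : Subgroup G}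
    (hBP : B ≤ P)
    (hback : ∀ j : G, (∀ b ∈ B, j * b * j⁻¹ ∈ (P : Subgroup G)) →
      ∃ h ∈ H, h * j ∈ normalizer (B : Set G))
    {n : G} (hn : n ∈ normalizer (B : Set G)) :
    ∃ h ∈ H, ∀ b ∈ B, h * b * h⁻¹ = n * b * n⁻¹ := by
  have hBp : IsPGroup p B := P.2.to_le hBP
  have hBπ : PiGrp π B := fun q hq hd => by
    obtain ⟨k, hk⟩ := IsPGroup.iff_card.1 hBp
    rw [hk] at hd
    rwa [(Nat.prime_dvd_prime_iff_eq hq Fact.out).1 (hq.dvd_of_dvd_pow hd)]
  obtain ⟨L, hL, hLN, hlift⟩ := exists_lift hhom hBπ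
  have hX : PiGrp π (B ⊔ L) := by
    intro q hq hd
    let N := normalizer (B : Set G)
    have hsup : B ⊔ L ≤ N := sup_le le_normalizer hLN
    haveI : (B.subgroupOf N).Normal := normal_in_normalizer
    have h1 : B.relIndex (B ⊔ L) ∣ Nat.card L := by
      rw [← relIndex_subgroupOf hsup, subgroupOf_sup le_normalizer hLN, relIndex_sup_left,
        relIndex_subgroupOf hLN]
      exact relIndex_dvd_card B L
    have h2 : Nat.card (B ⊔ L : Subgroup G) = Nat.card B * B.relIndex (B ⊔ L) := by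
      rw [← relIndex_bot_left, ← relIndex_bot_left B, relIndex_mul_relIndex ⊥ B _ bot_le le_sup_left]
    rw [h2] at hd
    rcases hq.dvd_mul.1 hd with h | h
    · exact hBπ q hq h
    · exact hL q hq (h.trans h1)
  obtain ⟨g, hg⟩ := hcov _ hX
  have hQ : B.map (MulAut.conj g).toMonoidHom ≤ H := by
    rintro _ ⟨b, hb, rfl⟩
    exact hg b (mem_sup_left hb)
  obtain ⟨R, hR⟩ := ((hBp.map (MulAut.conj g).toMonoidHom).comap_subtype (K := H)).exists_le_sylow
  obtain ⟨h1, hh1⟩ := MulAction.exists_smul_eq H R (P.subtype hPH)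
  have hjP : ∀ b ∈ B, ((h1 : G) * g) * b * ((h1 : G) * g)⁻¹ ∈ (P : Subgroup G) := fun b hb => by
    have hm : (⟨g * b * g⁻¹, hg b (mem_sup_left hb)⟩ : H) ∈ (R : Subgroup H) :=
      hR ⟨b, hb, rfl⟩
    have := Subgroup.smul_mem_pointwise_smul _ (MulAut.conj h1) _ hm
    rw [← Sylow.pointwise_smul_def, ← Sylow.smul_def, hh1] at this
    have e : (h1 : G) * g * b * ((h1 : G) * g)⁻¹ =
        (h1 : G) * (g * b * g⁻¹) * (h1 : G)⁻¹ := by group
    rw [e]
    exact this
  obtain ⟨h3, hh3, hN⟩ := hback _ hjP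
  set u := h3 * ((h1 : G) * g) with hu
  obtain ⟨l, hl, hlc⟩ := hlift _ (mul_mem (mul_mem (inv_mem hN) hn) hN)
  refine ⟨u * l * u⁻¹, ?_, fun b hb => ?_⟩
  · have e : u * l * u⁻¹ = (h3 * h1) * (g * l * g⁻¹) * (h3 * h1)⁻¹ := by rw [hu]; group
    rw [e]
    exact mul_mem (mul_mem (mul_mem hh3 h1.2) (hg l (mem_sup_right hl)))
      (inv_mem (mul_mem hh3 h1.2))
  · have hb' : u⁻¹ * b * u ∈ B := by
      simpa using (mem_normalizer_iff.1 (inv_mem hN) b).1 hb
    have hc := mem_centralizer_iff.1 hlc _ hb'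
    calc u * l * u⁻¹ * b * (u * l * u⁻¹)⁻¹
        = u * l * ((u⁻¹ * b * u) * (l⁻¹ * (u⁻¹ * n * u))) * (l⁻¹ * (u⁻¹ * n * u))⁻¹ * l⁻¹ * u⁻¹ := by
          group
      _ = u * l * ((l⁻¹ * (u⁻¹ * n * u)) * (u⁻¹ * b * u)) * (l⁻¹ * (u⁻¹ * n * u))⁻¹ * l⁻¹ * u⁻¹ := by
          rw [hc]
      _ = n * b * n⁻¹ := by group

/-- `H` controls the fusion of the subgroups of one of its Sylow subgroups. -/
theorem control {H : Subgroup G} (hcov : Covers π H) (hhom : Homog πᶜ G) {p : ℕ}
    [Fact p.Prime] (hp : p ∈ π) (P : Sylow p G) (hPH : (P : Subgroup G) ≤ H) :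
    ∀ A : Subgroup G, A ≤ P → ∀ k : G, (∀ a ∈ A, k * a * k⁻¹ ∈ (P : Subgroup G)) →
      ∃ h ∈ H, ∀ a ∈ A, h * a * h⁻¹ = k * a * k⁻¹ := by
  intro A
  induction hd : Nat.card (P : Subgroup G) - Nat.card A using Nat.strong_induction_on
    generalizing A with
  | _ d ih =>
    subst hd
    intro hA k hk
    rcases eq_or_lt_of_le hA with rfl | hlt
    · refine normalizer_realize hcov hhom hp P hPH le_rfl (fun j hj => ⟨1, one_mem _, ?_⟩)
        (mem_normalizer_fintype hk)
      rw [one_mul]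
      exact mem_normalizer_fintype hj
    obtain ⟨T, hT⟩ := (((P.2.to_le inf_le_left : IsPGroup p
      ((P : Subgroup G) ⊓ normalizer (A : Set G) : Subgroup G)))).comap_subtype
      (K := normalizer (A : Set G)) |>.exists_le_sylow
    obtain ⟨P', hP'⟩ := (T.2.map (normalizer (A : Set G)).subtype).exists_le_sylow
    obtain ⟨g, hg⟩ := MulAction.exists_smul_eq G P' P
    have hTP : ∀ x : normalizer (A : Set G), x ∈ (T : Subgroup (normalizer (A : Set G))) →
        g * (x : G) * g⁻¹ ∈ (P : Subgroup G) := fun x hx => by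
      have := Subgroup.smul_mem_pointwise_smul _ (MulAut.conj g) _ (hP' ⟨x, hx, rfl⟩)
      rw [← Sylow.pointwise_smul_def, ← Sylow.smul_def, hg] at this
      exact this
    -- every conjugate in `P` is brought by `H` to the image under `g`
    have hup : ∀ m : G, (∀ a ∈ A, m * a * m⁻¹ ∈ (P : Subgroup G)) →
        ∃ h ∈ H, g⁻¹ * h * m ∈ normalizer (A : Set G) := by
      intro m hm
      let A' := A.map (MulAut.conj m).toMonoidHom
      have hA' : A' ≤ P := by rintro _ ⟨a, ha, rfl⟩; exact hm a ha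
      let R : Subgroup G := (P : Subgroup G) ⊓ normalizer (A' : Set G)
      have hA'c : Nat.card A' = Nat.card A :=
        Subgroup.card_map_of_injective (MulAut.conj m).injective
      have hAR : A' < R := by
        refine lt_of_le_of_ne (le_inf hA' le_normalizer) fun e => ?_
        haveI : Group.IsNilpotent (P : Subgroup G) := P.2.isNilpotent
        have hne : A'.subgroupOf P < ⊤ := lt_top_iff_ne_top.2 fun h => by
          have h' : (P : Subgroup G) ≤ A' := subgroupOf_eq_top.1 h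
          have := Subgroup.card_le_of_le h'
          rw [hA'c] at this
          exact absurd (Subgroup.eq_of_le_of_card_ge hA this) hlt.ne
        obtain ⟨x, hx, hxA⟩ := SetLike.exists_of_lt (normalizerCondition_of_isNilpotent _ hne)
        refine hxA (show (x : G) ∈ A' from e ▸ ⟨x.2, ?_⟩)
        refine mem_normalizer_fintype fun a ha => ?_
        exact (mem_normalizer_iff.1 hx ⟨a, hA' ha⟩).1 ha
      have hRA : ∀ r ∈ R, m⁻¹ * r * m ∈ normalizer (A : Set G) := fun r hr =>
        mem_normalizer_fintype fun a ha => by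
          obtain ⟨a', ha', e⟩ := (mem_normalizer_iff.1 hr.2 (m * a * m⁻¹)).1 ⟨a, ha, rfl⟩
          have : m⁻¹ * r * m * a * (m⁻¹ * r * m)⁻¹ = a' := by
            rw [show m⁻¹ * r * m * a * (m⁻¹ * r * m)⁻¹ = m⁻¹ * (r * (m * a * m⁻¹) * r⁻¹) * m by
              group, ← e]
            show m⁻¹ * (m * a' * m⁻¹) * m = a'
            group
          exact this ▸ ha'
      obtain ⟨T2, hT2⟩ := ((P.2.to_le (inf_le_left : R ≤ P)).map
        (MulAut.conj m⁻¹).toMonoidHom).comap_subtype (K := normalizer (A : Set G))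
        |>.exists_le_sylow
      obtain ⟨v, hv⟩ := MulAction.exists_smul_eq (normalizer (A : Set G)) T2 T
      have hjR : ∀ r ∈ R, (g * v * m⁻¹) * r * (g * v * m⁻¹)⁻¹ ∈ (P : Subgroup G) := fun r hr => by
        have hm2 : (⟨m⁻¹ * r * m, hRA r hr⟩ : normalizer (A : Set G)) ∈
            (T2 : Subgroup (normalizer (A : Set G))) :=
          hT2 ⟨r, hr, by simp⟩
        have := Subgroup.smul_mem_pointwise_smul _ (MulAut.conj v) _ hm2
        rw [← Sylow.pointwise_smul_def, ← Sylow.smul_def, hv] at this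
        have h' := hTP _ this
        simp only [MulAut.smul_def, MulAut.conj_apply, Subgroup.coe_mul, Subgroup.coe_inv] at h'
        convert h' using 1
        group
      have hlt' := Subgroup.card_le_of_le hlt.le
      have hcR : Nat.card A < Nat.card R := hA'c ▸ lt_of_le_of_ne (Subgroup.card_le_of_le hAR.le)
        fun e => hAR.ne (Subgroup.eq_of_le_of_card_ge hAR.le e.ge)
      have hcP : Nat.card R ≤ Nat.card (P : Subgroup G) := Subgroup.card_le_of_le inf_le_left
      obtain ⟨h, hh, he⟩ := ih _ (by omega) R rfl inf_le_left _ hjR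
      refine ⟨h, hh, mem_normalizer_fintype fun a ha => ?_⟩
      have hR1 := he (m * a * m⁻¹) (hAR.le ⟨a, ha, rfl⟩)
      have e : g⁻¹ * h * m * a * (g⁻¹ * h * m)⁻¹ = (v : G) * a * (v : G)⁻¹ := by
        rw [show g⁻¹ * h * m * a * (g⁻¹ * h * m)⁻¹ = g⁻¹ * (h * (m * a * m⁻¹) * h⁻¹) * g by group,
          hR1]
        group
      rw [e]
      exact (mem_normalizer_iff.1 v.2 a).1 ha
    let B := A.map (MulAut.conj g).toMonoidHom
    have hBP : B ≤ P := by
      rintro _ ⟨a, ha, rfl⟩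
      exact hTP ⟨a, le_normalizer ha⟩ (hT ⟨hA ha, le_normalizer ha⟩)
    have hconjN : ∀ x ∈ normalizer (A : Set G), g * x * g⁻¹ ∈ normalizer (B : Set G) := fun x hx =>
      mem_normalizer_fintype fun b hb => by
        obtain ⟨a, ha, rfl⟩ := hb
        refine ⟨x * a * x⁻¹, (mem_normalizer_iff.1 hx a).1 ha, ?_⟩
        show g * (x * a * x⁻¹) * g⁻¹ = g * x * g⁻¹ * (g * a * g⁻¹) * (g * x * g⁻¹)⁻¹
        group
    obtain ⟨h1, hh1, hn1⟩ := hup 1 (fun a ha => by simpa using hA ha)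
    obtain ⟨h2, hh2, hn2⟩ := hup k hk
    rw [mul_one] at hn1
    obtain ⟨hw, hhw, hwe⟩ := normalizer_realize hcov hhom hp P hPH hBP (fun j hj => by
      obtain ⟨h, hh, hn⟩ := hup (j * g) fun a ha => by
        have := hj _ ⟨a, ha, rfl⟩
        convert this using 1
        show j * g * a * (j * g)⁻¹ = j * (g * a * g⁻¹) * j⁻¹
        group
      refine ⟨h, hh, ?_⟩
      convert hconjN _ hn using 1
      group) (hconjN _ (mul_mem hn2 (inv_mem hn1)))
    refine ⟨h2⁻¹ * hw * h1, mul_mem (mul_mem (inv_mem hh2) hhw) hh1, fun a ha => ?_⟩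
    have hb : h1 * a * h1⁻¹ ∈ B := by
      refine ⟨g⁻¹ * h1 * a * (g⁻¹ * h1)⁻¹, (mem_normalizer_iff.1 hn1 a).1 ha, ?_⟩
      show g * (g⁻¹ * h1 * a * (g⁻¹ * h1)⁻¹) * g⁻¹ = h1 * a * h1⁻¹
      group
    rw [show h2⁻¹ * hw * h1 * a * (h2⁻¹ * hw * h1)⁻¹ =
      h2⁻¹ * (hw * (h1 * a * h1⁻¹) * hw⁻¹) * h2 by group, hwe _ hb]
    group

/-- `H` controls the conjugation of the `p`-elements of itself. -/
theorem control_elt {H : Subgroup G} (hcov : Covers π H) (hhom : Homog πᶜ G) (hH : PiGrp π H)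
    {p : ℕ} [Fact p.Prime] (hp : p ∈ π) {u : G} (hu : u ∈ H) (hup : ∃ k, orderOf u = p ^ k)
    {g : G} (hgu : g * u * g⁻¹ ∈ H) : ∃ h ∈ H, h * u * h⁻¹ = g * u * g⁻¹ := by
  let Q : Sylow p G := default
  have hQ : PiGrp π (Q : Subgroup G) := fun q hq hd => by
    obtain ⟨k, hk⟩ := IsPGroup.iff_card.1 Q.2
    rw [hk] at hd
    rwa [(Nat.prime_dvd_prime_iff_eq hq Fact.out).1 (hq.dvd_of_dvd_pow hd)]
  obtain ⟨c, hc⟩ := hcov _ hQ
  let P : Sylow p G := c • Q
  have hPH : (P : Subgroup G) ≤ H := by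
    intro x hx
    change x ∈ ((c • Q : Sylow p G) : Subgroup G) at hx
    rw [Sylow.coe_subgroup_smul] at hx
    obtain ⟨y, hy, rfl⟩ := hx
    exact hc y hy
  have hmove : ∀ x ∈ H, (∃ k, orderOf x = p ^ k) →
      ∃ h ∈ H, h * x * h⁻¹ ∈ (P : Subgroup G) := by
    rintro x hx ⟨k, hk⟩
    have hX : IsPGroup p (zpowers (⟨x, hx⟩ : H)) :=
      IsPGroup.of_card (n := k) (by rw [Nat.card_zpowers, Subgroup.orderOf_mk, hk])
    obtain ⟨R, hR⟩ := hX.exists_le_sylow
    obtain ⟨h, hh⟩ := MulAction.exists_smul_eq H R (P.subtype hPH)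
    have := Subgroup.smul_mem_pointwise_smul _ (MulAut.conj h) _ (hR (mem_zpowers _))
    rw [← Sylow.pointwise_smul_def, ← Sylow.smul_def, hh] at this
    exact ⟨h, h.2, this⟩
  obtain ⟨a, ha, haP⟩ := hmove u hu hup
  obtain ⟨b, hb, hbP⟩ := hmove _ hgu (by
    obtain ⟨k, hk⟩ := hup
    exact ⟨k, by rw [← MulAut.conj_apply, MulEquiv.orderOf_eq, hk]⟩)
  obtain ⟨h, hh, he⟩ := control hcov hhom hp P hPH (zpowers (a * u * a⁻¹))
    (zpowers_le.2 haP) (b * g * a⁻¹) (by
      rintro _ ⟨i, rfl⟩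
      have e : b * g * a⁻¹ * (a * u * a⁻¹) ^ i * (b * g * a⁻¹)⁻¹ =
          (b * (g * u * g⁻¹) * b⁻¹) ^ i := by
        rw [← conj_zpow]
        congr 1
        group
      exact e.symm ▸ zpow_mem hbP i)
  refine ⟨b⁻¹ * h * a, mul_mem (mul_mem (inv_mem hb) hh) ha, ?_⟩
  rw [show b⁻¹ * h * a * u * (b⁻¹ * h * a)⁻¹ = b⁻¹ * (h * (a * u * a⁻¹) * h⁻¹) * b by group,
    he _ (mem_zpowers _)]
  group

universe uG

/-- `H` controls the conjugation of all its elements. -/
theorem fusion : ∀ (n : ℕ) (G : Type uG) [Group G] [Finite G] (π : Set ℕ) (H : Subgroup G),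
    Covers π H → Homog πᶜ G → PiGrp π H → ∀ x ∈ H, orderOf x = n → ∀ g : G, g * x * g⁻¹ ∈ H →
    ∃ h ∈ H, h * x * h⁻¹ = g * x * g⁻¹ := by
  intro n
  induction n using Nat.strong_induction_on with
  | _ n ih =>
    intro G _ _ π H hcov hhom hH x hx hn g hgx
    by_cases h1 : orderOf x = 1
    · rw [orderOf_eq_one_iff] at h1
      subst h1
      exact ⟨1, one_mem _, by simp⟩
    obtain ⟨p, hp, hpd⟩ := Nat.exists_prime_and_dvd h1
    haveI := Fact.mk hp
    have hpπ : p ∈ π := hH p hp (hpd.trans (H.orderOf_dvd_natCard hx))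
    obtain ⟨a, m, hm, ham⟩ :=
      Nat.exists_eq_pow_mul_and_not_dvd (orderOf_pos x).ne' p hp.ne_one
    have ha : a ≠ 0 := fun h => hm (by rw [h, pow_zero, one_mul] at ham; rwa [← ham])
    have hcop : Nat.gcd m (p ^ a) = 1 :=
      Nat.Coprime.pow_right a (hp.coprime_iff_not_dvd.2 hm).symm
    have hmlt : m < n := by
      have hm0 : 0 < m := Nat.pos_of_ne_zero fun h => hm (h ▸ dvd_zero p)
      rw [← hn, ham]
      exact lt_mul_of_one_lt_left hm0 (Nat.one_lt_pow ha hp.one_lt)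
    have hu : ∃ k, orderOf (x ^ m) = p ^ k := by
      obtain ⟨k, -, hk⟩ := (Nat.dvd_prime_pow hp).1 (orderOf_dvd_of_pow_eq_one (x := x ^ m)
        (n := p ^ a) (by rw [← pow_mul, mul_comm, ← ham, pow_orderOf_eq_one]))
      exact ⟨k, hk⟩
    have hw : orderOf (x ^ p ^ a) = m := by
      rw [orderOf_pow_of_dvd (pow_ne_zero _ hp.ne_zero) ⟨m, ham⟩, ham,
        Nat.mul_div_cancel_left _ (pow_pos hp.pos _)]
    obtain ⟨h, hh, he⟩ := control_elt hcov hhom hH hpπ (pow_mem hx m) hu
      (by rw [← conj_pow]; exact pow_mem hgx m)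
    set C := centralizer ({x ^ m} : Set G) with hC
    have hcC : h⁻¹ * g ∈ C := by
      rw [hC, mem_centralizer_singleton_iff]
      have := congrArg (fun z => h⁻¹ * z * g) he
      calc h⁻¹ * g * x ^ m = h⁻¹ * (g * x ^ m * g⁻¹) * g := by group
        _ = h⁻¹ * (h * x ^ m * h⁻¹) * g := this.symm
        _ = x ^ m * (h⁻¹ * g) := by group
    have hxC : x ^ p ^ a ∈ C := by
      rw [hC, mem_centralizer_singleton_iff]
      exact ((Commute.refl x).pow_pow _ _).eq
    have hcovC : Covers π (H.subgroupOf C) := by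
      intro Y hY
      let Y' := Y.map C.subtype
      have hY'C : Y' ≤ C := map_subtype_le Y
      have hU : zpowers (x ^ m) ≤ centralizer (Y' : Set G) := zpowers_le.2 <|
        mem_centralizer_iff.2 fun y hy => mem_centralizer_singleton_iff.1 (hY'C hy)
      have hpi : PiGrp π (zpowers (x ^ m) ⊔ Y') := by
        intro q hq hd
        have hle : zpowers (x ^ m) ≤ normalizer (Y' : Set G) :=
          hU.trans (centralizer_le_normalizer _)
        have hc : Nat.card (zpowers (x ^ m) ⊔ Y' : Subgroup G) =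
            Nat.card Y' * Y'.relIndex (zpowers (x ^ m) ⊔ Y') := by
          rw [← relIndex_bot_left, ← relIndex_bot_left Y',
            relIndex_mul_relIndex ⊥ Y' _ bot_le le_sup_right]
        have hr : Y'.relIndex (zpowers (x ^ m) ⊔ Y') ∣ Nat.card (zpowers (x ^ m)) := by
          let N := normalizer (Y' : Set G)
          haveI : (Y'.subgroupOf N).Normal := normal_in_normalizer
          rw [← relIndex_subgroupOf (sup_le hle le_normalizer), subgroupOf_sup hle le_normalizer,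
            relIndex_sup_right, relIndex_subgroupOf hle]
          exact relIndex_dvd_card Y' _
        rw [hc] at hd
        rcases hq.dvd_mul.1 hd with h' | h'
        · rw [Subgroup.card_map_of_injective C.subtype_injective] at h'
          exact hY q hq h'
        · rw [Nat.card_zpowers] at hr
          exact hH q hq ((h'.trans hr).trans (H.orderOf_dvd_natCard (pow_mem hx m)))
      obtain ⟨d, hd⟩ := hcov _ hpi
      obtain ⟨e, he', hee⟩ := control_elt hcov hhom hH hpπ (pow_mem hx m) hu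
        (hd _ (mem_sup_left (mem_zpowers _)))
      have heC : e⁻¹ * d ∈ C := by
        rw [hC, mem_centralizer_singleton_iff]
        calc e⁻¹ * d * x ^ m = e⁻¹ * (d * x ^ m * d⁻¹) * d := by group
          _ = e⁻¹ * (e * x ^ m * e⁻¹) * d := by rw [hee]
          _ = x ^ m * (e⁻¹ * d) := by group
      refine ⟨⟨_, heC⟩, fun y hy => ?_⟩
      rw [mem_subgroupOf]
      show e⁻¹ * d * (y : G) * (e⁻¹ * d)⁻¹ ∈ H
      rw [show e⁻¹ * d * (y : G) * (e⁻¹ * d)⁻¹ = e⁻¹ * (d * y * d⁻¹) * e by group]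
      exact mul_mem (mul_mem (inv_mem he') (hd _ (mem_sup_right ⟨y, hy, rfl⟩))) he'
    have hHC : PiGrp π (H.subgroupOf C) := fun q hq hd =>
      hH q hq (hd.trans (card_comap_dvd_of_injective H C.subtype C.subtype_injective))
    have hmem : (⟨_, hcC⟩ : C) * ⟨_, hxC⟩ * (⟨_, hcC⟩ : C)⁻¹ ∈ H.subgroupOf C := by
      rw [mem_subgroupOf]
      show h⁻¹ * g * x ^ p ^ a * (h⁻¹ * g)⁻¹ ∈ H
      rw [show h⁻¹ * g * x ^ p ^ a * (h⁻¹ * g)⁻¹ = h⁻¹ * (g * x ^ p ^ a * g⁻¹) * h by group,
        ← conj_pow]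
      exact mul_mem (mul_mem (inv_mem hh) (pow_mem hgx _)) hh
    obtain ⟨h', hh', he'⟩ := ih m hmlt C π (H.subgroupOf C) hcovC (homog_subgroup hhom C) hHC
      ⟨_, hxC⟩ (pow_mem hx _) (by rw [Subgroup.orderOf_mk, hw]) ⟨_, hcC⟩ hmem
    refine ⟨h * h', mul_mem hh hh', ?_⟩
    -- `x` is a product of powers of its two parts
    have hgc : ∀ z : G, (∃ i j : ℤ, z = (x ^ m) ^ i * (x ^ p ^ a) ^ j) →
        h * (h' : G) * z * (h * (h' : G))⁻¹ = g * z * g⁻¹ := by
      rintro z ⟨i, j, rfl⟩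
      have e1 : h * (h' : G) * (x ^ m) * (h * (h' : G))⁻¹ = g * x ^ m * g⁻¹ := by
        rw [← he, show h * (h' : G) * x ^ m * (h * (h' : G))⁻¹ =
          h * ((h' : G) * x ^ m * (h' : G)⁻¹) * h⁻¹ by group]
        rw [mem_centralizer_singleton_iff.1 h'.2, mul_inv_cancel_right]
      have e2 : h * (h' : G) * (x ^ p ^ a) * (h * (h' : G))⁻¹ = g * x ^ p ^ a * g⁻¹ := by
        have := congrArg Subtype.val he'
        simp only [Subgroup.coe_mul, Subgroup.coe_inv] at this
        rw [show h * (h' : G) * x ^ p ^ a * (h * (h' : G))⁻¹ =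
          h * ((h' : G) * x ^ p ^ a * (h' : G)⁻¹) * h⁻¹ by group, this]
        group
      calc h * (h' : G) * ((x ^ m) ^ i * (x ^ p ^ a) ^ j) * (h * (h' : G))⁻¹
          = (h * (h' : G) * (x ^ m) * (h * (h' : G))⁻¹) ^ i *
            (h * (h' : G) * (x ^ p ^ a) * (h * (h' : G))⁻¹) ^ j := by
              rw [conj_zpow, conj_zpow]; group
        _ = g * ((x ^ m) ^ i * (x ^ p ^ a) ^ j) * g⁻¹ := by
              rw [e1, e2, conj_zpow, conj_zpow]; group
    refine hgc x ⟨Nat.gcdA m (p ^ a), Nat.gcdB m (p ^ a), ?_⟩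
    rw [← zpow_natCast x m, ← zpow_natCast x (p ^ a), ← zpow_mul, ← zpow_mul, ← zpow_add,
      ← Nat.gcd_eq_gcd_ab, hcop, Nat.cast_one, zpow_one]

/-- A π-homogeneous group with conjugate maximal π-subgroups is π'-closed. -/
theorem piCompl_closed {G : Type uG} [Group G] [Finite G] {π : Set ℕ} (hhom : Homog πᶜ G)
    (hD : ∀ H K : Subgroup G, Maximal (PiGrp π) H → Maximal (PiGrp π) K →
      ∃ g : G, K = H.map (MulAut.conj g).toMonoidHom) :
    ∃ K : Subgroup G, ∀ x : G, x ∈ K ↔ ∀ p : ℕ, p.Prime → p ∣ orderOf x → p ∉ π := by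
  have hbot : PiGrp π (⊥ : Subgroup G) := fun p hp hd => by
    rw [Subgroup.card_bot, Nat.dvd_one] at hd
    exact absurd hd hp.ne_one
  obtain ⟨H, -, hH⟩ := (Set.toFinite {Y : Subgroup G | PiGrp π Y}).exists_le_maximal hbot
  change Maximal (PiGrp π) H at hH
  have hcov : Covers π H := fun Y hY => by
    obtain ⟨K, hYK, hK⟩ := (Set.toFinite {Y : Subgroup G | PiGrp π Y}).exists_le_maximal hY
    obtain ⟨g, rfl⟩ := hD H K hH hK
    refine ⟨g⁻¹, fun y hy => ?_⟩
    obtain ⟨z, hz, rfl⟩ := hYK hy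
    simpa [mul_assoc] using hz
  have hπH := hH.1
  have hHall : (Nat.card H).Coprime H.index := by
    refine Nat.coprime_of_dvd fun q hq hqH hqi => ?_
    haveI := Fact.mk hq
    let Q : Sylow q G := default
    obtain ⟨g, hg⟩ := hcov (Q : Subgroup G) fun r hr hd => by
      obtain ⟨k, hk⟩ := IsPGroup.iff_card.1 Q.2
      rw [hk] at hd
      rw [(Nat.prime_dvd_prime_iff_eq hr hq).1 (hr.dvd_of_dvd_pow hd)]
      exact hπH q hq hqH
    have h1 : Nat.card (Q : Subgroup G) ∣ Nat.card H := by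
      rw [← Subgroup.card_map_of_injective (K := (Q : Subgroup G))
      (f := (MulAut.conj g).toMonoidHom) (MulAut.conj g).injective]
      exact Subgroup.card_dvd_of_le (by rintro _ ⟨y, hy, rfl⟩; exact hg y hy)
    obtain ⟨a, ha⟩ := h1
    obtain ⟨b, hb⟩ := hqi
    refine Q.not_dvd_index ⟨a * b, ?_⟩
    have e := (Q : Subgroup G).card_mul_index
    rw [← H.card_mul_index, ha, hb, mul_assoc] at e
    rw [Nat.eq_of_mul_eq_mul_left Nat.card_pos e]
    ring
  letI := Fintype.ofFinite G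
  obtain ⟨K, hKn, hsup, hinf⟩ := CfsgLib.CharsMore.exists_normal_complement (H := H) hHall
    (fun E p _ _ hd => by
      obtain ⟨g, hg⟩ := hcov E fun r hr h => hπH r hr (h.trans hd)
      exact ⟨g, by rintro _ ⟨y, hy, rfl⟩; exact hg y hy⟩)
    (fun x hx y hy hxy => by
      obtain ⟨g, hg⟩ := isConj_iff.1 hxy
      obtain ⟨h, hh, he⟩ := fusion _ G π H hcov hhom hπH x hx rfl g (hg ▸ hy)
      exact ⟨h, hh, he.trans hg⟩)
  have hc : IsComplement' K H :=
    isComplement'_of_disjoint_and_mul_eq_univ (disjoint_iff.2 hinf)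
      (by rw [← Subgroup.normal_mul, hsup]; rfl)
  have hKc : Nat.card K = H.index := hc.index_eq_card.symm
  have hKi : K.index = Nat.card H := hc.symm.index_eq_card
  refine ⟨K, fun x => ⟨fun hx p hp hd hpπ => ?_, fun hx => ?_⟩⟩
  · have hdK : p ∣ H.index := hKc ▸ hd.trans (K.orderOf_dvd_natCard hx)
    haveI := Fact.mk hp
    obtain ⟨c, hc'⟩ := hcov (default : Sylow p G).1 fun r hr h => by
      obtain ⟨k, hk⟩ := IsPGroup.iff_card.1 (default : Sylow p G).2
      rw [hk] at h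
      rwa [(Nat.prime_dvd_prime_iff_eq hr hp).1 (hr.dvd_of_dvd_pow h)]
    have hQ : Nat.card (default : Sylow p G).1 ∣ Nat.card H := by
      rw [← Subgroup.card_map_of_injective (K := (default : Sylow p G).1)
        (f := (MulAut.conj c).toMonoidHom) (MulAut.conj c).injective]
      exact Subgroup.card_dvd_of_le (by rintro _ ⟨y, hy, rfl⟩; exact hc' y hy)
    have hpG : p ∣ Nat.card G := hd.trans (orderOf_dvd_natCard x)
    exact hp.not_dvd_one (hHall.gcd_eq_one ▸ Nat.dvd_gcd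
      (((default : Sylow p G).dvd_card_of_dvd_card hpG).trans hQ) hdK)
  · have h1 : orderOf (QuotientGroup.mk' K x) = 1 := by
      by_contra hne
      obtain ⟨p, hp, hd⟩ := Nat.exists_prime_and_dvd hne
      refine hx p hp (hd.trans (orderOf_map_dvd _ x)) (hπH p hp ?_)
      rw [← hKi]
      exact hd.trans (orderOf_dvd_natCard _)
    exact (QuotientGroup.eq_one_iff x).1 (orderOf_eq_one_iff.1 h1)

end CfsgLib.FgsB.DPiHomogeneous
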