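import Cfsg.Agent.Lib.PGroups.Basic

/-!
# Derived lengths of finite `p`-groups of permutations
-/

set_option autoImplicit false

namespace CfsgLib.FgsB.DerivedLength

open Subgroup
open scoped commutatorElement

variable {G : Type*} [Group G]

theorem derivedSeries_succ_le_map {M : Subgroup G} (hM : commutator G ≤ M) :
    ∀ i, derivedSeries G (i + 1) ≤ (derivedSeries M i).map M.subtype
  | 0 => by
    rw [derivedSeries_zero, ← MonoidHom.range_eq_map, range_subtype, derivedSeries_one]
    exact hM
  | i + 1 => by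
    rw [derivedSeries_succ G (i + 1), derivedSeries_succ M i, map_commutator]
    exact commutator_mono (derivedSeries_succ_le_map hM i) (derivedSeries_succ_le_map hM i)

theorem map_derivedSeries_le_succ {M : Subgroup G} (hM : M ≤ commutator G) :
    ∀ i, (derivedSeries M i).map M.subtype ≤ derivedSeries G (i + 1)
  | 0 => by
    rw [derivedSeries_zero, ← MonoidHom.range_eq_map, range_subtype, derivedSeries_one]
    exact hM
  | i + 1 => by
    rw [derivedSeries_succ G (i + 1), derivedSeries_succ M i, map_commutator]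
    exact commutator_mono (map_derivedSeries_le_succ hM i) (map_derivedSeries_le_succ hM i)

theorem derivedSeries_le_of_index {p : ℕ} [hp : Fact p.Prime] :
    ∀ (k : ℕ) {P : Type*} [Group P] [Finite P], IsPGroup p P → ∀ H : Subgroup P,
      H.index ≤ p ^ k → derivedSeries P k ≤ H := by
  intro k
  induction k with
  | zero =>
    intro P _ _ _ H hH
    have h1 : H.index = 1 := le_antisymm (by simpa using hH)
      (Nat.pos_of_ne_zero index_ne_zero_of_finite)
    simp [index_eq_one.mp h1]
  | succ k ih =>
    intro P _ _ hP H hH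
    rcases eq_top_or_exists_le_coatom H with rfl | ⟨M, hM, hHM⟩
    · exact le_top
    haveI : Group.IsNilpotent P := hP.isNilpotent
    haveI : M.Normal := NormalizerCondition.normal_of_coatom M
      Group.normalizerCondition_of_isNilpotent hM
    obtain ⟨j, hj⟩ := hP.index M
    have hj1 : 1 ≤ j := by
      rcases Nat.eq_zero_or_pos j with rfl | h
      · exact absurd (index_eq_one.mp (by simpa using hj)) hM.1
      · exact h
    have hcomm : commutator P ≤ M :=
      (CfsgLib.PGroups.commutator_le_frattini hP).trans (frattini_le_coatom hM)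
    have hidx : (H.subgroupOf M).index ≤ p ^ k := by
      have h := relIndex_mul_index hHM
      rw [hj] at h
      have h2 : (H.subgroupOf M).index * p ≤ p ^ k * p := by
        rw [← pow_succ]
        refine le_trans ?_ hH
        rw [← h]
        exact Nat.mul_le_mul le_rfl (Nat.le_self_pow (by omega) p)
      exact Nat.le_of_mul_le_mul_right h2 hp.out.pos
    refine (derivedSeries_succ_le_map hcomm k).trans ?_
    rw [← map_subgroupOf_eq_of_le hHM]
    exact map_mono (ih (hP.to_subgroup M) (H.subgroupOf M) hidx)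

theorem derivedSeries_perm_eq_bot {p : ℕ} [hp : Fact p.Prime] {α : Type*} [Finite α]
    {P : Type*} [Group P] [Finite P] (hP : IsPGroup p P) (f : P →* Equiv.Perm α)
    (hf : Function.Injective f) {k : ℕ} (hk : Nat.card α < p ^ (k + 1)) :
    derivedSeries P k = ⊥ := by
  let _ : MulAction P α := MulAction.compHom α f
  rw [eq_bot_iff]
  intro g hg
  refine mem_bot.mpr (hf (Equiv.ext fun x => ?_))
  obtain ⟨j, hj⟩ := hP.index (MulAction.stabilizer P x)
  have hle : p ^ j ≤ Nat.card α := by
    rw [← hj, MulAction.index_stabilizer, ← Nat.card_coe_set_eq]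
    exact Nat.card_le_card_of_injective _ Subtype.val_injective
  have hjk : j ≤ k := Nat.lt_succ_iff.mp
    ((Nat.pow_lt_pow_iff_right hp.out.one_lt).mp (hle.trans_lt hk))
  have h := derivedSeries_le_of_index k hP (MulAction.stabilizer P x)
    (hj ▸ Nat.pow_le_pow_right hp.out.pos hjk) hg
  rw [map_one]
  exact h

theorem derivedSeries_wreath_ne_bot {D Q : Type*} [Group D] [Group Q] [Nontrivial Q] {i : ℕ}
    (h : derivedSeries D i ≠ ⊥) : derivedSeries (D ≀ᵣ Q) (i + 1) ≠ ⊥ := by
  classical
  obtain ⟨q, hq⟩ := exists_ne (1 : Q)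
  set M : Subgroup (D ≀ᵣ Q) := commutator (D ≀ᵣ Q) ⊓ RegularWreathProduct.rightHom.ker
  have hr : ∀ w ∈ M, w.right = 1 := fun w hw => hw.2
  let π : M →* D :=
    { toFun := fun w => (w : D ≀ᵣ Q).left 1
      map_one' := rfl
      map_mul' := fun a b => by simp [hr a a.2] }
  have hπ : Function.Surjective π := by
    intro d
    let a : D ≀ᵣ Q := ⟨Pi.mulSingle 1 d, 1⟩
    refine ⟨⟨⁅a, RegularWreathProduct.inl q⁆, ?_, ?_⟩, ?_⟩
    · exact commutator_mem_commutator (mem_top _) (mem_top _)
    · show (⁅a, RegularWreathProduct.inl q⁆ : D ≀ᵣ Q).right = 1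
      simp [commutatorElement_def, a]
    · show (⁅a, RegularWreathProduct.inl q⁆ : D ≀ᵣ Q).left 1 = d
      have hq' : q⁻¹ ≠ 1 := inv_ne_one.mpr hq
      simp [commutatorElement_def, a, Pi.mulSingle_eq_of_ne hq', Pi.mulSingle_eq_of_ne hq]
  intro hbot
  have hM : derivedSeries M i = ⊥ := by
    rw [← (derivedSeries M i).map_eq_bot_iff_of_injective M.subtype_injective, eq_bot_iff, ← hbot]
    exact map_derivedSeries_le_succ inf_le_left i
  exact h (by rw [← map_derivedSeries_eq hπ, hM, Subgroup.map_bot])

theorem derivedSeries_iterated_ne_bot (G : Type*) [Group G] [Nontrivial G] :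
    ∀ k, derivedSeries (IteratedWreathProduct G (k + 1)) k ≠ ⊥
  | 0 => by
    intro h
    rw [derivedSeries_zero] at h
    obtain ⟨q, hq⟩ := exists_ne (1 : G)
    have h2 : (RegularWreathProduct.inl q : IteratedWreathProduct G 0 ≀ᵣ G) ∈
        (⊥ : Subgroup (IteratedWreathProduct G 0 ≀ᵣ G)) := h ▸ mem_top _
    exact hq (congrArg RegularWreathProduct.right (mem_bot.mp h2))
  | k + 1 => derivedSeries_wreath_ne_bot (derivedSeries_iterated_ne_bot G k)

theorem derivedSeries_sylow_perm_ne_bot (p : ℕ) [hp : Fact p.Prime] {n k : ℕ}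
    (hk : p ^ (k + 1) ≤ n) (P : Sylow p (Equiv.Perm (Fin n))) :
    derivedSeries ↥(P : Subgroup (Equiv.Perm (Fin n))) k ≠ ⊥ := by
  let C := Multiplicative (ZMod p)
  haveI : Nontrivial C := inferInstanceAs (Nontrivial (Multiplicative (ZMod p)))
  haveI : NeZero p := ⟨hp.out.ne_zero⟩
  have hC : Nat.card C = p := by simp [C]
  let e : (Fin (k + 1) → C) ↪ Fin n := Function.Embedding.trans
    (Finite.equivFinOfCardEq (n := p ^ (k + 1)) (by rw [Nat.card_fun, hC, Nat.card_fin])).toEmbedding
    (Fin.castLEEmb hk)
  let f := (Equiv.Perm.viaEmbeddingHom e).comp (iteratedWreathToPermHom C (k + 1))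
  have hf : Function.Injective f :=
    (Equiv.Perm.viaEmbeddingHom_injective e).comp (iteratedWreathToPermHomInj C (k + 1))
  have hW : IsPGroup p (IteratedWreathProduct C (k + 1)) :=
    IsPGroup.of_card (by rw [IteratedWreathProduct.card, hC])
  obtain ⟨S, hS⟩ := (hW.of_surjective f.rangeRestrict f.rangeRestrict_surjective).exists_le_sylow
  let g : IteratedWreathProduct C (k + 1) →* ↥(P : Subgroup (Equiv.Perm (Fin n))) :=
    (S.equiv P).toMonoidHom.comp ((inclusion hS).comp f.rangeRestrict)
  have hg : Function.Injective g := (S.equiv P).injective.comp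
    ((inclusion_injective hS).comp fun a b h => hf (congrArg Subtype.val h))
  intro hbot
  refine derivedSeries_iterated_ne_bot C k
    ((Subgroup.map_eq_bot_iff_of_injective _ hg).mp ?_)
  rw [eq_bot_iff, ← hbot]
  exact map_derivedSeries_le_derivedSeries g k

end CfsgLib.FgsB.DerivedLength
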