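import Mathlib
import Cfsg.Prelude
import Cfsg.Agent.Lib.Classical.PSLSimple
import Cfsg.Agent.Lib.Classical.GLComm
import Cfsg.Agent.Lib.Components.Basic
import Cfsg.Agent.Lib.Coprime.Action
import Cfsg.Agent.Lib.FT.OddOrderTheorem

/-!
# The centralizer of the involution `diag(-1, …, -1, 1)`

In `GL(m+1, F)` it is `GL(m, F) × Fˣ`, in `SL(m+1, F)` it is `GL(m, F)`; its layer comes from `SL(m, F)`.
-/

set_option autoImplicit false

namespace CfsgLib.FgsB.GLBlock

open Matrix Subgroup

variable {F : Type*} [Field F] {m : ℕ}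

/-- Block diagonal matrices. -/
def blk (m : ℕ) : Matrix (Fin m) (Fin m) F × F →* Matrix (Fin (m + 1)) (Fin (m + 1)) F where
  toFun x := Matrix.reindexAlgEquiv F F finSumFinEquiv (Matrix.fromBlocks x.1 0 0 (x.2 • 1))
  map_one' := by simp [fromBlocks_one]
  map_mul' x y := by
    rw [← map_mul, fromBlocks_multiply]
    congr 2 <;> simp [Matrix.smul_one_eq_diagonal, mul_comm]

theorem blk_injective : Function.Injective (blk (F := F) m) := by
  intro x y h
  have h1 := (Matrix.reindexAlgEquiv F F (finSumFinEquiv (m := m) (n := 1))).injective h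
  obtain ⟨h11, -, -, h22⟩ := Matrix.fromBlocks_inj.1 h1
  refine Prod.ext h11 ?_
  have := congrFun (congrFun h22 0) 0
  simpa using this

theorem det_blk (x : Matrix (Fin m) (Fin m) F × F) : (blk m x).det = x.1.det * x.2 := by
  show (Matrix.reindexAlgEquiv F F finSumFinEquiv (Matrix.fromBlocks x.1 0 0 (x.2 • 1))).det = _
  rw [Matrix.det_reindexAlgEquiv, Matrix.det_fromBlocks_zero₂₁, Matrix.det_smul]
  simp

/-- The matrix `diag(-1, …, -1, 1)`. -/
def tMat (m : ℕ) : Matrix (Fin (m + 1)) (Fin (m + 1)) F := blk m (-1, 1)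

theorem tMat_eq : tMat (F := F) m =
    Matrix.diagonal (fun i : Fin (m + 1) => if (i : ℕ) + 1 = m + 1 then (1 : F) else -1) := by
  ext i j
  obtain ⟨a, rfl⟩ := finSumFinEquiv.surjective i
  obtain ⟨b, rfl⟩ := finSumFinEquiv.surjective j
  rcases a with a | a <;> rcases b with b | b
  · by_cases h : a = b
    · subst h
      have := a.2
      simp [tMat, blk, this.ne]
    · have h' : Fin.castAdd 1 a ≠ Fin.castAdd 1 b := fun e => h (Fin.castAdd_injective _ _ e)
      simp [tMat, blk, Matrix.one_apply_ne h, Matrix.diagonal_apply_ne _ h']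
  · have h' : Fin.castAdd 1 a ≠ Fin.natAdd m b := fun e => by
      have h1 := congrArg Fin.val e; have := a.2; simp at h1; omega
    simp [tMat, blk, Matrix.diagonal_apply_ne _ h']
  · have h' : Fin.natAdd m a ≠ Fin.castAdd 1 b := fun e => by
      have h1 := congrArg Fin.val e; have := b.2; simp at h1; omega
    simp [tMat, blk, Matrix.diagonal_apply_ne _ h']
  · obtain rfl : a = b := Subsingleton.elim _ _
    obtain rfl : a = 0 := Subsingleton.elim _ _
    simp [tMat, blk]

theorem commute_t_iff (h2 : (2 : F) ≠ 0) {A : Matrix (Fin (m + 1)) (Fin (m + 1)) F} :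
    Commute A (tMat m) ↔ ∃ x, blk m x = A := by
  constructor
  · intro h
    set φ := Matrix.reindexAlgEquiv F F (finSumFinEquiv (m := m) (n := 1))
    have hB : Commute (φ.symm A) (Matrix.fromBlocks (-1 : Matrix (Fin m) (Fin m) F) 0 0 ((1 : F) • 1)) := by
      show φ.symm A * _ = _ * φ.symm A
      apply φ.injective
      rw [map_mul, map_mul, AlgEquiv.apply_symm_apply]
      exact h
    rw [← Matrix.fromBlocks_toBlocks (φ.symm A)] at hB
    unfold Commute SemiconjBy at hB
    rw [fromBlocks_multiply, fromBlocks_multiply, Matrix.fromBlocks_inj] at hB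
    obtain ⟨-, h12, h21, -⟩ := hB
    simp only [one_smul, mul_one, one_mul, mul_zero, zero_mul, add_zero, zero_add, neg_mul, mul_neg,
      Matrix.mul_one, Matrix.one_mul, Matrix.mul_zero, Matrix.zero_mul, Matrix.neg_mul, Matrix.mul_neg] at h12 h21
    have key : ∀ x : F, x = -x → x = 0 := fun x hx => by
      have : (2 : F) * x = 0 := by linear_combination hx
      exact (mul_eq_zero.1 this).resolve_left h2
    have e12 : (φ.symm A).toBlocks₁₂ = 0 := by
      ext i j
      exact key _ (congrFun (congrFun h12 i) j)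
    have e21 : (φ.symm A).toBlocks₂₁ = 0 := by
      ext i j
      exact key _ (congrFun (congrFun h21 i) j).symm
    refine ⟨((φ.symm A).toBlocks₁₁, (φ.symm A).toBlocks₂₂ 0 0), ?_⟩
    show φ _ = A
    have e22 : ((φ.symm A).toBlocks₂₂ 0 0) • (1 : Matrix (Fin 1) (Fin 1) F) = (φ.symm A).toBlocks₂₂ := by
      ext i j
      obtain rfl : i = 0 := Subsingleton.elim _ _
      obtain rfl : j = 0 := Subsingleton.elim _ _
      simp
    rw [e22, ← e12, ← e21]
    rw [Matrix.fromBlocks_toBlocks, AlgEquiv.apply_symm_apply]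
  · rintro ⟨x, rfl⟩
    show blk m x * blk m (-1, 1) = blk m (-1, 1) * blk m x
    rw [← map_mul, ← map_mul]
    congr 1
    ext : 1 <;> simp

/-- A matrix commuting with all transvections of the first block is `diag(a, …, a, b)`. -/
theorem eq_blk_scalar (hm : 2 ≤ m) {A : Matrix (Fin (m + 1)) (Fin (m + 1)) F}
    (h : ∀ i j : Fin m, i ≠ j → Commute A (blk m (Matrix.transvection i j 1, 1))) :
    ∃ a b, blk m (Matrix.scalar (Fin m) a, b) = A := by
  set φ := Matrix.reindexAlgEquiv F F (finSumFinEquiv (m := m) (n := 1))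
  set B := φ.symm A with hB
  have hC : ∀ i j : Fin m, i ≠ j →
      Commute B.toBlocks₁₁ (Matrix.single i j (1 : F)) ∧ B.toBlocks₂₁ * Matrix.single i j (1 : F) = 0 ∧
        Matrix.single i j (1 : F) * B.toBlocks₁₂ = 0 := by
    intro i j hij
    have h1 : B * Matrix.fromBlocks (Matrix.transvection i j (1 : F)) 0 0 ((1 : F) • 1) =
        Matrix.fromBlocks (Matrix.transvection i j (1 : F)) 0 0 ((1 : F) • 1) * B := by
      apply φ.injective
      rw [map_mul, map_mul, hB, AlgEquiv.apply_symm_apply]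
      exact h i j hij
    rw [← Matrix.fromBlocks_toBlocks B, fromBlocks_multiply, fromBlocks_multiply, Matrix.fromBlocks_inj] at h1
    obtain ⟨h11, h12, h21, -⟩ := h1
    simp only [Matrix.transvection, one_smul, Matrix.mul_zero, Matrix.zero_mul, Matrix.mul_one, Matrix.one_mul,
      Matrix.mul_add, Matrix.add_mul, add_zero, zero_add] at h11 h12 h21
    exact ⟨add_left_cancel h11, by simpa using h21, by simpa using h12.symm⟩
  have e21 : B.toBlocks₂₁ = 0 := by
    ext r i
    obtain ⟨j, hj⟩ : ∃ j : Fin m, i ≠ j := by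
      haveI : Nontrivial (Fin m) := Fin.nontrivial_iff_two_le.2 hm
      obtain ⟨j, hj⟩ := exists_ne i; exact ⟨j, hj.symm⟩
    have h0 := congrFun (congrFun (hC i j hj).2.1 r) j
    simpa using h0
  have e12 : B.toBlocks₁₂ = 0 := by
    ext j r
    obtain ⟨i, hi⟩ : ∃ i : Fin m, i ≠ j := by
      haveI : Nontrivial (Fin m) := Fin.nontrivial_iff_two_le.2 hm
      exact exists_ne j
    have h0 := congrFun (congrFun (hC i j hi).2.2 i) r
    simpa using h0
  obtain ⟨a, ha⟩ := Matrix.mem_range_scalar_of_commute_single (M := B.toBlocks₁₁)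
    fun i j hij => (hC i j hij).1.symm
  refine ⟨a, B.toBlocks₂₂ 0 0, ?_⟩
  have e22 : (B.toBlocks₂₂ 0 0) • (1 : Matrix (Fin 1) (Fin 1) F) = B.toBlocks₂₂ := by
    ext i j
    obtain rfl : i = 0 := Subsingleton.elim _ _
    obtain rfl : j = 0 := Subsingleton.elim _ _
    simp
  show φ _ = A
  rw [ha, e22, ← e12, ← e21, Matrix.fromBlocks_toBlocks, hB, AlgEquiv.apply_symm_apply]

/-- `GL(m) → SL(m+1)`. -/
def toSL (m : ℕ) : GL (Fin m) F →* Matrix.SpecialLinearGroup (Fin (m + 1)) F where
  toFun g := ⟨blk m ((g : Matrix (Fin m) (Fin m) F), ((g : Matrix (Fin m) (Fin m) F).det)⁻¹), by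
    rw [det_blk, mul_inv_cancel₀ (Matrix.GeneralLinearGroup.det_ne_zero g)]⟩
  map_one' := Subtype.ext (by
    show blk m (((1 : GL (Fin m) F) : Matrix (Fin m) (Fin m) F), _) = 1
    rw [Units.val_one, Matrix.det_one, inv_one]
    exact map_one (blk m))
  map_mul' g g' := Subtype.ext (by
    show blk m _ = blk m _ * blk m _
    rw [← map_mul, Units.val_mul, Matrix.det_mul, mul_inv]
    rfl)

theorem toSL_injective : Function.Injective (toSL (F := F) m) := fun g g' h =>
  Units.ext (congrArg Prod.fst (blk_injective (congrArg Subtype.val h)))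

theorem range_toSL (h2 : (2 : F) ≠ 0) {t : Matrix.SpecialLinearGroup (Fin (m + 1)) F}
    (ht : (t : Matrix (Fin (m + 1)) (Fin (m + 1)) F) = tMat m) :
    (toSL (F := F) m).range = centralizer {t} := by
  ext A
  rw [mem_centralizer_singleton_iff]
  constructor
  · rintro ⟨g, rfl⟩
    refine Subtype.ext ?_
    show blk m _ * (t : Matrix _ _ F) = (t : Matrix _ _ F) * blk m _
    rw [ht]
    exact (commute_t_iff h2).2 ⟨_, rfl⟩
  · intro h
    obtain ⟨x, hx⟩ := (commute_t_iff h2).1 (show Commute (A : Matrix _ _ F) (tMat m) by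
      rw [← ht]; exact congrArg Subtype.val h)
    have hd : x.1.det * x.2 = 1 := by rw [← det_blk, hx]; exact A.2
    refine ⟨Matrix.GeneralLinearGroup.mkOfDetNeZero x.1 (left_ne_zero_of_mul_eq_one hd), Subtype.ext ?_⟩
    show blk m (x.1, x.1.det⁻¹) = _
    rw [← hx, inv_eq_of_mul_eq_one_right hd]

/-- `GL(m) × Fˣ → GL(m+1)`. -/
def toGL (m : ℕ) : GL (Fin m) F × Fˣ →* GL (Fin (m + 1)) F :=
  ((blk m).comp ((Units.coeHom _).prodMap (Units.coeHom F))).toHomUnits

theorem range_toGL (h2 : (2 : F) ≠ 0) {t : GL (Fin (m + 1)) F}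
    (ht : (t : Matrix (Fin (m + 1)) (Fin (m + 1)) F) = tMat m) :
    (toGL (F := F) m).range = centralizer {t} := by
  ext A
  rw [mem_centralizer_singleton_iff]
  constructor
  · rintro ⟨g, rfl⟩
    refine Units.ext ?_
    show blk m _ * (t : Matrix _ _ F) = (t : Matrix _ _ F) * blk m _
    rw [ht]
    exact (commute_t_iff h2).2 ⟨_, rfl⟩
  · intro h
    obtain ⟨x, hx⟩ := (commute_t_iff h2).1 (show Commute (A : Matrix _ _ F) (tMat m) by
      rw [← ht]; exact congrArg Units.val h)
    have hd : x.1.det * x.2 ≠ 0 := by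
      rw [← det_blk, hx]; exact Matrix.GeneralLinearGroup.det_ne_zero A
    refine ⟨(Matrix.GeneralLinearGroup.mkOfDetNeZero x.1 (left_ne_zero_of_mul hd),
      Units.mk0 x.2 (right_ne_zero_of_mul hd)), Units.ext ?_⟩
    show blk m _ = _
    rw [← hx]
    rfl

theorem isQuasisimple_SL [Fintype F] (hm : 2 ≤ m) (h : m = 2 → 4 ≤ Nat.card F) :
    Cfsg.IsQuasisimple (Matrix.SpecialLinearGroup (Fin m) F) := by
  haveI : Nontrivial (Fin m) := Fin.nontrivial_iff_two_le.2 hm
  exact ⟨⟨CfsgLib.Classical.SL_fin_commutator_eq_top m hm h⟩,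
    CfsgLib.Classical.isSimpleGroup_PSL_fin m hm h⟩

theorem range_slToGL : (Matrix.SpecialLinearGroup.toGL : Matrix.SpecialLinearGroup (Fin m) F →*
    GL (Fin m) F).range = (Matrix.GeneralLinearGroup.det : GL (Fin m) F →* Fˣ).ker := by
  ext g
  rw [MonoidHom.mem_ker]
  constructor
  · rintro ⟨A, rfl⟩
    exact Units.ext A.2
  · intro h
    exact ⟨⟨(g : Matrix (Fin m) (Fin m) F), congrArg Units.val h⟩, Units.ext rfl⟩

theorem isComponent_detKer [Fintype F] (hm : 2 ≤ m) (h : m = 2 → 4 ≤ Nat.card F) :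
    Cfsg.IsComponent (Matrix.GeneralLinearGroup.det : GL (Fin m) F →* Fˣ).ker := by
  refine ⟨Subgroup.Normal.isSubnormal inferInstance, ?_⟩
  rw [← range_slToGL]
  exact CfsgLib.Components.isQuasisimple_of_mulEquiv
    (MonoidHom.ofInjective Matrix.SpecialLinearGroup.toGL_injective) (isQuasisimple_SL hm h)

theorem layer_GL [Fintype F] (hm : 3 ≤ m) :
    Cfsg.layer (GL (Fin m) F) = (Matrix.GeneralLinearGroup.det : GL (Fin m) F →* Fˣ).ker := by
  refine le_antisymm (CfsgLib.Components.layer_le_iff.2 fun K hK => ?_)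
    (CfsgLib.Components.component_le_layer (isComponent_detKer (by omega) (by omega)))
  rw [← CfsgLib.Components.component_commutator_self hK,
    ← CfsgLib.Classical.GL_commutator_eq_det_ker m (by omega)]
  exact commutator_mono le_top le_top

theorem two_ne_zero' [Fintype F] (hF : Odd (Fintype.card F)) : (2 : F) ≠ 0 := fun h => by
  obtain ⟨p, hp⟩ := CharP.exists F
  haveI := Fact.mk (CharP.char_is_prime F p)
  have h2 : p ∣ 2 := (CharP.cast_eq_zero_iff F p 2).1 (by exact_mod_cast h)
  obtain rfl := (Nat.prime_dvd_prime_iff_eq Fact.out Nat.prime_two).1 h2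
  obtain ⟨n, -, hn⟩ := FiniteField.card F 2
  rw [hn] at hF
  exact Nat.not_even_iff_odd.2 hF (Nat.even_pow.2 ⟨even_two, n.ne_zero⟩)

theorem standard_centralizer [Fintype F] [DecidableEq F] (hF : Odd (Fintype.card F)) (hm : 3 ≤ m)
    (heven : Even m) (t : Matrix.SpecialLinearGroup (Fin (m + 1)) F)
    (ht : (t : Matrix (Fin (m + 1)) (Fin (m + 1)) F) = tMat m) :
    Cfsg.IsStandardSubgroup ((Cfsg.layer ↥(centralizer ({t} : Set (Matrix.SpecialLinearGroup (Fin (m + 1)) F)))).map
      (centralizer ({t} : Set (Matrix.SpecialLinearGroup (Fin (m + 1)) F))).subtype) := by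
  have h2 := two_ne_zero' hF
  haveI : Nontrivial (Fin m) := Fin.nontrivial_iff_two_le.2 (by omega)
  set D := (Matrix.GeneralLinearGroup.det : GL (Fin m) F →* Fˣ).ker with hD
  set C := centralizer ({t} : Set (Matrix.SpecialLinearGroup (Fin (m + 1)) F)) with hC
  let e : GL (Fin m) F ≃* ↥C :=
    (MonoidHom.ofInjective toSL_injective).trans (MulEquiv.subgroupCongr (range_toSL h2 ht))
  have hL : (Cfsg.layer ↥C).map C.subtype = D.map (toSL m) := by
    rw [← CfsgLib.Components.layer_map_equiv e, layer_GL hm, ← hD, Subgroup.map_map]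
    congr 1
  rw [hL]
  set L := D.map (toSL (F := F) m) with hLdef
  have hLq : Cfsg.IsQuasisimple ↥L := CfsgLib.Components.isQuasisimple_of_mulEquiv
    (D.equivMapOfInjective _ toSL_injective) (isComponent_detKer (by omega) (by omega)).2
  have hCL : ∀ A ∈ centralizer (L : Set (Matrix.SpecialLinearGroup (Fin (m + 1)) F)),
      ∃ a b, blk m (Matrix.scalar (Fin m) a, b) = (A : Matrix (Fin (m + 1)) (Fin (m + 1)) F) := by
    intro A hA
    refine eq_blk_scalar (by omega) fun i j hij => ?_
    let g : GL (Fin m) F := Matrix.GeneralLinearGroup.mkOfDetNeZero (Matrix.transvection i j (1 : F))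
      (by rw [Matrix.det_transvection_of_ne i j hij]; exact one_ne_zero)
    have hg : g ∈ D := Units.ext (Matrix.det_transvection_of_ne i j hij (1 : F))
    have h1 : toSL m g * A = A * toSL m g := (Subgroup.mem_centralizer_iff.1 hA) _ ⟨g, hg, rfl⟩
    have h3 := congrArg Subtype.val h1
    have hg' : ((toSL m g : Matrix.SpecialLinearGroup (Fin (m + 1)) F) : Matrix _ _ F) =
        blk m (Matrix.transvection i j (1 : F), 1) := by
      show blk m (Matrix.transvection i j (1 : F), (Matrix.transvection i j (1 : F)).det⁻¹) = _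
      rw [Matrix.det_transvection_of_ne i j hij, inv_one]
    rw [Matrix.SpecialLinearGroup.coe_mul, Matrix.SpecialLinearGroup.coe_mul, hg'] at h3
    exact h3.symm
  have hab : ∀ A ∈ centralizer (L : Set (Matrix.SpecialLinearGroup (Fin (m + 1)) F)),
      ∀ B ∈ centralizer (L : Set (Matrix.SpecialLinearGroup (Fin (m + 1)) F)), A * B = B * A := by
    intro A hA B hB
    obtain ⟨a, b, hab⟩ := hCL A hA
    obtain ⟨a', b', hab'⟩ := hCL B hB
    refine Subtype.ext ?_
    show (A : Matrix (Fin (m + 1)) (Fin (m + 1)) F) * (B : Matrix (Fin (m + 1)) (Fin (m + 1)) F) =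
      (B : Matrix (Fin (m + 1)) (Fin (m + 1)) F) * (A : Matrix (Fin (m + 1)) (Fin (m + 1)) F)
    rw [← hab, ← hab', ← map_mul, ← map_mul, Prod.mk_mul_mk, Prod.mk_mul_mk, ← map_mul, ← map_mul,
      mul_comm a, mul_comm b]
  have htL : t ∈ centralizer (L : Set (Matrix.SpecialLinearGroup (Fin (m + 1)) F)) := by
    rw [Subgroup.mem_centralizer_iff]
    intro x hx
    have hxC : x ∈ C := by
      obtain ⟨g, -, rfl⟩ := hx
      rw [hC, ← range_toSL h2 ht]; exact ⟨g, rfl⟩
    exact mem_centralizer_singleton_iff.1 hxC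
  have ht2 : orderOf t = 2 := by
    refine orderOf_eq_prime ?_ ?_
    · rw [sq]; refine Subtype.ext ?_
      show (t : Matrix (Fin (m + 1)) (Fin (m + 1)) F) * (t : Matrix (Fin (m + 1)) (Fin (m + 1)) F) = 1
      rw [ht, tMat, ← map_mul]
      simp only [Prod.mk_mul_mk, neg_mul_neg, one_mul]
      exact map_one (blk m)
    · intro h
      have h1 := congrArg Subtype.val h
      rw [ht, Matrix.SpecialLinearGroup.coe_one, tMat, ← map_one (blk (F := F) m)] at h1
      have h3 := congrFun (congrFun (congrArg Prod.fst (blk_injective h1)) ⟨0, by omega⟩) ⟨0, by omega⟩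
      simp only [Prod.fst_one, Matrix.neg_apply, Matrix.one_apply_eq] at h3
      exact h2 (by linear_combination -h3)
  have huniq : ∀ x ∈ centralizer (L : Set (Matrix.SpecialLinearGroup (Fin (m + 1)) F)), orderOf x = 2 → x = t := by
    intro x hx hx2
    obtain ⟨a, b, hab⟩ := hCL x hx
    have hsq : (x : Matrix (Fin (m + 1)) (Fin (m + 1)) F) * (x : Matrix (Fin (m + 1)) (Fin (m + 1)) F) = 1 := by
      have := congrArg Subtype.val (pow_orderOf_eq_one x)
      rw [hx2, sq] at this
      exact this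
    rw [← hab, ← map_mul, ← map_one (blk (F := F) m)] at hsq
    obtain ⟨h11, h22⟩ := Prod.ext_iff.1 (blk_injective hsq)
    have ha : a * a = 1 := by
      have := congrFun (congrFun h11 ⟨0, by omega⟩) ⟨0, by omega⟩
      simpa [← map_mul] using this
    have hd : a ^ m * b = 1 := by
      have h1 := x.2
      rw [← hab, det_blk] at h1
      simpa [Matrix.det_diagonal] using h1
    have hb : b = 1 := by
      obtain ⟨k, rfl⟩ := heven
      rwa [← two_mul, pow_mul, sq, ha, one_pow, one_mul] at hd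
    rcases mul_self_eq_one_iff.1 ha with rfl | rfl
    · exfalso
      have : x = 1 := Subtype.ext (by rw [← hab, hb, map_one]; exact map_one (blk m))
      rw [this, orderOf_one] at hx2
      omega
    · refine Subtype.ext ?_
      rw [ht, ← hab, hb, tMat, map_neg, map_one]
  have hnormC : ∀ g ∈ C, g ∈ normalizer (L : Set (Matrix.SpecialLinearGroup (Fin (m + 1)) F)) := by
    intro g hg
    rw [hC, ← range_toSL h2 ht] at hg
    obtain ⟨g₀, rfl⟩ := hg
    rw [Subgroup.mem_normalizer_iff_map_conj_eq]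
    rw [hLdef, Subgroup.map_map]
    have : (MulAut.conj (toSL m g₀)).toMonoidHom.comp (toSL m) = (toSL (F := F) m).comp (MulAut.conj g₀).toMonoidHom := by
      ext1 y; simp
    haveI hDn' : D.Normal := MonoidHom.normal_ker _
    erw [this, ← Subgroup.map_map, Subgroup.Normal.map_conj_eq]
  have hfix : ∀ g : Matrix.SpecialLinearGroup (Fin (m + 1)) F,
      g ∈ normalizer ((centralizer (L : Set (Matrix.SpecialLinearGroup (Fin (m + 1)) F))) : Set (Matrix.SpecialLinearGroup (Fin (m + 1)) F)) → g ∈ C := by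
    intro g hg
    have h1 := huniq (g * t * g⁻¹) ((Subgroup.mem_normalizer_iff.1 hg t).1 htL)
      ((SemiconjBy.conj_mk g t).orderOf_eq.symm.trans ht2)
    rw [hC, mem_centralizer_singleton_iff]
    exact mul_inv_eq_iff_eq_mul.1 h1
  have hLC : ∀ g ∈ normalizer (L : Set (Matrix.SpecialLinearGroup (Fin (m + 1)) F)),
      g ∈ normalizer ((centralizer (L : Set (Matrix.SpecialLinearGroup (Fin (m + 1)) F))) : Set (Matrix.SpecialLinearGroup (Fin (m + 1)) F)) :=
    fun g hg => CfsgLib.Coprime.le_normalizer_centralizer le_rfl hg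
  refine ⟨hLq, ⟨?_, fun g hg => ?_⟩, fun g hg h => ?_,
    le_antisymm hLC fun g hg => hnormC g (hfix g hg)⟩
  · have h1 := orderOf_dvd_natCard (⟨t, htL⟩ : centralizer (L : Set (Matrix.SpecialLinearGroup (Fin (m + 1)) F)))
    rw [Subgroup.orderOf_mk, ht2] at h1
    exact even_iff_two_dvd.2 h1
  · by_contra hodd
    rw [Nat.not_odd_iff_even, even_iff_two_dvd] at hodd
    obtain ⟨⟨x, hx1, hx2⟩, hxo⟩ := exists_prime_orderOf_dvd_card' 2 hodd
    rw [← Subgroup.orderOf_coe] at hxo
    obtain ⟨y, hy, rfl⟩ := hx2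
    have e1 := huniq _ hx1 hxo
    have e2 := huniq y hy ((orderOf_injective (MulAut.conj g).toMonoidHom (MulAut.conj g).injective y).symm.trans hxo)
    subst e2
    apply hg
    have hgC : g ∈ C := by
      rw [hC, mem_centralizer_singleton_iff]
      exact mul_inv_eq_iff_eq_mul.1 e1
    exact hLC g (hnormC g hgC)
  · refine CfsgLib.Components.quasisimple_not_isMulCommutative hLq ?_
    have hle : L.map (MulAut.conj g).toMonoidHom ≤ centralizer (L : Set (Matrix.SpecialLinearGroup (Fin (m + 1)) F)) :=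
      Subgroup.commutator_eq_bot_iff_le_centralizer.1 (by rw [Subgroup.commutator_comm]; exact h)
    exact ⟨⟨fun a b => Subtype.ext ((MulAut.conj g).injective (by
      rw [Subgroup.coe_mul, Subgroup.coe_mul, map_mul, map_mul]
      exact hab _ (hle ⟨a, a.2, rfl⟩) _ (hle ⟨b, b.2, rfl⟩)))⟩⟩

end CfsgLib.FgsB.GLBlock
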