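import Cfsg.Agent.Lib.FgsB.GLBlockCentralizer

/-!
# `GL(m+1, F)` is of component type
-/

set_option autoImplicit false

namespace CfsgLib.FgsB.GLBlock

open Matrix Subgroup

variable {F : Type*} [Field F] {m : ℕ}

theorem component_gl [Fintype F] [DecidableEq F] (hF : Odd (Fintype.card F)) (hm : 2 ≤ m)
    (h33 : m = 2 → 4 ≤ Nat.card F) : ∃ t : GL (Fin (m + 1)) F, orderOf t = 2 ∧
    t ∉ Subgroup.center (GL (Fin (m + 1)) F) ∧
    Cfsg.HasComponent (↥(centralizer ({t} : Set (GL (Fin (m + 1)) F))) ⧸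
      Cfsg.oddCore ↥(centralizer ({t} : Set (GL (Fin (m + 1)) F)))) := by
  have h2 := two_ne_zero' hF
  let t : GL (Fin (m + 1)) F := toGL (F := F) m (-1, 1)
  have ht : (t : Matrix (Fin (m + 1)) (Fin (m + 1)) F) = tMat m := by
    show blk m _ = blk m _
    simp
  have hcz : ∀ A ∈ (toGL (F := F) m).range, A ∈ centralizer {t} := fun A hA => range_toGL h2 ht ▸ hA
  refine ⟨t, ?_, ?_, ?_⟩
  · refine orderOf_eq_prime ?_ fun h => ?_
    · show toGL (F := F) m (-1, 1) ^ 2 = 1
      rw [← map_pow, Prod.pow_mk, neg_one_sq, one_pow]; exact map_one _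
    · have h1 := congrArg Units.val h
      rw [ht, Units.val_one, tMat, ← map_one (blk (F := F) m)] at h1
      have h3 := congrFun (congrFun (congrArg Prod.fst (blk_injective h1)) ⟨0, by omega⟩) ⟨0, by omega⟩
      simp only [Prod.fst_one, Matrix.neg_apply, Matrix.one_apply_eq] at h3
      exact h2 (by linear_combination -h3)
  · intro hc
    obtain ⟨r, hr⟩ := Matrix.GeneralLinearGroup.mem_center_iff_val_eq_scalar.1 hc
    rw [ht, tMat_eq] at hr
    have e1 := congrFun (congrFun hr (Fin.last m)) (Fin.last m)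
    have e0 := congrFun (congrFun hr 0) 0
    have hm0 : m ≠ 0 := by omega
    simp [Matrix.scalar_apply] at e1 e0
    simp [hm0.symm, Ne.symm] at e0
    exact h2 (by linear_combination e0 - e1)
  let C := centralizer ({t} : Set (GL (Fin (m + 1)) F))
  let f : GL (Fin m) F × Fˣ →* ↥C := (toGL m).codRestrict C fun x => hcz _ ⟨x, rfl⟩
  have hfi : Function.Injective f := fun x y h => by
    have h1 := blk_injective (congrArg Units.val (congrArg Subtype.val h))
    exact Prod.ext (Units.ext (congrArg Prod.fst h1)) (Units.ext (congrArg Prod.snd h1))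
  have hfs : Function.Surjective f := fun A => by
    obtain ⟨x, hx⟩ := (SetLike.ext_iff.1 (range_toGL h2 ht) _).2 A.2
    exact ⟨x, Subtype.ext hx⟩
  let D := ((Matrix.GeneralLinearGroup.det : GL (Fin m) F →* Fˣ).ker).map
    (f.comp (MonoidHom.inl (GL (Fin m) F) Fˣ))
  have hfc : Function.Injective (f.comp (MonoidHom.inl (GL (Fin m) F) Fˣ)) := fun x y h =>
    congrArg Prod.fst (hfi h)
  have hDq : Cfsg.IsQuasisimple ↥D := CfsgLib.Components.isQuasisimple_of_mulEquiv
    (Subgroup.equivMapOfInjective _ _ hfc) (isComponent_detKer hm h33).2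
  have hDn : D.Normal := by
    show (((Matrix.GeneralLinearGroup.det : GL (Fin m) F →* Fˣ).ker).map _).Normal
    rw [← Subgroup.map_map]
    refine Subgroup.Normal.map ?_ f hfs
    refine ⟨fun x hx g => ?_⟩
    obtain ⟨k, hk, rfl⟩ := hx
    exact ⟨g.1 * k * g.1⁻¹, (MonoidHom.normal_ker _).conj_mem k hk g.1, by ext : 1 <;> simp⟩
  let π := QuotientGroup.mk' (Cfsg.oddCore ↥C)
  refine ⟨D.map π, Subgroup.Normal.isSubnormal (hDn.map π (QuotientGroup.mk'_surjective _)), ?_⟩
  have hne : ¬ D ≤ Cfsg.oddCore ↥C := fun h => by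
    refine CfsgLib.Components.quasisimple_not_isSolvable hDq (CfsgLib.FT.isSolvable_of_odd ?_)
    exact (Nat.not_even_iff_odd.1 fun he => CfsgLib.Base.not_dvd_card_pPrimeCore
      2 ↥C he.two_dvd).of_dvd_nat (card_dvd_of_le h)
  haveI : Nontrivial ↥(D.map π) := (nontrivial_iff_ne_bot _).2 fun e => hne (by
    rw [Subgroup.map_eq_bot_iff, QuotientGroup.ker_mk'] at e; exact e)
  exact CfsgLib.Components.isQuasisimple_of_surjective hDq (π.subgroupMap D) (π.subgroupMap_surjective D)

end CfsgLib.FgsB.GLBlock
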