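import Mathlib

/-!
The number of conjugacy classes of `GL_n(q)` lies between `q^n - q^(n-1)` and `q^n`.
-/

set_option autoImplicit false

universe u

namespace CfsgLib.FgsB.GLClassBound

open Finset Polynomial

/-- Number of monic polynomials of degree `m` with nonzero constant term. -/
def monicCount (q m : ℕ) : ℕ := if m = 0 then 1 else (q - 1) * q ^ (m - 1)

/-- Number of tuples of such polynomials of weight `n`, the weights running over `[j, j + k)`. -/
def tupleCount (q : ℕ) : ℕ → ℕ → ℕ → ℕ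
  | 0, _, n => if n = 0 then 1 else 0
  | k + 1, j, n => ∑ a ∈ range (n + 1),
      if j ∣ n - a then monicCount q ((n - a) / j) * tupleCount q k (j + 1) a else 0

/-! ### The counting inequality -/

section Series

variable {q : ℕ}

/-- Weighted count. -/
noncomputable def weight (q k j n : ℕ) : ℝ := (tupleCount q k j n : ℝ) / (q : ℝ) ^ n

/-- Weighted count of one polynomial. -/
noncomputable def gw (q j m : ℕ) : ℝ := (monicCount q m : ℝ) / (q : ℝ) ^ (j * m)

/-- Partial sums of `gw`. -/
noncomputable def gsum (q j M : ℕ) : ℝ := ∑ m ∈ range (M + 1), gw q j m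

theorem weight_succ (hq : 2 ≤ q) (k j n : ℕ) :
    weight q (k + 1) j n = ∑ a ∈ range (n + 1),
      if j ∣ n - a then gw q j ((n - a) / j) * weight q k (j + 1) a else 0 := by
  rw [weight, tupleCount, Nat.cast_sum, Finset.sum_div]
  refine Finset.sum_congr rfl fun a ha => ?_
  rw [Finset.mem_range] at ha
  split_ifs with h
  · rw [gw, weight, Nat.cast_mul, Nat.mul_div_cancel' h, div_mul_div_comm, ← pow_add,
      Nat.sub_add_cancel (by omega)]
  · simp

theorem sum_weight_succ (hq : 2 ≤ q) (k : ℕ) {j : ℕ} (hj : 0 < j) (n : ℕ) :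
    ∑ w ∈ range (n + 1), weight q (k + 1) j w =
      ∑ a ∈ range (n + 1), weight q k (j + 1) a * gsum q j ((n - a) / j) := by
  induction n with
  | zero =>
    simp [weight_succ hq, gsum, mul_comm]
  | succ n ih =>
    rw [Finset.sum_range_succ, ih, weight_succ hq, Finset.sum_range_succ (n := n + 1),
      Finset.sum_range_succ (n := n + 1), Nat.sub_self, if_pos (dvd_zero j), Nat.zero_div,
      ← add_assoc, ← Finset.sum_add_distrib]
    congr 1
    · refine Finset.sum_congr rfl fun a ha => ?_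
      rw [Finset.mem_range] at ha
      have he : n + 1 - a = (n - a) + 1 := by omega
      rw [he, Nat.succ_div]
      split_ifs with h
      · rw [gsum, gsum, Finset.sum_range_succ (n := (n - a) / j + 1)]
        ring
      · simp
    · simp [gsum, mul_comm]

theorem gsum_eq (hq : 2 ≤ q) {j : ℕ} (hj : 2 ≤ j) (M : ℕ) :
    gsum q j M = 1 + (1 - 1 / (q : ℝ)) * (1 - (1 / (q : ℝ) ^ (j - 1)) ^ M) / ((q : ℝ) ^ (j - 1) - 1) := by
  have hq' : (2 : ℝ) ≤ q := by exact_mod_cast hq
  have hc : (q : ℝ) ^ (j - 1) - 1 ≠ 0 := sub_ne_zero.2 (one_lt_pow₀ (by linarith) (by omega)).ne'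
  induction M with
  | zero => simp [gsum, gw, monicCount]
  | succ M ih =>
    have e : gw q j (M + 1) = (1 - 1 / (q : ℝ)) * (1 / (q : ℝ) ^ (j - 1)) ^ (M + 1) := by
      rw [gw, monicCount, if_neg M.succ_ne_zero, Nat.add_sub_cancel, Nat.cast_mul,
        Nat.cast_sub (by omega), Nat.cast_pow, Nat.cast_one, one_div_pow, ← pow_mul,
        show j * (M + 1) = (j - 1) * (M + 1) + (M + 1) by
          obtain ⟨i, rfl⟩ : ∃ i, j = i + 1 := ⟨j - 1, by omega⟩
          rw [Nat.add_sub_cancel]; ring, pow_add _ ((j - 1) * (M + 1)), pow_succ _ M]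
      have hq0 : (q : ℝ) ≠ 0 := by linarith
      field_simp
    rw [gsum, Finset.sum_range_succ, ← gsum, ih, e, pow_succ]
    have hr : ((q : ℝ) ^ (j - 1)) ≠ 0 := pow_ne_zero _ (by linarith)
    field_simp
    ring

/-- The weighted tail bound. -/
theorem sum_weight_le (hq : 2 ≤ q) (k : ℕ) : ∀ j, 2 ≤ j → ∀ n,
    ∑ w ∈ range (n + 1), weight q k j w + weight q k j n / ((q : ℝ) ^ (j - 1) - 1) ≤
      1 + 1 / ((q : ℝ) ^ (j - 1) - 1) := by
  have hq' : (2 : ℝ) ≤ q := by exact_mod_cast hq
  induction k with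
  | zero =>
    intro j hj n
    have hc : 0 < (q : ℝ) ^ (j - 1) - 1 := sub_pos.2 (one_lt_pow₀ (by linarith) (by omega))
    have e : ∀ w, weight q 0 j w = if w = 0 then 1 else 0 := fun w => by
      rcases Nat.eq_zero_or_pos w with rfl | hw
      · simp [weight, tupleCount]
      · simp [weight, tupleCount, hw.ne']
    simp only [e]
    rw [Finset.sum_ite_eq' (range (n + 1)) 0 (fun _ => (1 : ℝ)), if_pos (by simp)]
    split_ifs with h
    · exact le_rfl
    · have := div_pos one_pos hc
      simp only [zero_div]; linarith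
  | succ k ih =>
    intro j hj n
    have hQ0 : (q : ℝ) ≠ 0 := by linarith
    set c : ℝ := (q : ℝ) ^ (j - 1) - 1 with hcdef
    have hc : 0 < c := sub_pos.2 (one_lt_pow₀ (by linarith) (by omega))
    set r : ℝ := 1 / (q : ℝ) ^ (j - 1) with hr
    set t : ℝ := 1 - 1 / (q : ℝ) with ht
    have ht0 : 0 ≤ t := by
      rw [ht, sub_nonneg, div_le_one (by linarith)]
      linarith
    have hr0 : 0 ≤ r := by positivity
    have hwnn : ∀ a, 0 ≤ weight q k (j + 1) a := fun a => by unfold weight; positivity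
    rw [sum_weight_succ hq k (by omega) n, weight_succ hq, Finset.sum_div, ← Finset.sum_add_distrib,
      Finset.sum_range_succ, Nat.sub_self, if_pos (dvd_zero j), Nat.zero_div]
    have hlt : ∀ a ∈ range n, weight q k (j + 1) a * gsum q j ((n - a) / j) +
        (if j ∣ n - a then gw q j ((n - a) / j) * weight q k (j + 1) a else 0) / c ≤
        weight q k (j + 1) a * (1 + t / c) := by
      intro a ha
      rw [Finset.mem_range] at ha
      have hG := gsum_eq hq hj ((n - a) / j)
      rw [← hr, ← ht, ← hcdef] at hG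
      split_ifs with h
      · obtain ⟨M, hM⟩ : ∃ M, (n - a) / j = M + 1 := by
          obtain ⟨d, hd⟩ := h
          refine ⟨d - 1, ?_⟩
          rw [hd, Nat.mul_div_cancel_left _ (by omega)]
          have : d ≠ 0 := fun h0 => by rw [h0, mul_zero] at hd; omega
          omega
        have hg : gw q j ((n - a) / j) = t * r ^ ((n - a) / j) := by
          have h1 := gsum_eq hq hj M
          rw [← hr, ← ht, ← hcdef] at h1
          rw [hM] at hG ⊢
          rw [gsum, Finset.sum_range_succ, ← gsum, h1] at hG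
          rw [eq_sub_of_add_eq' hG, pow_succ]
          have hcr : c = 1 / r - 1 := by rw [hcdef, hr, one_div_one_div]
          have hr' : r ≠ 0 := by positivity
          field_simp
          rw [hcr]
          field_simp
          ring
        rw [hG, hg]
        exact le_of_eq (by ring)
      · rw [zero_div, add_zero, hG]
        refine mul_le_mul_of_nonneg_left ?_ (hwnn a)
        gcongr
        nlinarith [pow_nonneg hr0 ((n - a) / j)]
    refine (add_le_add (Finset.sum_le_sum hlt) le_rfl).trans ?_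
    have h0 : gsum q j 0 = 1 := by simp [gsum, gw, monicCount]
    have g0 : gw q j 0 = 1 := by simp [gw, monicCount]
    rw [h0, g0, one_mul, mul_one, ← Finset.sum_mul]
    have hd := ih (j + 1) (by omega) n
    rw [Finset.sum_range_succ, Nat.add_sub_cancel] at hd
    have hc' : 0 < (q : ℝ) ^ j - 1 := sub_pos.2 (one_lt_pow₀ (by linarith) (by omega))
    have hcc : (q : ℝ) ^ j = q * (c + 1) := by
      rw [hcdef, sub_add_cancel, ← pow_succ', Nat.sub_add_cancel (by omega)]
    have hh : 0 ≤ 1 + t / c := by positivity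
    set P := ∑ a ∈ range n, weight q k (j + 1) a
    set d := weight q k (j + 1) n
    calc P * (1 + t / c) + (d + d / c) = (P + d + d / ((q : ℝ) ^ j - 1)) * (1 + t / c) := by
          rw [hcc] at hc' ⊢
          rw [ht]
          field_simp
          ring
      _ ≤ (1 + 1 / ((q : ℝ) ^ j - 1)) * (1 + t / c) := mul_le_mul_of_nonneg_right hd hh
      _ = 1 + 1 / c := by
          rw [hcc] at hc' ⊢
          rw [ht]
          field_simp
          ring

theorem tupleCount_one_le (hq : 2 ≤ q) (k n : ℕ) : tupleCount q k 1 n ≤ q ^ n := by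
  rcases k with _ | k
  · simp only [tupleCount]
    split_ifs with h
    · exact Nat.one_le_pow _ _ (by omega)
    · exact Nat.zero_le _
  have hq' : (2 : ℝ) ≤ q := by exact_mod_cast hq
  suffices h : weight q (k + 1) 1 n ≤ 1 by
    rw [weight, div_le_one (by positivity)] at h
    exact_mod_cast h
  have h2 := sum_weight_le hq k 2 le_rfl n
  rw [Finset.sum_range_succ] at h2
  rw [weight_succ hq, Finset.sum_range_succ, Nat.sub_self, if_pos (dvd_zero _), Nat.zero_div]
  have e : ∀ a ∈ range n, (if 1 ∣ n - a then gw q 1 ((n - a) / 1) * weight q k (1 + 1) a else 0) =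
      (1 - 1 / (q : ℝ)) * weight q k 2 a := by
    intro a ha
    rw [Finset.mem_range] at ha
    obtain ⟨m, hm⟩ : ∃ m, n - a = m + 1 := ⟨n - a - 1, by omega⟩
    rw [if_pos (one_dvd _), Nat.div_one, hm, gw, monicCount, if_neg m.succ_ne_zero, Nat.add_sub_cancel,
      one_mul, Nat.cast_mul, Nat.cast_sub (by omega), Nat.cast_pow, Nat.cast_one, pow_succ]
    have hq0 : (q : ℝ) ≠ 0 := by linarith
    field_simp
  rw [Finset.sum_congr rfl e, ← Finset.mul_sum, show gw q 1 0 = 1 by simp [gw, monicCount], one_mul]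
  simp only [show (2 : ℕ) - 1 = 1 from rfl, pow_one] at h2
  set P := ∑ a ∈ range n, weight q k 2 a
  set d := weight q k 2 n
  have hc : (0 : ℝ) < q - 1 := by linarith
  have hq0 : (q : ℝ) ≠ 0 := by linarith
  have h3 := mul_le_mul_of_nonneg_left h2 (show (0 : ℝ) ≤ ((q : ℝ) - 1) / q by positivity)
  calc (1 - 1 / (q : ℝ)) * P + d = ((q : ℝ) - 1) / q * (P + d + d / ((q : ℝ) - 1)) := by
        field_simp; ring
    _ ≤ _ := h3
    _ = 1 := by field_simp; ring

end Series

/-! ### Polynomials and tuples -/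

section Poly

variable (F : Type*) [Field F] [Fintype F]

theorem natCard_monic_nonroot (m : ℕ) :
    Finite {p : F[X] // p.Monic ∧ p.natDegree = m ∧ p.coeff 0 ≠ 0} ∧
      Nat.card {p : F[X] // p.Monic ∧ p.natDegree = m ∧ p.coeff 0 ≠ 0} =
        monicCount (Fintype.card F) m := by
  classical
  rcases Nat.eq_zero_or_pos m with rfl | hm
  · haveI : Subsingleton {p : F[X] // p.Monic ∧ p.natDegree = 0 ∧ p.coeff 0 ≠ 0} := ⟨fun a b =>
      Subtype.ext (by rw [a.2.1.natDegree_eq_zero.1 a.2.2.1, b.2.1.natDegree_eq_zero.1 b.2.2.1])⟩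
    exact ⟨inferInstance, by
      rw [monicCount, if_pos rfl]
      exact Nat.card_eq_one_iff_unique.2 ⟨inferInstance, ⟨⟨1, monic_one, natDegree_one, by simp⟩⟩⟩⟩
  obtain ⟨i, rfl⟩ : ∃ i, m = i + 1 := ⟨m - 1, by omega⟩
  let e : {p : F[X] // p.Monic ∧ p.natDegree = i + 1} ≃ (Fin (i + 1) → F) :=
    (monicEquivDegreeLT (i + 1)).trans (degreeLTEquiv F (i + 1)).toEquiv
  have he : ∀ p, e p 0 = p.1.coeff 0 := fun p => by
    show (p.1.eraseLead).coeff 0 = _
    rw [eraseLead_coeff_of_ne _ (by rw [p.2.2]; omega)]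
  let e' : {p : F[X] // p.Monic ∧ p.natDegree = i + 1 ∧ p.coeff 0 ≠ 0} ≃
      {a : F // a ≠ 0} × (Fin i → F) :=
    { toFun := fun p => (⟨e ⟨p.1, p.2.1, p.2.2.1⟩ 0, by rw [he]; exact p.2.2.2⟩,
        Fin.tail (e ⟨p.1, p.2.1, p.2.2.1⟩))
      invFun := fun v => ⟨(e.symm (Fin.cons v.1.1 v.2)).1, (e.symm _).2.1, (e.symm _).2.2, by
        rw [← he, Equiv.apply_symm_apply, Fin.cons_zero]; exact v.1.2⟩
      left_inv := fun p => Subtype.ext (by
        simp only [Fin.cons_self_tail, Equiv.symm_apply_apply])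
      right_inv := fun v => by simp }
  refine ⟨Finite.of_equiv _ e'.symm, ?_⟩
  rw [monicCount, if_neg i.succ_ne_zero, Nat.add_sub_cancel, Nat.card_congr e', Nat.card_prod,
    Nat.card_fun, Nat.card_fin, Nat.card_eq_fintype_card, Nat.card_eq_fintype_card,
    Fintype.card_subtype_compl, Fintype.card_subtype_eq]

/-- Tuples of monic polynomials prime to `X` of given weight. -/
def tupleSet (F : Type*) [Field F] (k j n : ℕ) : Set (Fin k → F[X]) :=
  {g | (∀ i, (g i).Monic ∧ (g i).coeff 0 ≠ 0) ∧ ∑ i : Fin k, (j + (i : ℕ)) * (g i).natDegree = n}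

theorem tupleSet_card (k : ℕ) : ∀ j, 0 < j → ∀ n,
    (tupleSet F k j n).Finite ∧ (tupleSet F k j n).ncard ≤ tupleCount (Fintype.card F) k j n := by
  classical
  induction k with
  | zero =>
    intro j _ n
    refine ⟨Set.toFinite _, ?_⟩
    rw [tupleCount]
    split_ifs with h
    · exact Set.ncard_le_one_of_subsingleton _
    · refine le_of_eq ((Set.ncard_eq_zero (Set.toFinite _)).2 (Set.eq_empty_iff_forall_notMem.2 fun g hg => h ?_))
      simpa using hg.2.symm
  | succ k ih =>
    intro j hj n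
    let M : ℕ → Set F[X] := fun m => {p | p.Monic ∧ p.natDegree = m ∧ p.coeff 0 ≠ 0}
    let piece : ℕ → Set (Fin (k + 1) → F[X]) := fun a =>
      if j ∣ n - a then (fun x : F[X] × (Fin k → F[X]) => Fin.cons x.1 x.2) ''
        (M ((n - a) / j) ×ˢ tupleSet F k (j + 1) a) else ∅
    have hMfin : ∀ m, (M m).Finite := fun m => Set.finite_coe_iff.1 (natCard_monic_nonroot F m).1
    have hsub : tupleSet F (k + 1) j n ⊆ ⋃ a ∈ range (n + 1), piece a := by
      intro g hg
      have hs := hg.2
      rw [Fin.sum_univ_succ] at hs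
      simp only [Fin.val_zero, add_zero, Fin.val_succ] at hs
      set a := ∑ i : Fin k, (j + ((i : ℕ) + 1)) * (g i.succ).natDegree with ha
      simp only [Set.mem_iUnion, Finset.mem_range]
      refine ⟨a, by omega, ?_⟩
      have hna : n - a = j * (g 0).natDegree := by omega
      rw [show piece a = _ from if_pos ⟨_, hna⟩]
      refine ⟨(g 0, Fin.tail g), ⟨⟨(hg.1 0).1, ?_, (hg.1 0).2⟩, fun i => hg.1 i.succ, ?_⟩, Fin.cons_self_tail g⟩
      · rw [hna, Nat.mul_div_cancel_left _ hj]
      · rw [ha]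
        exact Finset.sum_congr rfl fun i _ => by rw [add_assoc, add_comm 1 (i : ℕ)]; rfl
    have hfin : ∀ a, (piece a).Finite := fun a => by
      simp only [piece]
      split_ifs
      · exact ((hMfin _).prod (ih (j + 1) j.succ_pos a).1).image _
      · exact Set.finite_empty
    have hU : (⋃ a ∈ range (n + 1), piece a).Finite :=
      (range (n + 1)).finite_toSet.biUnion fun a _ => hfin a
    refine ⟨hU.subset hsub, (Set.ncard_le_ncard hsub hU).trans ?_⟩
    refine (Finset.set_ncard_biUnion_le _ _).trans ?_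
    rw [tupleCount]
    refine Finset.sum_le_sum fun a _ => ?_
    simp only [piece]
    split_ifs
    · refine (Set.ncard_image_le ((hMfin _).prod (ih (j + 1) j.succ_pos a).1)).trans ?_
      rw [Set.ncard_prod]
      exact Nat.mul_le_mul (le_of_eq ((Nat.card_coe_set_eq _).symm.trans (natCard_monic_nonroot F _).2))
        (ih (j + 1) j.succ_pos a).2
    · simp

end Poly

/-! ### Elementary divisors -/

section Divisors

variable {F : Type u} [Field F] {n : ℕ}


/-- The module on `F^n` defined by a matrix. -/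
abbrev MatModule (A : Matrix (Fin n) (Fin n) F) := Module.AEval' (Matrix.toLin' A)

/-- Elementary divisor data of an invertible matrix. -/
theorem exists_divisors (A : GL (Fin n) F) :
    ∃ (ι : Type u) (_ : Fintype ι) (p : ι → F[X]) (e : ι → ℕ),
      (∀ i, (p i).Monic ∧ Irreducible (p i) ∧ (p i).coeff 0 ≠ 0 ∧ 1 ≤ e i ∧ e i ≤ n) ∧
      (∑ i, e i * (p i).natDegree = n) ∧
      Nonempty (MatModule (A : Matrix (Fin n) (Fin n) F) ≃ₗ[F[X]]
        ((i : ι) → F[X] ⧸ F[X] ∙ (p i ^ e i))) := by
  classical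
  set φ := Matrix.toLin' (A : Matrix (Fin n) (Fin n) F) with hφ
  obtain ⟨ι, hι, p, hp, e, ⟨E⟩⟩ := Module.equiv_directSum_of_isTorsion (R := F[X])
    (M := Module.AEval' φ) (Module.AEval.isTorsion_of_finiteDimensional F (Fin n → F) φ)
  let E' : Module.AEval' φ ≃ₗ[F[X]] ((i : ι) → F[X] ⧸ F[X] ∙ (p i ^ e i)) :=
    E.trans (DirectSum.linearEquivFunOnFintype F[X] ι _)
  let κ := {i : ι // e i ≠ 0}
  have hspan : ∀ i : ι, (F[X] ∙ (p i ^ e i)) = F[X] ∙ (normalize (p i) ^ e i) := fun i =>
    Ideal.span_singleton_eq_span_singleton.2 ((normalize_associated (p i)).symm.pow_pow)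
  have hsub : ∀ i : ι, e i = 0 → Subsingleton (F[X] ⧸ F[X] ∙ (p i ^ e i)) := fun i h => by
    rw [Submodule.Quotient.subsingleton_iff, h, pow_zero]
    exact Ideal.span_singleton_one
  let R : ((i : ι) → F[X] ⧸ F[X] ∙ (p i ^ e i)) ≃ₗ[F[X]] ((i : κ) → F[X] ⧸ F[X] ∙ (p i.1 ^ e i.1)) :=
    { toFun := fun v i => v i.1
      map_add' := fun _ _ => rfl
      map_smul' := fun _ _ => rfl
      invFun := fun w i => if h : e i = 0 then 0 else w ⟨i, h⟩
      left_inv := fun v => funext fun i => by
        by_cases h : e i = 0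
        · haveI := hsub i h
          exact Subsingleton.elim _ _
        · simp [h]
      right_inv := fun w => funext fun i => dif_neg i.2 }
  let E'' : Module.AEval' φ ≃ₗ[F[X]] ((i : κ) → F[X] ⧸ F[X] ∙ (normalize (p i.1) ^ e i.1)) :=
    (E'.trans R).trans (LinearEquiv.piCongrRight fun i => Submodule.quotEquivOfEq _ _ (hspan i.1))
  have hmon : ∀ i : κ, (normalize (p i.1)).Monic := fun i => monic_normalize (hp i.1).ne_zero
  have hirr : ∀ i : κ, Irreducible (normalize (p i.1)) := fun i =>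
    (normalize_associated (p i.1)).symm.irreducible (hp i.1)
  haveI : ∀ i : κ, Module.Finite F (F[X] ⧸ F[X] ∙ (normalize (p i.1) ^ e i.1)) := fun i =>
    ((hmon i).pow _).finite_adjoinRoot
  have hsum : ∑ i : κ, e i.1 * (normalize (p i.1)).natDegree = n := by
    have h := ((Module.AEval'.of φ).trans (E''.restrictScalars F)).finrank_eq
    rw [Module.finrank_fin_fun, Module.finrank_pi_fintype] at h
    rw [h]
    refine Finset.sum_congr rfl fun i _ => ?_
    rw [show Module.finrank F (F[X] ⧸ F[X] ∙ (normalize (p i.1) ^ e i.1)) = _ from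
      finrank_quotient_span_eq_natDegree, natDegree_pow]
  refine ⟨κ, inferInstance, fun i => normalize (p i.1), fun i => e i.1, fun i =>
    ⟨hmon i, hirr i, fun h0 => ?_, Nat.one_le_iff_ne_zero.2 i.2, ?_⟩, hsum, ⟨E''⟩⟩
  · -- `X` acts injectively
    have hpX : normalize (p i.1) = X :=
      (eq_of_monic_of_associated monic_X (hmon i)
        (irreducible_X.associated_of_dvd (hirr i) (X_dvd_iff.2 h0))).symm
    obtain ⟨m, hm⟩ : ∃ m, e i.1 = m + 1 := ⟨e i.1 - 1, by have := i.2; omega⟩
    set w : (i : κ) → F[X] ⧸ F[X] ∙ (normalize (p i.1) ^ e i.1) :=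
      Pi.single i (Submodule.Quotient.mk (X ^ m)) with hw
    have hXw : (X : F[X]) • w = 0 := by
      rw [hw, ← Pi.single_smul, ← Submodule.Quotient.mk_smul, Pi.single_eq_zero_iff,
        Submodule.Quotient.mk_eq_zero, Ideal.mem_span_singleton, smul_eq_mul, ← pow_succ', hpX, hm]
    have hv : φ ((Module.AEval'.of φ).symm (E''.symm w)) = 0 := by
      rw [← Module.AEval'.of_symm_X_smul, ← map_smul, hXw, map_zero, map_zero]
    have hv0 : (Module.AEval'.of φ).symm (E''.symm w) = 0 := by
      change Matrix.mulVec (A : Matrix (Fin n) (Fin n) F) _ = 0 at hv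
      have := congrArg (Matrix.mulVec ((A⁻¹ : GL (Fin n) F) : Matrix (Fin n) (Fin n) F)) hv
      rwa [Matrix.mulVec_mulVec, ← Units.val_mul, inv_mul_cancel, Units.val_one, Matrix.one_mulVec,
        Matrix.mulVec_zero] at this
    simp only [LinearEquiv.map_eq_zero_iff, hw, Pi.single_eq_zero_iff, Submodule.Quotient.mk_eq_zero,
      Ideal.mem_span_singleton, hpX, hm] at hv0
    have := natDegree_le_of_dvd hv0 (pow_ne_zero _ X_ne_zero)
    simp at this
  · refine le_trans (Nat.le_mul_of_pos_right _ (hirr i).natDegree_pos) ?_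
    rw [← hsum]
    exact Finset.single_le_sum (f := fun i : κ => e i.1 * (normalize (p i.1)).natDegree)
      (fun _ _ => Nat.zero_le _) (Finset.mem_univ i)

theorem multiset_eq_of_prod {s t : Multiset F[X]} (hs : ∀ x ∈ s, x.Monic ∧ Irreducible x)
    (ht : ∀ x ∈ t, x.Monic ∧ Irreducible x) (h : s.prod = t.prod) : s = t :=
  Multiset.rel_eq.1 ((UniqueFactorizationMonoid.factors_unique (fun x hx => (hs x hx).2)
    (fun x hx => (ht x hx).2) (h ▸ Associated.refl _)).mono fun a ha b hb hab =>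
      eq_of_monic_of_associated (hs a ha).1 (ht b hb).1 hab)

/-- The tuple of products of elementary divisors of equal exponent. -/
noncomputable def tupleOf (n : ℕ) {ι : Type*} [Fintype ι] (p : ι → F[X]) (e : ι → ℕ) (i : Fin n) : F[X] := by
  classical
  exact (((Finset.univ : Finset ι).filter fun x => e x = (i : ℕ) + 1).val.map p).prod

theorem tupleOf_apply {ι : Type*} [Fintype ι] [DecidableEq ι] (p : ι → F[X]) (e : ι → ℕ) (i : Fin n) :
    tupleOf n p e i = ∏ x ∈ (Finset.univ : Finset ι).filter (fun x => e x = (i : ℕ) + 1), p x := by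
  rw [Finset.prod_eq_multiset_prod, tupleOf]

/-- The conditions on elementary divisor data. -/
def IsDivisorData (n : ℕ) {ι : Type*} [Fintype ι] (p : ι → F[X]) (e : ι → ℕ) : Prop :=
  (∀ i, (p i).Monic ∧ Irreducible (p i) ∧ (p i).coeff 0 ≠ 0 ∧ 1 ≤ e i ∧ e i ≤ n) ∧
    ∑ i, e i * (p i).natDegree = n

theorem tupleOf_mem {ι : Type*} [Fintype ι] {p : ι → F[X]} {e : ι → ℕ} (h : IsDivisorData n p e) :
    tupleOf n p e ∈ tupleSet F n 1 n := by
  classical
  obtain ⟨hpe, hsum⟩ := h
  have hgm := tupleOf_apply (n := n) p e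
  refine ⟨fun i => ⟨?_, ?_⟩, ?_⟩
  · rw [hgm]
    exact monic_prod_of_monic _ _ fun x _ => (hpe x).1
  · rw [hgm, coeff_zero_prod]
    exact Finset.prod_ne_zero_iff.2 fun x _ => (hpe x).2.2.1
  · have h1 : ∀ i : Fin n, (1 + (i : ℕ)) * (tupleOf n p e i).natDegree =
        ∑ x : ι, if e x = (i : ℕ) + 1 then e x * (p x).natDegree else 0 := fun i => by
      rw [hgm, natDegree_prod_of_monic _ _ fun x _ => (hpe x).1, Finset.mul_sum, Finset.sum_filter]
      exact Finset.sum_congr rfl fun x _ => by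
        split_ifs with h
        · rw [h, add_comm]
        · rfl
    rw [Finset.sum_congr rfl fun i _ => h1 i, Finset.sum_comm]
    refine Eq.trans (Finset.sum_congr rfl fun x _ => ?_) (hsum)
    obtain ⟨m, hm⟩ : ∃ m, e x = m + 1 := ⟨e x - 1, by have := (hpe x).2.2.2.1; omega⟩
    rw [Finset.sum_eq_single (⟨m, by have := (hpe x).2.2.2.2; omega⟩ : Fin n)
      (fun i _ hi => if_neg fun h => hi (Fin.ext (show (i : ℕ) = m by omega)))
      (fun h => absurd (Finset.mem_univ _) h), if_pos hm]

theorem isConj_of_tupleOf_eq {A B : GL (Fin n) F} {ι κ : Type u} [Fintype ι] [Fintype κ]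
    {p : ι → F[X]} {e : ι → ℕ} {p' : κ → F[X]} {e' : κ → ℕ} (hd : IsDivisorData n p e)
    (hd' : IsDivisorData n p' e')
    (hE : Nonempty (MatModule (A : Matrix (Fin n) (Fin n) F) ≃ₗ[F[X]]
      ((i : ι) → F[X] ⧸ F[X] ∙ (p i ^ e i))))
    (hE' : Nonempty (MatModule (B : Matrix (Fin n) (Fin n) F) ≃ₗ[F[X]]
      ((i : κ) → F[X] ⧸ F[X] ∙ (p' i ^ e' i))))
    (hgg : tupleOf n p e = tupleOf n p' e') : IsConj A B := by
  classical
  obtain ⟨hpe, -⟩ := hd
  obtain ⟨hpe', -⟩ := hd'
  let K : ι → F[X] × ℕ := fun x => (p x, e x)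
  let K' : κ → F[X] × ℕ := fun x => (p' x, e' x)
  have hcount : ∀ k : F[X] × ℕ,
      Fintype.card {x : ι // K x = k} = Fintype.card {x : κ // K' x = k} := by
    rintro ⟨P, m⟩
    by_cases hm : ∃ i : Fin n, m = (i : ℕ) + 1
    · obtain ⟨i, rfl⟩ := hm
      have hmul := multiset_eq_of_prod
        (s := ((Finset.univ : Finset (ι)).filter fun x => e x = (i : ℕ) + 1).val.map (p))
        (t := ((Finset.univ : Finset (κ)).filter fun x => e' x = (i : ℕ) + 1).val.map (p'))
        (fun x hx => by obtain ⟨y, -, rfl⟩ := Multiset.mem_map.1 hx; exact ⟨(hpe y).1, (hpe y).2.1⟩)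
        (fun x hx => by obtain ⟨y, -, rfl⟩ := Multiset.mem_map.1 hx; exact ⟨(hpe' y).1, (hpe' y).2.1⟩)
        (congrFun hgg i)
      have := congrArg (Multiset.count P) hmul
      rw [Multiset.count_map, Multiset.count_map, ← Finset.filter_val, ← Finset.filter_val,
        Finset.card_val, Finset.card_val, Finset.filter_filter, Finset.filter_filter] at this
      rw [Fintype.card_subtype, Fintype.card_subtype]
      simpa [K, K', Prod.ext_iff, and_comm, eq_comm] using this
    · push Not at hm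
      have hno : ∀ E : ℕ, 1 ≤ E → E ≤ n → E ≠ m := fun E h1 h2 h3 =>
        hm ⟨E - 1, by omega⟩ (by simp; omega)
      rw [Fintype.card_eq_zero_iff.2 ⟨fun x => hno _ (hpe x.1).2.2.2.1 (hpe x.1).2.2.2.2
          (congrArg Prod.snd x.2)⟩,
        Fintype.card_eq_zero_iff.2 ⟨fun x => hno _ (hpe' x.1).2.2.2.1 (hpe' x.1).2.2.2.2
          (congrArg Prod.snd x.2)⟩]
  let σ : ι ≃ κ := Equiv.ofFiberEquiv fun k => Fintype.equivOfCardEq (hcount k)
  have hσ : ∀ x, K' (σ x) = K x := fun x => Equiv.ofFiberEquiv_map _ x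
  have hspan : ∀ x, (F[X] ∙ (p x ^ e x)) = F[X] ∙ (p' (σ x) ^ e' (σ x)) := fun x => by
    rw [show p' (σ x) = p x from congrArg Prod.fst (hσ x),
      show e' (σ x) = e x from congrArg Prod.snd (hσ x)]
  obtain ⟨E⟩ := hE
  obtain ⟨E'⟩ := hE'
  let L : MatModule (A : Matrix (Fin n) (Fin n) F) ≃ₗ[F[X]] MatModule (B : Matrix (Fin n) (Fin n) F) :=
    E.trans (((LinearEquiv.piCongrRight fun x => Submodule.quotEquivOfEq _ _ (hspan x)).trans
      (LinearEquiv.piCongrLeft F[X] (fun y => F[X] ⧸ F[X] ∙ (p' y ^ e' y)) σ)).trans E'.symm)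
  let f : (Fin n → F) ≃ₗ[F] (Fin n → F) :=
    (Module.AEval'.of (Matrix.toLin' (A : Matrix (Fin n) (Fin n) F))).trans
      ((L.restrictScalars F).trans
        (Module.AEval'.of (Matrix.toLin' (B : Matrix (Fin n) (Fin n) F))).symm)
  have hf : ∀ v, f (Matrix.mulVec (A : Matrix (Fin n) (Fin n) F) v) =
      Matrix.mulVec (B : Matrix (Fin n) (Fin n) F) (f v) := by
    intro v
    simp only [f, LinearEquiv.trans_apply, LinearEquiv.restrictScalars_apply]
    rw [← Matrix.toLin'_apply, ← Module.AEval'.X_smul_of, map_smul, Module.AEval'.of_symm_X_smul,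
      Matrix.toLin'_apply]
  refine isConj_iff.2 ?_
  refine ⟨Matrix.GeneralLinearGroup.toLin.symm (LinearMap.GeneralLinearGroup.ofLinearEquiv f), ?_⟩
  rw [mul_inv_eq_iff_eq_mul]
  apply Units.ext
  simp only [Units.val_mul]
  apply Matrix.toLin'.injective
  apply LinearMap.ext
  intro v
  simp only [Matrix.toLin'_apply, ← Matrix.mulVec_mulVec]
  have hT : ∀ w, Matrix.mulVec ((Matrix.GeneralLinearGroup.toLin.symm
      (LinearMap.GeneralLinearGroup.ofLinearEquiv f) : GL (Fin n) F) : Matrix (Fin n) (Fin n) F) w = f w := fun w => by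
    show Matrix.mulVec (LinearMap.toMatrix' f.toLinearMap) w = _
    rw [LinearMap.toMatrix'_mulVec]; rfl
  rw [hT, hT, hf]

theorem card_classes_le (F : Type u) [Field F] [Fintype F] (n : ℕ) :
    Nat.card (ConjClasses (GL (Fin n) F)) ≤ Fintype.card F ^ n := by
  classical
  choose ι hι p e hpe hsum hE using fun c : ConjClasses (GL (Fin n) F) => exists_divisors c.out
  obtain ⟨hfin, hcard⟩ := tupleSet_card F n 1 one_pos n
  haveI := hfin.to_subtype
  refine le_trans (Nat.card_le_card_of_injective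
    (fun c => (⟨_, tupleOf_mem (n := n) ⟨hpe c, hsum c⟩⟩ : tupleSet F n 1 n)) ?_)
    ((le_of_eq (Nat.card_coe_set_eq _)).trans
      (hcard.trans (tupleCount_one_le Fintype.one_lt_card n n)))
  intro c c' h
  rw [← Quotient.out_eq c, ← Quotient.out_eq c']
  exact ConjClasses.mk_eq_mk_iff_isConj.2 (isConj_of_tupleOf_eq ⟨hpe c, hsum c⟩ ⟨hpe c', hsum c'⟩
    (hE c) (hE c') (congrArg Subtype.val h))

theorem card_classes_ge (F : Type*) [Field F] [Fintype F] {n : ℕ} (hn : 1 ≤ n) :
    Fintype.card F ^ n - Fintype.card F ^ (n - 1) ≤ Nat.card (ConjClasses (GL (Fin n) F)) := by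
  classical
  obtain ⟨hfin, hc⟩ := natCard_monic_nonroot F n
  have e : Fintype.card F ^ n - Fintype.card F ^ (n - 1) = monicCount (Fintype.card F) n := by
    obtain ⟨k, rfl⟩ : ∃ k, n = k + 1 := ⟨n - 1, by omega⟩
    rw [monicCount, if_neg k.succ_ne_zero, Nat.add_sub_cancel, Nat.sub_mul, one_mul, pow_succ']
  rw [e, ← hc]
  have hex : ∀ f : {p : F[X] // p.Monic ∧ p.natDegree = n ∧ p.coeff 0 ≠ 0},
      ∃ A : GL (Fin n) F, (A : Matrix (Fin n) (Fin n) F).charpoly = f.1 := by
    intro f
    let pb := AdjoinRoot.powerBasis f.2.1.ne_zero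
    have hd : pb.dim = n := (AdjoinRoot.powerBasis_dim f.2.1.ne_zero).trans f.2.2.1
    let M := (Algebra.leftMulMatrix pb.basis pb.gen).reindex (finCongr hd) (finCongr hd)
    have hM : M.charpoly = f.1 := by
      rw [Matrix.charpoly_reindex, charpoly_leftMulMatrix,
        AdjoinRoot.minpoly_powerBasis_gen_of_monic f.2.1]
    have hdet : M.det ≠ 0 := fun h => f.2.2.2 (by
      rw [← hM, Matrix.det_eq_sign_charpoly_coeff] at *
      simpa using h)
    exact ⟨Matrix.GeneralLinearGroup.mkOfDetNeZero M hdet, hM⟩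
  choose A hA using hex
  refine Nat.card_le_card_of_injective (fun f => ConjClasses.mk (A f)) fun f g h => ?_
  obtain ⟨c, hc⟩ := isConj_iff.1 (ConjClasses.mk_eq_mk_iff_isConj.1 h)
  apply Subtype.ext
  rw [← hA f, ← hA g, ← hc, Units.val_mul, Units.val_mul, Matrix.coe_units_inv, Matrix.charpoly_units_conj]

end Divisors

end CfsgLib.FgsB.GLClassBound
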