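import Cfsg.Agent.Lib.KnownB.RestrictScalars
import Cfsg.Agent.Lib.Classical.SympOrder
import Mathlib.LinearAlgebra.Matrix.GeneralLinearGroup.Card

/-!
Sylow `r`-subgroups of `GL_n`, `SL_n` and `Sp_{2n}` for `r > n` prime to `q` are homocyclic.
-/

set_option autoImplicit false
set_option linter.style.haveILetI false

universe u v w

namespace CfsgLib.FgsB.Homocyclic

open Finset

/-- `(Z/m)^a` as a multiplicative group. -/
abbrev Hc (a m : ℕ) : Type := Fin a → Multiplicative (ZMod m)

section Arith

variable {r q : ℕ} [hr : Fact r.Prime]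

/-- The `r`-exponent of `q^d - 1`, `d` the order of `q` mod `r`. -/
noncomputable def vexp (r q : ℕ) : ℕ := padicValNat r (q ^ orderOf (q : ZMod r) - 1)

theorem orderOf_pos (hrq : ¬ r ∣ q) : 0 < orderOf (q : ZMod r) :=
  (isOfFinOrder_iff_pow_eq_one.2 ⟨r - 1, by have := hr.out.two_le; omega,
    ZMod.pow_card_sub_one_eq_one fun h => hrq ((ZMod.natCast_eq_zero_iff _ _).1 h)⟩).orderOf_pos

theorem dvd_pow_sub_one_iff (hq : 0 < q) {i : ℕ} :
    r ∣ q ^ i - 1 ↔ orderOf (q : ZMod r) ∣ i := by
  rw [orderOf_dvd_iff_pow_eq_one, ← ZMod.natCast_eq_zero_iff, Nat.cast_sub (Nat.one_le_pow _ _ hq),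
    sub_eq_zero, Nat.cast_pow, Nat.cast_one]

theorem padic_pow_sub_one (hq : 1 < q) {j : ℕ} (hj : ¬ r ∣ j) :
    padicValNat r (q ^ (orderOf (q : ZMod r) * j) - 1) = vexp r q := by
  set d := orderOf (q : ZMod r) with hd
  by_cases hd0 : d = 0
  · simp [vexp, ← hd, hd0]
  set x := q ^ d - 1 with hx
  have hx1 : x + 1 = q ^ d := Nat.sub_add_cancel (Nat.one_le_pow _ _ (by omega))
  have hgs := geom_sum_mul_add x j
  rw [hx1, ← pow_mul] at hgs
  set S := ∑ i ∈ range j, (q ^ d) ^ i with hS
  have hS0 : ¬ r ∣ S := by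
    intro h
    have h1 : ((q ^ d : ℕ) : ZMod r) = 1 := by rw [Nat.cast_pow, hd, pow_orderOf_eq_one]
    have h2 : (S : ZMod r) = (j : ZMod r) := by
      rw [hS, Nat.cast_sum]
      simp_rw [Nat.cast_pow (q ^ d), h1, one_pow]
      simp
    rw [(ZMod.natCast_eq_zero_iff _ _).2 h, eq_comm, ZMod.natCast_eq_zero_iff] at h2
    exact hj h2
  have hxne : x ≠ 0 := by
    have : 1 < q ^ d := Nat.one_lt_pow hd0 hq
    omega
  rw [← hgs, Nat.add_sub_cancel, padicValNat.mul (fun h => hS0 (by rw [h]; exact dvd_zero r)) hxne,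
    padicValNat.eq_zero_of_not_dvd hS0, zero_add]
  rfl

theorem padic_pow_sub_one' (hq : 1 < q) (hrq : ¬ r ∣ q) {i n : ℕ} (hi0 : 0 < i) (hin : i ≤ n)
    (hn : n < r * orderOf (q : ZMod r)) :
    padicValNat r (q ^ i - 1) = if orderOf (q : ZMod r) ∣ i then vexp r q else 0 := by
  split_ifs with h
  · obtain ⟨j, rfl⟩ := h
    refine padic_pow_sub_one hq (Nat.not_dvd_of_pos_of_lt ?_ ?_)
    · exact Nat.pos_of_ne_zero fun e => by simp [e] at hi0
    · have h1 : orderOf (q : ZMod r) * j < orderOf (q : ZMod r) * r := by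
        calc _ ≤ n := hin
          _ < r * orderOf (q : ZMod r) := hn
          _ = _ := mul_comm _ _
      exact Nat.lt_of_mul_lt_mul_left h1
  · exact padicValNat.eq_zero_of_not_dvd fun hd => h ((dvd_pow_sub_one_iff (by omega)).1 hd)

theorem padic_cyclotomic (hq : 1 < q) (hrq : ¬ r ∣ q) :
    padicValNat r ((Polynomial.cyclotomic (orderOf (q : ZMod r)) ℤ).eval (q : ℤ)).natAbs = vexp r q := by
  set d := orderOf (q : ZMod r) with hd
  have hd0 : 0 < d := orderOf_pos hrq
  have hprod : (∏ e ∈ d.divisors, ((Polynomial.cyclotomic e ℤ).eval (q : ℤ)).natAbs) = q ^ d - 1 := by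
    show (∏ e ∈ d.divisors, Int.natAbsHom ((Polynomial.cyclotomic e ℤ).eval (q : ℤ))) = _
    rw [← map_prod, Int.natAbsHom_apply, ← Polynomial.eval_prod,
      Polynomial.prod_cyclotomic_eq_X_pow_sub_one hd0]
    simp only [Polynomial.eval_sub, Polynomial.eval_pow, Polynomial.eval_X, Polynomial.eval_one]
    rw [show ((q : ℤ) ^ d - 1) = ((q ^ d - 1 : ℕ) : ℤ) by
      push_cast [Nat.cast_sub (Nat.one_le_pow d q (by omega))]; ring, Int.natAbs_natCast]
  have hne : ∀ e ∈ d.divisors, ((Polynomial.cyclotomic e ℤ).eval (q : ℤ)).natAbs ≠ 0 := by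
    intro e he h0
    have := Finset.dvd_prod_of_mem (fun e => ((Polynomial.cyclotomic e ℤ).eval (q : ℤ)).natAbs) he
    rw [hprod, h0, zero_dvd_iff] at this
    have : 1 < q ^ d := Nat.one_lt_pow hd0.ne' hq
    omega
  rw [vexp, ← hd, ← hprod, ← Nat.factorization_def _ hr.out, ← Nat.factorization_def _ hr.out,
    Nat.factorization_prod_apply hne, Finset.sum_eq_single d]
  · intro e he hed
    apply Nat.factorization_eq_zero_of_not_dvd
    intro h
    obtain ⟨hed', -⟩ := Nat.mem_divisors.1 he
    have he0 : 0 < e := Nat.pos_of_dvd_of_pos hed' hd0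
    have h1 : (r : ℤ) ∣ (q : ℤ) ^ e - 1 := by
      refine dvd_trans (Int.natCast_dvd.2 h) ?_
      have := Polynomial.eval_dvd (x := (q : ℤ)) (Polynomial.cyclotomic.dvd_X_pow_sub_one e ℤ)
      simpa using this
    have h2 : ((q : ZMod r)) ^ e = 1 := by
      rw [← ZMod.intCast_zmod_eq_zero_iff_dvd] at h1
      push_cast at h1
      exact sub_eq_zero.1 h1
    exact hed (Nat.dvd_antisymm hed' (orderOf_dvd_of_pow_eq_one h2))
  · exact fun h => absurd (Nat.mem_divisors.2 ⟨dvd_rfl, hd0.ne'⟩) h

end Arith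

section Groups

variable {r : ℕ} [hr : Fact r.Prime]

/-- A group with an injective copy of `Hc a (r^v)` of full `r`-order has homocyclic Sylow subgroups. -/
theorem nonempty_sylow_equiv {G : Type u} [Group G] [Finite G] {a v : ℕ} (φ : Hc a (r ^ v) →* G)
    (hφ : Function.Injective φ) (hcard : (Nat.card G).factorization r = v * a) (P : Sylow r G) :
    Nonempty ((P : Subgroup G) ≃* Hc a (r ^ v)) := by
  haveI : NeZero (r ^ v) := ⟨pow_ne_zero _ hr.out.ne_zero⟩
  let Q : Sylow r G := Sylow.ofCard φ.range (by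
    rw [← Nat.card_congr (MonoidHom.ofInjective hφ).toEquiv, Nat.card_fun, Nat.card_fin, hcard,
      Nat.card_eq_fintype_card, Fintype.card_multiplicative, ZMod.card, pow_mul])
  exact ⟨(P.equiv Q).trans (MonoidHom.ofInjective hφ).symm⟩

theorem exists_cyclic_hom {C : Type u} [CommGroup C] [Finite C] [IsCyclic C] {m : ℕ} (hm : 0 < m)
    (h : m ∣ Nat.card C) : ∃ φ : Multiplicative (ZMod m) →* C, Function.Injective φ := by
  obtain ⟨g, hg⟩ := IsCyclic.exists_ofOrder_eq_natCard (α := C)
  set x := g ^ (Nat.card C / m) with hx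
  have hxo : orderOf x = m := by
    rw [hx, orderOf_pow, hg, Nat.gcd_eq_right (Nat.div_dvd_of_dvd h), Nat.div_div_self h Nat.card_pos.ne']
  exact ⟨(Subgroup.zpowers x).subtype.comp (zmodCyclicMulEquiv (G := Subgroup.zpowers x) inferInstance).toMonoidHom |>.comp
      (MulEquiv.toMonoidHom (AddEquiv.toMultiplicative (ZMod.ringEquivCongr
        ((Nat.card_zpowers x).trans hxo).symm).toAddEquiv)),
    ((Subgroup.zpowers x).subtype_injective.comp (MulEquiv.injective _)).comp (MulEquiv.injective _)⟩

variable {F : Type v} [Field F] [Finite F]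

theorem two_le_card : 1 < Nat.card F := Finite.one_lt_card

theorem exists_extension (e : ℕ) (he : 0 < e) :
    ∃ (K : Type) (_ : Field K) (_ : Finite K) (_ : Algebra F K), Module.finrank F K = e := by
  obtain ⟨p, hp⟩ := CharP.exists F
  haveI : Fact p.Prime := ⟨CharP.char_is_prime F p⟩
  haveI : NeZero e := ⟨he.ne'⟩
  exact ⟨FiniteField.Extension F p e, inferInstance, inferInstance, inferInstance,
    FiniteField.finrank_extension F p e⟩

theorem card_of_finrank {K : Type*} [Field K] [Finite K] [Algebra F K] {e : ℕ}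
    (h : Module.finrank F K = e) : Nat.card K = Nat.card F ^ e := by
  rw [← h]; exact Module.natCard_eq_pow_finrank

/-- The torus inside `GL_n`. -/
theorem exists_torus (hrq : ¬ r ∣ Nat.card F) {n a : ℕ}
    (hn : orderOf (Nat.card F : ZMod r) * a ≤ n) :
    ∃ φ : Hc a (r ^ vexp r (Nat.card F)) →* GL (Fin n) F, Function.Injective φ := by
  classical
  set d := orderOf (Nat.card F : ZMod r) with hd
  obtain ⟨K, _, _, _, hK⟩ := exists_extension (F := F) d (orderOf_pos hrq)
  obtain ⟨ι, hι⟩ := exists_cyclic_hom (C := Kˣ) (pow_pos hr.out.pos (vexp r (Nat.card F))) (by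
    rw [Nat.card_units, card_of_finrank hK]; exact pow_padicValNat_dvd)
  let V := (Fin a → K) × (Fin (n - d * a) → F)
  let σ : Hc a (r ^ vexp r (Nat.card F)) →* Module.End F V :=
    { toFun := fun t => (LinearMap.pi fun j =>
        (LinearMap.mulLeft F (ι (t j) : K)).comp (LinearMap.proj j)).prodMap LinearMap.id
      map_one' := by
        refine LinearMap.ext fun x => Prod.ext (funext fun j => ?_) rfl
        simp
      map_mul' := fun s t => by
        refine LinearMap.ext fun x => Prod.ext (funext fun j => ?_) rfl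
        simp [mul_assoc] }
  have hσ : Function.Injective σ := fun s t h => funext fun j => hι (Units.ext (by
    have h2 : (ι (s j) : K) * 1 = (ι (t j) : K) * 1 :=
      congrFun (congrArg Prod.fst (LinearMap.congr_fun h ((fun _ => 1 : Fin a → K), 0))) j
    simpa using h2))
  have hdim : Module.finrank F V = n := by
    rw [Module.finrank_prod, Module.finrank_pi_fintype, Finset.sum_const, Finset.card_univ,
      Fintype.card_fin, smul_eq_mul, hK, Module.finrank_fin_fun, mul_comm a d]
    omega
  let e := LinearMap.toMatrixAlgEquiv (Module.finBasisOfFinrankEq F V hdim)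
  refine ⟨((e : Module.End F V →* Matrix (Fin n) (Fin n) F).comp σ).toHomUnits, fun s t h => ?_⟩
  exact hσ (e.injective (congrArg Units.val h))

theorem factorization_card_GL (hrq : ¬ r ∣ Nat.card F) {n : ℕ} (hrn : n < r) :
    (Nat.card (GL (Fin n) F)).factorization r =
      vexp r (Nat.card F) * (n / orderOf (Nat.card F : ZMod r)) := by
  haveI := Fintype.ofFinite F
  have hq := two_le_card (F := F)
  have hd0 := orderOf_pos (r := r) hrq
  rw [Matrix.card_GL_field, Nat.factorization_prod_apply]
  · have e : ∀ i : Fin n, (Fintype.card F ^ n - Fintype.card F ^ (i : ℕ)).factorization r =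
        padicValNat r (Nat.card F ^ (n - (i : ℕ)) - 1) := by
      intro i
      rw [← Nat.card_eq_fintype_card, ← Nat.factorization_def _ hr.out,
        show Nat.card F ^ n - Nat.card F ^ (i : ℕ) = Nat.card F ^ (i : ℕ) * (Nat.card F ^ (n - (i : ℕ)) - 1) by
          rw [Nat.mul_sub, ← pow_add, mul_one, Nat.add_sub_cancel' i.2.le],
        Nat.factorization_mul (pow_ne_zero _ (by omega))
          (by have := Nat.one_lt_pow (n := n - (i : ℕ)) (by omega) hq; omega),
        Finsupp.add_apply, Nat.factorization_eq_zero_of_not_dvd fun h => hrq (hr.out.dvd_of_dvd_pow h),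
        zero_add]
    rw [Finset.sum_congr rfl fun i _ => e i, Fin.sum_univ_eq_sum_range (fun i => padicValNat r (Nat.card F ^ (n - i) - 1)),
      ← Finset.sum_range_reflect]
    have e2 : ∀ i ∈ range n, padicValNat r (Nat.card F ^ (n - (n - 1 - i)) - 1) =
        if orderOf (Nat.card F : ZMod r) ∣ i + 1 then vexp r (Nat.card F) else 0 := by
      intro i hi
      rw [Finset.mem_range] at hi
      rw [show n - (n - 1 - i) = i + 1 by omega]
      exact padic_pow_sub_one' hq hrq (Nat.succ_pos i) hi
        (lt_of_lt_of_le hrn (Nat.le_mul_of_pos_right r hd0))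
    rw [Finset.sum_congr rfl e2, ← Finset.sum_filter, Finset.sum_const, smul_eq_mul,
      Nat.card_multiples n, mul_comm]
  · intro i _
    have := Nat.pow_lt_pow_right (a := Fintype.card F) Fintype.one_lt_card i.2
    omega

theorem gl (hrq : ¬ r ∣ Nat.card F) {n : ℕ} (hrn : n < r) (P : Sylow r (GL (Fin n) F)) :
    Nonempty ((P : Subgroup (GL (Fin n) F)) ≃*
      Hc (n / orderOf (Nat.card F : ZMod r)) (r ^ vexp r (Nat.card F))) := by
  obtain ⟨φ, hφ⟩ := exists_torus (F := F) hrq (Nat.mul_div_le n _)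
  exact nonempty_sylow_equiv φ hφ (factorization_card_GL hrq hrn) P

theorem card_filter_Icc_dvd (n d : ℕ) :
    ((Finset.Icc 1 n).filter (fun i => d ∣ i)).card = n / d := by
  rw [← Nat.card_multiples n d]
  refine Finset.card_bij' (fun i _ => i - 1) (fun i _ => i + 1) ?_ ?_ ?_ ?_ <;>
    intro i hi <;> simp only [Finset.mem_filter, Finset.mem_Icc, Finset.mem_range] at hi ⊢
  · exact ⟨by omega, by rw [Nat.sub_add_cancel hi.1.1]; exact hi.2⟩
  · exact ⟨by omega, hi.2⟩
  · omega
  · omega

theorem sl (hrq : ¬ r ∣ Nat.card F) {n : ℕ} (hrn : n < r)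
    (P : Sylow r (Matrix.SpecialLinearGroup (Fin n) F)) :
    Nonempty ((P : Subgroup (Matrix.SpecialLinearGroup (Fin n) F)) ≃*
      Hc ((Finset.Icc 2 n).filter (fun i => orderOf (Nat.card F : ZMod r) ∣ i)).card
        (r ^ vexp r (Nat.card F))) := by
  haveI := Fintype.ofFinite F
  classical
  have hq := two_le_card (F := F)
  set d := orderOf (Nat.card F : ZMod r) with hd
  set v := vexp r (Nat.card F) with hv
  rcases Nat.eq_zero_or_pos n with rfl | hn
  · refine nonempty_sylow_equiv (1 : Hc _ (r ^ v) →* _) ?_ ?_ P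
    · intro a b _
      funext i
      exact absurd i.2 (by simp)
    · rw [Nat.card_of_subsingleton (1 : Matrix.SpecialLinearGroup (Fin 0) F)]
      simp
  haveI : Nonempty (Fin n) := ⟨⟨0, hn⟩⟩
  -- order
  have hcard : Nat.card (GL (Fin n) F) =
      (Nat.card F - 1) * Nat.card (Matrix.SpecialLinearGroup (Fin n) F) := by
    let f := (Matrix.GeneralLinearGroup.det : GL (Fin n) F →* Fˣ)
    have hsurj : Function.Surjective f := by
      intro c
      refine ⟨Matrix.GeneralLinearGroup.mkOfDetNeZero
        (Matrix.diagonal (Pi.mulSingle (⟨0, hn⟩ : Fin n) (c : F))) ?_, Units.ext ?_⟩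
      · rw [Matrix.det_diagonal, Finset.prod_pi_mulSingle']
        simp
      · rw [Matrix.GeneralLinearGroup.val_det_apply]
        show (Matrix.diagonal _).det = _
        rw [Matrix.det_diagonal, Finset.prod_pi_mulSingle']
        simp
    have hker : f.ker = (Matrix.SpecialLinearGroup.toGL : Matrix.SpecialLinearGroup (Fin n) F →* _).range := by
      ext g
      constructor
      · intro hg
        exact ⟨⟨g, by simpa [f] using congrArg Units.val (MonoidHom.mem_ker.1 hg)⟩, Units.ext rfl⟩
      · rintro ⟨s, rfl⟩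
        exact MonoidHom.mem_ker.2 (Units.ext s.2)
    rw [← Subgroup.index_mul_card f.ker, Subgroup.index_ker, MonoidHom.range_eq_top.2 hsurj,
      Subgroup.card_top, Nat.card_units, hker]
    congr 1
    exact (Nat.card_congr (MonoidHom.ofInjective (f := (Matrix.SpecialLinearGroup.toGL :
      Matrix.SpecialLinearGroup (Fin n) F →* _)) Matrix.SpecialLinearGroup.toGL_injective).toEquiv).symm
  have hfac := factorization_card_GL (F := F) hrq hrn
  rw [hcard, Nat.factorization_mul (by omega) Nat.card_pos.ne', Finsupp.add_apply] at hfac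
  by_cases hd1 : d = 1
  · -- split torus
    have hv1 : (Nat.card F - 1).factorization r = v := by
      rw [Nat.factorization_def _ hr.out, hv, vexp, ← hd, hd1, pow_one]
    have ha : ((Finset.Icc 2 n).filter (fun i => d ∣ i)).card = n - 1 := by
      rw [hd1, Finset.filter_true_of_mem fun i _ => one_dvd i, Nat.card_Icc]
      omega
    rw [hv1, ← hd, ← hv, hd1, Nat.div_one] at hfac
    rw [ha]
    obtain ⟨ι, hι⟩ := exists_cyclic_hom (C := Fˣ) (pow_pos hr.out.pos v) (by
      rw [Nat.card_units, ← hv1]; exact Nat.ordProj_dvd _ _)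
    obtain ⟨k, rfl⟩ : ∃ k, n = k + 1 := ⟨n - 1, by omega⟩
    let χ : Hc k (r ^ v) → Fin (k + 1) → F :=
      fun t => Fin.cons ((∏ i, ι (t i))⁻¹ : Fˣ) (fun i => (ι (t i) : F))
    have hdet : ∀ t, (Matrix.diagonal (χ t)).det = 1 := by
      intro t
      rw [Matrix.det_diagonal, Fin.prod_univ_succ]
      show (((∏ i, ι (t i))⁻¹ : Fˣ) : F) * ∏ i, (ι (t i) : F) = 1
      rw [← Units.coe_prod, Units.inv_mul]
    let φ : Hc k (r ^ v) →* Matrix.SpecialLinearGroup (Fin (k + 1)) F :=
      { toFun := fun t => ⟨Matrix.diagonal (χ t), hdet t⟩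
        map_one' := Subtype.ext (by
          show Matrix.diagonal (χ 1) = 1
          rw [← Matrix.diagonal_one]
          congr 1
          funext i
          refine Fin.cases ?_ (fun j => ?_) i <;> simp [χ])
        map_mul' := fun s t => Subtype.ext (by
          show Matrix.diagonal (χ (s * t)) = Matrix.diagonal (χ s) * Matrix.diagonal (χ t)
          rw [Matrix.diagonal_mul_diagonal]
          congr 1
          funext i
          refine Fin.cases ?_ (fun j => ?_) i <;>
            simp [χ, Finset.prod_mul_distrib, mul_comm, mul_left_comm]) }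
    refine nonempty_sylow_equiv φ (fun s t h => funext fun i => hι (Units.ext ?_)) ?_ P
    · exact congrFun (Matrix.diagonal_injective (congrArg Subtype.val h)) i.succ
    · rw [Nat.mul_succ] at hfac
      omega
  · -- the group `GL_n` and `SL_n` share their Sylow subgroups
    have hv0 : (Nat.card F - 1).factorization r = 0 := by
      refine Nat.factorization_eq_zero_of_not_dvd fun h => hd1 ?_
      rw [← pow_one (Nat.card F)] at h
      exact Nat.dvd_one.1 ((dvd_pow_sub_one_iff (by omega)).1 h)
    have ha : ((Finset.Icc 2 n).filter (fun i => d ∣ i)).card = n / d := by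
      rw [← card_filter_Icc_dvd n d]
      congr 1
      ext i
      simp only [Finset.mem_filter, Finset.mem_Icc]
      refine ⟨fun h => ⟨⟨by omega, h.1.2⟩, h.2⟩, fun h => ⟨⟨?_, h.1.2⟩, h.2⟩⟩
      by_contra hlt
      obtain rfl : i = 1 := by omega
      exact hd1 (Nat.dvd_one.1 h.2)
    rw [hv0, zero_add] at hfac
    rw [ha]
    obtain ⟨φ, hφ⟩ := exists_torus (F := F) hrq (n := n) (Nat.mul_div_le n d)
    have hφdet : ∀ t, ((φ t : Matrix (Fin n) (Fin n) F)).det = 1 := by
      intro t
      have h1 : orderOf (Matrix.GeneralLinearGroup.det (φ t)) ∣ r ^ v :=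
        (orderOf_map_dvd (Matrix.GeneralLinearGroup.det.comp φ) t).trans
          (orderOf_dvd_of_pow_eq_one (funext fun i => by
            haveI : NeZero (r ^ v) := ⟨pow_ne_zero _ hr.out.ne_zero⟩
            rw [Pi.pow_apply, Pi.one_apply, ← orderOf_dvd_iff_pow_eq_one]
            exact (_root_.orderOf_dvd_natCard _).trans ((Nat.card_congr Multiplicative.toAdd).trans (Nat.card_zmod _)).dvd))
      have h2 : orderOf (Matrix.GeneralLinearGroup.det (φ t)) ∣ Nat.card F - 1 :=
        (_root_.orderOf_dvd_natCard _).trans (by rw [Nat.card_units])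
      have h3 : orderOf (Matrix.GeneralLinearGroup.det (φ t)) = 1 := by
        refine Nat.eq_one_of_dvd_coprimes (Nat.Coprime.pow_left v ((hr.out.coprime_iff_not_dvd).2
          fun h => ?_)) h1 h2
        exact absurd ((hr.out.dvd_iff_one_le_factorization (by omega)).1 h) (by rw [hv0]; omega)
      rw [← Matrix.GeneralLinearGroup.val_det_apply, orderOf_eq_one_iff.1 h3, Units.val_one]
    let ψ : Hc (n / d) (r ^ v) →* Matrix.SpecialLinearGroup (Fin n) F :=
      { toFun := fun t => ⟨φ t, hφdet t⟩
        map_one' := Subtype.ext (by simp)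
        map_mul' := fun s t => Subtype.ext (congrArg Units.val (map_mul φ s t)) }
    exact nonempty_sylow_equiv ψ (fun s t h => hφ (Units.ext (congrArg Subtype.val h))) hfac P

/-- The Levi embedding `GL_n → Sp_{2n}`. -/
theorem exists_levi (n : ℕ) :
    ∃ φ : GL (Fin n) F →* Matrix.symplecticGroup (Fin n) F, Function.Injective φ := by
  classical
  let J : Matrix (Fin n ⊕ Fin n) (Fin n ⊕ Fin n) F := Matrix.J (Fin n) F
  let M : GL (Fin n) F → Matrix (Fin n ⊕ Fin n) (Fin n ⊕ Fin n) F := fun A =>
    Matrix.fromBlocks (A : Matrix (Fin n) (Fin n) F) 0 0 ((A⁻¹ : GL (Fin n) F) : Matrix (Fin n) (Fin n) F).transpose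
  have hM : ∀ A, M A ∈ Matrix.symplecticGroup (Fin n) F := by
    intro A
    rw [SymplecticGroup.mem_iff]
    simp only [M, Matrix.J, Matrix.fromBlocks_transpose, Matrix.fromBlocks_multiply,
      Matrix.transpose_zero, Matrix.transpose_transpose, Matrix.zero_mul, Matrix.mul_zero, add_zero, zero_add,
      Matrix.mul_neg, Matrix.mul_one, Matrix.neg_mul, Matrix.one_mul, ← Matrix.transpose_mul]
    simp
  refine ⟨{ toFun := fun A => ⟨M A, hM A⟩
            map_one' := Subtype.ext (by simp [M])
            map_mul' := fun A B => Subtype.ext (by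
              simp [M, Matrix.fromBlocks_multiply, Matrix.transpose_mul, Matrix.mul_inv_rev]) }, fun A B h => ?_⟩
  have := congrArg Matrix.toBlocks₁₁ (congrArg Subtype.val h)
  exact Units.ext (by simpa [M] using this)

/-- Padding `Sp_{2m} → Sp_{2n}`. -/
theorem exists_pad {m n : ℕ} (h : m ≤ n) :
    ∃ φ : Matrix.symplecticGroup (Fin m) F →* Matrix.symplecticGroup (Fin n) F,
      Function.Injective φ := by
  open CfsgLib.Geometry CfsgLib.KnownB.RestrictScalars in
  let V := (Fin m ⊕ Fin m → F) × (Fin (n - m) ⊕ Fin (n - m) → F)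
  let B : LinearMap.BilinForm F V := LinearMap.compl₁₂ (sympBilin m F) (LinearMap.fst F _ _) (LinearMap.fst F _ _) +
    LinearMap.compl₁₂ (sympBilin (n - m) F) (LinearMap.snd F _ _) (LinearMap.snd F _ _)
  let ρ : Matrix.symplecticGroup (Fin m) F →* (V ≃ₗ[F] V) :=
    { toFun := fun g => (spEquiv m F g).prodCongr (LinearEquiv.refl F _)
      map_one' := LinearEquiv.ext fun x => by simp
      map_mul' := fun g g' => LinearEquiv.ext fun x => by simp }
  refine alt_embed ρ (fun g g' e => ?_) B (fun x => ?_) (fun x hx => ?_) (fun g x y => ?_) ?_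
  · refine spEquiv_injective m F (LinearEquiv.ext fun v => ?_)
    exact congrArg Prod.fst (LinearEquiv.congr_fun e (v, 0))
  · show sympBilin m F x.1 x.1 + sympBilin (n - m) F x.2 x.2 = 0
    rw [(sympBilin_isAlt m F) x.1, (sympBilin_isAlt (n - m) F) x.2, add_zero]
  · refine Prod.ext ((sympBilin_nondegenerate m F).1 x.1 fun y => ?_)
      ((sympBilin_nondegenerate (n - m) F).1 x.2 fun y => ?_)
    · have h' : sympBilin m F x.1 y + sympBilin (n - m) F x.2 0 = 0 := hx (y, 0)
      rwa [map_zero, add_zero] at h'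
    · have h' : sympBilin m F x.1 0 + sympBilin (n - m) F x.2 y = 0 := hx (0, y)
      rwa [map_zero, zero_add] at h'
  · show sympBilin m F (spEquiv m F g x.1) (spEquiv m F g y.1) + sympBilin (n - m) F x.2 y.2 =
      sympBilin m F x.1 y.1 + sympBilin (n - m) F x.2 y.2
    rw [show sympBilin m F (spEquiv m F g x.1) (spEquiv m F g y.1) = sympBilin m F x.1 y.1 from
      spEquiv_preserves m F g x.1 y.1]
  · rw [Module.finrank_prod, Module.finrank_fintype_fun_eq_card, Module.finrank_fintype_fun_eq_card]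
    simp
    omega

/-- Restriction of scalars `Sp_{2a}(K) → Sp_{2ea}(F)`. -/
theorem exists_restrict {K : Type*} [Field K] [Finite K] [Algebra F K] {e : ℕ}
    (he : Module.finrank F K = e) (a : ℕ) :
    ∃ φ : Matrix.symplecticGroup (Fin a) K →* Matrix.symplecticGroup (Fin (e * a)) F,
      Function.Injective φ := by
  open CfsgLib.Geometry CfsgLib.KnownB.RestrictScalars in
  haveI := Fintype.ofFinite F
  haveI := Fintype.ofFinite K
  let W := Fin a ⊕ Fin a → K
  let B : LinearMap.BilinForm F W := LinearMap.mk₂ F (fun x y => Algebra.trace F K (sympBilin a K x y))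
    (fun x x' y => by rw [map_add, LinearMap.add_apply, map_add])
    (fun c x y => by
      rw [← algebraMap_smul K c x, map_smul, LinearMap.smul_apply, algebraMap_smul, map_smul])
    (fun x y y' => by rw [map_add, map_add])
    (fun c x y => by rw [← algebraMap_smul K c y, map_smul, algebraMap_smul, map_smul])
  refine alt_embed (resHom.comp (spEquiv a K)) (resHom_injective.comp (spEquiv_injective a K)) B
    (fun x => ?_) (fun x hx => ?_) (fun g x y => ?_) ?_
  · show Algebra.trace F K _ = 0
    rw [(sympBilin_isAlt a K) x, map_zero]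
  · refine (sympBilin_nondegenerate a K).1 x fun y => trace_separates (F := F) fun c => ?_
    have h2 : Algebra.trace F K (sympBilin a K x (c • y)) = 0 := hx (c • y)
    rwa [map_smul, smul_eq_mul] at h2
  · show Algebra.trace F K _ = Algebra.trace F K _
    exact congrArg _ (spEquiv_preserves a K g x y)
  · rw [Module.finrank_pi_fintype, Finset.sum_const, Finset.card_univ, smul_eq_mul, he]
    simp
    ring

theorem factorization_card_Sp (hr2 : r ≠ 2) (hrq : ¬ r ∣ Nat.card F) {n : ℕ} (hrn : n < r) :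
    (Nat.card (Matrix.symplecticGroup (Fin n) F)).factorization r = vexp r (Nat.card F) *
      ((Finset.Icc 1 n).filter (fun i => orderOf (Nat.card F : ZMod r) ∣ 2 * i)).card := by
  have hq := two_le_card (F := F)
  set d := orderOf (Nat.card F : ZMod r) with hd
  have hd0 : 0 < d := orderOf_pos hrq
  have hne : ∀ i ∈ range n, Nat.card F ^ (2 * (i + 1)) - 1 ≠ 0 := fun i _ => by
    have := Nat.one_lt_pow (n := 2 * (i + 1)) (by omega) hq
    omega
  rw [CfsgLib.Classical.card_symplecticGroup, Fintype.card_fin,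
    Nat.factorization_mul (pow_ne_zero _ (by omega)) (Finset.prod_ne_zero_iff.2 hne),
    Finsupp.add_apply, Nat.factorization_eq_zero_of_not_dvd fun h => hrq (hr.out.dvd_of_dvd_pow h),
    zero_add, Nat.factorization_prod_apply hne]
  have e : ∀ i ∈ range n, (Nat.card F ^ (2 * (i + 1)) - 1).factorization r =
      if d ∣ 2 * (i + 1) then vexp r (Nat.card F) else 0 := by
    intro i hi
    rw [Nat.factorization_def _ hr.out]
    rw [Finset.mem_range] at hi
    split_ifs with h
    · obtain ⟨j, hj⟩ := h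
      rw [hj]
      refine padic_pow_sub_one hq fun hrj => ?_
      have h2 : r ∣ 2 * (i + 1) := hj ▸ hrj.mul_left d
      rcases hr.out.dvd_mul.1 h2 with h3 | h3
      · exact hr2 ((Nat.prime_dvd_prime_iff_eq hr.out Nat.prime_two).1 h3)
      · have := Nat.le_of_dvd (by omega) h3
        omega
    · exact padicValNat.eq_zero_of_not_dvd fun h' => h ((dvd_pow_sub_one_iff (by omega)).1 h')
  rw [Finset.sum_congr rfl e, ← Finset.sum_filter, Finset.sum_const, smul_eq_mul, mul_comm]
  congr 1
  refine Finset.card_bij' (fun i _ => i + 1) (fun i _ => i - 1) ?_ ?_ ?_ ?_ <;>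
    intro i hi <;> simp only [Finset.mem_filter, Finset.mem_Icc, Finset.mem_range] at hi ⊢
  · exact ⟨by omega, hi.2⟩
  · exact ⟨by omega, by rw [Nat.sub_add_cancel hi.1.1]; exact hi.2⟩
  · omega
  · omega

theorem sp (hr2 : r ≠ 2) (hrq : ¬ r ∣ Nat.card F) {n : ℕ} (hrn : n < r)
    (P : Sylow r (Matrix.symplecticGroup (Fin n) F)) :
    Nonempty ((P : Subgroup (Matrix.symplecticGroup (Fin n) F)) ≃*
      Hc ((Finset.Icc 1 n).filter (fun i => orderOf (Nat.card F : ZMod r) ∣ 2 * i)).card
        (r ^ vexp r (Nat.card F))) := by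
  set d := orderOf (Nat.card F : ZMod r) with hd
  have hd0 : 0 < d := orderOf_pos hrq
  suffices h : ∃ φ : Hc ((Finset.Icc 1 n).filter (fun i => d ∣ 2 * i)).card (r ^ vexp r (Nat.card F)) →*
      Matrix.symplecticGroup (Fin n) F, Function.Injective φ by
    obtain ⟨φ, hφ⟩ := h
    exact nonempty_sylow_equiv φ hφ (factorization_card_Sp hr2 hrq hrn) P
  rcases Nat.even_or_odd d with ⟨e, he⟩ | hodd
  · -- unitary torus
    have he0 : 0 < e := by omega
    have ha : ((Finset.Icc 1 n).filter (fun i => d ∣ 2 * i)).card = n / e := by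
      rw [← card_filter_Icc_dvd n e]
      congr 1
      ext i
      rw [Finset.mem_filter, Finset.mem_filter, he, ← two_mul, Nat.mul_dvd_mul_iff_left two_pos]
    rw [ha]
    obtain ⟨K, _, _, _, hK⟩ := exists_extension (F := F) e he0
    haveI := Fintype.ofFinite K
    obtain ⟨L, _, _, _, hL⟩ := exists_extension (F := K) 2 two_pos
    haveI := Fintype.ofFinite L
    have hcL : Nat.card L = Nat.card K ^ 2 := card_of_finrank hL
    obtain ⟨σ, hσ⟩ := CfsgLib.Classical.Unitary.exists_uFrob hcL
    have hcK : Nat.card K = Nat.card F ^ e := card_of_finrank hK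
    have hdvd : r ^ vexp r (Nat.card F) ∣ Nat.card K + 1 := by
      have h1 : r ^ vexp r (Nat.card F) ∣ (Nat.card K + 1) * (Nat.card K - 1) := by
        rw [← Nat.sq_sub_sq, one_pow, hcK, ← pow_mul, show e * 2 = d by omega]
        exact pow_padicValNat_dvd
      refine (Nat.Coprime.pow_left _ ((hr.out.coprime_iff_not_dvd).2 fun h => ?_)).dvd_of_dvd_mul_right h1
      rw [hcK] at h
      have := Nat.le_of_dvd he0 ((dvd_pow_sub_one_iff (by have := two_le_card (F := F); omega)).1 h)
      omega
    obtain ⟨c, hc⟩ := IsCyclic.exists_ofOrder_eq_natCard (α := Lˣ)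
    obtain ⟨N, hN, hNc⟩ : ∃ N : Subgroup Lˣ, (∀ x ∈ N, x ^ (Nat.card K + 1) = 1) ∧
        Nat.card N = Nat.card K + 1 := by
      refine ⟨Subgroup.zpowers (c ^ (Nat.card K - 1)), fun x hx => ?_, ?_⟩
      · obtain ⟨i, rfl⟩ := Subgroup.mem_zpowers_iff.1 hx
        rw [← zpow_natCast, ← zpow_mul, mul_comm, zpow_mul, zpow_natCast, ← pow_mul, mul_comm (Nat.card K - 1),
          ← Nat.sq_sub_sq, one_pow, ← hcL, ← Nat.card_units, ← hc, pow_orderOf_eq_one, one_zpow]
      · have hK1 := two_le_card (F := K)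
        rw [Nat.card_zpowers, orderOf_pow, hc, Nat.card_units, hcL,
          show Nat.card K ^ 2 - 1 = (Nat.card K + 1) * (Nat.card K - 1) by rw [← Nat.sq_sub_sq, one_pow],
          Nat.gcd_mul_left_left, Nat.mul_div_cancel _ (by omega)]
    obtain ⟨ι, hι⟩ := exists_cyclic_hom (C := N) (pow_pos hr.out.pos (vexp r (Nat.card F))) (hNc ▸ hdvd)
    set a := n / e
    -- diagonal unitary elements
    let D : Hc a (r ^ vexp r (Nat.card F)) →* GL (Fin a) L :=
      (Units.map (Matrix.diagonalRingHom (Fin a) L).toMonoidHom).comp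
        (MulEquiv.piUnits.symm.toMonoidHom.comp (MonoidHom.piMap fun _ => N.subtype.comp ι))
    have hD : ∀ t, D t ∈ Cfsg.GU a L (Fintype.card K) := by
      intro t u v
      show Cfsg.hermForm a L _ ((Matrix.diagonal fun i => ((ι (t i) : Lˣ) : L)).mulVec u)
        ((Matrix.diagonal fun i => ((ι (t i) : Lˣ) : L)).mulVec v) = _
      simp only [Cfsg.hermForm, Matrix.mulVec_diagonal]
      refine Finset.sum_congr rfl fun i _ => ?_
      have h1 : (((ι (t i) : Lˣ) : L)) * ((ι (t i) : Lˣ) : L) ^ Fintype.card K = 1 := by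
        rw [← pow_succ', ← Nat.card_eq_fintype_card, ← Units.val_pow_eq_pow_val, hN _ (ι (t i)).2, Units.val_one]
      rw [mul_pow]
      linear_combination (u i * v i ^ Fintype.card K) * h1
    obtain ⟨g1, hg1⟩ := CfsgLib.KnownB.RestrictScalars.gu_symplectic (F := K) (K := L) (m := a)
      (by rw [← Nat.card_eq_fintype_card, ← Nat.card_eq_fintype_card, hcL]) (σ := σ)
      (by rw [← Nat.card_eq_fintype_card]; exact hσ)
    obtain ⟨g2, hg2⟩ := exists_restrict (F := F) hK a
    obtain ⟨g3, hg3⟩ := exists_pad (F := F) (show e * a ≤ n from Nat.mul_div_le n e)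
    refine ⟨(g3.comp g2).comp (g1.comp (D.codRestrict _ hD)), (hg3.comp hg2).comp (hg1.comp ?_)⟩
    intro s t h
    funext i
    have h1 := congrFun (Matrix.diagonal_injective (congrArg Units.val (congrArg Subtype.val h))) i
    exact hι (Subtype.ext (Units.ext h1))
  · have ha : ((Finset.Icc 1 n).filter (fun i => d ∣ 2 * i)).card = n / d := by
      rw [← card_filter_Icc_dvd n d]
      congr 1
      ext i
      rw [Finset.mem_filter, Finset.mem_filter, Nat.Coprime.dvd_mul_left hodd.coprime_two_right]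
    rw [ha]
    obtain ⟨φ, hφ⟩ := exists_torus (F := F) hrq (n := n) (Nat.mul_div_le n d)
    obtain ⟨ψ, hψ⟩ := exists_levi (F := F) n
    exact ⟨ψ.comp φ, hψ.comp hφ⟩

end Groups

end CfsgLib.FgsB.Homocyclic
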