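import Cfsg.Agent.Lib.Coprime.Action

/-!
`T` acting on an odd group `C` through an elementary abelian `2`-quotient, normalised by an `r`-group
`Y` fixing no subgroup of index two: if `C` has rank less than `r` then `T` centralises `C`.
-/

set_option autoImplicit false

open scoped Pointwise commutatorElement

namespace CfsgLib.FgsB.InvolConj

universe u

variable {G : Type u} [Group G]

/-- `e` is a nontrivial element of `C` each element of `T` fixes or inverts, not all fixing it. -/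
def Inverted (T C : Subgroup G) (e : G) : Prop :=
  e ∈ C ∧ e ≠ 1 ∧ (∀ t ∈ T, t * e * t⁻¹ = e ∨ t * e * t⁻¹ = e⁻¹) ∧ ∃ t ∈ T, t * e * t⁻¹ = e⁻¹

/-- The centraliser of `e` in `T`. -/
def centOf (T : Subgroup G) (e : G) : Subgroup G := T ⊓ Subgroup.centralizer {e}

theorem mem_centOf {T : Subgroup G} {e t : G} :
    t ∈ centOf T e ↔ t ∈ T ∧ t * e * t⁻¹ = e := by
  rw [centOf, Subgroup.mem_inf, Subgroup.mem_centralizer_singleton_iff, mul_inv_eq_iff_eq_mul,
    eq_comm (a := t * e)]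

theorem eq_one_of_sq {s : ℕ} (hodd : Odd s) {c : G} (hs : c ^ s = 1) (h2 : c ^ 2 = 1) : c = 1 := by
  obtain ⟨k, rfl⟩ := hodd
  rwa [pow_succ, pow_mul, h2, one_pow, one_mul] at hs

variable {T Q1 C : Subgroup G} {s : ℕ}

/-- A nontrivial action yields an inverted element. -/
theorem exists_inverted [Finite G] (hodd : Odd s) (hTC : T ≤ Subgroup.normalizer (C : Set G))
    (hQT : Q1 ≤ T) (hQC : Q1 ≤ Subgroup.centralizer (C : Set G)) (hsq : ∀ t ∈ T, t ^ 2 ∈ Q1)
    (hexp : ∀ c ∈ C, c ^ s = 1)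
    (hfix : ∀ a ∈ C, ∀ b ∈ C, ∀ t ∈ T, t * ⁅a, b⁆ * t⁻¹ = ⁅a, b⁆)
    (hne : ¬ T ≤ Subgroup.centralizer (C : Set G)) : ∃ e, Inverted T C e := by
  classical
  let φ : G → G → G := fun t x => t * x * t⁻¹
  have hφ : ∀ t x, φ t x = t * x * t⁻¹ := fun _ _ => rfl
  have hφC : ∀ t ∈ T, ∀ x ∈ C, φ t x ∈ C := fun t ht x hx =>
    (Subgroup.mem_normalizer_iff.mp (hTC ht) x).mp hx
  let F : Subgroup G := C ⊓ Subgroup.centralizer (T : Set G)
  have hF : ∀ x, x ∈ F ↔ x ∈ C ∧ ∀ t ∈ T, φ t x = x := fun x => by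
    simp only [F, Subgroup.mem_inf, Subgroup.mem_centralizer_iff, SetLike.mem_coe, hφ,
      mul_inv_eq_iff_eq_mul]
  obtain ⟨x₀, hx₀, hx₀F⟩ : ∃ x ∈ C, x ∉ F := by
    by_contra! h
    exact hne (Subgroup.le_centralizer_iff.mp fun x hx => (h x hx).2)
  obtain ⟨B, hB⟩ := Set.Finite.exists_maximal (s := {B : Subgroup G |
    Q1 ≤ B ∧ B ≤ T ∧ ∃ x ∈ C, x ∉ F ∧ ∀ b ∈ B, φ b x = x}) (Set.toFinite _)
    ⟨Q1, le_rfl, hQT, x₀, hx₀, hx₀F, fun b hb => by
      rw [hφ, ← Subgroup.mem_centralizer_iff.mp (hQC hb) x₀ hx₀]; group⟩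
  obtain ⟨⟨hQB, hBT, x₁, hx₁, hx₁F, hx₁B⟩, hmax⟩ := hB
  have hfixF : ∀ t ∈ T, t ∉ B → ∀ x ∈ C, (∀ b ∈ B, φ b x = x) → φ t x = x → x ∈ F := by
    intro t ht htB x hx hxB hxt
    by_contra hxF
    have hle : B ⊔ Subgroup.zpowers t ≤ Subgroup.centralizer {x} := by
      refine sup_le (fun b hb => ?_) (Subgroup.zpowers_le.mpr ?_)
      · exact Subgroup.mem_centralizer_singleton_iff.mpr (mul_inv_eq_iff_eq_mul.mp (hxB b hb))
      · exact Subgroup.mem_centralizer_singleton_iff.mpr (mul_inv_eq_iff_eq_mul.mp hxt)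
    refine htB (hmax ⟨hQB.trans le_sup_left, sup_le hBT (Subgroup.zpowers_le.mpr ht), x, hx, hxF,
      fun b hb => ?_⟩ le_sup_left (Subgroup.mem_sup_right (Subgroup.mem_zpowers t)))
    rw [hφ, Subgroup.mem_centralizer_singleton_iff.mp (hle hb), mul_inv_cancel_right]
  have hcomT : ∀ t ∈ T, ∀ b ∈ B, t⁻¹ * b * t ∈ B := fun t ht b hb => by
    have h1 : t⁻¹ * b * t * b⁻¹ ∈ Q1 := by
      have e : t⁻¹ * b * t * b⁻¹ = t⁻¹ ^ 2 * (t * b) ^ 2 * b⁻¹ ^ 2 := by simp only [pow_two]; group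
      rw [e]
      exact Q1.mul_mem (Q1.mul_mem (hsq _ (T.inv_mem ht)) (hsq _ (T.mul_mem ht (hBT hb))))
        (hsq _ (T.inv_mem (hBT hb)))
    simpa using B.mul_mem (hQB h1) hb
  have hXinv : ∀ t ∈ T, ∀ x, (∀ b ∈ B, φ b x = x) → ∀ b ∈ B, φ b (φ t x) = φ t x := by
    intro t ht x hx b hb
    have h := hx _ (hcomT t ht b hb)
    rw [hφ] at h
    calc φ b (φ t x) = φ t (t⁻¹ * b * t * x * (t⁻¹ * b * t)⁻¹) := by simp only [hφ]; group
      _ = φ t x := by rw [h]
  have hsqfix : ∀ t ∈ T, ∀ x ∈ C, φ t (φ t x) = x := fun t ht x hx => by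
    have h := Subgroup.mem_centralizer_iff.mp (hQC (hsq t ht)) x hx
    calc φ t (φ t x) = t ^ 2 * x * (t ^ 2)⁻¹ := by simp only [hφ, pow_two]; group
      _ = x := by rw [← h]; group
  -- outside `B` every element inverts modulo `F`
  have hinvF : ∀ t ∈ T, t ∉ B → ∀ x ∈ C, (∀ b ∈ B, φ b x = x) →
      ∃ y ∈ F, φ t x = x⁻¹ * y := by
    intro t ht htB x hx hxB
    refine ⟨x * φ t x, ?_, by group⟩
    have htx := hφC t ht x hx
    set c := ⁅(φ t x)⁻¹, x⁻¹⁆ with hc
    have hcC : c ∈ C := by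
      rw [hc, commutatorElement_def]
      simp only [inv_inv]
      exact C.mul_mem (C.mul_mem (C.mul_mem (C.inv_mem htx) (C.inv_mem hx)) htx) hx
    have hty : φ t (x * φ t x) = x * φ t x * c := by
      calc φ t (x * φ t x) = φ t x * φ t (φ t x) := by simp only [hφ]; group
        _ = φ t x * x := by rw [hsqfix t ht x hx]
        _ = x * φ t x * c := by rw [hc, commutatorElement_def]; group
    have htc : φ t c = c := hfix _ (C.inv_mem htx) _ (C.inv_mem hx) t ht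
    have h2 : x * φ t x = x * φ t x * (c * c) := by
      calc x * φ t x = φ t (φ t (x * φ t x)) := (hsqfix t ht _ (C.mul_mem hx htx)).symm
        _ = φ t (x * φ t x * c) := by rw [hty]
        _ = φ t (x * φ t x) * φ t c := by simp only [hφ]; group
        _ = _ := by rw [hty, htc, mul_assoc]
    rw [left_eq_mul, ← pow_two] at h2
    rw [eq_one_of_sq hodd (hexp c hcC) h2, mul_one] at hty
    refine hfixF t ht htB _ (C.mul_mem hx htx) (fun b hb => ?_) hty
    calc φ b (x * φ t x) = φ b x * φ b (φ t x) := by simp only [hφ]; group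
      _ = _ := by rw [hxB b hb, hXinv t ht x hxB b hb]
  have hidx : ∀ t ∈ T, t ∉ B → ∀ u ∈ T, u ∉ B → t * u ∈ B := by
    intro t ht htB u hu huB
    by_contra htu
    refine hx₁F ?_
    obtain ⟨y, hy, hyt⟩ := hinvF t ht htB x₁ hx₁ hx₁B
    obtain ⟨y', hy', hyu⟩ := hinvF u hu huB x₁ hx₁ hx₁B
    obtain ⟨w, hw, hwtu⟩ := hinvF (t * u) (T.mul_mem ht hu) htu x₁ hx₁ hx₁B
    have h1 : φ (t * u) x₁ = y⁻¹ * x₁ * y' := by
      calc φ (t * u) x₁ = φ t (φ u x₁) := by simp only [hφ]; group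
        _ = (φ t x₁)⁻¹ * φ t y' := by rw [hyu]; simp only [hφ]; group
        _ = _ := by rw [hyt, ((hF y').mp hy').2 t ht]; group
    rw [hwtu] at h1
    have hcomF : ⁅x₁, y⁆ ∈ F := by
      refine (hF _).mpr ⟨?_, fun t ht => hfix _ hx₁ _ hy.1 t ht⟩
      rw [commutatorElement_def]
      exact C.mul_mem (C.mul_mem (C.mul_mem hx₁ hy.1) (C.inv_mem hx₁)) (C.inv_mem hy.1)
    have h2 : x₁ ^ 2 = ⁅x₁, y⁆ * y * (w * y'⁻¹) := by
      calc x₁ ^ 2 = x₁ * y * (y⁻¹ * x₁ * y') * y'⁻¹ := by rw [pow_two]; group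
        _ = _ := by rw [← h1, commutatorElement_def]; group
    obtain ⟨k, hk⟩ := hodd
    have h3 : x₁ = (x₁ ^ 2) ^ (k + 1) := by
      rw [← pow_mul, show 2 * (k + 1) = s + 1 by omega, pow_succ, hexp x₁ hx₁, one_mul]
    rw [h3, h2]
    exact F.pow_mem (F.mul_mem (F.mul_mem hcomF hy) (F.mul_mem hw (F.inv_mem hy'))) _
  obtain ⟨t, ht, htB⟩ : ∃ t ∈ T, t ∉ B := by
    by_contra! h
    exact hx₁F ((hF _).mpr ⟨hx₁, fun t ht => hx₁B t (h t ht)⟩)
  have hte : φ t (x₁⁻¹ * φ t x₁) = (x₁⁻¹ * φ t x₁)⁻¹ := by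
    calc φ t (x₁⁻¹ * φ t x₁) = (φ t x₁)⁻¹ * φ t (φ t x₁) := by simp only [hφ]; group
      _ = _ := by rw [hsqfix t ht x₁ hx₁]; group
  refine ⟨x₁⁻¹ * φ t x₁, C.mul_mem (C.inv_mem hx₁) (hφC t ht x₁ hx₁), fun h => hx₁F
    (hfixF t ht htB x₁ hx₁ hx₁B (inv_mul_eq_one.mp h).symm), fun u hu => ?_, t, ht, hte⟩
  have hfixB : ∀ b ∈ B, φ b (x₁⁻¹ * φ t x₁) = x₁⁻¹ * φ t x₁ := fun b hb => by
    calc φ b (x₁⁻¹ * φ t x₁) = (φ b x₁)⁻¹ * φ b (φ t x₁) := by simp only [hφ]; group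
      _ = _ := by rw [hx₁B b hb, hXinv t ht x₁ hx₁B b hb]
  by_cases huB : u ∈ B
  · exact Or.inl (hfixB u huB)
  refine Or.inr ?_
  have hb := hidx u hu huB t ht htB
  calc u * (x₁⁻¹ * φ t x₁) * u⁻¹
      = φ (u * t) (φ t⁻¹ (x₁⁻¹ * φ t x₁)) := by simp only [hφ]; group
    _ = φ (u * t) (x₁⁻¹ * φ t x₁)⁻¹ := by
        congr 1
        conv_lhs => rw [← inv_inv (x₁⁻¹ * φ t x₁), ← hte]
        simp only [hφ]; group
    _ = (φ (u * t) (x₁⁻¹ * φ t x₁))⁻¹ := by simp only [hφ, mul_inv_rev, inv_inv, mul_assoc]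
    _ = _ := by rw [hfixB _ hb]

/-- Inverted elements with different centralisers in `T` commute. -/
theorem Inverted.commute (hodd : Odd s) (hexp : ∀ c ∈ C, c ^ s = 1)
    (hfix : ∀ a ∈ C, ∀ b ∈ C, ∀ t ∈ T, t * ⁅a, b⁆ * t⁻¹ = ⁅a, b⁆)
    (hcen : ∀ a ∈ C, ∀ b ∈ C, ∀ c ∈ C, Commute ⁅a, b⁆ c) {e f : G}
    (he : Inverted T C e) (hf : Inverted T C f) (hne : centOf T e ≠ centOf T f) :
    Commute e f := by
  have key : ∀ {e f : G}, Inverted T C e → Inverted T C f → ∀ t ∈ T, t * e * t⁻¹ = e →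
      t * f * t⁻¹ = f⁻¹ → Commute e f := by
    intro e f he hf t ht hte htf
    rw [← commutatorElement_eq_one_iff_commute]
    have hmem : ⁅e, f⁆ ∈ C := by
      rw [commutatorElement_def]
      exact C.mul_mem (C.mul_mem (C.mul_mem he.1 hf.1) (C.inv_mem he.1)) (C.inv_mem hf.1)
    refine eq_one_of_sq hodd (hexp _ hmem) ?_
    have h1 : ⁅e, f⁆ = ⁅e, f⁻¹⁆ := by
      calc ⁅e, f⁆ = t * ⁅e, f⁆ * t⁻¹ := (hfix _ he.1 _ hf.1 t ht).symm
        _ = ⁅t * e * t⁻¹, t * f * t⁻¹⁆ := by simp only [commutatorElement_def]; group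
        _ = _ := by rw [hte, htf]
    have h2 : ⁅e, f⁻¹⁆ = f⁻¹ * ⁅e, f⁆⁻¹ * f := by simp only [commutatorElement_def]; group
    rw [mul_assoc, (hcen _ he.1 _ hf.1 f hf.1).inv_left.eq, inv_mul_cancel_left] at h2
    calc ⁅e, f⁆ ^ 2 = ⁅e, f⁆ * ⁅e, f⁻¹⁆ := by rw [pow_two, ← h1]
      _ = 1 := by rw [h2, mul_inv_cancel]
  obtain ⟨t, ht⟩ : ∃ t, ¬(t ∈ centOf T e ↔ t ∈ centOf T f) := by
    by_contra! h
    exact hne (Subgroup.ext h)
  simp only [mem_centOf] at ht
  by_cases htT : t ∈ T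
  · rcases he.2.2.1 t htT with h1 | h1 <;> rcases hf.2.2.1 t htT with h2 | h2
    · exact absurd (iff_of_true ⟨htT, h1⟩ ⟨htT, h2⟩) ht
    · exact key he hf t htT h1 h2
    · exact (key hf he t htT h2 h1).symm
    · exact absurd (iff_of_false (fun h => he.2.1 (eq_one_of_sq hodd (hexp e he.1) (by
        rw [pow_two, mul_eq_one_iff_eq_inv]; exact h.2.symm.trans h1)))
        fun h => hf.2.1 (eq_one_of_sq hodd (hexp f hf.1) (by
        rw [pow_two, mul_eq_one_iff_eq_inv]; exact h.2.symm.trans h2))) ht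
  · exact absurd (iff_of_false (fun h => htT h.1) fun h => htT h.1) ht

/-- A family of inverted elements with distinct centralisers generates an elementary group of that
rank. -/
theorem card_closure_inverted [Finite G] (hs : s.Prime) (hodd : Odd s) (hexp : ∀ c ∈ C, c ^ s = 1)
    (hfix : ∀ a ∈ C, ∀ b ∈ C, ∀ t ∈ T, t * ⁅a, b⁆ * t⁻¹ = ⁅a, b⁆)
    (hcen : ∀ a ∈ C, ∀ b ∈ C, ∀ c ∈ C, Commute ⁅a, b⁆ c) (e : Subgroup G → G)
    (I : Finset (Subgroup G)) (he : ∀ B ∈ I, Inverted T C (e B) ∧ centOf T (e B) = B) :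
    Subgroup.closure (e '' (I : Set (Subgroup G))) ≤ C ∧
      IsMulCommutative (Subgroup.closure (e '' (I : Set (Subgroup G)))) ∧
      Nat.card (Subgroup.closure (e '' (I : Set (Subgroup G)))) = s ^ I.card ∧
      ∀ x ∈ Subgroup.closure (e '' (I : Set (Subgroup G))), Inverted T C x → centOf T x ∈ I := by
  classical
  have hle : ∀ J : Finset (Subgroup G), J ⊆ I →
      Subgroup.closure (e '' (J : Set (Subgroup G))) ≤ C := fun J hJ => by
    rw [Subgroup.closure_le]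
    rintro _ ⟨B, hB, rfl⟩
    exact (he B (hJ hB)).1.1
  have hcomm : ∀ J : Finset (Subgroup G), J ⊆ I →
      IsMulCommutative (Subgroup.closure (e '' (J : Set (Subgroup G)))) := fun J hJ => by
    refine Subgroup.isMulCommutative_closure ?_
    rintro _ ⟨B, hB, rfl⟩ _ ⟨D, hD, rfl⟩
    by_cases h : B = D
    · rw [h]
    · exact ((he B (hJ hB)).1.commute hodd hexp hfix hcen (he D (hJ hD)).1
        (by rwa [(he B (hJ hB)).2, (he D (hJ hD)).2])).eq
  refine ⟨hle I subset_rfl, hcomm I subset_rfl, ?_⟩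
  suffices h : ∀ J : Finset (Subgroup G), J ⊆ I →
      Nat.card (Subgroup.closure (e '' (J : Set (Subgroup G)))) = s ^ J.card ∧
      ∀ x ∈ Subgroup.closure (e '' (J : Set (Subgroup G))), Inverted T C x → centOf T x ∈ J from
    h I subset_rfl
  intro J
  induction J using Finset.induction_on with
  | empty =>
    intro _
    refine ⟨by simp, fun x hx hxi => ?_⟩
    simp only [Finset.coe_empty, Set.image_empty, Subgroup.closure_empty, Subgroup.mem_bot] at hx
    exact absurd hx hxi.2.1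
  | @insert D J hDJ ih =>
    intro hJ
    obtain ⟨hcard, hsep⟩ := ih ((Finset.subset_insert _ _).trans hJ)
    obtain ⟨hD, hDc⟩ := he D (hJ (Finset.mem_insert_self _ _))
    set P := Subgroup.closure (e '' (J : Set (Subgroup G))) with hP
    have hcl : Subgroup.closure (e '' ((insert D J : Finset (Subgroup G)) : Set (Subgroup G)))
        = Subgroup.zpowers (e D) ⊔ P := by
      rw [Finset.coe_insert, Set.image_insert_eq, Set.insert_eq, Subgroup.closure_union,
        ← Subgroup.zpowers_eq_closure]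
    rw [hcl]
    have hcom := hcomm _ hJ
    rw [hcl] at hcom
    have hPT : T ≤ Subgroup.normalizer (P : Set G) := by
      rw [CfsgLib.Coprime.le_normalizer_iff_conj_smul]
      intro t ht
      refine Subgroup.eq_of_le_of_card_ge ?_ (CfsgLib.Coprime.card_conj_smul t P).ge
      rw [CfsgLib.Coprime.conj_smul_le_iff]
      intro x hx
      refine Subgroup.closure_induction (p := fun x _ => t * x * t⁻¹ ∈ P) ?_ (by simp) ?_ ?_ hx
      · rintro _ ⟨B, hB, rfl⟩
        have hm : e B ∈ P := Subgroup.subset_closure ⟨B, hB, rfl⟩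
        rcases (he B (hJ (Finset.mem_insert_of_mem hB))).1.2.2.1 t ht with h | h <;> rw [h]
        exacts [hm, P.inv_mem hm]
      · intro a b _ _ ha hb
        rw [show t * (a * b) * t⁻¹ = t * a * t⁻¹ * (t * b * t⁻¹) by group]
        exact P.mul_mem ha hb
      · intro a _ ha
        rw [show t * a⁻¹ * t⁻¹ = (t * a * t⁻¹)⁻¹ by group]
        exact P.inv_mem ha
    have hnorm : Subgroup.zpowers (e D) ≤ Subgroup.normalizer (P : Set G) := by
      refine le_trans ?_ (Subgroup.centralizer_le_normalizer _)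
      intro a ha
      rw [Subgroup.mem_centralizer_iff]
      exact fun b hb => congrArg Subtype.val (hcom.is_comm.comm
        (⟨b, Subgroup.mem_sup_right hb⟩ : (Subgroup.zpowers (e D) ⊔ P : Subgroup G))
        ⟨a, Subgroup.mem_sup_left ha⟩)
    have hsep' : ∀ x ∈ Subgroup.zpowers (e D) ⊔ P, Inverted T C x →
        centOf T x ∈ insert D J := by
      intro x hx hxi
      by_contra hnot
      rw [Finset.mem_insert, not_or] at hnot
      obtain ⟨a, ha, y, hy, hxy⟩ :=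
        (CfsgLib.Coprime.mem_sup_iff_of_le_normalizer hnorm).mp hx
      have hay : Commute a y := congrArg Subtype.val (hcom.is_comm.comm
        (⟨a, Subgroup.mem_sup_left ha⟩ : (Subgroup.zpowers (e D) ⊔ P : Subgroup G))
        ⟨y, Subgroup.mem_sup_right hy⟩)
      have hx2 : x ^ 2 ∈ P := by
        obtain ⟨t, ht⟩ : ∃ t, ¬(t ∈ centOf T x ↔ t ∈ centOf T (e D)) := by
          by_contra! h
          exact hnot.1 ((Subgroup.ext h).trans hDc)
        simp only [mem_centOf] at ht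
        have htT : t ∈ T := by
          by_contra h
          exact ht (iff_of_false (fun h' => h h'.1) fun h' => h h'.1)
        have hty : t * y * t⁻¹ ∈ P := (Subgroup.mem_normalizer_iff.mp (hPT htT) y).mp hy
        obtain ⟨k, rfl⟩ := Subgroup.mem_zpowers_iff.mp ha
        have htk : t * x * t⁻¹ = (t * e D * t⁻¹) ^ k * (t * y * t⁻¹) := by
          rw [conj_zpow, ← hxy]; group
        rcases hxi.2.2.1 t htT with h1 | h1 <;> rcases hD.2.2.1 t htT with h2 | h2
        · exact absurd (iff_of_true ⟨htT, h1⟩ ⟨htT, h2⟩) ht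
        · rw [h1, h2] at htk
          have e1 : x ^ 2 = y * (t * y * t⁻¹) := by
            calc x ^ 2 = x * x := pow_two x
              _ = e D ^ k * y * ((e D)⁻¹ ^ k * (t * y * t⁻¹)) := by rw [hxy, ← htk]
              _ = _ := by rw [hay.eq, inv_zpow]; group
          rw [e1]
          exact P.mul_mem hy hty
        · rw [h1, h2] at htk
          have e1 : x ^ 2 = y * (t * y * t⁻¹)⁻¹ := by
            calc x ^ 2 = x * x⁻¹⁻¹ := by rw [inv_inv, pow_two]
              _ = e D ^ k * y * (e D ^ k * (t * y * t⁻¹))⁻¹ := by rw [hxy, ← htk]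
              _ = _ := by
                have haz : Commute (e D ^ k) (t * y * t⁻¹) := congrArg Subtype.val (hcom.is_comm.comm
                  (⟨_, Subgroup.mem_sup_left ha⟩ : (Subgroup.zpowers (e D) ⊔ P : Subgroup G))
                  ⟨_, Subgroup.mem_sup_right hty⟩)
                rw [mul_inv_rev, ← mul_assoc, mul_assoc (e D ^ k) y,
                  (hay.mul_right haz.inv_right).eq, mul_inv_cancel_right]
          rw [e1]
          exact P.mul_mem hy (P.inv_mem hty)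
        · exact absurd (iff_of_false (fun h => hxi.2.1 (eq_one_of_sq hodd (hexp x hxi.1) (by
            rw [pow_two, mul_eq_one_iff_eq_inv]; exact h.2.symm.trans h1)))
            fun h => hD.2.1 (eq_one_of_sq hodd (hexp _ hD.1) (by
            rw [pow_two, mul_eq_one_iff_eq_inv]; exact h.2.symm.trans h2))) ht
      have hxi2 : Inverted T C (x ^ 2) := by
        refine ⟨C.pow_mem hxi.1 2, fun h => hxi.2.1 (eq_one_of_sq hodd (hexp x hxi.1) h),
          fun t ht => ?_, ?_⟩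
        · rw [← conj_pow, ← inv_pow]
          rcases hxi.2.2.1 t ht with h | h <;> rw [h]
          exacts [Or.inl rfl, Or.inr rfl]
        · obtain ⟨t, ht, h⟩ := hxi.2.2.2
          exact ⟨t, ht, by rw [← conj_pow, h, inv_pow]⟩
      have hc2 : centOf T (x ^ 2) = centOf T x := by
        ext t
        simp only [mem_centOf]
        refine and_congr_right fun _ => ⟨fun h => ?_, fun h => by rw [← conj_pow, h]⟩
        obtain ⟨k, hk⟩ := hodd
        have h3 : x = (x ^ 2) ^ (k + 1) := by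
          rw [← pow_mul, show 2 * (k + 1) = s + 1 by omega, pow_succ, hexp x hxi.1, one_mul]
        rw [h3, ← conj_pow, h]
      exact hnot.2 (hc2 ▸ hsep _ hx2 hxi2)
    refine ⟨?_, hsep'⟩
    have hos : orderOf (e D) = s :=
      haveI := Fact.mk hs
      orderOf_eq_prime (hexp _ hD.1) hD.2.1
    have hinf : Subgroup.zpowers (e D) ⊓ P = ⊥ := by
      rw [eq_bot_iff]
      rintro y ⟨hy, hyP⟩
      by_contra hy1
      have hdvd : orderOf y ∣ s := hos ▸ orderOf_dvd_of_mem_zpowers hy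
      have hoy : orderOf y = s := ((Nat.dvd_prime hs).mp hdvd).resolve_left fun h =>
        hy1 (Subgroup.mem_bot.mpr (orderOf_eq_one_iff.mp h))
      have hle' : Subgroup.zpowers y = Subgroup.zpowers (e D) := Subgroup.eq_of_le_of_card_ge
        (Subgroup.zpowers_le.mpr hy) (by rw [Nat.card_zpowers, Nat.card_zpowers, hos, hoy])
      have hDP : e D ∈ P :=
        (hle' ▸ Subgroup.zpowers_le.mpr hyP :) (Subgroup.mem_zpowers (e D))
      exact hDJ (hDc ▸ hsep _ hDP hD)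
    rw [CfsgLib.Coprime.card_sup_of_inf_eq_bot hnorm hinf, Nat.card_zpowers, hos, hcard,
      Finset.card_insert_of_notMem hDJ, pow_succ']

/-- If `C` has rank less than `r`, then `T` centralises `C`. -/
theorem le_centralizer_of_orbit [Finite G] {Y : Subgroup G} {n r : ℕ} [Fact r.Prime] (hrn : n < r)
    (hs : s.Prime) (hs2 : s ≠ 2) (hY : IsPGroup r Y)
    (hYT : Y ≤ Subgroup.normalizer (T : Set G)) (hYC : Y ≤ Subgroup.normalizer (C : Set G))
    (hTC : T ≤ Subgroup.normalizer (C : Set G))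
    (hQT : Q1 ≤ T) (hQC : Q1 ≤ Subgroup.centralizer (C : Set G)) (hsq : ∀ t ∈ T, t ^ 2 ∈ Q1)
    (hnoB : ∀ B : Subgroup G, B ≤ T → Q1 ≤ B → B.relIndex T = 2 →
      ¬ Y ≤ Subgroup.normalizer (B : Set G))
    (hexp : ∀ c ∈ C, c ^ s = 1)
    (hfix : ∀ a ∈ C, ∀ b ∈ C, ∀ t ∈ T, t * ⁅a, b⁆ * t⁻¹ = ⁅a, b⁆)
    (hcen : ∀ a ∈ C, ∀ b ∈ C, ∀ c ∈ C, Commute ⁅a, b⁆ c)
    (hrank : ∀ A : Subgroup G, A ≤ C → IsMulCommutative A → Nat.card A ≤ s ^ n) :
    T ≤ Subgroup.centralizer (C : Set G) := by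
  classical
  by_contra hne
  have hodd : Odd s := hs.eq_two_or_odd'.resolve_left hs2
  obtain ⟨e₀, he₀⟩ := exists_inverted hodd hTC hQT hQC hsq hexp hfix hne
  have hrel : (centOf T e₀).relIndex T = 2 := by
    obtain ⟨t, ht, hte⟩ := he₀.2.2.2
    rw [Subgroup.relIndex, Subgroup.index_eq_two_iff]
    refine ⟨⟨t, ht⟩, fun b => ?_⟩
    simp only [Subgroup.mem_subgroupOf, mem_centOf, Subgroup.coe_mul]
    have hb : (b : G) * t * e₀ * ((b : G) * t)⁻¹ = ((b : G) * e₀ * (b : G)⁻¹)⁻¹ := by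
      calc (b : G) * t * e₀ * ((b : G) * t)⁻¹ = (b : G) * (t * e₀ * t⁻¹) * (b : G)⁻¹ := by group
        _ = _ := by rw [hte]; group
    have hne' : e₀⁻¹ ≠ e₀ := fun h => he₀.2.1 (eq_one_of_sq hodd (hexp _ he₀.1) (by
      rw [pow_two, mul_eq_one_iff_eq_inv, h]))
    rcases he₀.2.2.1 b b.2 with h | h
    · exact Or.inr ⟨⟨b.2, h⟩, fun h' => hne' ((by conv_rhs => rw [← h'.2, hb, h]))⟩
    · exact Or.inl ⟨⟨T.mul_mem b.2 ht, by rw [hb, h, inv_inv]⟩, fun h' => hne' (h.symm.trans h'.2)⟩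
  let : MulAction Y (Subgroup G) :=
    MulAction.compHom _ ((MulAut.conj : G →* MulAut G).comp Y.subtype)
  have hsmul : ∀ (y : Y) (B : Subgroup G), y • B = MulAut.conj (y : G) • B := fun _ _ => rfl
  set O := MulAction.orbit Y (centOf T e₀) with hO
  have hOinv : ∀ B ∈ O, ∃ e, Inverted T C e ∧ centOf T e = B := by
    rintro _ ⟨y, rfl⟩
    have hyT : ∀ t, t ∈ T ↔ (y : G)⁻¹ * t * y ∈ T := fun t => by
      rw [← CfsgLib.Coprime.mem_conj_smul,
        CfsgLib.Coprime.conj_smul_eq_self_of_mem_normalizer (hYT y.2)]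
    refine ⟨(y : G) * e₀ * (y : G)⁻¹, ⟨(Subgroup.mem_normalizer_iff.mp (hYC y.2) e₀).mp he₀.1,
      fun h => he₀.2.1 (by simpa [mul_inv_eq_one] using h), fun t ht => ?_, ?_⟩, ?_⟩
    · rcases he₀.2.2.1 _ ((hyT t).mp ht) with h | h
      · refine Or.inl ?_
        calc _ = (y : G) * ((y : G)⁻¹ * t * y * e₀ * ((y : G)⁻¹ * t * y)⁻¹) * (y : G)⁻¹ := by
              group
          _ = _ := by rw [h]
      · refine Or.inr ?_
        calc _ = (y : G) * ((y : G)⁻¹ * t * y * e₀ * ((y : G)⁻¹ * t * y)⁻¹) * (y : G)⁻¹ := by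
              group
          _ = _ := by rw [h]; group
    · obtain ⟨t, ht, hte⟩ := he₀.2.2.2
      refine ⟨(y : G) * t * (y : G)⁻¹, (Subgroup.mem_normalizer_iff.mp (hYT y.2) t).mp ht, ?_⟩
      calc _ = (y : G) * (t * e₀ * t⁻¹) * (y : G)⁻¹ := by group
        _ = _ := by rw [hte]; group
    · show _ = y • centOf T e₀
      ext t
      rw [hsmul, CfsgLib.Coprime.mem_conj_smul, mem_centOf, mem_centOf, ← hyT]
      refine and_congr_right fun _ => ⟨fun h => ?_, fun h => ?_⟩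
      · calc _ = (y : G)⁻¹ * (t * ((y : G) * e₀ * (y : G)⁻¹) * t⁻¹) * y := by group
          _ = _ := by rw [h]; group
      · calc _ = (y : G) * ((y : G)⁻¹ * t * y * e₀ * ((y : G)⁻¹ * t * y)⁻¹) * (y : G)⁻¹ := by
              group
          _ = _ := by rw [h]
  choose! e he using hOinv
  obtain ⟨h1, h2, h3, -⟩ := card_closure_inverted hs hodd hexp hfix hcen e O.toFinite.toFinset
    fun B hB => he B (O.toFinite.mem_toFinset.mp hB)
  have hle := hrank _ h1 h2
  rw [h3, Nat.pow_le_pow_iff_right hs.one_lt, ← Set.ncard_eq_toFinset_card O O.toFinite, hO,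
    ← MulAction.index_stabilizer] at hle
  obtain ⟨k, hk⟩ := IsPGroup.iff_card.mp hY
  obtain ⟨j, -, hj⟩ := (Nat.dvd_prime_pow Fact.out).mp
    (hk ▸ Subgroup.index_dvd_card (MulAction.stabilizer Y (centOf T e₀)))
  rcases Nat.eq_zero_or_pos j with rfl | hj0
  · rw [pow_zero, Subgroup.index_eq_one] at hj
    refine hnoB _ inf_le_left (le_inf hQT (hQC.trans (Subgroup.centralizer_le ?_))) hrel
      (CfsgLib.Coprime.le_normalizer_iff_conj_smul.mpr fun y hy => ?_)
    · exact Set.singleton_subset_iff.mpr he₀.1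
    · have hmem : (⟨y, hy⟩ : Y) ∈ MulAction.stabilizer Y (centOf T e₀) := by
        rw [hj]; exact Subgroup.mem_top _
      exact MulAction.mem_stabilizer_iff.mp hmem
  · rw [hj] at hle
    have := Nat.le_self_pow hj0.ne' r
    omega

end CfsgLib.FgsB.InvolConj
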