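import Cfsg.Agent.Lib.Coprime.Basic

/-!
An elementary abelian `s`-group (`s` odd) of rank `a` acting faithfully on an elementary abelian
`2`-group `W` forces `4 ^ a ≤ |W|`.
-/

set_option autoImplicit false

namespace CfsgLib.FgsB.InvolConj

universe u

variable {W A : Type u} [CommGroup W] [CommGroup A] (f : A →* MulAut W)

/-- The fixed points of `B`. -/
def fixOf (B : Subgroup A) : Subgroup W where
  carrier := {w | ∀ b ∈ B, f b w = w}
  one_mem' := fun b _ => map_one _
  mul_mem' := fun {v w} hv hw b hb => by rw [map_mul, hv b hb, hw b hb]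
  inv_mem' := fun {v} hv b hb => by rw [map_inv, hv b hb]

theorem comm_apply (a b : A) (w : W) : f a (f b w) = f b (f a w) := by
  rw [← MulAut.mul_apply, ← map_mul, mul_comm, map_mul, MulAut.mul_apply]

theorem mem_fixOf_sup {B : Subgroup A} {y : A} {w : W} (hw : w ∈ fixOf f B) (hy : f y w = w) :
    w ∈ fixOf f (B ⊔ Subgroup.zpowers y) := by
  intro b hb
  have h : B ⊔ Subgroup.zpowers y ≤ (MulAction.stabilizer (MulAut W) w).comap f :=
    sup_le (fun c hc => hw c hc) (Subgroup.zpowers_le.mpr hy)
  exact h hb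

/-- The product over the powers of `y`. -/
def orbProd (s : ℕ) (y : A) (w : W) : W := ∏ i ∈ Finset.range s, f (y ^ i) w

theorem orbProd_mem {s : ℕ} {B : Subgroup A} {y : A} (hys : y ^ s = 1) {w : W}
    (hw : w ∈ fixOf f B) : orbProd f s y w ∈ fixOf f (B ⊔ Subgroup.zpowers y) := by
  refine mem_fixOf_sup f (fun b hb => ?_) ?_
  · unfold orbProd
    rw [map_prod]
    exact Finset.prod_congr rfl fun i _ => by rw [comm_apply f b, hw b hb]
  · unfold orbProd
    rw [map_prod]
    have h1 := Finset.prod_range_succ (fun i => f (y ^ i) w) s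
    have h2 := Finset.prod_range_succ' (fun i => f (y ^ i) w) s
    rw [h1, hys, pow_zero] at h2
    rw [mul_right_cancel h2]
    exact Finset.prod_congr rfl fun i _ => by rw [pow_succ', map_mul, MulAut.mul_apply]

variable [Finite W] [Finite A]

/-- A maximal subgroup with fixed points outside those of `A` has index `s`. -/
theorem sup_zpowers_eq_top {s : ℕ} (hs : s.Prime) (hs2 : s ≠ 2) (hexp : ∀ x : A, x ^ s = 1)
    (hW : ∀ w : W, w ^ 2 = 1) {B : Subgroup A}
    (hB : fixOf f B ≠ fixOf f ⊤) (hmax : ∀ B' : Subgroup A, B < B' → fixOf f B' = fixOf f ⊤)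
    {x : A} (hx : x ∉ B) : B ⊔ Subgroup.zpowers x = ⊤ := by
  by_contra hne
  obtain ⟨z, hz⟩ : ∃ z, z ∉ B ⊔ Subgroup.zpowers x := by
    by_contra! h
    exact hne (eq_top_iff.mpr fun a _ => h a)
  have hin : ∀ y : A, y ∉ B → ∀ w ∈ fixOf f B, orbProd f s y w ∈ fixOf f ⊤ := fun y hy w hw => by
    rw [← hmax _ (lt_of_le_of_ne le_sup_left fun h =>
      hy (h ▸ Subgroup.mem_sup_right (Subgroup.mem_zpowers y)))]
    exact orbProd_mem f (hexp y) hw
  refine hB (le_antisymm (fun w hw => ?_) fun w hw b hb => hw b (Subgroup.mem_top b))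
  have hpow : ∀ i, i < s → i ≠ 0 → x ^ i ∉ B := by
    intro i hi hi0 hiB
    refine hx ?_
    have hcop : i.Coprime s := (hs.coprime_iff_not_dvd.mpr fun hd => by
      have := Nat.le_of_dvd (Nat.pos_of_ne_zero hi0) hd
      omega).symm
    obtain ⟨m, -, hm⟩ := Nat.exists_mul_mod_eq_one_of_coprime hcop hs.one_lt
    have := B.pow_mem hiB m
    rwa [← pow_mul, pow_eq_pow_mod _ (hexp x), hm, pow_one] at this
  have htot : ∏ j ∈ Finset.range s, orbProd f s (z * x ^ j) w ∈ fixOf f ⊤ := by
    refine Subgroup.prod_mem _ fun j _ => hin _ (fun hj => hz ?_) w hw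
    have h := Subgroup.mul_mem (B ⊔ Subgroup.zpowers x) (Subgroup.mem_sup_left hj)
      (Subgroup.inv_mem _ (Subgroup.mem_sup_right (Subgroup.pow_mem _ (Subgroup.mem_zpowers x) j)))
    rwa [mul_inv_cancel_right] at h
  have hswap : ∏ j ∈ Finset.range s, orbProd f s (z * x ^ j) w
      = ∏ i ∈ Finset.range s, f (z ^ i) (orbProd f s (x ^ i) w) := by
    unfold orbProd
    rw [Finset.prod_comm]
    refine Finset.prod_congr rfl fun i _ => ?_
    rw [map_prod]
    refine Finset.prod_congr rfl fun j _ => ?_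
    rw [mul_pow, map_mul, MulAut.mul_apply, ← pow_mul, ← pow_mul, mul_comm i j]
  rw [hswap, ← Finset.mul_prod_erase _ _ (Finset.mem_range.mpr hs.pos)] at htot
  have hrest : ∏ i ∈ (Finset.range s).erase 0, f (z ^ i) (orbProd f s (x ^ i) w) ∈ fixOf f ⊤ := by
    refine Subgroup.prod_mem _ fun i hi => ?_
    rw [Finset.mem_erase, Finset.mem_range] at hi
    have h := hin _ (hpow i hi.2 hi.1) w hw
    rwa [h _ (Subgroup.mem_top _)]
  have h0 : f (z ^ 0) (orbProd f s (x ^ 0) w) = w := by
    simp only [orbProd, pow_zero, one_pow, map_one, MulAut.one_apply, Finset.prod_const,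
      Finset.card_range]
    obtain ⟨k, rfl⟩ := hs.eq_two_or_odd'.resolve_left hs2
    rw [pow_succ, pow_mul, hW, one_pow, one_mul]
  rw [h0] at htot
  exact (Subgroup.mul_mem_cancel_right _ hrest).mp htot

theorem four_pow_le_card {s : ℕ} (hs : s.Prime) (hs2 : s ≠ 2) (a : ℕ) :
    ∀ {W A : Type u} [CommGroup W] [Finite W] [CommGroup A] [Finite A] (f : A →* MulAut W),
      Function.Injective f → (∀ w : W, w ^ 2 = 1) → (∀ x : A, x ^ s = 1) →
      Nat.card A = s ^ a → 4 ^ a ≤ Nat.card W := by
  induction a with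
  | zero => intro W A _ _ _ _ f _ _ _ _; rw [pow_zero]; exact Nat.card_pos
  | succ a ih =>
    intro W A _ _ _ _ f hinj hW hexp hcard
    classical
    have hne : fixOf f ⊥ ≠ fixOf f ⊤ := by
      intro h
      have hbot : ∀ x : A, x = 1 := fun x => hinj <| by
        rw [map_one]
        refine MulEquiv.ext fun w => ?_
        have hw : w ∈ fixOf f ⊥ := fun b hb => by
          rw [Subgroup.mem_bot.mp hb, map_one, MulAut.one_apply]
        rw [h] at hw
        exact hw x (Subgroup.mem_top x)
      haveI : Subsingleton A := ⟨fun x y => (hbot x).trans (hbot y).symm⟩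
      rw [Nat.card_eq_one_iff_unique.mpr ⟨inferInstance, ⟨1⟩⟩] at hcard
      exact absurd hcard.symm (Nat.one_lt_pow (by omega) hs.one_lt).ne'
    obtain ⟨B, hB⟩ := Set.Finite.exists_maximal
      (s := {B : Subgroup A | fixOf f B ≠ fixOf f ⊤}) (Set.toFinite _) ⟨⊥, hne⟩
    have hmax : ∀ B' : Subgroup A, B < B' → fixOf f B' = fixOf f ⊤ := fun B' hlt => by
      by_contra h
      exact hlt.not_ge (hB.2 h hlt.le)
    obtain ⟨x, hx⟩ : ∃ x, x ∉ B := by
      by_contra! h
      exact hB.1 (congrArg _ (eq_top_iff.mpr fun a _ => h a))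
    have htop := sup_zpowers_eq_top f hs hs2 hexp hW hB.1 hmax hx
    have hcB : Nat.card B = s ^ a := by
      haveI := Fact.mk hs
      have hox : orderOf x = s := orderOf_eq_prime (hexp x) fun h => hx (h ▸ B.one_mem)
      have hinf : B ⊓ Subgroup.zpowers x = ⊥ := by
        rw [eq_bot_iff]
        rintro y ⟨hyB, hy⟩
        by_contra hy1
        have hle : Subgroup.zpowers y = Subgroup.zpowers x := Subgroup.eq_of_le_of_card_ge
          (Subgroup.zpowers_le.mpr hy) (by
            rw [Nat.card_zpowers, Nat.card_zpowers, hox,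
              orderOf_eq_prime (hexp y) fun h => hy1 (Subgroup.mem_bot.mpr h)])
        exact hx ((hle ▸ Subgroup.zpowers_le.mpr hyB :) (Subgroup.mem_zpowers x))
      have h := CfsgLib.Coprime.card_sup_of_inf_eq_bot
        (le_top.trans (Subgroup.normalizer_eq_top_iff.mpr inferInstance).ge) hinf
      rw [htop, Subgroup.card_top, hcard, Nat.card_zpowers, hox, pow_succ] at h
      exact (Nat.eq_of_mul_eq_mul_right hs.pos h).symm
    haveI : Fintype B := Fintype.ofFinite B
    have hoddB : Odd (Fintype.card B) := by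
      rw [← Nat.card_eq_fintype_card, hcB]
      exact (hs.eq_two_or_odd'.resolve_left hs2).pow
    let π : W →* W := MonoidHom.mk' (fun w => ∏ b : B, f (b : A) w) fun v w => by
      rw [← Finset.prod_mul_distrib]
      exact Finset.prod_congr rfl fun b _ => map_mul _ _ _
    have hπ : ∀ w, π w = ∏ b : B, f (b : A) w := fun w => rfl
    have hπc : ∀ c w, f c (π w) = π (f c w) := fun c w => by
      rw [hπ, hπ, map_prod]
      exact Finset.prod_congr rfl fun b _ => comm_apply f c _ w
    have hπB : ∀ c ∈ B, ∀ w, π (f c w) = π w := fun c hc w => by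
      rw [hπ, hπ]
      exact Fintype.prod_equiv (Equiv.mulRight ⟨c, hc⟩) _ _ fun b => by
        rw [← MulAut.mul_apply, ← map_mul]; rfl
    have hπfix : ∀ w ∈ fixOf f B, π w = w := fun w hw => by
      rw [hπ, Finset.prod_congr rfl fun (b : B) _ => hw b b.2, Finset.prod_const, Finset.card_univ]
      obtain ⟨k, hk⟩ := hoddB
      rw [hk, pow_succ, pow_mul, hW, one_pow, one_mul]
    have hrange : π.range = fixOf f B := by
      refine le_antisymm ?_ fun w hw => ⟨w, hπfix w hw⟩
      rintro _ ⟨w, rfl⟩ c hc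
      rw [hπc, hπB c hc]
    set K := π.ker with hK
    have hKinv : ∀ (c : A), ∀ k ∈ K, f c k ∈ K := fun c k hk => by
      rw [hK, MonoidHom.mem_ker, ← hπc, MonoidHom.mem_ker.mp hk, map_one]
    let g : B →* MulAut K := MonoidHom.mk'
      (fun b =>
        { toFun := fun k => ⟨f b k, hKinv _ _ k.2⟩
          invFun := fun k => ⟨f (b : A)⁻¹ k, hKinv _ _ k.2⟩
          left_inv := fun k => Subtype.ext (by simp [map_inv])
          right_inv := fun k => Subtype.ext (by simp [map_inv])
          map_mul' := fun k l => Subtype.ext (map_mul _ _ _) })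
      fun b c => MulEquiv.ext fun k => Subtype.ext (by
        show f ((b * c : B) : A) (k : W) = f b (f c k)
        rw [Subgroup.coe_mul, map_mul, MulAut.mul_apply])
    have hg : Function.Injective g := by
      rw [injective_iff_map_eq_one]
      intro b hb
      refine Subtype.ext (hinj ?_)
      rw [Subgroup.coe_one, map_one]
      refine MulEquiv.ext fun w => ?_
      have hk : w * π w ∈ K := by
        rw [hK, MonoidHom.mem_ker, map_mul, hπfix (π w) (hrange.le ⟨w, rfl⟩), ← pow_two, hW]
      have h0 : g b ⟨w * π w, hk⟩ = (1 : MulAut K) ⟨w * π w, hk⟩ := DFunLike.congr_fun hb _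
      have h1 : f (b : A) (w * π w) = w * π w := congrArg Subtype.val h0
      rw [map_mul, hπc, hπB _ b.2] at h1
      exact mul_right_cancel h1
    have hKc := ih g hg (fun k => Subtype.ext (hW k)) (fun b => Subtype.ext (hexp b)) hcB
    have hfour : 4 ≤ Nat.card (fixOf f B) := by
      obtain ⟨w, hw, hwn⟩ : ∃ w ∈ fixOf f B, w ∉ fixOf f ⊤ := by
        by_contra! h
        exact hB.1 (le_antisymm h fun w hw b _ => hw b (Subgroup.mem_top b))
      obtain ⟨c, hc⟩ : ∃ c, f c w ≠ w := by
        by_contra! h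
        exact hwn fun c _ => h c
      have hw1 : w ≠ 1 := fun h => hc (by rw [h, map_one])
      have hcw : f c w ∈ fixOf f B := fun b hb => by rw [comm_apply, hw b hb]
      have h3 : Nat.card ({1, w, f c w} : Set W) ≤ Nat.card (fixOf f B) :=
        Nat.card_mono (Set.toFinite _) (by
          rintro v (rfl | rfl | rfl)
          exacts [one_mem _, hw, hcw])
      have hthree : Nat.card ({1, w, f c w} : Set W) = 3 := by
        rw [Nat.card_coe_set_eq, Set.ncard_eq_three]
        exact ⟨1, w, f c w, Ne.symm hw1, fun h => hw1 ((f c).injective (by rw [map_one, ← h])),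
          Ne.symm hc, rfl⟩
      haveI := Fact.mk Nat.prime_two
      obtain ⟨k, hk⟩ := IsPGroup.iff_card.mp
        ((show IsPGroup 2 W from fun v => ⟨1, by rw [pow_one]; exact hW v⟩).to_subgroup (fixOf f B))
      rw [hk, hthree] at h3
      rw [hk]
      have : 2 ≤ k := by
        by_contra h
        interval_cases k <;> simp at h3
      calc 4 = 2 ^ 2 := rfl
        _ ≤ 2 ^ k := Nat.pow_le_pow_right two_pos this
    calc 4 ^ (a + 1) = 4 * 4 ^ a := pow_succ' _ _
      _ ≤ Nat.card (fixOf f B) * Nat.card K := Nat.mul_le_mul hfour hKc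
      _ = Nat.card W := by rw [← hrange, ← Subgroup.index_ker, ← hK, K.index_mul_card]

end CfsgLib.FgsB.InvolConj
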