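import Cfsg.Prelude.Def_Solvable
import Cfsg.Agent.Lib.PGroups.InvariantCritical
import Cfsg.Agent.Lib.PGroups.InvolutionSubgroup
import Cfsg.Agent.Lib.Base.MinimalNormal
import Cfsg.Agent.Lib.Recog.ZsigmondyPrime
import Cfsg.Agent.Lib.FgsB.InvolConjRank
import Cfsg.Agent.Lib.FgsB.InvolConjKey

/-!
Local steps for groups in which all involutions are conjugate: the rank bound on odd elementary
subgroups centralising the involutions, and the action of `T` on odd `s`-subgroups.
-/

set_option autoImplicit false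
set_option linter.style.haveILetI false

open Cfsg
open scoped Pointwise commutatorElement

namespace CfsgLib.FgsB.InvolConj

universe u

variable {G : Type u} [Group G] [Finite G]

/-- Elementary abelian odd subgroups centralising all involutions have rank at most that of the
group of involutions, when `C(Q) ≤ Q` for the normal `2`-subgroup `Q`. -/
theorem card_le_pow_of_centralizes {Q V : Subgroup G} [Q.Normal] [V.Normal] (hQ : IsPGroup 2 Q)
    (hQc : Subgroup.centralizer (Q : Set G) ≤ Q) (hV : ∀ x, x ∈ V ↔ x ^ 2 = 1)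
    (hVQ : V ≤ Subgroup.centralizer (Q : Set G)) {n : ℕ} (hn : Nat.card V = 2 ^ n)
    {A : Subgroup G} (hA : IsMulCommutative A) {s : ℕ} (hs : s.Prime) (hs2 : s ≠ 2)
    (hexp : ∀ a ∈ A, a ^ s = 1) (hAV : A ≤ Subgroup.centralizer (V : Set G)) :
    Nat.card A ≤ s ^ n := by
  classical
  haveI : Fact (Nat.Prime 2) := ⟨Nat.prime_two⟩
  haveI := Fact.mk hs
  obtain ⟨D, hDi, -, hD4, hDc, hdet, -⟩ :=
    CfsgLib.PGroups.InvariantCritical.main (G := (⊤ : Subgroup (MulAut Q))) hQ le_top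
  set D' := D.map Q.subtype with hD'
  haveI hDn : D'.Normal := ⟨by
    rintro _ ⟨d, hd, rfl⟩ g
    exact ⟨MulAut.conjNormal g d,
      (hDi (MulAut.conjNormal g) trivial).le ⟨d, hd, rfl⟩, MulAut.conjNormal_apply g d⟩⟩
  have hsq : ∀ d ∈ D', d ^ 2 ∈ V := by
    rintro _ ⟨d, hd, rfl⟩
    rw [hV, ← pow_mul, ← map_pow]
    rcases hD4 d hd with h | ⟨-, h⟩
    · rw [show d ^ (2 * 2) = (d ^ 2) ^ 2 from pow_mul d 2 2, h, one_pow, map_one]
    · rw [show d ^ (2 * 2) = d ^ 4 from rfl, h, map_one]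
  have hcc : ∀ d ∈ D', ∀ e ∈ D', ∀ c ∈ D', ⁅d, e⁆ * c = c * ⁅d, e⁆ := by
    rintro _ ⟨d, hd, rfl⟩ _ ⟨e, he, rfl⟩ _ ⟨c, hc, rfl⟩
    have h := Subgroup.mem_centralizer_iff.mp
      (hDc (Subgroup.commutator_mem_commutator hd (Subgroup.mem_top e))).2 c hc
    have h' := (congrArg Q.subtype h).symm
    simp only [map_mul, map_commutatorElement] at h'
    exact h'
  have hcomm : ∀ d ∈ D', ∀ e ∈ D', ⁅d, e⁆ ∈ V := by
    intro d hd e he
    rw [hV]
    have h2 : ⁅d ^ 2, e⁆ = 1 := commutatorElement_eq_one_iff_mul_comm.mpr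
      (Subgroup.mem_centralizer_iff.mp (hVQ (hsq d hd)) e (by
        obtain ⟨e', -, rfl⟩ := he
        exact e'.2)).symm
    calc ⁅d, e⁆ ^ 2 = d * ⁅d, e⁆ * d⁻¹ * ⁅d, e⁆ := by
          rw [← hcc d hd e he d hd, mul_inv_cancel_right, pow_two]
      _ = ⁅d ^ 2, e⁆ := by simp only [commutatorElement_def, pow_two]; group
      _ = 1 := h2
  -- the quotient of `D'` by the involutions
  let mk := QuotientGroup.mk' V
  set W := D'.map mk with hW
  haveI hWn : W.Normal := hDn.map mk (QuotientGroup.mk'_surjective V)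
  letI : CommGroup W :=
    { (inferInstance : Group W) with
      mul_comm := by
        rintro ⟨_, d, hd, rfl⟩ ⟨_, e, he, rfl⟩
        refine Subtype.ext (commutatorElement_eq_one_iff_mul_comm.mp ?_)
        rw [← map_commutatorElement]
        exact (QuotientGroup.eq_one_iff _).mpr (hcomm d hd e he) }
  letI : CommGroup A := { (inferInstance : Group A) with mul_comm := hA.is_comm.comm }
  let f : A →* MulAut W := ((MulAut.conjNormal (H := W)).comp mk).comp A.subtype
  have hfinj : Function.Injective f := by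
    rw [injective_iff_map_eq_one]
    rintro ⟨a, ha⟩ hfa
    have hfix : ∀ d ∈ D', a * d * a⁻¹ = d := by
      intro d hd
      have h := congrArg Subtype.val (DFunLike.congr_fun hfa ⟨mk d, d, hd, rfl⟩)
      simp only [f, MonoidHom.coe_comp, Function.comp_apply, Subgroup.coe_subtype,
        MulAut.conjNormal_apply, MulAut.one_apply] at h
      rw [← map_mul, ← map_inv, ← map_mul] at h
      set v := d⁻¹ * (a * d * a⁻¹) with hv
      have hvV : v ∈ V := QuotientGroup.eq.mp h.symm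
      have hva : a * v * a⁻¹ = v := by
        rw [← Subgroup.mem_centralizer_iff.mp (hAV ha) v hvV, mul_inv_cancel_right]
      have hpow : ∀ i : ℕ, a ^ i * d * (a ^ i)⁻¹ = d * v ^ i := by
        intro i
        induction i with
        | zero => simp
        | succ i ih =>
          have e1 : a * d * a⁻¹ = d * v := by rw [hv]; group
          calc a ^ (i + 1) * d * (a ^ (i + 1))⁻¹ = a * (a ^ i * d * (a ^ i)⁻¹) * a⁻¹ := by
                rw [pow_succ']; group
            _ = (a * d * a⁻¹) * (a * v * a⁻¹) ^ i := by rw [ih, conj_pow]; group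
            _ = _ := by rw [hva, e1, pow_succ', mul_assoc]
      have hvs : v ^ s = 1 := by
        have h1 := hpow s
        rw [hexp a ha, one_mul, inv_one, mul_one, left_eq_mul] at h1
        exact h1
      have hv1 : v = 1 :=
        eq_one_of_sq (hs.eq_two_or_odd'.resolve_left hs2) hvs ((hV v).mp hvV)
      rw [hv, inv_mul_eq_one] at hv1
      exact hv1.symm
    have hα : (MulAut.conjNormal a : MulAut Q) = 1 := by
      refine hdet _ trivial ?_ fun d hd => Subtype.ext ?_
      · refine Nat.Coprime.coprime_dvd_left (orderOf_dvd_of_pow_eq_one (n := s) ?_)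
          ((Nat.coprime_primes hs Nat.prime_two).mpr hs2)
        rw [← map_pow, hexp a ha, map_one]
      · rw [MulAut.conjNormal_apply]
        exact hfix _ ⟨d, hd, rfl⟩
    have haQ : a ∈ Q := hQc (Subgroup.mem_centralizer_iff.mpr fun q hq => by
      have h := congrArg Subtype.val (DFunLike.congr_fun hα ⟨q, hq⟩)
      rw [MulAut.conjNormal_apply] at h
      exact (mul_inv_eq_iff_eq_mul.mp h).symm)
    obtain ⟨k, hk⟩ := hQ ⟨a, haQ⟩
    refine Subtype.ext (orderOf_eq_one_iff.mp (Nat.eq_one_of_dvd_coprimes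
      (((Nat.coprime_primes hs Nat.prime_two).mpr hs2).pow_right k)
      (orderOf_dvd_of_pow_eq_one (hexp a ha))
      (orderOf_dvd_of_pow_eq_one (by simpa using congrArg Subtype.val hk))))
  have hW2 : ∀ w : W, w ^ 2 = 1 := by
    rintro ⟨_, d, hd, rfl⟩
    refine Subtype.ext ?_
    show mk d ^ 2 = 1
    rw [← map_pow]
    exact (QuotientGroup.eq_one_iff _).mpr (hsq d hd)
  obtain ⟨a, hcardA⟩ := IsPGroup.iff_card.mp
    (show IsPGroup s A from fun x => ⟨1, by rw [pow_one]; exact Subtype.ext (hexp x x.2)⟩)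
  have h4 := four_pow_le_card hs hs2 a f hfinj hW2 (fun x => Subtype.ext (hexp x x.2)) hcardA
  have hVD : Nat.card {x : D' // x ^ 2 = 1} = Nat.card ↥(V ⊓ D') :=
    Nat.card_congr
      { toFun := fun x => ⟨x.1, (hV _).mpr (congrArg Subtype.val x.2), x.1.2⟩
        invFun := fun x => ⟨⟨x, x.2.2⟩, Subtype.ext ((hV _).mp x.2.1)⟩
        left_inv := fun _ => rfl
        right_inv := fun _ => rfl }
  have hclass : (⊤ : Subgroup D').lowerCentralSeries 2 = ⊥ := by
    rw [Subgroup.lowerCentralSeries_succ, Subgroup.lowerCentralSeries_succ,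
      Subgroup.lowerCentralSeries_zero, Subgroup.commutator_eq_bot_iff_le_centralizer,
      Subgroup.commutator_le]
    exact fun x _ y _ => Subgroup.mem_centralizer_iff.mpr fun c _ =>
      Subtype.ext (hcc x x.2 y y.2 c c.2).symm
  have hcube := (CfsgLib.PGroups.card_le_involutions_cube (G := D')
    ((hQ.to_le (Subgroup.map_subtype_le D))) hclass
    (fun x => Subtype.ext (by
      simp only [SubmonoidClass.coe_pow, OneMemClass.coe_one]
      rw [show (4 : ℕ) = 2 * 2 from rfl, pow_mul]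
      exact (hV _).mp (hsq x x.2)))
    (fun x y hx hy => Subtype.ext ((hV _).mp (V.mul_mem ((hV _).mpr (congrArg Subtype.val hx))
      ((hV _).mpr (congrArg Subtype.val hy)))))).1
  rw [hVD] at hcube
  have hsplit : Nat.card W * Nat.card ↥(V ⊓ D') = Nat.card D' := by
    rw [hW, ← Subgroup.relIndex_ker, QuotientGroup.ker_mk', ← Subgroup.inf_relIndex_right,
      mul_comm, ← Subgroup.relIndex_bot_left, ← Subgroup.relIndex_bot_left,
      Subgroup.relIndex_mul_relIndex _ _ _ bot_le inf_le_right]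
  have hle : Nat.card ↥(V ⊓ D') ≤ 2 ^ n := hn ▸ Subgroup.card_le_of_le inf_le_left
  have hWle : Nat.card W ≤ 4 ^ n := by
    rw [← hsplit, pow_succ] at hcube
    calc Nat.card W ≤ Nat.card ↥(V ⊓ D') ^ 2 := Nat.le_of_mul_le_mul_right hcube Nat.card_pos
      _ ≤ (2 ^ n) ^ 2 := Nat.pow_le_pow_left hle 2
      _ = 4 ^ n := by rw [← pow_mul, mul_comm, pow_mul]; norm_num
  rw [hcardA]
  exact Nat.pow_le_pow_right hs.pos ((Nat.pow_le_pow_iff_right (by norm_num)).mp (h4.trans hWle))

/-- Under the orbit hypothesis `T` centralises every `s`-subgroup of small rank it normalises. -/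
theorem le_centralizer_pGroup {T Y Q1 P : Subgroup G} {n r s : ℕ} [Fact r.Prime] (hrn : n < r)
    [Fact s.Prime] (hs2 : s ≠ 2) (hT : IsPGroup 2 T) (hY : IsPGroup r Y) (hP : IsPGroup s P)
    (hYT : Y ≤ Subgroup.normalizer (T : Set G)) (hYP : Y ≤ Subgroup.normalizer (P : Set G))
    (hTP : T ≤ Subgroup.normalizer (P : Set G))
    (hQT : Q1 ≤ T) (hQP : Q1 ≤ Subgroup.centralizer (P : Set G)) (hsq : ∀ t ∈ T, t ^ 2 ∈ Q1)
    (hnoB : ∀ B : Subgroup G, B ≤ T → Q1 ≤ B → B.relIndex T = 2 →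
      ¬ Y ≤ Subgroup.normalizer (B : Set G))
    (hrank : ∀ A : Subgroup G, A ≤ P → IsMulCommutative A → (∀ a ∈ A, a ^ s = 1) →
      Nat.card A ≤ s ^ n) :
    T ≤ Subgroup.centralizer (P : Set G) := by
  classical
  have hs : s.Prime := Fact.out
  obtain ⟨D, hDi, -, hDs, hDc, hdet, -⟩ :=
    CfsgLib.PGroups.InvariantCritical.main (G := (⊤ : Subgroup (MulAut P))) hP le_top
  set D' := D.map P.subtype with hD'
  have hD'P : D' ≤ P := Subgroup.map_subtype_le D
  have hexp : ∀ c ∈ D', c ^ s = 1 := by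
    rintro _ ⟨d, hd, rfl⟩
    rw [← map_pow, (hDs d hd).resolve_right fun h => hs2 h.1, map_one]
  have hnorm : ∀ {X : Subgroup G}, X ≤ Subgroup.normalizer (P : Set G) →
      X ≤ Subgroup.normalizer (D' : Set G) := by
    intro X hX
    rw [CfsgLib.Coprime.le_normalizer_iff_conj_smul]
    intro x hx
    refine Subgroup.eq_of_le_of_card_ge ?_ (CfsgLib.Coprime.card_conj_smul x D').ge
    rw [CfsgLib.Coprime.conj_smul_le_iff]
    rintro _ ⟨d, hd, rfl⟩
    exact ⟨Subgroup.normalizerMonoidHom P ⟨x, hX hx⟩ d, (hDi _ trivial).le ⟨d, hd, rfl⟩, rfl⟩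
  have hcomm : ∀ a ∈ D', ∀ b ∈ D',
      ⁅a, b⁆ ∈ D' ⊓ Subgroup.centralizer (D' : Set G) := by
    rintro _ ⟨a, ha, rfl⟩ _ ⟨b, hb, rfl⟩
    have h := hDc (Subgroup.commutator_mem_commutator ha (Subgroup.mem_top b))
    rw [← map_commutatorElement]
    refine ⟨⟨_, h.1, rfl⟩, Subgroup.mem_centralizer_iff.mpr ?_⟩
    rintro _ ⟨c, hc, rfl⟩
    rw [← map_mul, ← map_mul, Subgroup.mem_centralizer_iff.mp h.2 c hc]
  -- the centre of `D'`
  set Z := D' ⊓ Subgroup.centralizer (D' : Set G) with hZ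
  have hZn : ∀ {X : Subgroup G}, X ≤ Subgroup.normalizer (P : Set G) →
      X ≤ Subgroup.normalizer (Z : Set G) := fun {X} hX =>
    CfsgLib.Coprime.le_normalizer_inf_inf (hnorm hX)
      (CfsgLib.Coprime.le_normalizer_centralizer (hnorm hX))
  have hZc : ∀ a ∈ Z, ∀ b ∈ Z, ⁅a, b⁆ = 1 := fun a ha b hb =>
    commutatorElement_eq_one_iff_mul_comm.mpr (Subgroup.mem_centralizer_iff.mp hb.2 a ha.1)
  have hTZ : T ≤ Subgroup.centralizer (Z : Set G) :=
    le_centralizer_of_orbit hrn hs hs2 hY hYT (hZn hYP) (hZn hTP) hQT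
      (hQP.trans (Subgroup.centralizer_le (inf_le_left.trans hD'P))) hsq hnoB
      (fun c hc => hexp c hc.1) (fun a ha b hb t _ => by rw [hZc a ha b hb]; group)
      (fun a ha b hb c _ => by rw [hZc a ha b hb]; exact Commute.one_left c)
      fun A hA hAc => hrank A (hA.trans (inf_le_left.trans hD'P)) hAc fun a ha => hexp a (hA ha).1
  have hTD : T ≤ Subgroup.centralizer (D' : Set G) :=
    le_centralizer_of_orbit hrn hs hs2 hY hYT (hnorm hYP) (hnorm hTP) hQT
      (hQP.trans (Subgroup.centralizer_le hD'P)) hsq hnoB hexp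
      (fun a ha b hb t ht => by
        rw [← Subgroup.mem_centralizer_iff.mp (hTZ ht) _ (hcomm a ha b hb), mul_inv_cancel_right])
      (fun a ha b hb c hc => (Subgroup.mem_centralizer_iff.mp (hcomm a ha b hb).2 c hc).symm)
      fun A hA hAc => hrank A (hA.trans hD'P) hAc fun a ha => hexp a (hA ha)
  intro t ht
  obtain ⟨k, hk⟩ := hT ⟨t, ht⟩
  set α := Subgroup.normalizerMonoidHom P ⟨t, hTP ht⟩ with hα
  have hα1 : α = 1 := by
    refine hdet _ trivial ?_ fun d hd => Subtype.ext ?_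
    · refine Nat.Coprime.coprime_dvd_left (orderOf_dvd_of_pow_eq_one (n := 2 ^ k) ?_)
        (((Nat.coprime_primes Nat.prime_two hs).mpr (Ne.symm hs2)).pow_left k)
      have h1 : (⟨t, hTP ht⟩ : Subgroup.normalizer (P : Set G)) ^ 2 ^ k = 1 :=
        Subtype.ext (by simpa using congrArg Subtype.val hk)
      rw [hα, ← map_pow, h1, map_one]
    · show t * (d : G) * t⁻¹ = d
      exact mul_inv_eq_iff_eq_mul.mpr
        (Subgroup.mem_centralizer_iff.mp (hTD ht) _ ⟨d, hd, rfl⟩).symm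
  rw [Subgroup.mem_centralizer_iff]
  intro x hx
  have h0 : α ⟨x, hx⟩ = (1 : MulAut P) ⟨x, hx⟩ := DFunLike.congr_fun hα1 _
  have h : t * x * t⁻¹ = x := congrArg Subtype.val h0
  exact (mul_inv_eq_iff_eq_mul.mp h).symm

/-- A `2`-group centralising every `O_s(R)` of an odd solvable group `R` centralises `R`. -/
theorem le_centralizer_of_pCores {T R : Subgroup G} (hT : IsPGroup 2 T) (hR : Odd (Nat.card R))
    (hsol : Group.IsSolvable R) (hTR : T ≤ Subgroup.normalizer (R : Set G))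
    (h : ∀ s : ℕ, s.Prime → T ≤ Subgroup.centralizer
      (((pCore s R).map R.subtype : Subgroup G) : Set G)) :
    T ≤ Subgroup.centralizer (R : Set G) := by
  intro t ht
  rw [Subgroup.mem_centralizer_iff]
  intro k hk
  set c := k⁻¹ * (t * k * t⁻¹) with hc
  have hcR : c ∈ R :=
    R.mul_mem (R.inv_mem hk) ((Subgroup.mem_normalizer_iff.mp (hTR ht) k).mp hk)
  have hcF : (⟨c, hcR⟩ : R) ∈ Subgroup.centralizer (fittingSubgroup R : Set R) := by
    have hle : fittingSubgroup R ≤ Subgroup.centralizer {(⟨c, hcR⟩ : R)} := by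
      rw [CfsgLib.Base.fittingSubgroup_eq_iSup_pCore]
      refine iSup_le fun s f hf => Subgroup.mem_centralizer_singleton_iff.mpr (Subtype.ext ?_)
      have hf1 := Subgroup.mem_centralizer_iff.mp (h s s.2 ht) (f : G) ⟨f, hf, rfl⟩
      have hf2 := Subgroup.mem_centralizer_iff.mp (h s s.2 ht) (k * f * k⁻¹)
        ⟨⟨k, hk⟩ * f * ⟨k, hk⟩⁻¹, Subgroup.Normal.conj_mem inferInstance f hf _, rfl⟩
      have hcf : c * f * c⁻¹ = (f : G) := by
        calc c * f * c⁻¹ = k⁻¹ * (t * k * (t⁻¹ * ((f : G) * t)) * k⁻¹ * t⁻¹) * k := by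
              rw [hc]; group
          _ = k⁻¹ * (t * (k * f * k⁻¹) * t⁻¹) * k := by rw [hf1]; group
          _ = k⁻¹ * (k * f * k⁻¹) * k := by rw [← hf2, mul_inv_cancel_right]
          _ = f := by group
      exact (mul_inv_eq_iff_eq_mul.mp hcf).symm
    exact Subgroup.mem_centralizer_iff.mpr fun f hf =>
      Subgroup.mem_centralizer_singleton_iff.mp (hle hf)
  have htc : t * c * t⁻¹ = c := by
    have hle : (fittingSubgroup R).map R.subtype ≤ Subgroup.centralizer {t} := by
      rw [CfsgLib.Base.fittingSubgroup_eq_iSup_pCore, Subgroup.map_iSup]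
      exact iSup_le fun s f hf => Subgroup.mem_centralizer_singleton_iff.mpr
        (Subgroup.mem_centralizer_iff.mp (h s s.2 ht) f hf)
    have h1 := Subgroup.mem_centralizer_singleton_iff.mp
      (hle ⟨_, CfsgLib.Base.centralizer_fittingSubgroup_le hcF, rfl⟩)
    exact mul_inv_eq_iff_eq_mul.mpr h1.symm
  have hpow : ∀ i : ℕ, t ^ i * k * (t ^ i)⁻¹ = k * c ^ i := by
    intro i
    induction i with
    | zero => simp
    | succ i ih =>
      have e1 : t * k * t⁻¹ = k * c := by rw [hc]; group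
      calc t ^ (i + 1) * k * (t ^ (i + 1))⁻¹ = t * (t ^ i * k * (t ^ i)⁻¹) * t⁻¹ := by
            rw [pow_succ']; group
        _ = (t * k * t⁻¹) * (t * c * t⁻¹) ^ i := by rw [ih, conj_pow]; group
        _ = _ := by rw [htc, e1, pow_succ', mul_assoc]
  obtain ⟨j, hj⟩ := hT ⟨t, ht⟩
  have htj : t ^ 2 ^ j = 1 := by simpa using congrArg Subtype.val hj
  have h1 := hpow (2 ^ j)
  rw [htj, one_mul, inv_one, mul_one, left_eq_mul] at h1
  have hd : orderOf (⟨c, hcR⟩ : R) ∣ Nat.card R := orderOf_dvd_natCard _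
  rw [Subgroup.orderOf_mk] at hd
  have hc1 : c = 1 := orderOf_eq_one_iff.mp (Nat.eq_one_of_dvd_coprimes
    ((Nat.coprime_two_left.mpr hR).pow_left j) (orderOf_dvd_of_pow_eq_one h1) hd)
  rw [hc, inv_mul_eq_one] at hc1
  exact mul_inv_eq_iff_eq_mul.mp hc1.symm |>.symm

/-- A prime divisor of `2 ^ n - 1` exceeding `n`. -/
theorem exists_prime_gt {n : ℕ} (hn : 2 ≤ n) : ∃ r : ℕ, r.Prime ∧ n < r ∧ r ∣ 2 ^ n - 1 := by
  by_cases h2 : n = 2
  · exact ⟨3, by norm_num, by omega, by subst h2; norm_num⟩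
  by_cases h6 : n = 6
  · exact ⟨7, by norm_num, by omega, by subst h6; norm_num⟩
  obtain ⟨r, hr, ho⟩ := CfsgLib.Recog.ZsigmondyPrime.exists_primitive_prime (a := 2) (n := n)
    le_rfl (by omega) fun h => h6 h.2
  haveI := Fact.mk hr
  have h0 : ((2 : ℕ) : ZMod r) ≠ 0 := fun h => by
    rw [h, orderOf_zero] at ho
    omega
  have hdvd := ZMod.orderOf_dvd_card_sub_one h0
  rw [ho] at hdvd
  have := Nat.le_of_dvd (by have := hr.two_le; omega) hdvd
  refine ⟨r, hr, by have := hr.two_le; omega, ?_⟩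
  rw [← ZMod.natCast_eq_zero_iff, Nat.cast_sub Nat.one_le_two_pow, Nat.cast_pow, Nat.cast_one,
    ← ho, pow_orderOf_eq_one, sub_self]

end CfsgLib.FgsB.InvolConj
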