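import Cfsg.Agent.Lib.Coprime.Action
import Cfsg.Agent.Lib.Base.Cores
import Cfsg.Agent.Lib.Base.MinimalNormal
import Cfsg.Agent.Lib.FgsB.InvolConjLocal

/-!
Gross: in a solvable group with trivial odd core, all involutions conjugate and more than one, the
Sylow `2`-subgroup is normal.
-/

set_option autoImplicit false
set_option linter.style.haveILetI false

open Cfsg
open scoped Pointwise commutatorElement

namespace CfsgLib.FgsB.InvolConj

universe u

variable {G : Type u} [Group G] [Finite G]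

/-- A nontrivial element of a `2`-group has an involution among its powers. -/
theorem exists_pow_involution {P : Subgroup G} (hP : IsPGroup 2 P) {g : G} (hg : g ∈ P)
    (h1 : g ≠ 1) : ∃ k : ℕ, g ^ k ≠ 1 ∧ (g ^ k) ^ 2 = 1 := by
  haveI : Fact (Nat.Prime 2) := ⟨Nat.prime_two⟩
  obtain ⟨j, hj⟩ := IsPGroup.iff_orderOf.mp hP ⟨g, hg⟩
  rw [Subgroup.orderOf_mk] at hj
  obtain ⟨i, rfl⟩ : ∃ i, j = i + 1 := by
    refine Nat.exists_eq_succ_of_ne_zero fun h => h1 ?_
    rw [h, pow_zero, orderOf_eq_one_iff] at hj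
    exact hj
  refine ⟨2 ^ i, fun h => ?_, by rw [← pow_mul, ← pow_succ, ← hj, pow_orderOf_eq_one]⟩
  have := Nat.le_of_dvd (by positivity) (orderOf_dvd_of_pow_eq_one h)
  rw [hj, pow_succ] at this
  have := Nat.two_pow_pos i
  omega

/-- A subgroup `S` of index prime to `p` and a normal subgroup of `p`-power index generate. -/
theorem sup_eq_top_of_sylow {X : Type u} [Group X] [Finite X] {p : ℕ} [hp : Fact p.Prime]
    (S : Sylow p X) {N : Subgroup X} {k : ℕ} (hN : N.index = p ^ k) : N ⊔ S = ⊤ := by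
  rw [← Subgroup.index_eq_one]
  exact Nat.eq_one_of_dvd_coprimes
    ((hp.out.coprime_iff_not_dvd.mpr S.not_dvd_index).pow_left k)
    (hN ▸ Subgroup.index_dvd_of_le le_sup_left) (Subgroup.index_dvd_of_le le_sup_right)

/-- The main step of Gross's theorem. -/
theorem odd_index_pCore [Group.IsSolvable G] (hO : pPrimeCore 2 G = ⊥)
    (htwo : ∃ x y : G, x ≠ y ∧ x ≠ 1 ∧ x ^ 2 = 1 ∧ y ≠ 1 ∧ y ^ 2 = 1)
    (hconj : ∀ x y : G, x ≠ 1 → x ^ 2 = 1 → y ≠ 1 → y ^ 2 = 1 → IsConj x y) :
    ¬ 2 ∣ (pCore 2 G).index := by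
  classical
  haveI : Fact (Nat.Prime 2) := ⟨Nat.prime_two⟩
  intro heven
  set Q := pCore 2 G with hQdef
  have hQp : IsPGroup 2 Q := CfsgLib.Base.isPGroup_pCore 2 G
  have hQc : Subgroup.centralizer (Q : Set G) ≤ Q :=
    CfsgLib.Base.centralizer_pCore_le_of_isSolvable hO
  obtain ⟨x₀, y₀, hxy, hx1, hx2, hy1, hy2⟩ := htwo
  have hQne : Q ≠ ⊥ := fun h => by
    have h' := hQc (Subgroup.mem_centralizer_iff.mpr fun q hq => by
      rw [h, SetLike.mem_coe, Subgroup.mem_bot] at hq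
      rw [hq, one_mul, mul_one] : x₀ ∈ Subgroup.centralizer (Q : Set G))
    rw [h, Subgroup.mem_bot] at h'
    exact hx1 h'
  -- the involutions lie in the centre of `Q`
  haveI : Nontrivial Q := (Subgroup.nontrivial_iff_ne_bot Q).mpr hQne
  obtain ⟨z, hz, hz1⟩ := SetLike.exists_of_lt hQp.bot_lt_center
  obtain ⟨k, hk1, hk2⟩ := exists_pow_involution hQp z.2
    fun h => hz1 (Subgroup.mem_bot.mpr (Subtype.ext h))
  have hinv : ∀ x : G, x ^ 2 = 1 → x ∈ Q ∧ x ∈ Subgroup.centralizer (Q : Set G) := by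
    intro x hx
    by_cases h1 : x = 1
    · subst h1; exact ⟨one_mem _, one_mem _⟩
    obtain ⟨g, rfl⟩ := isConj_iff.mp (hconj _ x hk1 hk2 h1 hx)
    haveI : (Subgroup.centralizer (Q : Set G)).Normal := inferInstance
    refine ⟨Subgroup.Normal.conj_mem inferInstance _ (Q.pow_mem z.2 k) g,
      Subgroup.Normal.conj_mem inferInstance _ (Subgroup.pow_mem _ ?_ k) g⟩
    exact Subgroup.mem_centralizer_iff.mpr fun q hq =>
      congrArg Subtype.val (Subgroup.mem_center_iff.mp hz ⟨q, hq⟩)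
  let V : Subgroup G :=
    { carrier := {x | x ^ 2 = 1}
      one_mem' := one_pow 2
      mul_mem' := fun {a b} ha hb => by
        have h : Commute a b :=
          (Subgroup.mem_centralizer_iff.mp (hinv b hb).2 a (hinv a ha).1)
        show (a * b) ^ 2 = 1
        rw [h.mul_pow, show a ^ 2 = 1 from ha, show b ^ 2 = 1 from hb, one_mul]
      inv_mem' := fun {a} ha => by
        show a⁻¹ ^ 2 = 1
        rw [inv_pow, show a ^ 2 = 1 from ha, inv_one] }
  have hV : ∀ x, x ∈ V ↔ x ^ 2 = 1 := fun x => Iff.rfl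
  haveI hVn : V.Normal := ⟨fun x hx g => by rw [hV, conj_pow, (hV x).mp hx, mul_one, mul_inv_cancel]⟩
  have hVQ : V ≤ Q := fun x hx => (hinv x hx).1
  have hVc : V ≤ Subgroup.centralizer (Q : Set G) := fun x hx => (hinv x hx).2
  have hQV : Q ≤ Subgroup.centralizer (V : Set G) := Subgroup.le_centralizer_iff.mp hVc
  -- a nontrivial `G`-invariant subgroup of `V` is `V`
  have hVmin : ∀ W : Subgroup G, W ≤ V → W ≠ ⊥ → (∀ g, ∀ w ∈ W, g * w * g⁻¹ ∈ W) → V ≤ W := by
    intro W hW hne hinvW v hv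
    obtain ⟨⟨w, hw⟩, hw1⟩ := (Subgroup.ne_bot_iff_exists_ne_one (H := W)).mp hne
    by_cases hv1 : v = 1
    · subst hv1; exact one_mem _
    obtain ⟨g, rfl⟩ := isConj_iff.mp
      (hconj w v (fun h => hw1 (Subtype.ext h)) (hW hw) hv1 hv)
    exact hinvW g w hw
  -- the odd core modulo `Q`
  set Lbar := pPrimeCore 2 (G ⧸ Q) with hLbar
  have hLodd : Odd (Nat.card Lbar) :=
    Nat.coprime_two_right.mp (CfsgLib.Base.pPrimeCore_coprime 2 (G ⧸ Q))
  set L := Lbar.comap (QuotientGroup.mk' Q) with hL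
  have hQL : Q ≤ L := fun q hq => by
    rw [hL, Subgroup.mem_comap, QuotientGroup.mk'_apply, (QuotientGroup.eq_one_iff q).mpr hq]
    exact one_mem _
  have hQLrel : Q.relIndex L = Nat.card Lbar := by
    have h := Subgroup.relIndex_ker L (QuotientGroup.mk' Q)
    rwa [QuotientGroup.ker_mk', hL,
      Subgroup.map_comap_eq_self_of_surjective (QuotientGroup.mk'_surjective Q)] at h
  obtain ⟨i, hi⟩ := IsPGroup.iff_card.mp hQp
  obtain ⟨R, hRL, hRcard, hQR⟩ := CfsgLib.Coprime.exists_complement_in hQL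
    (le_top.trans (Subgroup.normalizer_eq_top_iff.mpr inferInstance).ge)
    (by rw [hi, hQLrel]; exact (Nat.coprime_two_left.mpr hLodd).pow_left i)
  rw [hQLrel] at hRcard
  have hRodd : Odd (Nat.card R) := hRcard ▸ hLodd
  have hQRcop : (Nat.card Q).Coprime (Nat.card R) := by
    rw [hi]; exact (Nat.coprime_two_left.mpr hRodd).pow_left i
  have hRne : R ≠ ⊥ := by
    intro h
    have h1 : Lbar = ⊥ := Subgroup.card_eq_one.mp (hRcard ▸ Subgroup.card_eq_one.mpr h)
    haveI : Nontrivial (G ⧸ Q) := by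
      rw [← Finite.one_lt_card_iff_nontrivial, ← Subgroup.index_eq_card]
      exact lt_of_lt_of_le one_lt_two (Nat.le_of_dvd (Nat.pos_of_ne_zero
        Subgroup.index_ne_zero_of_finite) heven)
    obtain ⟨p, N, hp, hN, hN1, -, hNp⟩ :=
      CfsgLib.Coprime.exists_normal_elementaryAbelian (G := G ⧸ Q)
    haveI := Fact.mk hp
    have hpg : IsPGroup p N := fun x => ⟨1, by rw [pow_one]; exact Subtype.ext (hNp x x.2)⟩
    by_cases h2 : p = 2
    · subst h2
      refine hN1 (le_bot_iff.mp (le_trans (CfsgLib.Base.le_pCore hpg) ?_))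
      exact (CfsgLib.Base.pCore_quotient_pCore 2 G).le
    · refine hN1 (le_bot_iff.mp (le_trans (CfsgLib.Base.le_pPrimeCore ?_) h1.le))
      obtain ⟨j, hj⟩ := IsPGroup.iff_card.mp hpg
      rw [hj]
      exact ((Nat.coprime_primes hp Nat.prime_two).mpr h2).pow_left j
  -- Frattini
  set H := Subgroup.normalizer (R : Set G) with hH
  have hRH : R ≤ H := Subgroup.le_normalizer
  haveI hLn : L.Normal := Subgroup.Normal.comap inferInstance _
  have hGQH : ∀ g : G, ∃ q ∈ Q, ∃ h ∈ H, g = q * h := by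
    intro g
    have hK : MulAut.conj g • R ≤ L := by
      rw [CfsgLib.Coprime.conj_smul_le_iff]
      exact fun r hr => hLn.conj_mem r (hRL hr) g
    have hnQ : ∀ X : Subgroup G, X ≤ Subgroup.normalizer (Q : Set G) := fun X =>
      le_top.trans (Subgroup.normalizer_eq_top_iff.mpr inferInstance).ge
    obtain ⟨a, ha, hconjR⟩ := CfsgLib.Coprime.sz_conj_rel (hnQ R) (hnQ _) hQRcop
      (CfsgLib.Coprime.card_conj_smul g R) (hQR.symm ▸ hK) (Or.inl inferInstance)
    refine ⟨a, ha, a⁻¹ * g, ?_, (mul_inv_cancel_left a g).symm⟩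
    rw [hH, CfsgLib.Coprime.mem_normalizer_iff_conj_smul, map_mul, mul_smul, ← hconjR, ← mul_smul,
      ← map_mul, inv_mul_cancel, map_one, one_smul]
  have hQHR : ∀ x ∈ Q, x ∈ H → x ∈ Subgroup.centralizer (R : Set G) := by
    intro x hxQ hxH
    rw [Subgroup.mem_centralizer_iff]
    intro r hr
    have h1 : x * r * x⁻¹ * r⁻¹ ∈ Q ⊓ R :=
      ⟨by
        rw [show x * r * x⁻¹ * r⁻¹ = x * (r * x⁻¹ * r⁻¹) by group]
        exact Q.mul_mem hxQ (Subgroup.Normal.conj_mem inferInstance _ (Q.inv_mem hxQ) r),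
       R.mul_mem ((Subgroup.mem_normalizer_iff.mp hxH r).mp hr) (R.inv_mem hr)⟩
    rw [CfsgLib.Coprime.inf_eq_bot_of_coprime hQRcop, Subgroup.mem_bot, mul_inv_eq_one,
      mul_inv_eq_iff_eq_mul] at h1
    exact h1.symm
  -- `R` centralises the involutions
  have hVR : V ≤ Subgroup.centralizer (R : Set G) := by
    set W := V ⊓ Subgroup.centralizer (R : Set G) with hW
    have hWinv : ∀ g, ∀ w ∈ W, g * w * g⁻¹ ∈ W := by
      intro g w hw
      obtain ⟨q, hq, h, hh, rfl⟩ := hGQH g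
      have h1 : h * w * h⁻¹ ∈ W :=
        ⟨hVn.conj_mem w hw.1 h, (Subgroup.mem_normalizer_iff.mp
          ((CfsgLib.Coprime.le_normalizer_centralizer le_rfl) hh) w).mp hw.2⟩
      have h2 : q * (h * w * h⁻¹) * q⁻¹ = h * w * h⁻¹ := by
        rw [← Subgroup.mem_centralizer_iff.mp (hQV hq) _ h1.1, mul_inv_cancel_right]
      rw [show q * h * w * (q * h)⁻¹ = q * (h * w * h⁻¹) * q⁻¹ by group, h2]
      exact h1
    by_cases hne : W = ⊥
    · exfalso
      have hsurj : Function.Surjective ((QuotientGroup.mk' Q).comp H.subtype) := by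
        intro x
        obtain ⟨g, rfl⟩ := QuotientGroup.mk'_surjective Q x
        obtain ⟨q, hq, h, hh, rfl⟩ := hGQH g
        refine ⟨⟨h, hh⟩, ?_⟩
        rw [map_mul, MonoidHom.comp_apply, QuotientGroup.mk'_apply, QuotientGroup.mk'_apply,
          QuotientGroup.mk'_apply, (QuotientGroup.eq_one_iff q).mpr hq, one_mul]
        rfl
      have h2 : 2 ∣ Nat.card H :=
        heven.trans (Subgroup.index_eq_card Q ▸ Subgroup.card_dvd_of_surjective _ hsurj)
      obtain ⟨⟨x, hxH⟩, hx⟩ := exists_prime_orderOf_dvd_card' 2 h2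
      rw [Subgroup.orderOf_mk] at hx
      have hxV : x ∈ V := by rw [hV, ← hx, pow_orderOf_eq_one]
      have hxW : x ∈ W := ⟨hxV, hQHR x (hVQ hxV) hxH⟩
      rw [hne, Subgroup.mem_bot] at hxW
      rw [hxW, orderOf_one] at hx
      omega
    exact (hVmin W inf_le_left hne hWinv).trans inf_le_right
  have hLV : L ≤ Subgroup.centralizer (V : Set G) := by
    rw [← hQR]
    exact sup_le hQV (Subgroup.le_centralizer_iff.mp hVR)
  have hVH : V ≤ H := hVR.trans (Subgroup.centralizer_le_normalizer _)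
  -- the next layer
  have hL2 : ∀ x ∈ L, ∀ k : ℕ, x ^ 2 ^ k = 1 → x ∈ Q := by
    intro x hx k hk
    have hx' : QuotientGroup.mk' Q x ∈ Lbar := hx
    have hd : orderOf (⟨_, hx'⟩ : Lbar) ∣ Nat.card Lbar := orderOf_dvd_natCard _
    rw [Subgroup.orderOf_mk] at hd
    refine (QuotientGroup.eq_one_iff x).mp (orderOf_eq_one_iff.mp (Nat.eq_one_of_dvd_coprimes
      ((Nat.coprime_two_left.mpr hLodd).pow_left k) (orderOf_dvd_of_pow_eq_one ?_) hd))
    rw [← QuotientGroup.mk_pow, hk, QuotientGroup.mk_one]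
  have hLtop : L ≠ ⊤ := by
    intro h
    rw [h, Subgroup.relIndex_top_right] at hQLrel
    rw [hQLrel] at heven
    exact (Nat.coprime_two_left.mpr hLodd |> Nat.prime_two.coprime_iff_not_dvd.mp) heven
  haveI : Nontrivial (G ⧸ L) := by
    rw [← Finite.one_lt_card_iff_nontrivial, ← Subgroup.index_eq_card]
    exact Subgroup.one_lt_index_of_ne_top hLtop
  obtain ⟨p, Nb, hp, hNb, hNb1, -, hNbp⟩ :=
    CfsgLib.Coprime.exists_normal_elementaryAbelian (G := G ⧸ L)
  haveI := Fact.mk hp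
  set M0 := Nb.comap (QuotientGroup.mk' L) with hM0
  haveI hM0n : M0.Normal := Subgroup.Normal.comap inferInstance _
  have hLM0 : L ≤ M0 := fun x hx => by
    rw [hM0, Subgroup.mem_comap, QuotientGroup.mk'_apply, (QuotientGroup.eq_one_iff x).mpr hx]
    exact one_mem _
  have hLM0rel : L.relIndex M0 = Nat.card Nb := by
    have h := Subgroup.relIndex_ker M0 (QuotientGroup.mk' L)
    rwa [QuotientGroup.ker_mk', hM0,
      Subgroup.map_comap_eq_self_of_surjective (QuotientGroup.mk'_surjective L)] at h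
  have hnotle : ¬ M0 ≤ L := fun h => hNb1 <| Subgroup.card_eq_one.mp <|
    hLM0rel ▸ Subgroup.relIndex_eq_one.mpr h
  obtain rfl : p = 2 := by
    by_contra h2
    refine hnotle ?_
    haveI hmn : (M0.map (QuotientGroup.mk' Q)).Normal :=
      hM0n.map _ (QuotientGroup.mk'_surjective Q)
    have hle : M0.map (QuotientGroup.mk' Q) ≤ Lbar := by
      refine CfsgLib.Base.le_pPrimeCore ?_
      rw [← Subgroup.relIndex_ker, QuotientGroup.ker_mk',
        ← Subgroup.relIndex_mul_relIndex _ _ _ hQL hLM0, hQLrel, hLM0rel]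
      obtain ⟨j, hj⟩ := IsPGroup.iff_card.mp
        (show IsPGroup p Nb from fun x => ⟨1, by rw [pow_one]; exact Subtype.ext (hNbp x x.2)⟩)
      rw [hj]
      exact (Nat.coprime_two_right.mpr hLodd).mul_left
        (((Nat.coprime_primes hp Nat.prime_two).mpr h2).pow_left j)
    exact fun x hx => hle ⟨x, hx, rfl⟩
  set M := M0 ⊓ H with hM
  obtain ⟨P⟩ : Nonempty (Sylow 2 M) := inferInstance
  set T := (P : Subgroup M).map M.subtype with hT
  have hTM : T ≤ M := Subgroup.map_subtype_le _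
  have hTH : T ≤ H := hTM.trans inf_le_right
  have hTp : IsPGroup 2 T := P.2.map _
  set Q1 := Q ⊓ H with hQ1
  have hQ1M : Q1 ≤ M := inf_le_inf_right _ (hQL.trans hLM0)
  have hQ1T : Q1 ≤ T := by
    haveI : (Q1.subgroupOf M).Normal := by
      refine Subgroup.normal_subgroupOf_of_le_normalizer ?_
      exact CfsgLib.Coprime.le_normalizer_inf_inf
        (le_top.trans (Subgroup.normalizer_eq_top_iff.mpr inferInstance).ge)
        (inf_le_right.trans Subgroup.le_normalizer)
    have h1 : Q1.subgroupOf M ≤ (P : Subgroup M) := (CfsgLib.Base.le_pCore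
      ((hQp.to_le inf_le_left).of_equiv (Subgroup.subgroupOfEquivOfLe hQ1M).symm)).trans
      (CfsgLib.Base.pCore_le_sylow P)
    rw [hT, ← Subgroup.map_subgroupOf_eq_of_le hQ1M]
    exact Subgroup.map_mono h1
  have hVT : V ≤ T := (le_inf hVQ hVH).trans hQ1T
  have hTsq : ∀ t ∈ T, t ^ 2 ∈ Q1 := by
    intro t ht
    obtain ⟨k, hk⟩ := hTp ⟨t, ht⟩
    have htL : t ^ 2 ∈ L := by
      rw [← QuotientGroup.eq_one_iff, QuotientGroup.mk_pow]
      exact hNbp _ (hTM ht).1
    refine ⟨hL2 _ htL k ?_, H.pow_mem (hTH ht) 2⟩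
    rw [← pow_mul, mul_comm, pow_mul, show t ^ 2 ^ k = 1 by simpa using congrArg Subtype.val hk,
      one_pow]
  -- Frattini in `H`
  set N := H ⊓ Subgroup.normalizer (T : Set G) with hN
  have hMn : H ≤ Subgroup.normalizer (M : Set G) :=
    CfsgLib.Coprime.le_normalizer_inf_inf
      (le_top.trans (Subgroup.normalizer_eq_top_iff.mpr inferInstance).ge) Subgroup.le_normalizer
  have hHMN : ∀ h ∈ H, ∃ m ∈ M, ∃ x ∈ N, h = m * x := by
    intro h hh
    have h₀ := CfsgLib.Coprime.piHallOf_map_subtype (CfsgLib.Coprime.sylow_isPiHall P)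
    obtain ⟨m, hm, hmT⟩ := (CfsgLib.Coprime.hallD_singleton (G := M) (p := 2)).conj_piHallOf h₀
      (CfsgLib.Coprime.piHallOf_conj_smul (hMn hh) h₀)
    refine ⟨m, hm, m⁻¹ * h, ⟨H.mul_mem (H.inv_mem hm.2) hh, ?_⟩, (mul_inv_cancel_left m h).symm⟩
    show m⁻¹ * h ∈ Subgroup.normalizer (T : Set G)
    rw [CfsgLib.Coprime.mem_normalizer_iff_conj_smul, map_mul, mul_smul, hT, ← hmT, ← mul_smul,
      ← map_mul, inv_mul_cancel, map_one, one_smul]
  have hMLT : ∀ m ∈ M, ∃ l ∈ L, l ∈ H ∧ ∃ t ∈ T, m = l * t := by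
    intro m hm
    haveI : (L.subgroupOf M).Normal := inferInstance
    obtain ⟨k, hk⟩ := IsPGroup.iff_card.mp (show IsPGroup 2 (M ⧸ L.subgroupOf M) from fun x => by
      obtain ⟨y, rfl⟩ := QuotientGroup.mk'_surjective _ x
      refine ⟨1, ?_⟩
      rw [pow_one, ← map_pow]
      refine (QuotientGroup.eq_one_iff _).mpr ?_
      rw [Subgroup.mem_subgroupOf, SubmonoidClass.coe_pow, ← QuotientGroup.eq_one_iff,
        QuotientGroup.mk_pow]
      exact hNbp _ y.2.1)
    have htop := sup_eq_top_of_sylow P (N := L.subgroupOf M) (k := k)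
      (by rw [Subgroup.index_eq_card, hk])
    obtain ⟨a, ha, b, hb, hab⟩ := Subgroup.mem_sup_of_normal_left.mp
      (htop ▸ Subgroup.mem_top (⟨m, hm⟩ : M))
    exact ⟨a, ha, a.2.2, b, ⟨b, hb, rfl⟩, (congrArg Subtype.val hab).symm⟩
  -- `T` centralises the involutions
  have hTV : T ≤ Subgroup.centralizer (V : Set G) := by
    set W := V ⊓ Subgroup.centralizer (T : Set G) with hW
    have hne : W ≠ ⊥ := by
      have h2 : 2 ∣ Nat.card V := by
        have hxV : x₀ ∈ V := hx2
        have := orderOf_dvd_natCard (⟨x₀, hxV⟩ : V)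
        rwa [Subgroup.orderOf_mk, orderOf_eq_prime hx2 hx1] at this
      letI : MulAction T V :=
        MulAction.compHom _ ((MulAut.conjNormal (H := V)).comp T.subtype)
      obtain ⟨v, hv, hv1⟩ := hTp.exists_fixed_point_of_prime_dvd_card_of_fixed_point (α := V) h2
        (a := 1) fun t => map_one (MulAut.conjNormal (H := V) (t : G))
      refine (Subgroup.ne_bot_iff_exists_ne_one).mpr ⟨⟨v, v.2, ?_⟩, fun h => hv1 ?_⟩
      · show (v : G) ∈ Subgroup.centralizer (T : Set G)
        rw [Subgroup.mem_centralizer_iff]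
        intro t ht
        have h := congrArg Subtype.val (hv ⟨t, ht⟩)
        exact mul_inv_eq_iff_eq_mul.mp h
      · exact Subtype.ext (congrArg Subtype.val h).symm
    have hinvW : ∀ g, ∀ w ∈ W, g * w * g⁻¹ ∈ W := by
      intro g w hw
      obtain ⟨q, hq, h, hh, rfl⟩ := hGQH g
      obtain ⟨m, hm, x, hx, rfl⟩ := hHMN h hh
      obtain ⟨l, hl, -, t, ht, rfl⟩ := hMLT m hm
      have h1 : x * w * x⁻¹ ∈ W := ⟨hVn.conj_mem w hw.1 x, (Subgroup.mem_normalizer_iff.mp
        ((CfsgLib.Coprime.le_normalizer_centralizer le_rfl) hx.2) w).mp hw.2⟩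
      have hfix : ∀ a, a ∈ Subgroup.centralizer (V : Set G) →
          a * (x * w * x⁻¹) * a⁻¹ = x * w * x⁻¹ := fun a ha => by
        rw [← Subgroup.mem_centralizer_iff.mp ha _ h1.1, mul_inv_cancel_right]
      have ht' : t * (x * w * x⁻¹) * t⁻¹ = x * w * x⁻¹ := by
        rw [Subgroup.mem_centralizer_iff.mp h1.2 t ht, mul_inv_cancel_right]
      rw [show q * (l * t * x) * w * (q * (l * t * x))⁻¹ =
        q * (l * (t * (x * w * x⁻¹) * t⁻¹) * l⁻¹) * q⁻¹ by group, ht', hfix l (hLV hl),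
        hfix q (hQV hq)]
      exact h1
    exact Subgroup.le_centralizer_iff.mp ((hVmin W inf_le_left hne hinvW).trans inf_le_right)
  have hact : ∀ g, ∃ x ∈ N, ∀ v ∈ V, g * v * g⁻¹ = x * v * x⁻¹ := by
    intro g
    obtain ⟨q, hq, h, hh, rfl⟩ := hGQH g
    obtain ⟨m, hm, x, hx, rfl⟩ := hHMN h hh
    obtain ⟨l, hl, -, t, ht, rfl⟩ := hMLT m hm
    refine ⟨x, hx, fun v hv => ?_⟩
    have hc : q * l * t ∈ Subgroup.centralizer (V : Set G) :=
      Subgroup.mul_mem _ (Subgroup.mul_mem _ (hQV hq) (hLV hl)) (hTV ht)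
    rw [show q * (l * t * x) * v * (q * (l * t * x))⁻¹ =
      q * l * t * (x * v * x⁻¹) * (q * l * t)⁻¹ by group,
      ← Subgroup.mem_centralizer_iff.mp hc _ (hVn.conj_mem v hv x), mul_inv_cancel_right]
  -- the prime `r`
  obtain ⟨n, hn⟩ := IsPGroup.iff_card.mp
    (show IsPGroup 2 V from fun x => ⟨1, by rw [pow_one]; exact Subtype.ext x.2⟩)
  have hn2 : 2 ≤ n := by
    have h3 : Nat.card ({1, x₀, y₀} : Set G) ≤ Nat.card V :=
      Nat.card_mono (Set.toFinite _) (by
        rintro v (rfl | rfl | rfl)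
        exacts [one_mem _, hx2, hy2])
    rw [Nat.card_coe_set_eq, Set.ncard_eq_three.mpr
      ⟨1, x₀, y₀, Ne.symm hx1, Ne.symm hy1, hxy, rfl⟩, hn] at h3
    by_contra h
    interval_cases n <;> simp at h3
  obtain ⟨r, hr, hrn, hrdvd⟩ := exists_prime_gt hn2
  haveI := Fact.mk hr
  obtain ⟨Ys⟩ : Nonempty (Sylow r N) := inferInstance
  set Y := (Ys : Subgroup N).map N.subtype with hY
  have hYN : Y ≤ N := Subgroup.map_subtype_le _
  have hYr : IsPGroup r Y := Ys.2.map _
  have hYinv : ∀ v ∈ V, v ∈ Subgroup.centralizer (Y : Set G) → v = 1 := by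
    intro v hv hvY
    by_contra hv1
    let : MulAction N G := MulAction.compHom G ((MulAut.conj : G →* MulAut G).comp N.subtype)
    have hsmul : ∀ (x : N) (w : G), x • w = (x : G) * w * (x : G)⁻¹ := fun _ _ => rfl
    have horb : MulAction.orbit N v = (V : Set G) \ {1} := by
      ext w
      constructor
      · rintro ⟨x, rfl⟩
        refine ⟨hVn.conj_mem v hv x, fun h => hv1 ?_⟩
        simpa [hsmul, mul_inv_eq_one] using h
      · rintro ⟨hw, hw1⟩
        obtain ⟨g, rfl⟩ := isConj_iff.mp (hconj v w hv1 hv hw1 hw)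
        obtain ⟨x, hx, hgx⟩ := hact g
        exact ⟨⟨x, hx⟩, (hgx v hv).symm⟩
    have hle : (Ys : Subgroup N) ≤ MulAction.stabilizer N v := fun y hy => by
      rw [MulAction.mem_stabilizer_iff, hsmul,
        Subgroup.mem_centralizer_iff.mp hvY (y : G) ⟨y, hy, rfl⟩, mul_inv_cancel_right]
    refine Ys.not_dvd_index (dvd_trans ?_ (Subgroup.index_dvd_of_le hle))
    rw [MulAction.index_stabilizer, horb, Set.ncard_sdiff_singleton_of_mem (one_mem V)]
    rwa [← Nat.card_coe_set_eq, show Nat.card ((V : Set G)) = Nat.card V from rfl, hn]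
  have hnoB : ∀ B : Subgroup G, B ≤ T → Q1 ≤ B → B.relIndex T = 2 →
      ¬ Y ≤ Subgroup.normalizer (B : Set G) := by
    intro B hBT _ hB2 hYB
    obtain ⟨k, hkT, hkB⟩ : ∃ k ∈ T, k ∉ B := by
      by_contra! h
      rw [Subgroup.relIndex_eq_one.mpr h] at hB2
      omega
    have hcop : (Nat.card Y).Coprime (Nat.card B) := by
      obtain ⟨a, ha⟩ := IsPGroup.iff_card.mp hYr
      obtain ⟨b, hb⟩ := IsPGroup.iff_card.mp (hTp.to_le hBT)
      rw [ha, hb]
      exact Nat.Coprime.pow _ _ ((Nat.coprime_primes hr Nat.prime_two).mpr (by omega))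
    have hmem : ∀ a ∈ T, ∀ b ∈ T, a * b ∈ B ↔ (a ∈ B ↔ b ∈ B) := fun a ha b hb => by
      have h := Subgroup.mul_mem_iff_of_index_two (H := B.subgroupOf T)
        (a := (⟨a, ha⟩ : T)) (b := ⟨b, hb⟩) hB2
      simpa [Subgroup.mem_subgroupOf] using h
    obtain ⟨c, hcY, hck⟩ := CfsgLib.Coprime.exists_centralizing_in_coset hYB hcop
      (Or.inr (inferInstance : Group.IsSolvable B)) (k := k) fun y hy => by
        have hyT : y * k * y⁻¹ ∈ T :=
          (Subgroup.mem_normalizer_iff.mp (hYN hy).2 k).mp hkT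
        refine (hmem _ (T.inv_mem hkT) _ hyT).mpr (iff_of_false (fun h => hkB ?_) fun h => hkB ?_)
        · simpa using B.inv_mem h
        · exact (Subgroup.mem_normalizer_iff.mp (hYB hy) k).mpr h
    have hcT : c ∈ T := by simpa using T.mul_mem hkT (hBT hck)
    have hc1 : c ≠ 1 := fun h => hkB (by simpa [h] using B.inv_mem hck)
    obtain ⟨j, hj1, hj2⟩ := exists_pow_involution hTp hcT hc1
    exact hj1 (hYinv _ hj2 (Subgroup.pow_mem _ hcY j))
  -- `T` centralises `R`
  have hTR : T ≤ Subgroup.centralizer (R : Set G) := by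
    refine le_centralizer_of_pCores hTp hRodd inferInstance hTH fun s hs => ?_
    haveI := Fact.mk hs
    set Ps := (pCore s R).map R.subtype with hPs
    have hPR : Ps ≤ R := Subgroup.map_subtype_le _
    by_cases hs2 : s = 2
    · subst hs2
      have hbot : pCore 2 R = ⊥ := by
        obtain ⟨j, hj⟩ := CfsgLib.Base.pCore_eq_pow_card 2 R
        refine Subgroup.card_eq_one.mp (Nat.eq_one_of_dvd_coprimes
          ((Nat.coprime_two_left.mpr hRodd).pow_left j) hj.dvd (Subgroup.card_subgroup_dvd_card _))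
      intro t _
      rw [Subgroup.mem_centralizer_iff]
      rintro _ ⟨f, hf, rfl⟩
      rw [hbot] at hf
      rw [Subgroup.mem_bot.mp hf, map_one, one_mul, mul_one]
    have hHP : H ≤ Subgroup.normalizer (Ps : Set G) :=
      CfsgLib.Base.normalizer_le_normalizer_map_subtype R _
    refine le_centralizer_pGroup hrn hs2 hTp hYr (CfsgLib.Base.isPGroup_map_pCore s R)
      (hYN.trans inf_le_right) ((hYN.trans inf_le_left).trans hHP) (hTH.trans hHP) hQ1T ?_ hTsq
      hnoB fun A hA hAc hAe => ?_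
    · exact fun x hx => Subgroup.centralizer_le hPR (hQHR x hx.1 hx.2)
    · exact card_le_pow_of_centralizes hQp hQc hV hVc hn hAc hs hs2 hAe
        ((hA.trans hPR).trans (Subgroup.le_centralizer_iff.mp hVR))
  -- hence `T` is normal modulo `Q`
  have hMT : M ≤ Subgroup.normalizer (T : Set G) := by
    intro m hm
    obtain ⟨l, hl, hlH, t, ht, rfl⟩ := hMLT m hm
    refine Subgroup.mul_mem _ ?_ (Subgroup.le_normalizer ht)
    rw [← hQR] at hl
    obtain ⟨q, hq, x, hx, rfl⟩ := Subgroup.mem_sup_of_normal_left.mp hl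
    have hqH : q ∈ H := by simpa using H.mul_mem hlH (H.inv_mem (hRH hx))
    exact Subgroup.mul_mem _ (Subgroup.le_normalizer (hQ1T ⟨hq, hqH⟩))
      (Subgroup.centralizer_le_normalizer _ (Subgroup.le_centralizer_iff.mp hTR hx))
  have hHT : H ≤ Subgroup.normalizer (T : Set G) := fun h hh => by
    obtain ⟨m, hm, x, hx, rfl⟩ := hHMN h hh
    exact Subgroup.mul_mem _ (hMT hm) hx.2
  haveI hQTn : (Q ⊔ T).Normal := by
    rw [← Subgroup.normalizer_eq_top_iff, eq_top_iff]
    intro g _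
    obtain ⟨q, hq, h, hh, rfl⟩ := hGQH g
    exact Subgroup.mul_mem _ (Subgroup.le_normalizer (Subgroup.mem_sup_left hq))
      ((CfsgLib.Coprime.le_normalizer_sup_sup
        (le_top.trans (Subgroup.normalizer_eq_top_iff.mpr inferInstance).ge) hHT) hh)
  have hTQ : T ≤ Q := le_sup_right.trans (CfsgLib.Base.le_pCore (hQp.to_sup_of_normal_left hTp))
  refine hnotle fun x hx => ?_
  obtain ⟨q, hq, h, hh, rfl⟩ := hGQH x
  have hhM : h ∈ M := ⟨by simpa using M0.mul_mem (M0.inv_mem (hLM0 (hQL hq))) hx, hh⟩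
  obtain ⟨l, hl, -, t, ht, rfl⟩ := hMLT h hhM
  exact L.mul_mem (hQL hq) (L.mul_mem hl (hQL (hTQ ht)))

end CfsgLib.FgsB.InvolConj
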