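import Mathlib

/-!
Wielandt's count of the subgroups of a given prime power order.
-/

set_option autoImplicit false

namespace CfsgLib.FgsB

open scoped Pointwise
open MulAction

/-- An invariant part of an action all of whose orbits have size divisible by `d`. -/
theorem dvd_card_of_forall_dvd_orbit {G X : Type*} [Group G] [MulAction G X] [Finite X] (d : ℕ)
    (h : ∀ x : X, d ∣ Nat.card (orbit G x)) : d ∣ Nat.card X := by
  classical
  have : Fintype (Quotient (orbitRel G X)) := Fintype.ofFinite _
  rw [Nat.card_congr (selfEquivSigmaOrbits' G X), Nat.card_sigma]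
  refine Finset.dvd_sum fun ω _ => ?_
  have := orbitRel.Quotient.orbit_eq_orbit_out ω Quotient.out_eq'
  rw [this]
  exact h _

variable {G : Type*} [Group G] [Finite G]

/-- Wielandt: the number of subgroups of order `p ^ β`, times the index, is congruent to the
binomial coefficient. -/
theorem choose_modEq_index_mul_count (p β : ℕ) (hp : p.Prime) (q : ℕ)
    (hq : Nat.card G = p ^ β * q) :
    (Nat.card G).choose (p ^ β) ≡ Nat.card {H : Subgroup G // Nat.card H = p ^ β} * q
      [MOD p * q] := by
  classical
  have : Fintype G := Fintype.ofFinite G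
  obtain ⟨m, hm⟩ : ∃ m, m = p ^ β := ⟨_, rfl⟩
  rw [← hm] at hq ⊢
  have hmpos : 0 < m := hm ▸ pow_pos hp.pos _
  have hcardX : Nat.card (Set.powersetCard G m) = (Nat.card G).choose m := Set.powersetCard.card G m
  -- the stabilizer divides `m`
  have hdvd : ∀ s : (Set.powersetCard G m), Nat.card (stabilizer G s) ∣ m := by
    intro s
    obtain ⟨s, hs⟩ := s
    set St := stabilizer G (⟨s, hs⟩ : (Set.powersetCard G m)) with hSt
    have hmem : ∀ g ∈ St, ∀ a ∈ s, g * a ∈ s := by
      intro g hg a ha
      have h1 : g • (⟨s, hs⟩ : (Set.powersetCard G m)) = ⟨s, hs⟩ := hg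
      have h2 := congrArg Subtype.val h1
      simp only [Set.powersetCard.coe_smul] at h2
      rw [← h2]
      exact Finset.smul_mem_smul_finset ha
    let act : MulAction St {a // a ∈ s} :=
      { smul := fun g a => ⟨g.1 * a.1, hmem g.1 g.2 a.1 a.2⟩
        one_smul := fun a => Subtype.ext (one_mul a.1)
        mul_smul := fun g h a => Subtype.ext (mul_assoc g.1 h.1 a.1) }
    have horb : ∀ a : {a // a ∈ s}, Nat.card St ∣ Nat.card (orbit St a) := by
      intro a
      have hst : stabilizer St a = ⊥ := by
        rw [Subgroup.eq_bot_iff_forall]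
        intro g hg
        have : g.1 * a.1 = a.1 := congrArg Subtype.val hg
        exact Subtype.ext (mul_eq_right.mp this)
      rw [Nat.card_coe_set_eq, ← index_stabilizer, hst, Subgroup.index_bot]
    have := dvd_card_of_forall_dvd_orbit (G := St) _ horb
    rwa [Nat.card_eq_finsetCard, show s.card = m from hs] at this
  -- the subsets with full stabilizer
  let Y : (Set.powersetCard G m) → Prop := fun s => Nat.card (stabilizer G s) = m
  have hinv : ∀ (g : G) (s : (Set.powersetCard G m)), Y (g • s) ↔ Y s := by
    intro g s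
    simp only [Y, stabilizer_smul_eq_stabilizer_map_conj]
    rw [Subgroup.card_map_of_injective (MulAut.conj g).injective]
  -- the rest is divisible by `p * q`
  let Z := {s : (Set.powersetCard G m) // ¬ Y s}
  have hZ : p * q ∣ Nat.card Z := by
    let act : MulAction G Z :=
      { smul := fun g s => ⟨g • s.1, fun h => s.2 ((hinv g s.1).mp h)⟩
        one_smul := fun s => Subtype.ext (one_smul G s.1)
        mul_smul := fun g h s => Subtype.ext (mul_smul g h s.1) }
    refine dvd_card_of_forall_dvd_orbit (G := G) _ fun s => ?_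
    have hst : stabilizer G s = stabilizer G s.1 := by
      ext g
      exact ⟨fun h => congrArg Subtype.val h, fun h => Subtype.ext h⟩
    rw [Nat.card_coe_set_eq, ← index_stabilizer, hst]
    obtain ⟨i, hi, hcard⟩ := (Nat.dvd_prime_pow hp).mp (show Nat.card (stabilizer G s.1) ∣ p ^ β by rw [← hm]; exact hdvd s.1)
    have hilt : i < β := lt_of_le_of_ne hi (fun h => s.2 (by simp only [Y, hcard, h, hm]))
    have h1 := (stabilizer G s.1).card_mul_index
    have hq' : Nat.card G = p ^ β * q := by rw [← hm]; exact hq
    rw [hcard, hq', show β = i + (β - i - 1 + 1) by omega, pow_add p i, mul_assoc] at h1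
    rw [Nat.eq_of_mul_eq_mul_left (pow_pos hp.pos i) h1, pow_succ]
    exact ⟨p ^ (β - i - 1), by ring⟩
  -- the subsets with full stabilizer are the right cosets
  have hY : Nat.card {s : (Set.powersetCard G m) // Y s} = Nat.card {H : Subgroup G // Nat.card H = m} * q := by
    let T := (H : {H : Subgroup G // Nat.card H = m}) × Quotient (QuotientGroup.rightRel H.1)
    have hT : Nat.card T = Nat.card {H : Subgroup G // Nat.card H = m} * q := by
      have : Fintype {H : Subgroup G // Nat.card H = m} := Fintype.ofFinite _
      rw [Nat.card_sigma, Finset.sum_const_nat (m := q), Nat.card_eq_fintype_card, Finset.card_univ]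
      intro H _
      rw [Nat.card_congr (QuotientGroup.quotientRightRelEquivQuotientLeftRel H.1)]
      have h1 := H.1.card_mul_index
      rw [H.2, hq] at h1
      exact Nat.eq_of_mul_eq_mul_left hmpos h1
    rw [← hT]
    have hmk : ∀ (H : Subgroup G) (a : G), Nat.card H = m →
        (Finset.univ.filter (fun b : G => b * a⁻¹ ∈ H)).card = m := by
      intro H a hH
      rw [← hH, ← Fintype.card_subtype, ← Nat.card_eq_fintype_card]
      exact Nat.card_congr ((Equiv.mulRight a⁻¹).subtypeEquiv (fun b => Iff.rfl))
    have hval : ∀ (H : Subgroup G) (a : G) (hH : Nat.card H = m),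
        stabilizer G (⟨_, hmk H a hH⟩ : (Set.powersetCard G m)) = H := by
      intro H a hH
      ext g
      rw [mem_stabilizer_iff, Subtype.ext_iff, Set.powersetCard.coe_smul]
      constructor
      · intro h
        have ha : a ∈ Finset.univ.filter (fun b : G => b * a⁻¹ ∈ H) := by simp
        have := Finset.smul_mem_smul_finset (a := g) ha
        rw [h] at this
        simpa using this
      · intro hg
        ext b
        rw [← Finset.inv_smul_mem_iff]
        simp [mul_assoc, H.mul_mem_cancel_left (H.inv_mem hg)]
    let F : T → {s : (Set.powersetCard G m) // Y s} := fun t =>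
      Quotient.liftOn t.2 (fun a => ⟨⟨_, hmk t.1.1 a t.1.2⟩, by
        show Nat.card _ = m; rw [hval t.1.1 a t.1.2]; exact t.1.2⟩) (by
        intro a b hab
        apply Subtype.ext; apply Subtype.ext
        ext c
        simp only [Finset.mem_filter, Finset.mem_univ, true_and]
        replace hab : b * a⁻¹ ∈ t.1.1 := QuotientGroup.rightRel_apply.mp hab
        have e : c * b⁻¹ = c * a⁻¹ * (b * a⁻¹)⁻¹ := by group
        rw [e, t.1.1.mul_mem_cancel_right (t.1.1.inv_mem hab)])
    refine (Nat.card_eq_of_bijective F ⟨?_, ?_⟩).symm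
    · rintro ⟨⟨H, hH⟩, x⟩ ⟨⟨K, hK⟩, y⟩ h
      induction x using Quotient.inductionOn with
      | _ a =>
      induction y using Quotient.inductionOn with
      | _ b =>
      have h1 : (⟨_, hmk H a hH⟩ : (Set.powersetCard G m)) = ⟨_, hmk K b hK⟩ := congrArg Subtype.val h
      have hHK : H = K := by rw [← hval H a hH, h1, hval K b hK]
      subst hHK
      refine Sigma.ext rfl (heq_of_eq (Quotient.sound ?_))
      have hb : b ∈ Finset.univ.filter (fun c : G => c * a⁻¹ ∈ H) := by
        rw [show Finset.univ.filter (fun c : G => c * a⁻¹ ∈ H) =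
          Finset.univ.filter (fun c : G => c * b⁻¹ ∈ H) from congrArg Subtype.val h1]
        simp
      show QuotientGroup.rightRel H a b
      rw [QuotientGroup.rightRel_apply]
      simpa using hb
    · rintro ⟨⟨s, hs⟩, hY⟩
      obtain ⟨a, ha⟩ := Finset.card_pos.mp (show 0 < s.card by rw [show s.card = m from hs]; exact hmpos)
      refine ⟨⟨⟨stabilizer G (⟨s, hs⟩ : (Set.powersetCard G m)), hY⟩, Quotient.mk _ a⟩, ?_⟩
      apply Subtype.ext; apply Subtype.ext
      refine Finset.eq_of_subset_of_card_le (fun b hb => ?_) (le_of_eq ?_)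
      · replace hb : b * a⁻¹ ∈ stabilizer G (⟨s, hs⟩ : (Set.powersetCard G m)) := by
          simpa [F, mem_stabilizer_iff] using hb
        have h1 : (b * a⁻¹) • (⟨s, hs⟩ : (Set.powersetCard G m)) = ⟨s, hs⟩ := hb
        have h2 := congrArg Subtype.val h1
        simp only [Set.powersetCard.coe_smul] at h2
        have h3 : b ∈ (b * a⁻¹) • s := by
          simpa using Finset.smul_mem_smul_finset (a := b * a⁻¹) ha
        rw [h2] at h3
        exact h3
      · exact (show s.card = m from hs).trans (hmk _ a hY).symm
  rw [← hcardX, Nat.card_congr (Equiv.sumCompl Y).symm, Nat.card_sum, hY]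
  exact Nat.ModEq.add_left _ (Nat.modEq_zero_iff_dvd.mpr hZ)

/-- The number of subgroups of order `p ^ β` is congruent to one modulo `p`. -/
theorem count_subgroups_modEq_one (p β : ℕ) (hp : p.Prime) (hdiv : p ^ β ∣ Nat.card G) :
    Nat.card {H : Subgroup G // Nat.card H = p ^ β} ≡ 1 [MOD p] := by
  classical
  obtain ⟨q, hq⟩ := hdiv
  have hn : Nat.card G ≠ 0 := Nat.card_pos.ne'
  have : NeZero (Nat.card G) := ⟨hn⟩
  set C := Multiplicative (ZMod (Nat.card G))
  have hC : Nat.card C = Nat.card G := by
    rw [Nat.card_congr Multiplicative.toAdd, Nat.card_zmod]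
  have hone : Nat.card {H : Subgroup C // Nat.card H = p ^ β} = 1 := by
    obtain ⟨g, hg⟩ := IsCyclic.exists_ofOrder_eq_natCard (α := C)
    rw [Nat.card_eq_one_iff_unique]
    refine ⟨⟨fun H K => Subtype.ext ?_⟩, ⟨⟨Subgroup.zpowers (g ^ q), ?_⟩⟩⟩
    · have key : ∀ L : Subgroup C, Nat.card L = p ^ β →
          (Finset.univ.filter (fun x : C => x ∈ L)) =
            Finset.univ.filter (fun x : C => x ^ (p ^ β) = 1) := by
        intro L hL
        refine Finset.eq_of_subset_of_card_le (fun x hx => ?_) ?_
        · simp only [Finset.mem_filter, Finset.mem_univ, true_and] at hx ⊢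
          rw [← hL]
          exact orderOf_dvd_iff_pow_eq_one.mp (L.orderOf_dvd_natCard hx)
        · refine (IsCyclic.card_pow_eq_one_le (pow_pos hp.pos β)).trans (le_of_eq ?_)
          rw [← hL, ← Fintype.card_subtype, Nat.card_eq_fintype_card]
      ext x
      have := Finset.ext_iff.mp ((key H.1 H.2).trans (key K.1 K.2).symm) x
      simpa using this
    · have hqpos : 0 < q := Nat.pos_of_ne_zero fun h => hn (by rw [hq, h, mul_zero])
      rw [Nat.card_zpowers, orderOf_pow_of_dvd hqpos.ne' (by rw [hg, hC, hq]; exact Dvd.intro_left _ rfl),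
        hg, hC, hq, Nat.mul_div_cancel _ hqpos]
  have h1 := choose_modEq_index_mul_count (G := G) p β hp q hq
  have h2 := choose_modEq_index_mul_count (G := C) p β hp q (hC.trans hq)
  rw [hC, hone] at h2
  have h3 := h1.symm.trans h2
  have hqne : q ≠ 0 := fun h => hn (by rw [hq, h, mul_zero])
  exact Nat.ModEq.mul_right_cancel' hqne h3

end CfsgLib.FgsB
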