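import Mathlib
import Cfsg.Agent.Lib.FgsB.WielandtCount
import Cfsg.Agent.Lib.PGroups.Generation
import Cfsg.Agent.Lib.PLocal.MaximalClass
import Cfsg.Agent.Lib.PLocal.CyclicMax
import Cfsg.Agent.Lib.PGroups.MaximalClass

/-!
# Counting subgroups of a `p`-group modulo `p ^ 2`: the enumeration principle
-/

set_option autoImplicit false
set_option linter.style.haveILetI false

namespace CfsgLib.FgsB.Kulakov

open Subgroup
open scoped commutatorElement

variable {G : Type*} [Group G] [Finite G] {p : ℕ} [hp : Fact p.Prime]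

/-- The number of subgroups of order `p ^ k`. -/
noncomputable def cnt (p : ℕ) (G : Type*) [Group G] (k : ℕ) : ℕ :=
  Nat.card {H : Subgroup G // Nat.card H = p ^ k}

omit [Finite G] in
theorem cnt_below (J : Subgroup G) (k : ℕ) :
    cnt p J k = Nat.card {K : Subgroup G // K ≤ J ∧ Nat.card K = p ^ k} := by
  refine Nat.card_congr
    { toFun := fun H => ⟨H.1.map J.subtype, map_subtype_le _, by
        rw [Subgroup.card_map_of_injective J.subtype_injective]; exact H.2⟩
      invFun := fun K => ⟨K.1.subgroupOf J, by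
        rw [Nat.card_congr (subgroupOfEquivOfLe K.2.1).toEquiv]; exact K.2.2⟩
      left_inv := fun H => Subtype.ext (comap_map_eq_self_of_injective J.subtype_injective _)
      right_inv := fun K => Subtype.ext (map_subgroupOf_eq_of_le K.2.1) }

theorem card_map_mul {N X : Subgroup G} [N.Normal] (hNX : N ≤ X) :
    Nat.card (X.map (QuotientGroup.mk' N)) * Nat.card N = Nat.card X := by
  have h1 := (N.subgroupOf X).card_eq_card_quotient_mul_card_subgroup
  rw [Nat.card_congr (subgroupOfEquivOfLe hNX).toEquiv] at h1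
  rw [h1]
  congr 1
  have e : ((QuotientGroup.mk' N).subgroupMap X).ker = N.subgroupOf X := by
    ext x
    rw [MonoidHom.mem_ker, Subgroup.mem_subgroupOf, Subtype.ext_iff]
    exact QuotientGroup.eq_one_iff (x : G)
  rw [← e]
  exact (Nat.card_congr (QuotientGroup.quotientKerEquivOfSurjective _
    ((QuotientGroup.mk' N).subgroupMap_surjective X)).toEquiv).symm

/-- Subgroups between `N` and `J` of a given order: one modulo `p`. -/
theorem count_between (N J : Subgroup G) [N.Normal] {n j t : ℕ} (hN : Nat.card N = p ^ n)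
    (hJ : Nat.card J = p ^ j) (hNJ : N ≤ J) (hnt : n ≤ t) (htj : t ≤ j) :
    Nat.card {X : Subgroup G // N ≤ X ∧ X ≤ J ∧ Nat.card X = p ^ t} ≡ 1 [MOD p] := by
  set f := QuotientGroup.mk' N with hf
  have hfs : Function.Surjective f := QuotientGroup.mk'_surjective N
  have hker : f.ker = N := QuotientGroup.ker_mk' N
  have hcard : ∀ {X : Subgroup G} {e : ℕ}, N ≤ X → n ≤ e →
      (Nat.card X = p ^ e ↔ Nat.card (X.map f) = p ^ (e - n)) := by
    intro X e hX he
    rw [← card_map_mul hX, hN]
    constructor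
    · intro h
      rw [show p ^ e = p ^ (e - n) * p ^ n by rw [← pow_add, Nat.sub_add_cancel he]] at h
      exact Nat.eq_of_mul_eq_mul_right (pow_pos hp.out.pos n) h
    · intro h
      rw [hf] at h
      rw [h, ← pow_add, Nat.sub_add_cancel he]
  have hJ' := (hcard hNJ (hnt.trans htj)).mp hJ
  have h := count_subgroups_modEq_one (G := J.map f) p (t - n) hp.out
    (hJ' ▸ pow_dvd_pow p (Nat.sub_le_sub_right htj n))
  have e : Nat.card {X : Subgroup G // N ≤ X ∧ X ≤ J ∧ Nat.card X = p ^ t}
      = cnt p (J.map f) (t - n) := by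
    rw [cnt_below]
    refine Nat.card_congr
      { toFun := fun X => ⟨X.1.map f, map_mono X.2.2.1, (hcard X.2.1 hnt).mp X.2.2.2⟩
        invFun := fun Y => ⟨Y.1.comap f, ?_, ?_, ?_⟩
        left_inv := fun X => Subtype.ext (by
          show (X.1.map f).comap f = X.1
          rw [comap_map_eq, hker, sup_eq_left.mpr X.2.1])
        right_inv := fun Y => Subtype.ext (map_comap_eq_self_of_surjective hfs _) }
    · exact hker.symm.le.trans (ker_le_comap f _)
    · calc Y.1.comap f ≤ (J.map f).comap f := comap_mono Y.2.1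
        _ = J := by rw [comap_map_eq, hker, sup_eq_left.mpr hNJ]
    · rw [hcard (hker.symm.le.trans (ker_le_comap f _)) hnt, map_comap_eq_self_of_surjective hfs]
      exact Y.2.2
  rw [e]
  exact h

theorem index_iff {m : ℕ} (hG : Nat.card G = p ^ m) {X : Subgroup G} {i : ℕ} (hi : i ≤ m) :
    X.index = p ^ i ↔ Nat.card X = p ^ (m - i) := by
  have h := X.card_mul_index
  rw [hG, show p ^ m = p ^ (m - i) * p ^ i by rw [← pow_add, Nat.sub_add_cancel hi]] at h
  constructor
  · intro h'
    rw [h'] at h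
    exact Nat.eq_of_mul_eq_mul_right (pow_pos hp.out.pos i) h
  · intro h'
    rw [h'] at h
    exact Nat.eq_of_mul_eq_mul_left (pow_pos hp.out.pos _) h

theorem frattini_le_of_index {m : ℕ} (hG : Nat.card G = p ^ m) {M : Subgroup G}
    (hM : M.index = p) : frattini G ≤ M :=
  frattini_le_coatom (CfsgLib.PGroups.isCoatom_of_index_eq_prime (p := p) hM)

theorem quotient_not_isCyclic {m : ℕ} (hG : Nat.card G = p ^ m) {L : Subgroup G} [L.Normal]
    (hΦ : frattini G ≤ L) (hL : L.index = p ^ 2) : ¬ IsCyclic (G ⧸ L) := by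
  intro h
  have hP : IsPGroup p G := IsPGroup.of_card hG
  obtain ⟨q, hq⟩ := h.exists_generator
  have h1 : orderOf q = p ^ 2 := by
    rw [orderOf_eq_card_of_forall_mem_zpowers hq, ← index_eq_card, hL]
  obtain ⟨g, rfl⟩ := QuotientGroup.mk_surjective q
  have h2 : ((g : G ⧸ L)) ^ p = 1 := by
    rw [← QuotientGroup.mk_pow, QuotientGroup.eq_one_iff]
    exact hΦ (CfsgLib.PGroups.pow_mem_frattini hP g)
  have h3 := Nat.le_of_dvd hp.out.pos (h1 ▸ orderOf_dvd_of_pow_eq_one h2)
  nlinarith [hp.out.two_le]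

/-- Maximal subgroups over a normal subgroup containing the Frattini subgroup. -/
theorem maximal_over {m n : ℕ} (hG : Nat.card G = p ^ m) (N : Subgroup G) [N.Normal]
    (hΦ : frattini G ≤ N) (hN : Nat.card N = p ^ n) (hnm : n < m) :
    Nat.card {M : Subgroup G // M.index = p ∧ N ≤ M} ≡
      1 + p * Nat.card {L : Subgroup G // L.index = p ^ 2 ∧ N ≤ L} [MOD p ^ 2] := by
  classical
  have hP : IsPGroup p G := IsPGroup.of_card hG
  have hidx1 : ∀ {X : Subgroup G}, X.index = p ↔ Nat.card X = p ^ (m - 1) := fun {X} => by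
    rw [← index_iff hG (by omega : 1 ≤ m), pow_one]
  rcases (by omega : n = m - 1 ∨ n + 2 ≤ m) with hd | hd
  · have hT : Nat.card {M : Subgroup G // M.index = p ∧ N ≤ M} = 1 := by
      rw [Nat.card_eq_one_iff_unique]
      refine ⟨⟨fun a b => Subtype.ext ?_⟩, ⟨⟨N, hidx1.mpr (by rw [hN, hd]), le_rfl⟩⟩⟩
      rw [← eq_of_le_of_card_ge a.2.2 (by rw [hN, hidx1.mp a.2.1, hd]),
        ← eq_of_le_of_card_ge b.2.2 (by rw [hN, hidx1.mp b.2.1, hd])]
    haveI : IsEmpty {L : Subgroup G // L.index = p ^ 2 ∧ N ≤ L} := by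
      refine ⟨fun L => ?_⟩
      have h1 : L.1.index ∣ N.index := index_dvd_of_le L.2.2
      rw [L.2.1, hidx1.mpr (by rw [hN, hd])] at h1
      have := Nat.le_of_dvd hp.out.pos h1
      nlinarith [hp.out.two_le]
    rw [hT, Nat.card_of_isEmpty, mul_zero, add_zero]
  have hidx2 : ∀ {X : Subgroup G}, X.index = p ^ 2 ↔ Nat.card X = p ^ (m - 2) := fun {X} =>
    index_iff hG (by omega)
  have hU : Nat.card {L : Subgroup G // L.index = p ^ 2 ∧ N ≤ L} ≡ 1 [MOD p] := by
    rw [Nat.card_congr (Equiv.subtypeEquivRight (q := fun L => N ≤ L ∧ L ≤ ⊤ ∧ Nat.card L = p ^ (m - 2))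
      fun L => by rw [hidx2]; constructor <;> intro h <;> simp_all)]
    exact count_between N ⊤ hN (by rw [card_top, hG]) le_top (by omega) (by omega)
  obtain ⟨M0, hM0c, hNM0⟩ := Sylow.exists_subgroup_card_pow_prime_le p (n := n) (m := m - 1)
    (hG ▸ pow_dvd_pow p (Nat.sub_le m 1)) N hN (by omega)
  have hM0 : M0.index = p := hidx1.mpr hM0c
  let A := {M : Subgroup G // (M.index = p ∧ N ≤ M) ∧ M ≠ M0}
  let B := {L : Subgroup G // N ≤ L ∧ L ≤ M0 ∧ Nat.card L = p ^ (m - 2)}
  have hinf : ∀ a : A, Nat.card ↥(a.1 ⊓ M0) = p ^ (m - 2) := by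
    intro a
    obtain ⟨M, ⟨hM, hNM⟩, hne⟩ := a
    haveI := CfsgLib.PLocal.normal_of_index_prime (p := p) hP hM
    have hsup : M ⊔ M0 = ⊤ := by
      rcases (CfsgLib.PGroups.isCoatom_of_index_eq_prime (p := p) hM0).le_iff.mp
        (le_sup_right : M0 ≤ M ⊔ M0) with h | h
      · exact h
      · exfalso
        have h1 : M ≤ M0 := h ▸ le_sup_left
        exact hne (eq_of_le_of_card_ge h1 (by rw [hidx1.mp hM, hM0c]))
    have h1 : M.relIndex M0 = p := by
      rw [← relIndex_sup_left, hsup, relIndex_top_right, hM]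
    have h2 := (M.subgroupOf M0).card_mul_index
    have h3 : (M.subgroupOf M0).index = p := h1
    rw [h3, Nat.card_congr (show ↥(M.subgroupOf M0) ≃ ↥(M ⊓ M0) from
      ((inf_subgroupOf_right M M0) ▸ (subgroupOfEquivOfLe (inf_le_right : M ⊓ M0 ≤ M0)).toEquiv)),
      hM0c, show m - 1 = m - 2 + 1 by omega, pow_succ] at h2
    exact Nat.eq_of_mul_eq_mul_right hp.out.pos h2
  let φ : A → B := fun a => ⟨a.1 ⊓ M0, le_inf a.2.1.2 hNM0, inf_le_right, hinf a⟩
  haveI : ∀ (H : Subgroup G) [H.Normal], Fintype (Subgroup (G ⧸ H)) := fun _ _ => Fintype.ofFinite _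
  haveI := Fintype.ofFinite (Subgroup G)
  have hfib : ∀ b : B, Nat.card {a : A // φ a = b} = p := by
    intro b
    obtain ⟨L, hNL, hLM0, hLc⟩ := b
    haveI hLn : L.Normal := by
      haveI := CfsgLib.PLocal.normal_of_index_prime (p := p) hP hM0
      refine ⟨fun x hx g => ?_⟩
      have h1 : g * x * g⁻¹ = ⁅g, x⁆ * x := by rw [commutatorElement_def]; group
      rw [h1]
      refine mul_mem (hNL (hΦ (CfsgLib.PGroups.commutator_le_frattini hP ?_))) hx
      rw [_root_.commutator_def]
      exact commutator_mem_commutator (mem_top g) (mem_top x)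
    have hLi : L.index = p ^ 2 := hidx2.mpr hLc
    set f := QuotientGroup.mk' L with hf
    have hfs : Function.Surjective f := QuotientGroup.mk'_surjective L
    have hQ : Nat.card (G ⧸ L) = p ^ 2 := by rw [← index_eq_card, hLi]
    have h3 := CfsgLib.PLocal.card_subgroups_prime_card hQ (quotient_not_isCyclic hG (hΦ.trans hNL) hLi)
    have hc1 : ∀ {X : Subgroup G}, L ≤ X → (X.index = p ↔ Nat.card (X.map f) = p) := by
      intro X hX
      rw [hidx1, ← card_map_mul hX, hLc]
      constructor
      · intro h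
        rw [show p ^ (m - 1) = p * p ^ (m - 2) by rw [← pow_succ']; congr 1; omega] at h
        exact Nat.eq_of_mul_eq_mul_right (pow_pos hp.out.pos _) h
      · intro h
        rw [hf] at h
        rw [h, ← pow_succ']; congr 1; omega
    have e : {a : A // φ a = ⟨L, hNL, hLM0, hLc⟩} ≃
        {Y : Subgroup (G ⧸ L) // Nat.card Y = p ∧ Y ≠ M0.map f} :=
      { toFun := fun a => ⟨a.1.1.map f, by
          have hLa : L ≤ a.1.1 := by
            have : a.1.1 ⊓ M0 = L := congrArg Subtype.val a.2
            exact this.symm.le.trans inf_le_left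
          refine ⟨(hc1 hLa).mp a.1.2.1.1, fun h => a.1.2.2 ?_⟩
          have h1 := congrArg (Subgroup.comap f) h
          rwa [comap_map_eq, comap_map_eq, QuotientGroup.ker_mk', sup_eq_left.mpr hLa,
            sup_eq_left.mpr hLM0] at h1⟩
        invFun := fun Y => ⟨⟨Y.1.comap f, ⟨(hc1 (by
              exact (QuotientGroup.ker_mk' L).symm.le.trans (ker_le_comap f _))).mpr (by
                rw [map_comap_eq_self_of_surjective hfs]; exact Y.2.1),
            hNL.trans ((QuotientGroup.ker_mk' L).symm.le.trans (ker_le_comap f _))⟩,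
            fun h => Y.2.2 ((map_comap_eq_self_of_surjective hfs Y.1).symm.trans (congrArg (Subgroup.map f) h))⟩, by
          refine Subtype.ext (Eq.symm (eq_of_le_of_card_ge (le_inf ?_ hLM0) ?_))
          · exact (QuotientGroup.ker_mk' L).symm.le.trans (ker_le_comap f _)
          · exact le_of_eq ((hinf _).trans hLc.symm)⟩
        left_inv := fun a => Subtype.ext (Subtype.ext (by
          show (a.1.1.map f).comap f = a.1.1
          rw [comap_map_eq, QuotientGroup.ker_mk', sup_eq_left]
          exact (congrArg Subtype.val a.2).symm.le.trans inf_le_left))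
        right_inv := fun Y => Subtype.ext (map_comap_eq_self_of_surjective hfs _) }
    rw [Nat.card_congr e]
    have h4 : Nat.card {Y : Subgroup (G ⧸ L) // Nat.card Y = p ∧ Y ≠ M0.map f} + 1 = p + 1 := by
      rw [← h3, Nat.card_eq_fintype_card, Nat.card_eq_fintype_card, Fintype.card_subtype,
        Fintype.card_subtype]
      have hmem : M0.map f ∈ Finset.univ.filter (fun Y : Subgroup (G ⧸ L) => Nat.card Y = p) := by
        simp only [Finset.mem_filter, Finset.mem_univ, true_and]
        exact (hc1 hLM0).mp hM0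
      rw [← Finset.card_erase_add_one hmem]
      congr 2
      ext Y
      simp [and_comm]
    omega
  have hA : Nat.card A = p * Nat.card B := by
    haveI := Fintype.ofFinite B
    rw [Nat.card_congr (Equiv.sigmaFiberEquiv φ).symm, Nat.card_sigma,
      Finset.sum_congr rfl (fun b _ => hfib b), Finset.sum_const, Finset.card_univ, smul_eq_mul,
      Nat.card_eq_fintype_card, mul_comm]
  have hT : Nat.card {M : Subgroup G // M.index = p ∧ N ≤ M} = Nat.card A + 1 := by
    rw [Nat.card_eq_fintype_card, Nat.card_eq_fintype_card, Fintype.card_subtype, Fintype.card_subtype]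
    have hmem : M0 ∈ Finset.univ.filter (fun M : Subgroup G => M.index = p ∧ N ≤ M) := by
      simp only [Finset.mem_filter, Finset.mem_univ, true_and]
      exact ⟨hM0, hNM0⟩
    rw [← Finset.card_erase_add_one hmem]
    congr 2
    ext Y
    simp [and_comm]
  have hB : Nat.card B ≡ 1 [MOD p] := count_between N M0 hN hM0c hNM0 (by omega) (by omega)
  rw [hT, hA, add_comm, show p ^ 2 = p * p from pow_two p]
  rw [show p * p = p ^ 2 from (pow_two p).symm]
  have :=  ((hB.trans hU.symm).mul_left' p).add_left 1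
  rwa [← pow_two] at this

/-- A noncyclic `p`-group needs two generators. -/
theorem sq_le_index_frattini' (hP : IsPGroup p G) (hnc : ¬ IsCyclic G) :
    p ^ 2 ≤ (frattini G).index := by
  obtain ⟨j, hj⟩ := hP.index (frattini G)
  rw [hj]
  refine Nat.pow_le_pow_right hp.out.pos ?_
  by_contra hj2
  obtain ⟨g, hg⟩ : ∃ g : G, (frattini G) ⊔ zpowers g = ⊤ := by
    rcases (by omega : j = 0 ∨ j = 1) with rfl | rfl
    · rw [pow_zero, index_eq_one] at hj
      exact ⟨1, by rw [hj]; simp⟩
    · rw [pow_one] at hj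
      have hne : frattini G ≠ ⊤ := fun h => by
        rw [h, index_top] at hj; exact hp.out.ne_one hj.symm
      obtain ⟨g, -, hg⟩ := SetLike.exists_of_lt (lt_top_iff_ne_top.mpr hne)
      refine ⟨g, (CfsgLib.PGroups.isCoatom_of_index_eq_prime (p := p) hj).2 _ ?_⟩
      exact lt_of_le_of_ne le_sup_left fun h => hg (h ▸ mem_sup_right (mem_zpowers g))
  have htop : zpowers g = ⊤ := frattini_nongenerating (by rw [sup_comm]; exact hg)
  exact hnc ⟨g, fun x => by rw [← Subgroup.mem_zpowers_iff, htop]; trivial⟩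

/-- The number of maximal subgroups of a noncyclic group. -/
theorem card_index_prime {m : ℕ} (hG : Nat.card G = p ^ m) (hnc : ¬ IsCyclic G) :
    Nat.card {M : Subgroup G // M.index = p} ≡ 1 + p [MOD p ^ 2] ∧
      Nat.card {L : Subgroup G // L.index = p ^ 2 ∧ frattini G ≤ L} ≡ 1 [MOD p] := by
  have hP : IsPGroup p G := IsPGroup.of_card hG
  obtain ⟨n, hn⟩ := CfsgLib.PGroups.card_subgroup_eq_pow hP (frattini G)
  have h2 := sq_le_index_frattini' hP hnc
  have hnm : n + 2 ≤ m := by
    have h1 := (frattini G).card_mul_index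
    rw [hn, hG] at h1
    have : p ^ (n + 2) ≤ p ^ m := by
      rw [← h1, pow_add]; exact Nat.mul_le_mul_left _ h2
    exact (Nat.pow_le_pow_iff_right hp.out.one_lt).mp this
  have hU : Nat.card {L : Subgroup G // L.index = p ^ 2 ∧ frattini G ≤ L} ≡ 1 [MOD p] := by
    rw [Nat.card_congr (Equiv.subtypeEquivRight (q := fun L => frattini G ≤ L ∧ L ≤ ⊤ ∧ Nat.card L = p ^ (m - 2))
      fun L => by rw [index_iff hG (by omega : 2 ≤ m)]; constructor <;> intro h <;> simp_all)]
    exact count_between _ ⊤ hn (by rw [card_top, hG]) le_top (by omega) (by omega)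
  refine ⟨?_, hU⟩
  have h3 := maximal_over hG (frattini G) le_rfl hn (by omega)
  rw [Nat.card_congr (Equiv.subtypeEquivRight (q := fun M => M.index = p)
    fun M => ⟨fun h => h.1, fun h => ⟨h, frattini_le_of_index hG h⟩⟩)] at h3
  refine h3.trans (Nat.ModEq.add_left 1 ?_)
  have h4 := hU.mul_left' p
  rw [mul_one, ← pow_two] at h4
  exact h4

open Classical in
/-- Hall's enumeration principle, modulo `p ^ 2`. -/
theorem hall_identity {m : ℕ} (hG : Nat.card G = p ^ m) {k : ℕ} (hk : k < m)
    [Fintype {M : Subgroup G // M.index = p}]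
    [Fintype {L : Subgroup G // L.index = p ^ 2 ∧ frattini G ≤ L}] :
    ∑ M : {M : Subgroup G // M.index = p}, cnt p M.1 k ≡
      cnt p G k + p * ∑ L : {L : Subgroup G // L.index = p ^ 2 ∧ frattini G ≤ L}, cnt p L.1 k
      [MOD p ^ 2] := by
  classical
  haveI := Fintype.ofFinite (Subgroup G)
  have hP : IsPGroup p G := IsPGroup.of_card hG
  set Ks := Finset.univ.filter (fun K : Subgroup G => Nat.card K = p ^ k) with hKs
  have key : ∀ (P : Subgroup G → Prop) [Fintype {X : Subgroup G // P X}],
      ∑ X : {X : Subgroup G // P X}, cnt p X.1 k =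
        ∑ K ∈ Ks, (Finset.univ.filter (fun X : Subgroup G => P X ∧ K ≤ X)).card := by
    intro P _
    have h1 : ∀ X : Subgroup G, cnt p X k = (Ks.filter (fun K => K ≤ X)).card := by
      intro X
      rw [cnt_below, Nat.card_eq_fintype_card, Fintype.card_subtype, hKs, Finset.filter_filter]
      congr 1
      ext K
      simp [and_comm]
    rw [← Finset.sum_subtype (Finset.univ.filter P) (fun X => by simp) (fun X => cnt p X k)]
    simp only [h1, Finset.card_filter]
    rw [Finset.sum_comm]
    refine Finset.sum_congr rfl fun K _ => ?_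
    rw [Finset.sum_filter]
    refine Finset.sum_congr rfl fun X _ => ?_
    by_cases hX : P X <;> simp [hX]
  rw [key, key, Finset.mul_sum]
  have hc : cnt p G k = ∑ K ∈ Ks, 1 := by
    rw [cnt, Nat.card_eq_fintype_card, Fintype.card_subtype, Finset.card_eq_sum_ones]
  rw [hc, ← Finset.sum_add_distrib]
  refine Nat.ModEq.sum fun K hK => ?_
  simp only [hKs, Finset.mem_filter, Finset.mem_univ, true_and] at hK
  set N := K ⊔ frattini G with hN
  haveI hNn : N.Normal := ⟨fun x hx g => by
    have h1 : g * x * g⁻¹ = ⁅g, x⁆ * x := by rw [commutatorElement_def]; group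
    rw [h1]
    refine mul_mem (mem_sup_right (CfsgLib.PGroups.commutator_le_frattini hP ?_)) hx
    rw [_root_.commutator_def]
    exact commutator_mem_commutator (mem_top g) (mem_top x)⟩
  obtain ⟨n, hn⟩ := CfsgLib.PGroups.card_subgroup_eq_pow hP N
  have hnm : n < m := by
    by_contra hle
    have htop : N = ⊤ := by
      refine eq_top_of_le_card _ ?_
      rw [hn, hG]; exact Nat.pow_le_pow_right hp.out.pos (by omega)
    have hKtop : K = ⊤ := frattini_nongenerating htop
    rw [hKtop, card_top, hG] at hK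
    exact absurd (Nat.pow_right_injective hp.out.two_le hK) (by omega)
  have h := maximal_over hG N le_sup_right hn hnm
  have e1 : (Finset.univ.filter (fun X : Subgroup G => X.index = p ∧ K ≤ X)).card =
      Nat.card {M : Subgroup G // M.index = p ∧ N ≤ M} := by
    rw [Nat.card_eq_fintype_card, Fintype.card_subtype]
    congr 1
    ext X
    simp only [Finset.mem_filter, Finset.mem_univ, true_and, hN, sup_le_iff]
    exact ⟨fun h => ⟨h.1, h.2, frattini_le_of_index hG h.1⟩, fun h => ⟨h.1, h.2.1⟩⟩
  have e2 : (Finset.univ.filter (fun X : Subgroup G => (X.index = p ^ 2 ∧ frattini G ≤ X) ∧ K ≤ X)).card =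
      Nat.card {L : Subgroup G // L.index = p ^ 2 ∧ N ≤ L} := by
    rw [Nat.card_eq_fintype_card, Fintype.card_subtype]
    congr 1
    ext X
    simp only [Finset.mem_filter, Finset.mem_univ, true_and, hN, sup_le_iff]
    exact ⟨fun h => ⟨h.1.1, h.2, h.1.2⟩, fun h => ⟨⟨h.1, h.2.2⟩, h.2.1⟩⟩
  convert h using 2
  · convert e1
  · congr 1
    convert e2

end CfsgLib.FgsB.Kulakov
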