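import Mathlib
import Cfsg.Agent.Lib.FgsB.KulakovBase
import Cfsg.Agent.Lib.PLocal.CyclicMaxApps
import Cfsg.Agent.Lib.PGroups.MaximalClassTwo
import Cfsg.Agent.Lib.PGroups.MaxAbelian

/-!
# Normal four-groups and the number of elements of order `p`
-/

set_option autoImplicit false
set_option linter.style.haveILetI false

namespace CfsgLib.FgsB.Kulakov

open Subgroup
open scoped commutatorElement

variable {G : Type*} [Group G] [Finite G] {p : ℕ} [hp : Fact p.Prime]

/-- A normal subgroup of order `p` of a `p`-group is central. -/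
theorem le_center_of_card (hP : IsPGroup p G) {Z : Subgroup G} [Z.Normal] (hZ : Nat.card Z = p) :
    Z ≤ center G := by
  have hne : Z ⊓ center G ≠ ⊥ := CfsgLib.PGroups.inf_center_ne_bot hP fun h => by
    rw [h, card_bot] at hZ; exact hp.out.ne_one hZ.symm
  have h1 : Z ⊓ center G = Z := by
    rcases (Nat.dvd_prime hp.out).mp (hZ ▸ card_dvd_of_le (inf_le_left : Z ⊓ center G ≤ Z)) with h | h
    · exact absurd (card_eq_one.mp h) hne
    · exact eq_of_le_of_card_ge inf_le_left (by rw [h, hZ])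
  exact h1 ▸ inf_le_right

/-- In a cyclic group `⟨a⟩` of order `2 ^ (j + 1)` the square roots of one are the two powers. -/
theorem zpow_sq_eq_one {a : G} {j : ℕ} (ha : orderOf a = 2 ^ (j + 1)) {i : ℤ} (h : (a ^ i) ^ 2 = 1) :
    a ^ i = 1 ∨ a ^ i = a ^ 2 ^ j := by
  have h1 : ((orderOf a : ℕ) : ℤ) ∣ i * 2 := by
    rw [orderOf_dvd_iff_zpow_eq_one, zpow_mul, zpow_two, ← sq]; exact h
  rw [ha] at h1
  push_cast at h1
  rw [pow_succ] at h1
  obtain ⟨t, rfl⟩ := (mul_dvd_mul_iff_right (two_ne_zero (α := ℤ))).mp h1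
  have hw : (a ^ 2 ^ j) ^ (2 : ℤ) = 1 := by
    rw [zpow_two, ← pow_add, ← two_mul, ← pow_succ', ← ha, pow_orderOf_eq_one]
  have e : a ^ ((2 : ℤ) ^ j * t) = (a ^ 2 ^ j) ^ t := by
    rw [zpow_mul, ← zpow_natCast a]; norm_num
  rw [e]
  rcases Int.even_or_odd' t with ⟨s, rfl | rfl⟩
  · left; rw [zpow_mul, hw, one_zpow]
  · right; rw [zpow_add, zpow_mul, hw, one_zpow, one_mul, zpow_one]

/-- A noncyclic two-group not of maximal class has a normal four-group. -/
theorem exists_normal_four' {n : ℕ} (hG : Nat.card G = 2 ^ n) (hnc : ¬ IsCyclic G)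
    (hcl : Group.nilpotencyClass G ≠ n - 1) :
    ∃ E : Subgroup G, E.Normal ∧ Nat.card E = 4 ∧ ∀ e ∈ E, e ^ 2 = 1 := by
  haveI : Fact (Nat.Prime 2) := ⟨Nat.prime_two⟩
  have hP : IsPGroup 2 G := IsPGroup.of_card hG
  haveI := hP.isNilpotent
  obtain ⟨A, hAn, hAab, -, hCA⟩ := CfsgLib.PGroups.exists_selfCentralizing_normal hP ⊥ inferInstance
  haveI := hAn
  have hAc : ∀ x ∈ A, ∀ y ∈ A, x * y = y * x := fun x hx y hy =>
    congrArg Subtype.val (hAab.is_comm.comm ⟨x, hx⟩ ⟨y, hy⟩)
  let Om : Subgroup G :=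
    { carrier := {x | x ∈ A ∧ x ^ 2 = 1}
      mul_mem' := fun {a b} ha hb => ⟨mul_mem ha.1 hb.1,
        by rw [Commute.mul_pow (hAc a ha.1 b hb.1), ha.2, hb.2, one_mul]⟩
      one_mem' := ⟨one_mem _, one_pow _⟩
      inv_mem' := fun {a} ha => ⟨inv_mem ha.1, by rw [inv_pow, ha.2, inv_one]⟩ }
  haveI hOn : Om.Normal := ⟨fun x hx g => ⟨hAn.conj_mem x hx.1 g, by
    rw [conj_pow, hx.2, mul_one, mul_inv_cancel]⟩⟩
  by_cases hO4 : 4 ≤ Nat.card Om
  · obtain ⟨E, hEn, -, hEO, hEc⟩ := CfsgLib.PGroups.exists_normal_card_eq hP (bot_le : ⊥ ≤ Om) (k := 2)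
      (by rw [card_bot]; norm_num) (by simpa using hO4)
    exact ⟨E, hEn, by simpa using hEc, fun e he => (hEO he).2⟩
  push Not at hO4
  obtain ⟨o, ho⟩ := CfsgLib.PGroups.card_subgroup_eq_pow hP Om
  have ho1 : o ≤ 1 := by
    by_contra h
    have := Nat.pow_le_pow_right two_pos (show 2 ≤ o by omega)
    rw [← ho] at this
    omega
  have hA1 : A ≠ ⊥ := by
    intro h
    have htop : (⊤ : Subgroup G) ≤ A := fun x _ => hCA ▸ mem_centralizer_iff.mpr fun y hy => by
      rw [h] at hy
      rw [mem_bot.mp hy, one_mul, mul_one]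
    rw [h, top_le_iff] at htop
    haveI : Subsingleton G := subsingleton_iff.mp ((subsingleton_iff_bot_eq_top.mp htop))
    exact hnc inferInstance
  obtain ⟨z, hz⟩ := exists_prime_orderOf_dvd_card' (G := A) 2 (CfsgLib.PGroups.dvd_card_of_ne_bot hP hA1)
  haveI hAcyc : IsCyclic A := by
    refine CfsgLib.PGroups.isCyclic_of_abelian_of_unique (hP.to_subgroup A) (z := z) (fun y hy => ?_)
      (by rw [← hz, pow_orderOf_eq_one])
    have hyO : (y : G) ∈ Om := ⟨y.2, congrArg Subtype.val hy⟩
    have hzO : (z : G) ∈ Om := ⟨z.2, congrArg Subtype.val (show z ^ 2 = 1 by rw [← hz, pow_orderOf_eq_one])⟩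
    have h1 : zpowers (z : G) = Om := by
      refine eq_of_le_of_card_ge (zpowers_le.mpr hzO) ?_
      rw [Nat.card_zpowers, Subgroup.orderOf_coe, hz, ho]
      exact (Nat.pow_le_pow_right two_pos ho1).trans_eq (pow_one 2)
    obtain ⟨i, hi⟩ := mem_zpowers_iff.mp (h1 ▸ hyO : (y : G) ∈ zpowers (z : G))
    exact mem_zpowers_iff.mpr ⟨i, Subtype.ext (by simpa using hi)⟩
  obtain ⟨a, rfl⟩ := CfsgLib.PLocal.exists_zpowers_eq hAcyc
  obtain ⟨j, hj⟩ := IsPGroup.iff_orderOf.mp hP a
  have hcomm_a : ∀ x : G, x * a = a * x → x ∈ zpowers a := fun x hx => hCA ▸ mem_centralizer_iff.mpr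
    fun y hy => by
      obtain ⟨i, rfl⟩ := mem_zpowers_iff.mp hy
      exact ((show Commute x a from hx).symm.zpow_left i).eq
  have hr : ∀ x : G, ∃ r : ℤ, x * a * x⁻¹ = a ^ r := fun x => by
    obtain ⟨r, hr⟩ := mem_zpowers_iff.mp (hAn.conj_mem a (mem_zpowers a) x)
    exact ⟨r, hr.symm⟩
  choose r hr using hr
  have hj2 : 2 ≤ j := by
    by_contra hj2
    have htop : ∀ x : G, x ∈ zpowers a := by
      intro x
      refine hcomm_a x ?_
      rcases (by omega : j = 0 ∨ j = 1) with rfl | rfl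
      · rw [pow_zero, orderOf_eq_one_iff] at hj; simp [hj]
      · have h1 : zpowers a ≤ center G :=
          le_center_of_card (p := 2) hP (by rw [Nat.card_zpowers, hj, pow_one])
        exact (mem_center_iff.mp (h1 (mem_zpowers a)) x)
    exact hnc ⟨a, fun x => mem_zpowers_iff.mp (htop x)⟩
  obtain ⟨J, rfl⟩ : ∃ J, j = J + 2 := ⟨j - 2, by omega⟩
  set M : ℤ := 2 ^ (J + 2) with hM
  have hmod : ∀ s t : ℤ, a ^ s = a ^ t ↔ M ∣ t - s := by
    intro s t
    rw [zpow_eq_zpow_iff_modEq, hj, Int.modEq_iff_dvd]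
    push_cast; rfl
  have hM4 : (4 : ℤ) ∣ M := ⟨2 ^ J, by rw [hM]; ring⟩
  have hmul : ∀ x y : G, (4 : ℤ) ∣ r (x * y) - r x * r y := by
    intro x y
    refine hM4.trans ((hmod _ _).mp ?_)
    calc a ^ (r x * r y) = (a ^ r x) ^ r y := zpow_mul a _ _
      _ = x * a ^ r y * x⁻¹ := by rw [← hr x, conj_zpow]
      _ = x * (y * a * y⁻¹) * x⁻¹ := by rw [hr y]
      _ = a ^ r (x * y) := by rw [← hr (x * y)]; group
  have hodd : ∀ x : G, ¬ (2 : ℤ) ∣ r x := by
    intro x ⟨t, ht⟩
    have h1 : orderOf (a ^ r x) = 2 ^ (J + 2) := by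
      rw [← hr x, ← hj]; exact (MulAut.conj x).orderOf_eq a
    have h2 : (a ^ r x) ^ 2 ^ (J + 1) = 1 := by
      rw [← zpow_natCast, ← zpow_mul, ht, ← orderOf_dvd_iff_zpow_eq_one, hj]
      push_cast
      exact ⟨t, by ring⟩
    have h3 := Nat.le_of_dvd (pow_pos two_pos _) (h1 ▸ orderOf_dvd_of_pow_eq_one h2)
    exact absurd h3 (by simp [pow_succ])
  have hrA : ∀ x ∈ zpowers a, (4 : ℤ) ∣ r x - 1 := by
    intro x hx
    refine hM4.trans ((hmod _ _).mp ?_)
    obtain ⟨i, rfl⟩ := mem_zpowers_iff.mp hx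
    rw [zpow_one, ← hr (a ^ i)]
    group
  by_cases hex : ∃ h : G, h ∉ zpowers a ∧ (4 : ℤ) ∣ r h - 1
  · -- a modular section supplies the four-group
    obtain ⟨h, hh, hh4⟩ := hex
    obtain ⟨g, hg, hg2, hg4⟩ : ∃ g, g ∉ zpowers a ∧ g ^ 2 ∈ zpowers a ∧ (4 : ℤ) ∣ r g - 1 := by
      obtain ⟨e, he⟩ := IsPGroup.iff_orderOf.mp hP h
      have hex' : ∃ i, h ^ 2 ^ i ∈ zpowers a := ⟨e, by rw [← he, pow_orderOf_eq_one]; exact one_mem _⟩
      have h0 : Nat.find hex' ≠ 0 := fun h0 => hh (by simpa [h0] using Nat.find_spec hex')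
      have h4 : ∀ i : ℕ, (4 : ℤ) ∣ r (h ^ i) - 1 := by
        intro i
        induction i with
        | zero => rw [pow_zero]; exact hrA 1 (one_mem _)
        | succ i ih =>
          have := dvd_add (dvd_add (hmul (h ^ i) h) (ih.mul_right (r h))) hh4
          rw [pow_succ]
          refine this.trans (dvd_of_eq ?_)
          ring
      refine ⟨h ^ 2 ^ (Nat.find hex' - 1), Nat.find_min hex' (by omega), ?_, h4 _⟩
      rw [← pow_mul, ← pow_succ, show Nat.find hex' - 1 + 1 = Nat.find hex' by omega]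
      exact Nat.find_spec hex'
    obtain ⟨i, hi⟩ := mem_zpowers_iff.mp hg2
    obtain ⟨q, hq⟩ := hg4
    have hne : ¬ M ∣ r g - 1 := by
      intro hd
      refine hg (hcomm_a g ?_)
      rw [← mul_inv_eq_iff_eq_mul, hr g, ← (hmod 1 (r g)).mpr hd, zpow_one]
    have hrr : M ∣ r g * r g - 1 := by
      refine (hmod _ _).mp ?_
      calc a ^ (1 : ℤ) = a ^ i * a * (a ^ i)⁻¹ := by
            rw [((Commute.refl a).zpow_left i).eq, mul_inv_cancel_right, zpow_one]
        _ = g * (g * a * g⁻¹) * g⁻¹ := by rw [hi, sq]; group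
        _ = a ^ (r g * r g) := by rw [hr g, ← conj_zpow, hr g, ← zpow_mul]
    have hfix : M ∣ i * r g - i := by
      refine (hmod _ _).mp ?_
      calc a ^ i = g * a ^ i * g⁻¹ := by rw [hi]; group
        _ = a ^ (i * r g) := by rw [← conj_zpow, hr g, ← zpow_mul, mul_comm]
    -- `r g = 1 + 2 ^ (J + 1)` up to multiples of `M`
    have hcop : IsCoprime M (1 + 2 * q) := by
      rw [hM]
      exact (IsCoprime.pow_left ⟨-q, 1, by ring⟩)
    have hu : r g + 1 = 2 * (1 + 2 * q) := by omega
    have hhalf : (2 : ℤ) ^ (J + 1) ∣ r g - 1 := by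
      have h1 : M ∣ (r g - 1) * (2 * (1 + 2 * q)) := by
        rw [← hu]; refine hrr.trans (dvd_of_eq ?_); ring
      rw [← mul_assoc] at h1
      have h2 := hcop.dvd_of_dvd_mul_right h1
      rw [hM, pow_succ] at h2
      exact (mul_dvd_mul_iff_right (two_ne_zero (α := ℤ))).mp h2
    obtain ⟨w, hw⟩ := hhalf
    have hwodd : ¬ (2 : ℤ) ∣ w := by
      rintro ⟨v, rfl⟩
      exact hne ⟨v, by rw [hw, hM]; ring⟩
    obtain ⟨i', rfl⟩ : (2 : ℤ) ∣ i := by
      have h1 : M ∣ i * (2 ^ (J + 1) * w) := by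
        rw [← hw]; refine hfix.trans (dvd_of_eq ?_); ring
      rw [hM, pow_succ, show i * ((2 : ℤ) ^ (J + 1) * w) = 2 ^ (J + 1) * (i * w) by ring] at h1
      have h2 := (mul_dvd_mul_iff_left (pow_ne_zero _ (two_ne_zero (α := ℤ)))).mp h1
      exact (Int.prime_two.dvd_or_dvd h2).resolve_right hwodd
    obtain ⟨u, v, huv⟩ := hcop
    set y := g * a ^ (-i' * v) with hy
    have hysq : ∀ s : ℤ, (g * a ^ s) ^ 2 = a ^ (r g * s + 2 * i' + s) := by
      intro s
      rw [zpow_add, zpow_add, zpow_mul, ← hr g, conj_zpow, hi, sq, sq]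
      group
    have hy2 : y ^ 2 = 1 := by
      rw [hy, hysq, ← zpow_zero a, hmod]
      exact ⟨-2 * i' * u, by linear_combination (2 * i') * huv + (i' * v) * hu⟩
    have hyA : y ∉ zpowers a := fun hm => hg ((mul_mem_cancel_right (zpow_mem (mem_zpowers a) _)).mp hm)
    set t := a ^ 2 ^ (J + 1) with ht
    have hto : orderOf t = 2 := by
      rw [ht, orderOf_pow, hj, Nat.gcd_eq_right (pow_dvd_pow 2 (by omega)), pow_succ _ (J + 1),
        Nat.mul_div_cancel_left _ (pow_pos two_pos _)]
    have htz : ∀ x : G, Commute x t := by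
      intro x
      have h1 : x * t * x⁻¹ = 1 ∨ x * t * x⁻¹ = t := by
        obtain ⟨s, hs⟩ := mem_zpowers_iff.mp (hAn.conj_mem t (pow_mem (mem_zpowers a) _) x)
        rw [← hs]
        refine zpow_sq_eq_one (j := J + 1) hj ?_
        rw [hs, conj_pow, ← hto, pow_orderOf_eq_one, mul_one, mul_inv_cancel]
      rcases h1 with h1 | h1
      · rw [conj_eq_one_iff] at h1; rw [h1]; exact Commute.one_right x
      · exact mul_inv_eq_iff_eq_mul.mp h1
    -- the solutions of `x ^ 2 = 1` in `⟨a, g⟩`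
    have hsolA : ∀ s : ℤ, (a ^ s) ^ 2 = 1 → a ^ s = 1 ∨ a ^ s = t := fun s hs => zpow_sq_eq_one hj hs
    have hcoset : ∀ x : G, x * y⁻¹ ∈ zpowers a → x ^ 2 = 1 → x = y ∨ x = y * t := by
      intro x hx hx2
      obtain ⟨s, hs⟩ := mem_zpowers_iff.mp hx
      have hxy : x = a ^ s * y := by rw [hs, inv_mul_cancel_right]
      have hyinv : y⁻¹ = y := inv_eq_of_mul_eq_one_right (by rw [← sq]; exact hy2)
      have hya : y * a * y⁻¹ = a ^ r g := by rw [← hr g, hy]; group
      have h1 : a ^ (s + r g * s) = 1 := by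
        calc a ^ (s + r g * s) = a ^ s * (y * a ^ s * y⁻¹) := by
              rw [zpow_add, ← conj_zpow, hya, ← zpow_mul]
          _ = (a ^ s * y) ^ 2 := by rw [hyinv, sq]; group
          _ = 1 := by rw [← hxy, hx2]
      have h2 : (a ^ s) ^ 2 = 1 := by
        rw [← zpow_zero a, hmod, show (0 : ℤ) - (s + r g * s) = -(2 * s * (1 + 2 * q)) by
          linear_combination -s * hu] at h1
        rw [dvd_neg] at h1
        rw [sq, ← zpow_add, ← zpow_zero a, hmod]
        exact (IsCoprime.dvd_of_dvd_mul_right ⟨u, v, huv⟩ h1).neg_right.trans (dvd_of_eq (by ring))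
      rcases hsolA s h2 with h | h
      · left; rw [hxy, h, one_mul]
      · right; rw [hxy, h, (htz y).eq]
    have hyt : y * t ≠ y := fun h => by
      have : t = 1 := by simpa using h
      rw [this, orderOf_one] at hto; omega
    let E : Subgroup G :=
      { carrier := {x | x ^ 2 = 1 ∧ (x ∈ zpowers a ∨ x * y⁻¹ ∈ zpowers a)}
        one_mem' := ⟨one_pow _, Or.inl (one_mem _)⟩
        mul_mem' := by
          have hlist : ∀ x : G, x ^ 2 = 1 ∧ (x ∈ zpowers a ∨ x * y⁻¹ ∈ zpowers a) →
              x = 1 ∨ x = t ∨ x = y ∨ x = y * t := by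
            rintro x ⟨hx2, hx | hx⟩
            · obtain ⟨s, rfl⟩ := mem_zpowers_iff.mp hx
              rcases hsolA s hx2 with h | h
              · exact Or.inl h
              · exact Or.inr (Or.inl h)
            · exact Or.inr (Or.inr (hcoset x hx hx2))
          have ht2 : t * t = 1 := by rw [← sq, ← hto, pow_orderOf_eq_one]
          have hy2' : y * y = 1 := by rw [← sq, hy2]
          have htA : t ∈ zpowers a := pow_mem (mem_zpowers a) _
          have hty := (htz y).eq
          intro x x' hx hx'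
          have hcx : Commute x x' := by
            rcases hlist x hx with rfl | rfl | rfl | rfl <;> rcases hlist x' hx' with rfl | rfl | rfl | rfl <;>
              first
                | exact Commute.refl _
                | exact Commute.one_left _
                | exact Commute.one_right _
                | exact htz _
                | exact (htz _).symm
                | exact (Commute.refl y).mul_right (htz y)
                | exact (Commute.refl y).mul_left (htz y).symm
          refine ⟨by rw [hcx.mul_pow, hx.1, hx'.1, one_mul], ?_⟩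
          have hAy : ∀ x' : G, x' * y⁻¹ ∈ zpowers a → x' ^ 2 = 1 → y * x' ∈ zpowers a := by
            intro x' h1 h2
            rcases hcoset x' h1 h2 with rfl | rfl
            · rw [hy2']; exact one_mem _
            · rw [← mul_assoc, hy2', one_mul]; exact htA
          rcases hlist x hx with rfl | rfl | rfl | rfl
          · rw [one_mul]; exact hx'.2
          · rcases hx'.2 with h | h
            · exact Or.inl (mul_mem htA h)
            · exact Or.inr (by rw [mul_assoc]; exact mul_mem htA h)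
          · rcases hx'.2 with h | h
            · exact Or.inr (hAn.conj_mem x' h y)
            · exact Or.inl (hAy x' h hx'.1)
          · rcases hx'.2 with h | h
            · refine Or.inr ?_
              rw [mul_assoc y t]
              exact hAn.conj_mem _ (mul_mem htA h) y
            · refine Or.inl ?_
              rw [← (htz y).eq.symm, mul_assoc]
              exact mul_mem htA (hAy x' h hx'.1)
        inv_mem' := by
          intro x hx
          have hxi : x⁻¹ = x := inv_eq_of_mul_eq_one_right (by rw [← sq]; exact hx.1)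
          show x⁻¹ ^ 2 = 1 ∧ (x⁻¹ ∈ zpowers a ∨ x⁻¹ * y⁻¹ ∈ zpowers a)
          rw [hxi]; exact hx }
    have hEn : E.Normal := by
      refine ⟨fun x hx g' => ⟨by rw [conj_pow, hx.1, mul_one, mul_inv_cancel], ?_⟩⟩
      rcases hx.2 with h | h
      · exact Or.inl (hAn.conj_mem x h g')
      · -- conjugation fixes the coset of `g`
        right
        have hgc : g' * y * g'⁻¹ * y⁻¹ ∈ zpowers a := by
          refine hcomm_a _ ?_
          rw [← mul_inv_eq_iff_eq_mul]
          have hcomp : ∀ u v : G, u * v * a * (u * v)⁻¹ = a ^ (r u * r v) := fun u v => by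
            rw [zpow_mul, ← hr u, conj_zpow, ← hr v]; group
          have hxy' : g' * y * a * (g' * y)⁻¹ = y * g' * a * (y * g')⁻¹ := by
            rw [hcomp, hcomp, mul_comm]
          calc g' * y * g'⁻¹ * y⁻¹ * a * (g' * y * g'⁻¹ * y⁻¹)⁻¹
              = g' * y * (g'⁻¹ * (y⁻¹ * a * y) * g') * (g' * y)⁻¹ := by group
            _ = a := by
              have h5 : g'⁻¹ * (y⁻¹ * a * y) * g' = (y * g')⁻¹ * a * (y * g') := by group
              have h6 : ∀ s : ℤ, (g' * y) * a ^ s * (g' * y)⁻¹ = (y * g') * a ^ s * (y * g')⁻¹ := fun s => by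
                rw [← conj_zpow, hxy', conj_zpow]
              obtain ⟨s, hs⟩ := mem_zpowers_iff.mp (hAn.conj_mem a (mem_zpowers a) (y * g')⁻¹)
              rw [inv_inv] at hs
              rw [h5, ← hs, h6, hs]; group
        have : g' * x * g'⁻¹ * y⁻¹ = (g' * (x * y⁻¹) * g'⁻¹) * (g' * y * g'⁻¹ * y⁻¹) := by group
        rw [this]
        exact mul_mem (hAn.conj_mem _ h g') hgc
    refine ⟨E, hEn, ?_, fun e he => he.1⟩
    have ht1 : t ≠ 1 := fun h => by rw [h, orderOf_one] at hto; omega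
    have hset : (E : Set G) = {1, t, y, y * t} := by
      ext x
      simp only [Set.mem_insert_iff, Set.mem_singleton_iff]
      constructor
      · rintro ⟨hx2, hx | hx⟩
        · obtain ⟨s, rfl⟩ := mem_zpowers_iff.mp hx
          rcases hsolA s hx2 with h | h
          · exact Or.inl h
          · exact Or.inr (Or.inl h)
        · exact Or.inr (Or.inr (hcoset x hx hx2))
      · have ht2 : t ^ 2 = 1 := by rw [← hto, pow_orderOf_eq_one]
        have htA : t ∈ zpowers a := pow_mem (mem_zpowers a) _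
        rintro (rfl | rfl | rfl | rfl)
        · exact one_mem E
        · exact ⟨ht2, Or.inl htA⟩
        · exact ⟨hy2, Or.inr (by rw [mul_inv_cancel]; exact one_mem _)⟩
        · exact ⟨by rw [(htz y).mul_pow, hy2, ht2, one_mul],
            Or.inr (by rw [(htz y).eq, mul_inv_cancel_right]; exact htA)⟩
    show Nat.card (E : Set G) = 4
    rw [hset, Nat.card_coe_set_eq, Set.ncard_insert_of_notMem, Set.ncard_insert_of_notMem,
      Set.ncard_pair hyt.symm]
    · simp only [Set.mem_insert_iff, Set.mem_singleton_iff, not_or]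
      exact ⟨fun h => hyA (h ▸ pow_mem (mem_zpowers a) _), fun h => hyA (by
        rw [show y = 1 from mul_eq_right.mp h.symm]; exact one_mem _)⟩
    · simp only [Set.mem_insert_iff, Set.mem_singleton_iff, not_or]
      exact ⟨ht1.symm, fun h => hyA (h ▸ one_mem _), fun h => hyA (by
        rw [eq_inv_of_mul_eq_one_left h.symm]; exact inv_mem (pow_mem (mem_zpowers a) _))⟩
  · -- all elements outside invert modulo four: maximal class
    push Not at hex
    exfalso
    obtain ⟨g, hg⟩ : ∃ g : G, g ∉ zpowers a := by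
      by_contra h
      push Not at h
      exact hnc ⟨a, fun x => mem_zpowers_iff.mp (h x)⟩
    have h3 : ∀ x : G, x ∉ zpowers a → (4 : ℤ) ∣ r x - 3 := by
      intro x hx
      have := hodd x
      have := hex x hx
      omega
    have hidx : (zpowers a).index = 2 := by
      rw [index_eq_two_iff]
      refine ⟨g, fun x => ?_⟩
      by_cases hx : x ∈ zpowers a
      · exact Or.inr ⟨hx, fun h => hg ((mul_mem_cancel_left hx).mp h)⟩
      · refine Or.inl ⟨?_, hx⟩
        by_contra hxg
        have h1 := hmul x g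
        have h2 := h3 _ hxg
        obtain ⟨u, hu⟩ := h3 x hx
        obtain ⟨v, hv⟩ := h3 g hg
        obtain ⟨w, hw⟩ := h1
        obtain ⟨o, ho⟩ := h2
        have h4 : r x = 4 * u + 3 := by omega
        have h5 : r g = 4 * v + 3 := by omega
        rw [h4, h5, show (4 * u + 3) * (4 * v + 3) = 4 * (4 * u * v + 3 * u + 3 * v + 2) + 1 by ring] at hw
        omega
    refine hcl (CfsgLib.PGroups.maximalClass_of_index_commutator hG ?_)
    obtain ⟨u, hu⟩ := h3 g hg
    have hsub : zpowers (a ^ (r g - 1)) ≤ commutator G := by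
      rw [zpowers_le, zpow_sub_one, ← hr g, ← commutatorElement_def, _root_.commutator_def]
      exact commutator_mem_commutator (mem_top g) (mem_top a)
    have hord : 2 ^ (J + 1) ≤ orderOf (a ^ (r g - 1)) := by
      have h1 : (a ^ 2) ∈ zpowers (a ^ (r g - 1)) := by
        obtain ⟨s, t, hst⟩ : IsCoprime M (2 * u + 1) := by
          rw [hM]; exact IsCoprime.pow_left ⟨-u, 1, by ring⟩
        refine mem_zpowers_iff.mpr ⟨t, ?_⟩
        rw [← zpow_mul, ← zpow_natCast a, hmod]
        exact ⟨2 * s, by linear_combination -2 * hst - t * hu⟩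
      have h2 : orderOf (a ^ 2) = 2 ^ (J + 1) := by
        rw [orderOf_pow, hj, Nat.gcd_eq_right (dvd_pow_self 2 (by omega)), pow_succ, Nat.mul_div_cancel _ two_pos]
      rw [← h2, ← Nat.card_zpowers, ← Nat.card_zpowers]
      exact card_le_of_le (zpowers_le.mpr h1)
    have hn' : n = J + 3 := by
      have := (zpowers a).card_mul_index
      rw [hidx, Nat.card_zpowers, hj, hG, ← pow_succ] at this
      exact (Nat.pow_right_injective le_rfl this).symm
    have h1 := (commutator G).card_mul_index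
    have h2 := card_le_of_le hsub
    rw [Nat.card_zpowers] at h2
    have h4 := sq_le_index_frattini' hP hnc
    have h5 := index_antitone (CfsgLib.PGroups.commutator_le_frattini hP)
    rw [hG, hn', show 2 ^ (J + 3) = 2 ^ (J + 1) * 4 by ring] at h1
    have h6 : 2 ^ (J + 1) * (commutator G).index ≤ 2 ^ (J + 1) * 4 := by
      rw [← h1]; exact Nat.mul_le_mul_right _ (hord.trans h2)
    have h7 := Nat.le_of_mul_le_mul_left h6 (pow_pos two_pos _)
    omega

/-- A noncyclic group, not a two-group of maximal class, has a normal elementary group of order `p ^ 2`. -/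
theorem exists_normal_elementary {n : ℕ} (hG : Nat.card G = p ^ n) (hnc : ¬ IsCyclic G)
    (hcl : p = 2 → Group.nilpotencyClass G ≠ n - 1) :
    ∃ E : Subgroup G, E.Normal ∧ Nat.card E = p ^ 2 ∧ ∀ e ∈ E, e ^ p = 1 := by
  by_cases h2 : p = 2
  · subst h2
    exact exists_normal_four' hG hnc (hcl rfl)
  · obtain ⟨A, -, hAn, hAel, hAc⟩ := CfsgLib.PLocal.exists_normal_elementary_sq h2 (IsPGroup.of_card hG)
      (⊤ : Subgroup G) (fun h => hnc (isCyclic_of_surjective (⊤ : Subgroup G).subtype
        fun x => ⟨⟨x, mem_top x⟩, rfl⟩))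
    exact ⟨A, hAn, hAc, hAel.2⟩

end CfsgLib.FgsB.Kulakov
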