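import Mathlib
import Cfsg.Agent.Lib.FgsB.KulakovFour

/-!
# The auxiliary counts for Kulakov's theorem
-/

set_option autoImplicit false
set_option linter.style.haveILetI false

namespace CfsgLib.FgsB.Kulakov

open Subgroup
open scoped commutatorElement

variable {G : Type*} [Group G] [Finite G] {p : ℕ} [hp : Fact p.Prime]

omit [Finite G] in
/-- A set invariant under right multiplication by a subgroup is a union of cosets. -/
theorem dvd_card_of_invariant (E : Subgroup G) (S : G → Prop)
    (h : ∀ x, S x → ∀ e ∈ E, S (x * e)) : Nat.card E ∣ Nat.card {x : G // S x} := by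
  let T : Set (G ⧸ E) := {q | ∃ x, S x ∧ (x : G ⧸ E) = q}
  have e1 : {x : G // S x} ≃ ↥((QuotientGroup.mk : G → G ⧸ E) ⁻¹' T) :=
    Equiv.subtypeEquivRight fun x => ⟨fun hx => ⟨x, hx, rfl⟩, fun ⟨y, hy, hyx⟩ => by
      have h1 : y⁻¹ * x ∈ E := QuotientGroup.eq.mp hyx
      simpa using h y hy _ h1⟩
  rw [Nat.card_congr (e1.trans (QuotientGroup.preimageMkEquivSubgroupProdSet E T)), Nat.card_prod]
  exact Dvd.intro _ rfl

theorem exists_mem_ne {E : Subgroup G} (hEc : Nat.card E = p ^ 2) :
    E ≠ ⊥ := fun h => by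
  rw [h, card_bot] at hEc
  exact absurd hEc.symm (Nat.one_lt_pow two_ne_zero hp.out.one_lt).ne'

/-- The commutator with a normal elementary group of order `p ^ 2` is central. -/
theorem commutator_mem_center (hP : IsPGroup p G) {E : Subgroup G} [E.Normal]
    (hEc : Nat.card E = p ^ 2) {e : G} (he : e ∈ E) (g : G) :
    ⁅e, g⁆ ∈ center G ∧ ⁅e, g⁆ ∈ E := by
  obtain ⟨w, hw⟩ := exists_prime_orderOf_dvd_card' p (CfsgLib.PGroups.dvd_card_of_ne_bot hP
    (CfsgLib.PGroups.inf_center_ne_bot hP (exists_mem_ne hEc)))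
  set Z := zpowers (w : G) with hZ
  have hZE : Z ≤ E := zpowers_le.mpr w.2.1
  have hZc : Z ≤ center G := zpowers_le.mpr w.2.2
  haveI : Z.Normal := CfsgLib.PGroups.normal_of_le_center hZc
  have hZcard : Nat.card Z = p := by rw [hZ, Nat.card_zpowers, Subgroup.orderOf_coe, hw]
  set f := QuotientGroup.mk' Z with hf
  haveI : (E.map f).Normal := Subgroup.Normal.map inferInstance f (QuotientGroup.mk'_surjective Z)
  have hEf : Nat.card (E.map f) = p := by
    have h := card_map_mul hZE
    rw [hZcard, hEc, pow_two] at h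
    exact Nat.eq_of_mul_eq_mul_right hp.out.pos h
  have h1 := le_center_of_card (hP.to_quotient Z) hEf ⟨e, he, rfl⟩
  have h2 : ⁅e, g⁆ ∈ Z := by
    rw [← QuotientGroup.eq_one_iff, ← QuotientGroup.mk'_apply, map_commutatorElement,
      commutatorElement_eq_one_iff_mul_comm]
    exact (mem_center_iff.mp h1 _).symm
  exact ⟨hZc h2, hZE h2⟩

/-- The solutions of `x ^ p = 1` are a multiple of `p ^ 2`. -/
theorem sq_dvd_card_solutions {n : ℕ} (hG : Nat.card G = p ^ n)
    (hcl : p = 2 → Group.nilpotencyClass G ≠ n - 1) {E : Subgroup G} [E.Normal]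
    (hEc : Nat.card E = p ^ 2) (hEp : ∀ e ∈ E, e ^ p = 1) :
    p ^ 2 ∣ Nat.card {x : G // x ^ p = 1} := by
  classical
  have hP : IsPGroup p G := IsPGroup.of_card hG
  by_cases hp2 : p ≠ 2
  · rw [← hEc]
    refine dvd_card_of_invariant E _ fun x hx e he => ?_
    obtain ⟨hc, hcE⟩ := commutator_mem_center hP hEc he x
    obtain ⟨d, hd⟩ := hp.out.dvd_choose_self two_ne_zero (lt_of_le_of_ne hp.out.two_le (Ne.symm hp2))
    rw [CfsgLib.PGroups.mul_pow_of_central hc p, hx, hEp e he, hd, pow_mul, hEp _ hcE, one_pow,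
      one_mul, one_mul]
  push Not at hp2
  subst hp2
  replace hcl := hcl rfl
  have hEcomm : ∀ a ∈ E, ∀ b ∈ E, a * b = b * a := fun a ha b hb => by
    have key : ∀ u ∈ E, u⁻¹ = u := fun u hu => inv_eq_of_mul_eq_one_right (by rw [← sq]; exact hEp u hu)
    calc a * b = (a * b)⁻¹ := (key _ (mul_mem ha hb)).symm
      _ = b * a := by rw [mul_inv_rev, key a ha, key b hb]
  set C := centralizer (E : Set G) with hC
  have hEC : E ≤ C := fun e he => mem_centralizer_iff.mpr fun y hy => hEcomm y hy e he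
  haveI := Fintype.ofFinite G
  have hsplit : Nat.card {x : G // x ^ 2 = 1} = Nat.card {x : G // x ^ 2 = 1 ∧ x ∈ C} +
      Nat.card {x : G // x ^ 2 = 1 ∧ x ∉ C} := by
    simp only [Nat.card_eq_fintype_card, Fintype.card_subtype, ← Finset.filter_filter]
    exact (Finset.card_filter_add_card_filter_not _).symm
  rw [hsplit]
  refine dvd_add ?_ ?_
  · rw [← hEc]
    refine dvd_card_of_invariant E _ fun x hx e he => ⟨?_, mul_mem hx.2 (hEC he)⟩
    rw [(show Commute x e from (mem_centralizer_iff.mp hx.2 e he).symm).mul_pow, hx.1, hEp e he, one_mul]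
  -- outside the centralizer
  obtain ⟨w, hw⟩ := exists_prime_orderOf_dvd_card' 2 (CfsgLib.PGroups.dvd_card_of_ne_bot hP
    (CfsgLib.PGroups.inf_center_ne_bot hP (exists_mem_ne hEc)))
  set z := (w : G) with hz
  have hzo : orderOf z = 2 := by rw [hz, Subgroup.orderOf_coe, hw]
  have hz2 : z * z = 1 := by rw [← sq, ← hzo, pow_orderOf_eq_one]
  have hzE : z ∈ E := w.2.1
  have hzc : ∀ g, Commute g z := fun g => mem_center_iff.mp w.2.2 g
  -- each class either has at least four elements
  by_cases hT2 : ∀ x : G, x ^ 2 = 1 → x ∉ C → 4 ∣ (centralizer ({x} : Set G)).index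
  · show 2 ^ 2 ∣ _
    let act : MulAction G {x : G // x ^ 2 = 1 ∧ x ∉ C} :=
      { smul := fun g x => ⟨g * x.1 * g⁻¹, by rw [conj_pow, x.2.1, mul_one, mul_inv_cancel], fun hmem => x.2.2 (by
            have hCn : C.Normal := by rw [hC]; infer_instance
            have := hCn.conj_mem _ hmem g⁻¹
            simpa [mul_assoc] using this)⟩
        one_smul := fun x => Subtype.ext (show 1 * x.1 * (1 : G)⁻¹ = x.1 by simp)
        mul_smul := fun g h x => Subtype.ext (show g * h * x.1 * (g * h)⁻¹ = g * (h * x.1 * h⁻¹) * g⁻¹ by group) }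
    refine dvd_card_of_forall_dvd_orbit (G := G) _ fun x => ?_
    rw [Nat.card_coe_set_eq, ← MulAction.index_stabilizer]
    have e : (MulAction.stabilizer G x) = centralizer ({x.1} : Set G) := by
      ext g
      rw [MulAction.mem_stabilizer_iff, Subtype.ext_iff, mem_centralizer_singleton_iff]
      show g * x.1 * g⁻¹ = x.1 ↔ _
      rw [mul_inv_eq_iff_eq_mul]
    rw [e]
    exact hT2 x.1 x.2.1 x.2.2
  push Not at hT2
  obtain ⟨x, hx2, hxC, hxi⟩ := hT2
  obtain ⟨u, huE, hux⟩ : ∃ u ∈ E, x * u ≠ u * x := by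
    by_contra h
    push Not at h
    exact hxC (mem_centralizer_iff.mpr fun y hy => (h y hy).symm)
  have hu1 : u ≠ 1 := fun h => hux (by simp [h])
  have huz : u ≠ z := fun h => hux (h ▸ (hzc x).eq)
  have hu2 : u * u = 1 := by rw [← sq]; exact hEp u huE
  have hz1 : z ≠ 1 := fun h => by rw [h, orderOf_one] at hzo; omega
  have hE4 : ∀ e ∈ E, e = 1 ∨ e = z ∨ e = u ∨ e = u * z := by
    intro e he
    by_contra hne
    push Not at hne
    have h5 : ({1, z, u, u * z, e} : Set G).ncard = 5 := by
      rw [Set.ncard_insert_of_notMem, Set.ncard_insert_of_notMem, Set.ncard_insert_of_notMem,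
        Set.ncard_pair hne.2.2.2.symm]
      · simp only [Set.mem_insert_iff, Set.mem_singleton_iff, not_or]
        exact ⟨fun h => hz1 (mul_eq_left.mp h.symm), hne.2.2.1.symm⟩
      · simp only [Set.mem_insert_iff, Set.mem_singleton_iff, not_or]
        exact ⟨huz.symm, fun h => hu1 (mul_eq_right.mp h.symm), hne.2.1.symm⟩
      · simp only [Set.mem_insert_iff, Set.mem_singleton_iff, not_or]
        refine ⟨hz1.symm, hu1.symm, fun h => huz ?_, hne.1.symm⟩
        rw [eq_inv_of_mul_eq_one_left h.symm]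
        exact inv_eq_of_mul_eq_one_right hz2
    have hsub : ({1, z, u, u * z, e} : Set G) ⊆ (E : Set G) := by
      intro v hv
      simp only [Set.mem_insert_iff, Set.mem_singleton_iff] at hv
      rcases hv with rfl | rfl | rfl | rfl | rfl
      exacts [one_mem _, hzE, huE, mul_mem huE hzE, he]
    have := Set.ncard_le_ncard hsub
    rw [h5, ← Nat.card_coe_set_eq] at this
    simp only [SetLike.coe_sort_coe, hEc] at this
    omega
  have hxu : x * u = u * x * z := by
    rcases hE4 _ ((inferInstance : E.Normal).conj_mem u huE x) with h | h | h | h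
    · exact absurd (conj_eq_one_iff.mp h) hu1
    · exfalso
      refine huz ?_
      calc u = x⁻¹ * (x * u * x⁻¹) * x := by group
        _ = z := by rw [h, mul_assoc, ← (hzc x).eq, inv_mul_cancel_left]
    · exact absurd (mul_inv_eq_iff_eq_mul.mp h) hux
    · rw [mul_inv_eq_iff_eq_mul.mp h, mul_assoc, ← (hzc x).eq, mul_assoc]
  -- the centralizer of `E` and the class of `x`
  set Cx := centralizer ({x} : Set G) with hCx
  have hCxi : Cx.index = 2 := by
    obtain ⟨j, hj⟩ := hP.index Cx
    rw [hj] at hxi ⊢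
    have hj0 : j ≠ 0 := by
      rintro rfl
      rw [pow_zero, index_eq_one] at hj
      exact hux (mem_centralizer_singleton_iff.mp (hj ▸ mem_top u : u ∈ Cx)).symm
    have : j < 2 := by
      by_contra h
      exact hxi (dvd_trans (by norm_num) (pow_dvd_pow 2 (not_lt.mp h)))
    rw [show j = 1 by omega]; rfl
  have hxCx : x ∈ Cx := mem_centralizer_singleton_iff.mpr rfl
  have huCx : u ∉ Cx := fun h => hux (mem_centralizer_singleton_iff.mp h).symm
  set D := C ⊓ Cx with hD
  have hzD : z ∈ D := ⟨hEC hzE, mem_centralizer_singleton_iff.mpr (hzc x).symm.eq⟩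
  have huD : u ∉ D := fun h => huCx h.2
  have hCdec : ∀ c ∈ C, ∃ e, (e = 1 ∨ e = u) ∧ e * c ∈ D := by
    intro c hc
    by_cases h : c ∈ Cx
    · exact ⟨1, Or.inl rfl, by rw [one_mul]; exact ⟨hc, h⟩⟩
    · exact ⟨u, Or.inr rfl, mul_mem (hEC huE) hc,
        (mul_mem_iff_of_index_two hCxi).mpr (iff_of_false huCx h)⟩
  have hCout : ∀ y, y ∉ C → x * y ∈ C := by
    intro y hy
    have hyu : y * u ≠ u * y := fun h => by
      refine hy (mem_centralizer_iff.mpr fun e he => ?_)
      rcases hE4 e he with rfl | rfl | rfl | rfl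
      · simp
      · exact (hzc y).symm.eq
      · exact h.symm
      · exact ((show Commute y u from h).mul_right (hzc y)).symm.eq
    have hyu' : y * u = u * y * z := by
      rcases hE4 _ ((inferInstance : E.Normal).conj_mem u huE y) with h | h | h | h
      · exact absurd (conj_eq_one_iff.mp h) hu1
      · exfalso
        refine huz ?_
        calc u = y⁻¹ * (y * u * y⁻¹) * y := by group
          _ = z := by rw [h, mul_assoc, ← (hzc y).eq, inv_mul_cancel_left]
      · exact absurd (mul_inv_eq_iff_eq_mul.mp h) hyu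
      · rw [mul_inv_eq_iff_eq_mul.mp h, mul_assoc, ← (hzc y).eq, mul_assoc]
    refine mem_centralizer_iff.mpr fun e he => ?_
    have hcu : Commute (x * y) u := by
      show x * y * u = u * (x * y)
      calc x * y * u = x * u * (y * z) := by rw [mul_assoc, hyu']; group
        _ = u * x * (z * (y * z)) := by rw [hxu]; group
        _ = u * x * (y * (z * z)) := by rw [← mul_assoc z, ← (hzc y).eq, mul_assoc y]
        _ = u * (x * y) := by rw [hz2, mul_one, mul_assoc]
    rcases hE4 e he with rfl | rfl | rfl | rfl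
    · simp
    · exact (hzc _).symm.eq
    · exact hcu.symm.eq
    · exact (hcu.mul_right (hzc _)).symm.eq
  have hxx : x * x = 1 := by rw [← sq]; exact hx2
  have hxu2 : x * u * (x * u) = z := by
    calc x * u * (x * u) = u * x * z * (x * u) := by rw [hxu]
      _ = u * (x * x) * (z * u) := by rw [mul_assoc (u * x) z, ← mul_assoc z x, ← (hzc x).eq]; group
      _ = z := by rw [hxx, mul_one, ← mul_assoc, (hzc u).eq, mul_assoc, hu2, mul_one]
  let ε : G → G := fun a => if a * a = 1 then 1 else u
  let R := {a : G // a ∈ D ∧ (a * a = 1 ∨ a * a = z)}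
  have hεu : ∀ a : R, ε a.1 = 1 ∧ a.1 * a.1 = 1 ∨ ε a.1 = u ∧ a.1 * a.1 = z := by
    intro a
    by_cases h : a.1 * a.1 = 1
    · exact Or.inl ⟨if_pos h, h⟩
    · exact Or.inr ⟨if_neg h, a.2.2.resolve_left h⟩
  have hεC : ∀ a : R, ε a.1 * a.1 ∈ C := fun a => by
    rcases hεu a with h | h <;> rw [h.1]
    · rw [one_mul]; exact a.2.1.1
    · exact mul_mem (hEC huE) a.2.1.1
  let F : R → {y : G // y ^ 2 = 1 ∧ y ∉ C} := fun a => ⟨x * (ε a.1 * a.1), by
    have hax : Commute a.1 x := mem_centralizer_singleton_iff.mp a.2.1.2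
    have hau : Commute a.1 u := (mem_centralizer_iff.mp a.2.1.1 u huE).symm
    rcases hεu a with ⟨he, h⟩ | ⟨he, h⟩ <;> rw [he]
    · rw [one_mul, hax.symm.mul_pow, hx2, sq, h, one_mul]
    · rw [← mul_assoc, (hax.symm.mul_left hau.symm).mul_pow, sq, sq, hxu2, h, hz2],
    fun h => hxC ((mul_mem_cancel_right (hεC a)).mp h)⟩
  have hF : Function.Bijective F := by
    constructor
    · intro a b hab
      have h := mul_left_cancel (congrArg Subtype.val hab : x * (ε a.1 * a.1) = x * (ε b.1 * b.1))
      apply Subtype.ext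
      rcases hεu a with ⟨ha, -⟩ | ⟨ha, -⟩ <;> rcases hεu b with ⟨hb, -⟩ | ⟨hb, -⟩ <;> rw [ha, hb] at h
      · simpa using h
      · exfalso; refine huD ?_
        rw [one_mul] at h
        rw [show u = a.1 * b.1⁻¹ by rw [h, mul_inv_cancel_right]]
        exact mul_mem a.2.1 (inv_mem b.2.1)
      · exfalso; refine huD ?_
        rw [one_mul] at h
        rw [show u = b.1 * a.1⁻¹ by rw [← h, mul_inv_cancel_right]]
        exact mul_mem b.2.1 (inv_mem a.2.1)
      · exact mul_left_cancel h
    · rintro ⟨y, hy2, hyC⟩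
      obtain ⟨e, he, heD⟩ := hCdec (x * y) (hCout y hyC)
      have hy' : x * (e * (e * (x * y))) = y := by
        rw [← mul_assoc e e]
        rcases he with rfl | rfl
        · rw [one_mul, one_mul, ← mul_assoc, hxx, one_mul]
        · rw [hu2, one_mul, ← mul_assoc, hxx, one_mul]
      set a := e * (x * y) with ha
      have hax : Commute a x := mem_centralizer_singleton_iff.mp heD.2
      have hau : Commute a u := (mem_centralizer_iff.mp heD.1 u huE).symm
      have hsq : (x * (e * a)) ^ 2 = 1 := by rw [hy']; exact hy2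
      have haR : (e = 1 ∧ a * a = 1) ∨ (e = u ∧ a * a = z) := by
        rcases he with h | h <;> rw [h] at hsq
        · rw [one_mul, hax.symm.mul_pow, hx2, one_mul, sq] at hsq
          exact Or.inl ⟨h, hsq⟩
        · rw [← mul_assoc, (hax.symm.mul_left hau.symm).mul_pow, sq, sq, hxu2] at hsq
          refine Or.inr ⟨h, ?_⟩
          rw [eq_inv_of_mul_eq_one_right hsq, inv_eq_of_mul_eq_one_right hz2]
      refine ⟨⟨a, heD, haR.imp And.right And.right⟩, Subtype.ext ?_⟩
      show x * (ε a * a) = y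
      rcases haR with ⟨h1, h2⟩ | ⟨h1, h2⟩
      · have : ε a = 1 := if_pos h2
        rw [this, ← h1]; exact hy'
      · have : ε a = u := if_neg (by rw [h2]; exact hz1)
        rw [this, ← h1]; exact hy'
  rw [← Nat.card_eq_of_bijective F hF]
  -- `D` is larger than the centre of order two
  set Z := zpowers z with hZ
  have hZc : Nat.card Z = 2 := by rw [hZ, Nat.card_zpowers, hzo]
  have hDne : Z < D := by
    refine lt_of_le_of_ne (zpowers_le.mpr hzD) fun hZD => hcl ?_
    haveI := hP.isNilpotent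
    have hG8 : Nat.card G = 8 := by
      have hCE : C = E := by
        refine le_antisymm (fun c hc => ?_) hEC
        obtain ⟨e, he, hed⟩ := hCdec c hc
        have heE : e ∈ E := by rcases he with rfl | rfl; exacts [one_mem _, huE]
        have := zpowers_le.mpr hzE (hZD.symm.le hed)
        simpa using mul_mem (inv_mem heE) this
      have hCi : C.index = 2 := by
        rw [index_eq_two_iff]
        refine ⟨x, fun y => ?_⟩
        by_cases hy : y ∈ C
        · exact Or.inr ⟨hy, fun h => hxC ((mul_mem_cancel_left hy).mp h)⟩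
        · refine Or.inl ⟨?_, hy⟩
          have hCn : C.Normal := by rw [hC]; infer_instance
          exact hCn.mem_comm (hCout y hy)
      rw [← C.card_mul_index, hCi, hCE, hEc]; rfl
    have h3 : n = 3 := Nat.pow_right_injective (le_refl 2) (hG.symm.trans hG8)
    subst h3
    have h1 := CfsgLib.PGroups.nilpotencyClass_le_sub_one (p := 2) (n := 3) (by norm_num) hG
    have h2 : ¬ Group.nilpotencyClass G ≤ 1 := fun h => by
      haveI := Group.IsNilpotent.nilpotencyClass_le_one_iff.mp h
      exact hux (mul_comm' x u)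
    omega
  haveI : (Z.subgroupOf D).Normal :=
    (CfsgLib.PGroups.normal_of_le_center (zpowers_le.mpr w.2.2 : Z ≤ center G)).subgroupOf D
  have hZDc : Nat.card (Z.subgroupOf D) = 2 := by
    rw [Nat.card_congr (subgroupOfEquivOfLe hDne.le).toEquiv, hZc]
  obtain ⟨W, hWn, hZW, -, hWc⟩ := CfsgLib.PGroups.exists_normal_card_eq (hP.to_subgroup D)
    (le_top : Z.subgroupOf D ≤ ⊤) (k := 2) (by rw [hZDc]; norm_num) (by
      rw [card_top]
      obtain ⟨d, hd⟩ := CfsgLib.PGroups.card_subgroup_eq_pow hP D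
      rw [hd]
      refine Nat.pow_le_pow_right two_pos ?_
      by_contra hd2
      have h1 := Nat.pow_le_pow_right two_pos (show d ≤ 1 by omega)
      rw [← hd, pow_one] at h1
      exact hDne.ne (eq_of_le_of_card_ge hDne.le (by rw [hZc]; exact h1)))
  haveI := hWn
  set fD := QuotientGroup.mk' (Z.subgroupOf D) with hfD
  have hWf : Nat.card (W.map fD) = 2 := by
    have h := card_map_mul hZW
    rw [hZDc, hWc] at h
    rw [hfD]; omega
  haveI : (W.map fD).Normal := Subgroup.Normal.map inferInstance fD (QuotientGroup.mk'_surjective _)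
  have hWcen := le_center_of_card ((hP.to_subgroup D).to_quotient _) hWf
  have hmemZ : ∀ v : G, v ∈ Z → v = 1 ∨ v = z := by
    intro v hv
    obtain ⟨i, rfl⟩ := mem_zpowers_iff.mp hv
    rcases Int.even_or_odd' i with ⟨l, rfl | rfl⟩
    · left; rw [zpow_mul, zpow_two, hz2, one_zpow]
    · right; rw [zpow_add, zpow_mul, zpow_two, hz2, one_zpow, one_mul, zpow_one]
  have hR : ∀ a : D, ((a : G) * a = 1 ∨ (a : G) * a = z) ↔ fD a ^ 2 = 1 := by
    intro a
    rw [← map_pow, ← MonoidHom.mem_ker, hfD, QuotientGroup.ker_mk', mem_subgroupOf, Subgroup.coe_pow, sq]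
    constructor
    · rintro (h | h) <;> rw [h]
      exacts [one_mem _, mem_zpowers z]
    · exact hmemZ _
  have e : R ≃ {a : D // fD a ^ 2 = 1} :=
    { toFun := fun a => ⟨⟨a.1, a.2.1⟩, (hR ⟨a.1, a.2.1⟩).mp a.2.2⟩
      invFun := fun a => ⟨a.1.1, a.1.2, (hR a.1).mpr a.2⟩
      left_inv := fun a => rfl
      right_inv := fun a => rfl }
  rw [Nat.card_congr e, ← hWc]
  refine dvd_card_of_invariant W _ fun a ha b hb => ?_
  have h1 : Commute (fD a) (fD b) := mem_center_iff.mp (hWcen ⟨b, hb, rfl⟩) (fD a)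
  have h2 : fD b ^ 2 = 1 := by
    have h3 : (⟨fD b, b, hb, rfl⟩ : W.map fD) ^ 2 = 1 := by rw [← hWf, pow_card_eq_one']
    exact congrArg Subtype.val h3
  rw [map_mul, h1.mul_pow, ha, h2, one_mul]

/-- The number of subgroups of order `p`. -/
theorem cnt_one (hp1 : p ^ 2 ∣ Nat.card {x : G // x ^ p = 1}) : cnt p G 1 ≡ 1 + p [MOD p ^ 2] := by
  classical
  haveI := Fintype.ofFinite G
  haveI := Fintype.ofFinite {H : Subgroup G // Nat.card H = p ^ 1}
  have hpr := hp.out
  have hord : ∀ {x : G}, x ^ p = 1 → x ≠ 1 → Nat.card (zpowers x) = p ^ 1 := fun h h1 => by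
    rw [Nat.card_zpowers, orderOf_eq_prime h h1, pow_one]
  have e : {x : {x : G // x ^ p = 1} // x.1 ≠ 1} ≃
      Σ H : {H : Subgroup G // Nat.card H = p ^ 1}, {y : H.1 // y ≠ 1} :=
    { toFun := fun x => ⟨⟨zpowers x.1.1, hord x.1.2 x.2⟩, ⟨x.1.1, mem_zpowers _⟩, fun h => x.2 (congrArg Subtype.val h)⟩
      invFun := fun s => ⟨⟨s.2.1.1, by
        have h : s.2.1 ^ Nat.card s.1.1 = 1 := pow_card_eq_one'
        have hc : Nat.card s.1.1 = p := s.1.2.trans (pow_one p)
        rw [hc] at h
        exact congrArg Subtype.val h⟩, fun h => s.2.2 (Subtype.ext h)⟩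
      left_inv := fun x => rfl
      right_inv := fun s => by
        obtain ⟨⟨H, hH⟩, ⟨⟨y, hy⟩, hy1⟩⟩ := s
        have hy1' : y ≠ 1 := fun h => hy1 (Subtype.ext h)
        have hyp : y ^ p = 1 := by
          have h : (⟨y, hy⟩ : H) ^ Nat.card H = 1 := pow_card_eq_one'
          rw [hH, pow_one] at h
          exact congrArg Subtype.val h
        have hHy : zpowers y = H := eq_of_le_of_card_ge (zpowers_le.mpr hy) (by rw [hH, hord hyp hy1'])
        subst hHy
        rfl }
  have h1 : Nat.card {x : G // x ^ p = 1} = Nat.card {x : {x : G // x ^ p = 1} // x.1 ≠ 1} + 1 := by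
    have h : Fintype.card {x : {x : G // x ^ p = 1} // x.1 ≠ 1} + 1 = Fintype.card {x : G // x ^ p = 1} := by
      rw [Fintype.card_subtype, show (Finset.univ.filter fun x : {x : G // x ^ p = 1} => x.1 ≠ 1) =
        Finset.univ.erase ⟨1, one_pow p⟩ by ext x; simp [Subtype.ext_iff],
        Finset.card_erase_add_one (Finset.mem_univ _)]
      rfl
    rw [Nat.card_eq_fintype_card, Nat.card_eq_fintype_card, ← h]
  have h2 : ∀ H : {H : Subgroup G // Nat.card H = p ^ 1}, Nat.card {y : H.1 // y ≠ 1} = p - 1 := by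
    intro H
    haveI := Fintype.ofFinite H.1
    have hc : Nat.card H.1 = p := H.2.trans (pow_one p)
    rw [Nat.card_eq_fintype_card, Fintype.card_subtype_compl, ← Nat.card_eq_fintype_card, hc]
    simp
  rw [h1, Nat.card_congr e, Nat.card_sigma, Finset.sum_congr rfl (fun H _ => h2 H), Finset.sum_const,
    Finset.card_univ, smul_eq_mul, ← Nat.card_eq_fintype_card] at hp1
  change p ^ 2 ∣ cnt p G 1 * (p - 1) + 1 at hp1
  set c := cnt p G 1
  rw [Nat.modEq_iff_dvd]
  have h3 : ((p ^ 2 : ℕ) : ℤ) ∣ (((c * (p - 1) + 1 : ℕ)) : ℤ) := Int.natCast_dvd_natCast.mpr hp1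
  push_cast [Nat.cast_sub hpr.one_le] at h3 ⊢
  obtain ⟨t, ht⟩ := h3
  exact ⟨t * (1 + (p : ℤ)) - c, by linear_combination (1 + (p : ℤ)) * ht⟩

/-- Subgroups of a two-group of maximal class of order at most a quarter of the group. -/
theorem cnt_maximalClass {n : ℕ} (hn : 3 ≤ n) (hG : Nat.card G = 2 ^ n)
    (hcl : Group.nilpotencyClass G = n - 1) {k : ℕ} (hk1 : 1 ≤ k) (hk : k + 2 ≤ n) :
    cnt 2 G k ≡ 1 [MOD 4] := by
  classical
  haveI : Fact (Nat.Prime 2) := ⟨Nat.prime_two⟩
  have hP : IsPGroup 2 G := IsPGroup.of_card hG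
  obtain ⟨c, t, hc, ht, hdec, -, hw1, ht2, htc⟩ := CfsgLib.PGroups.maximalClass_two_structure hn hG hcl
  set z := c ^ 2 ^ (n - 2) with hz
  set C := zpowers c with hC
  have hCi : C.index = 2 := by
    have h := C.card_mul_index
    rw [hC, Nat.card_zpowers, hc, hG, show 2 ^ n = 2 ^ (n - 1) * 2 by rw [← pow_succ]; congr 1; omega] at h
    exact Nat.eq_of_mul_eq_mul_left (pow_pos two_pos _) h
  haveI hCn : C.Normal := CfsgLib.PLocal.normal_of_index_prime (p := 2) hP hCi
  have hzc : ∀ j : ℤ, Commute z (c ^ j) := fun j => ((Commute.refl c).pow_left _).zpow_right j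
  have hzt : Commute t z := by
    have h1 : t * z * t⁻¹ = z := by
      rcases htc with h | h <;> rw [hz, ← conj_pow, h]
      · rw [inv_pow, ← hz, inv_eq_of_mul_eq_one_right (by rw [← sq]; exact hw1)]
      · rw [← hz, (show Commute z c⁻¹ from (by simpa using hzc (-1))).mul_pow, inv_pow, ← hz,
          inv_eq_of_mul_eq_one_right (show z * z = 1 by rw [← sq]; exact hw1),
          show 2 ^ (n - 2) = 2 * 2 ^ (n - 3) by rw [← pow_succ']; congr 1; omega, pow_mul, hw1,
          one_pow, one_mul]
    exact mul_inv_eq_iff_eq_mul.mp h1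
  -- squares outside `C`
  have hsq : ∀ y, y ∉ C → y * y = 1 ∨ y * y = z := by
    intro y hy
    obtain ⟨j, hj⟩ := mem_zpowers_iff.mp ((hdec y).resolve_left hy)
    have hy' : y = t * c ^ j := by rw [hj, mul_inv_cancel_left]
    have h1 : y * y = (t * c ^ j * t⁻¹) * (t * t) * c ^ j := by rw [hy']; group
    have hz' : z * z = 1 := by rw [← sq]; exact hw1
    have h2 : ∀ i : ℤ, z ^ i = 1 ∨ z ^ i = z := fun i => by
      rcases Int.even_or_odd' i with ⟨l, rfl | rfl⟩
      · left; rw [zpow_mul, zpow_two, hz', one_zpow]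
      · right; rw [zpow_add, zpow_mul, zpow_two, hz', one_zpow, one_mul, zpow_one]
    have h3 : ∃ v, (v = 1 ∨ v = z) ∧ t * c ^ j * t⁻¹ = v * (c ^ j)⁻¹ := by
      rcases htc with h | h
      · exact ⟨1, Or.inl rfl, by rw [← conj_zpow, h, inv_zpow, one_mul]⟩
      · exact ⟨z ^ j, h2 j, by
          rw [← conj_zpow, h, (show Commute z c⁻¹ from (by simpa using hzc (-1))).mul_zpow, inv_zpow]⟩
    obtain ⟨v, hv, hvj⟩ := h3
    rw [h1, hvj]
    rcases ht2 with h | h <;> rw [h]
    · rw [mul_one, inv_mul_cancel_right]; exact hv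
    · rw [mul_assoc v, ← ((hzc j).inv_right).eq, mul_assoc v, inv_mul_cancel_right]
      rcases hv with rfl | rfl
      · exact Or.inr (one_mul z)
      · exact Or.inl hz'
  set N := zpowers (c ^ 2 ^ (n - k)) with hN
  have hNc : Nat.card N = 2 ^ (k - 1) := by
    rw [hN, Nat.card_zpowers, orderOf_pow, hc, Nat.gcd_eq_right (pow_dvd_pow 2 (by omega)),
      Nat.pow_div (by omega) two_pos]
    congr 1; omega
  have hNC : N ≤ C := zpowers_le.mpr (pow_mem (mem_zpowers c) _)
  have hCun : ∀ A B : Subgroup G, A ≤ C → B ≤ C → Nat.card A = Nat.card B → A = B := by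
    intro A B hA hB hAB
    have key : ∀ X : Subgroup G, X ≤ C → (X : Set G) = {x | x ∈ C ∧ x ^ Nat.card X = 1} := by
      intro X hX
      have hsub : (X : Set G) ⊆ {x | x ∈ C ∧ x ^ Nat.card X = 1} := fun x hx =>
        ⟨hX hx, congrArg Subtype.val (pow_card_eq_one' (G := X) (x := ⟨x, hx⟩))⟩
      refine Set.eq_of_subset_of_ncard_le hsub ?_
      haveI : IsCyclic C := by rw [hC]; infer_instance
      haveI := Fintype.ofFinite C
      rw [← Nat.card_coe_set_eq (X : Set G)]
      show _ ≤ Nat.card X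
      refine le_trans (le_of_eq ?_) (IsCyclic.card_pow_eq_one_le (α := C) (Nat.card_pos : 0 < Nat.card X))
      rw [← Nat.card_coe_set_eq, ← Fintype.card_subtype, ← Nat.card_eq_fintype_card]
      exact Nat.card_congr
        { toFun := fun x => ⟨⟨x.1, x.2.1⟩, Subtype.ext x.2.2⟩
          invFun := fun x => ⟨x.1.1, x.1.2, congrArg Subtype.val x.2⟩
          left_inv := fun x => rfl
          right_inv := fun x => rfl }
    apply SetLike.coe_injective
    rw [key A hA, key B hB, hAB]
  haveI hNn : N.Normal := by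
    refine ⟨fun x hx g => ?_⟩
    have h1 : N.map (MulAut.conj g).toMonoidHom = N := by
      refine hCun _ _ ?_ hNC (card_map_of_injective (MulAut.conj g).injective)
      rintro _ ⟨v, hv, rfl⟩
      exact hCn.conj_mem v (hNC hv) g
    exact h1.le ⟨x, hx, rfl⟩
  set f := QuotientGroup.mk' N with hf
  have hfs : Function.Surjective f := QuotientGroup.mk'_surjective N
  have hker : f.ker = N := QuotientGroup.ker_mk' N
  set Cb := C.map f with hCb
  have hCbc : Cb.comap f = C := by rw [hCb, comap_map_eq, hker, sup_eq_left.mpr hNC]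
  -- the subgroups of order `2 ^ k`
  let A := {H : Subgroup G // Nat.card H = 2 ^ k ∧ ¬ H ≤ C}
  let B := {q : G ⧸ N // q ∉ Cb ∧ q ^ 2 = 1}
  have hsub : cnt 2 G k = Nat.card A + 1 := by
    haveI := Fintype.ofFinite (Subgroup G)
    obtain ⟨H0, hH0⟩ : ∃ H0 : Subgroup G, Nat.card H0 = 2 ^ k ∧ H0 ≤ C := by
      obtain ⟨K, hK⟩ := Sylow.exists_subgroup_card_pow_prime 2 (G := C) (n := k)
        (by rw [hC, Nat.card_zpowers, hc]; exact pow_dvd_pow 2 (by omega))
      exact ⟨K.map C.subtype, by rw [card_map_of_injective C.subtype_injective]; exact hK, map_subtype_le K⟩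
    rw [cnt, Nat.card_eq_fintype_card, Nat.card_eq_fintype_card, Fintype.card_subtype, Fintype.card_subtype,
      ← Finset.filter_filter, ← Finset.card_filter_add_card_filter_not (p := fun H : Subgroup G => ¬ H ≤ C)]
    congr 1
    rw [Finset.card_eq_one]
    refine ⟨H0, ?_⟩
    ext H
    simp only [Finset.mem_filter, Finset.mem_univ, true_and, not_not, Finset.mem_singleton]
    exact ⟨fun h => hCun H H0 h.2 hH0.2 (h.1.trans hH0.1.symm), fun h => h ▸ hH0⟩
  have hAN : ∀ H : A, N ≤ H.1 ∧ Nat.card (H.1.map f) = 2 := by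
    intro ⟨H, hH, hHC⟩
    have h1 : C.relIndex H = 2 := by
      have hsup : C ⊔ H = ⊤ := by
        rcases (CfsgLib.PGroups.isCoatom_of_index_eq_prime (p := 2) hCi).le_iff.mp
          (le_sup_left : C ≤ C ⊔ H) with h | h
        · exact h
        · exact absurd (h ▸ le_sup_right) hHC
      rw [← relIndex_sup_left, hsup, relIndex_top_right, hCi]
    have h2 : Nat.card ↥(C ⊓ H) = 2 ^ (k - 1) := by
      have h := (C.subgroupOf H).card_mul_index
      have h3 : (C.subgroupOf H).index = 2 := h1
      rw [h3, hH, ← inf_subgroupOf_right, Nat.card_congr (subgroupOfEquivOfLe inf_le_right).toEquiv,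
        show 2 ^ k = 2 ^ (k - 1) * 2 by rw [← pow_succ]; congr 1; omega] at h
      omega
    have hNH : N ≤ H := (hCun _ _ inf_le_left hNC (h2.trans hNc.symm)).symm.le.trans inf_le_right
    refine ⟨hNH, ?_⟩
    have h := card_map_mul hNH
    rw [hNc, hH, show 2 ^ k = 2 * 2 ^ (k - 1) by rw [← pow_succ']; congr 1; omega] at h
    exact Nat.eq_of_mul_eq_mul_right (pow_pos two_pos _) h
  have hq2 : ∀ q : B, Nat.card (zpowers q.1) = 2 := fun q => by
    rw [Nat.card_zpowers, orderOf_eq_prime q.2.2 fun h => q.2.1 (by rw [h]; exact one_mem Cb)]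
  let φ : B → A := fun q => ⟨(zpowers q.1).comap f, by
    have hle : N ≤ (zpowers q.1).comap f := hker.symm.le.trans (ker_le_comap f _)
    rw [← card_map_mul hle, hNc]
    rw [← hf, map_comap_eq_self_of_surjective hfs, hq2 q, ← pow_succ']
    congr 1; omega, fun h => q.2.1 (by
      have := map_mono (f := f) h
      rw [map_comap_eq_self_of_surjective hfs] at this
      exact this (mem_zpowers q.1))⟩
  have hφ : Function.Bijective φ := by
    constructor
    · intro q q' hqq
      have h := congrArg (fun H : A => H.1.map f) hqq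
      simp only [φ, map_comap_eq_self_of_surjective hfs] at h
      apply Subtype.ext
      obtain ⟨i, hi⟩ := mem_zpowers_iff.mp (h ▸ mem_zpowers q.1 : q.1 ∈ zpowers q'.1)
      rcases Int.even_or_odd' i with ⟨l, rfl | rfl⟩
      · exfalso
        refine q.2.1 ?_
        rw [← hi, zpow_mul, zpow_two, ← sq, q'.2.2, one_zpow]
        exact one_mem _
      · rw [← hi, zpow_add, zpow_mul, zpow_two, ← sq, q'.2.2, one_zpow, one_mul, zpow_one]
    · intro H
      obtain ⟨y, hyH, hyC⟩ := SetLike.not_le_iff_exists.mp H.2.2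
      have h2 := (hAN H).2
      have hfy : f y ∉ Cb := fun h => hyC (hCbc ▸ h)
      have hsq' : f y ^ 2 = 1 := by
        have h : (⟨f y, y, hyH, rfl⟩ : H.1.map f) ^ Nat.card (H.1.map f) = 1 := pow_card_eq_one'
        have h5 : f y ^ Nat.card (H.1.map f) = 1 := congrArg Subtype.val h
        rwa [h2] at h5
      refine ⟨⟨f y, hfy, hsq'⟩, Subtype.ext ?_⟩
      show (zpowers (f y)).comap f = H.1
      rw [show zpowers (f y) = H.1.map f from eq_of_le_of_card_ge (zpowers_le.mpr ⟨y, hyH, rfl⟩)
        (by rw [h2]; exact le_of_eq (hq2 ⟨f y, hfy, hsq'⟩).symm), comap_map_eq, hker,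
        sup_eq_left.mpr (hAN H).1]
  rw [hsub, ← Nat.card_eq_of_bijective φ hφ]
  have hB : 4 ∣ Nat.card B := by
    rcases (by omega : k = 1 ∨ 2 ≤ k) with rfl | hk2
    · -- invariant under multiplication by even powers of the generator
      have hN1 : N = ⊥ := card_eq_one.mp (by rw [hNc]; rfl)
      have hinj : Function.Injective f := by
        rw [← MonoidHom.ker_eq_bot_iff, hker, hN1]
      have e : B ≃ {y : G // y ∉ C ∧ y * y = 1} :=
        ((Equiv.ofBijective f ⟨hinj, hfs⟩).subtypeEquiv fun y => by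
          show _ ↔ (f y ∉ Cb ∧ f y ^ 2 = 1)
          rw [show (f y ∈ Cb ↔ y ∈ C) by rw [← hCbc]; rfl, sq, ← map_mul,
            show (f (y * y) = 1 ↔ y * y = 1) from map_eq_one_iff f hinj]).symm
      rw [Nat.card_congr e]
      set D := zpowers (c ^ 2) with hD
      have hDc : Nat.card D = 2 ^ (n - 2) := by
        rw [hD, Nat.card_zpowers, orderOf_pow, hc, Nat.gcd_eq_right (dvd_pow_self 2 (by omega)),
          show n - 1 = n - 2 + 1 by omega, pow_succ, Nat.mul_div_cancel _ two_pos]
      have hinv : ∀ y : G, (y ∉ C ∧ y * y = 1) → ∀ e ∈ D, y * e ∉ C ∧ y * e * (y * e) = 1 := by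
        rintro y ⟨hy, hy2⟩ e he
        obtain ⟨i, rfl⟩ := mem_zpowers_iff.mp he
        refine ⟨fun h => hy ((mul_mem_cancel_right (zpow_mem (pow_mem (mem_zpowers c) 2) i)).mp h), ?_⟩
        obtain ⟨j, hj⟩ := mem_zpowers_iff.mp ((hdec y).resolve_left hy)
        have hy' : y = t * c ^ j := by rw [hj, mul_inv_cancel_left]
        have hz' : z * z = 1 := by rw [← sq]; exact hw1
        have h1 : y * (c ^ 2) ^ i * y⁻¹ = ((c ^ 2) ^ i)⁻¹ := by
          rw [← zpow_natCast c, ← zpow_mul, hy']
          calc t * c ^ j * c ^ (((2 : ℕ) : ℤ) * i) * (t * c ^ j)⁻¹ = t * c ^ (((2 : ℕ) : ℤ) * i) * t⁻¹ := by group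
            _ = (c ^ (((2 : ℕ) : ℤ) * i))⁻¹ := by
              rw [← conj_zpow]
              rcases htc with h | h <;> rw [h]
              · rw [inv_zpow]
              · rw [(show Commute z c⁻¹ from (by simpa using hzc (-1))).mul_zpow, inv_zpow, zpow_mul z,
                  zpow_natCast, sq, hz', one_zpow, one_mul]
        have hyi : y⁻¹ = y := inv_eq_of_mul_eq_one_right hy2
        calc y * (c ^ 2) ^ i * (y * (c ^ 2) ^ i) = (y * (c ^ 2) ^ i * y⁻¹) * (c ^ 2) ^ i := by rw [hyi]; group
          _ = 1 := by rw [h1, inv_mul_cancel]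
      rcases (by omega : 4 ≤ n ∨ n = 3) with hn4 | rfl
      · refine dvd_trans ?_ (dvd_card_of_invariant D _ hinv)
        rw [hDc]
        exact dvd_trans (by norm_num) (pow_dvd_pow 2 (show 2 ≤ n - 2 by omega))
      · -- order eight: all or none
        have hinv' : ∀ y : G, (y ∉ C ∧ y * y = 1) → ∀ e ∈ C, y * e ∉ C ∧ y * e * (y * e) = 1 := by
          rintro y ⟨hy, hy2⟩ e he
          refine ⟨fun h => hy ((mul_mem_cancel_right he).mp h), ?_⟩
          have hinvc : t * c * t⁻¹ = c⁻¹ := by
            refine htc.resolve_right fun h => ?_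
            have hcc : z * c⁻¹ = c := by
              rw [hz, show 2 ^ (3 - 2) = 2 from rfl, sq, mul_inv_cancel_right]
            rw [hcc] at h
            haveI := hP.isNilpotent
            have hcom : IsMulCommutative G := by
              refine ⟨⟨fun a b => ?_⟩⟩
              have hd : ∀ g : G, ∃ (s : ℕ) (i : ℤ), g = t ^ s * c ^ i := by
                intro g
                rcases hdec g with hg | hg <;> obtain ⟨i, hi⟩ := mem_zpowers_iff.mp hg
                · exact ⟨0, i, by rw [pow_zero, one_mul, hi]⟩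
                · exact ⟨1, i, by rw [pow_one, hi, mul_inv_cancel_left]⟩
              obtain ⟨s, i, rfl⟩ := hd a
              obtain ⟨s', i', rfl⟩ := hd b
              have hct : Commute t c := mul_inv_eq_iff_eq_mul.mp h
              exact (((Commute.refl t).pow_pow s s').mul_right ((hct.pow_left s).zpow_right i')).mul_left
                (((hct.symm.zpow_left i).pow_right s').mul_right ((Commute.refl c).zpow_zpow i i'))
            have := Group.IsNilpotent.nilpotencyClass_le_one_iff.mpr hcom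
            omega
          obtain ⟨i, rfl⟩ := mem_zpowers_iff.mp he
          obtain ⟨j, hj⟩ := mem_zpowers_iff.mp ((hdec y).resolve_left hy)
          have hy' : y = t * c ^ j := by rw [hj, mul_inv_cancel_left]
          have h1 : y * c ^ i * y⁻¹ = (c ^ i)⁻¹ := by
            rw [hy']
            calc t * c ^ j * c ^ i * (t * c ^ j)⁻¹ = t * c ^ i * t⁻¹ := by group
              _ = (c ^ i)⁻¹ := by rw [← conj_zpow, hinvc, inv_zpow]
          have hyi : y⁻¹ = y := inv_eq_of_mul_eq_one_right hy2
          calc y * c ^ i * (y * c ^ i) = (y * c ^ i * y⁻¹) * c ^ i := by rw [hyi]; group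
            _ = 1 := by rw [h1, inv_mul_cancel]
        refine dvd_trans ?_ (dvd_card_of_invariant C _ hinv')
        rw [hC, Nat.card_zpowers, hc]; norm_num
    · -- every element outside the cyclic subgroup squares into `N`
      have hzN : z ∈ N := by
        have e : z = (c ^ 2 ^ (n - k)) ^ 2 ^ (k - 2) := by
          rw [hz, ← pow_mul, ← pow_add]; congr 2; omega
        rw [e]
        exact pow_mem (mem_zpowers _) _
      have hall : ∀ q : G ⧸ N, q ∉ Cb → q ^ 2 = 1 := by
        intro q hq
        obtain ⟨y, rfl⟩ := hfs q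
        have hyC : y ∉ C := fun h => hq ⟨y, h, rfl⟩
        rw [← map_pow, ← MonoidHom.mem_ker, hker, sq]
        rcases hsq y hyC with h | h <;> rw [h]
        exacts [one_mem _, hzN]
      have hCbi : Cb.index = 2 := by rw [hCb, index_map_eq C hfs (by rw [hker]; exact hNC), hCi]
      refine dvd_trans ?_ (dvd_card_of_invariant Cb _ ?_ : Nat.card Cb ∣ Nat.card B)
      · have h := card_map_mul hNC
        rw [hNc, hC, Nat.card_zpowers, hc, show 2 ^ (n - 1) = 2 ^ (n - k) * 2 ^ (k - 1) by
          rw [← pow_add]; congr 1; omega] at h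
        rw [hCb, hC, hf, Nat.eq_of_mul_eq_mul_right (pow_pos two_pos _) h]
        exact dvd_trans (by norm_num) (pow_dvd_pow 2 (show 2 ≤ n - k by omega))
      · rintro q ⟨hq, -⟩ e he
        have hne : q * e ∉ Cb := fun h => hq ((mul_mem_cancel_right he).mp h)
        exact ⟨hne, hall _ hne⟩
  obtain ⟨d, hd⟩ := hB
  rw [hd]
  show (4 * d + 1) % 4 = 1 % 4
  omega

/-- The number of cyclic maximal subgroups of a noncyclic two-group not of maximal class is even. -/
theorem even_cyclic_maximal {m : ℕ} (hG : Nat.card G = 2 ^ m) (hm : 4 ≤ m) {E : Subgroup G} [E.Normal]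
    (hEc : Nat.card E = 4) (hEp : ∀ e ∈ E, e ^ 2 = 1) :
    2 ∣ Nat.card {M : Subgroup G // M.index = 2 ∧ IsCyclic M} := by
  classical
  haveI : Fact (Nat.Prime 2) := ⟨Nat.prime_two⟩
  have hP : IsPGroup 2 G := IsPGroup.of_card hG
  by_cases hne : Nonempty {M : Subgroup G // M.index = 2 ∧ IsCyclic M}
  swap
  · rw [not_nonempty_iff] at hne
    simp
  obtain ⟨⟨C, hCi, hCc⟩⟩ := hne
  obtain ⟨c, rfl⟩ := CfsgLib.PLocal.exists_zpowers_eq hCc
  haveI hCn : (zpowers c).Normal := CfsgLib.PLocal.normal_of_index_prime (p := 2) hP hCi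
  have hco : orderOf c = 2 ^ (m - 1) := by
    have h := (zpowers c).card_mul_index
    rw [hCi, Nat.card_zpowers, hG, show 2 ^ m = 2 ^ (m - 1) * 2 by rw [← pow_succ]; congr 1; omega] at h
    omega
  set z := c ^ 2 ^ (m - 2) with hz
  have hco' : orderOf c = 2 ^ (m - 2 + 1) := by rw [hco]; congr 1; omega
  have hz2 : z * z = 1 := by
    rw [hz, ← pow_add, ← two_mul, ← pow_succ', ← hco', pow_orderOf_eq_one]
  have hsol : ∀ e ∈ E, e ∈ zpowers c → e = 1 ∨ e = z := by
    intro e he hec
    obtain ⟨i, rfl⟩ := mem_zpowers_iff.mp hec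
    exact zpow_sq_eq_one hco' (hEp _ he)
  obtain ⟨e, heE, hec⟩ : ∃ e ∈ E, e ∉ zpowers c := by
    by_contra h
    push Not at h
    have hsub : (E : Set G) ⊆ {1, z} := fun e he => by
      rcases hsol e he (h e he) with h | h <;> simp [h]
    have h1 := Set.ncard_le_ncard hsub
    rw [← Nat.card_coe_set_eq] at h1
    simp only [SetLike.coe_sort_coe, hEc] at h1
    have h2 := Set.ncard_insert_le (1 : G) {z}
    rw [Set.ncard_singleton] at h2
    omega
  have he2 : e * e = 1 := by rw [← sq]; exact hEp e heE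
  have hzo : orderOf z = 2 := by
    rw [hz, orderOf_pow, hco', Nat.gcd_eq_right (pow_dvd_pow 2 (Nat.le_succ _)), pow_succ,
      Nat.mul_div_cancel_left _ (pow_pos two_pos _)]
  have hzc : ∀ j : ℤ, Commute z (c ^ j) := fun j => ((Commute.refl c).pow_left _).zpow_right j
  have hcomm : ∀ j : ℤ, ∃ v, (v = 1 ∨ v = z) ∧ e * c ^ j * e = v * c ^ j := by
    intro j
    refine ⟨e * c ^ j * e * (c ^ j)⁻¹, hsol _ ?_ ?_, by rw [inv_mul_cancel_right]⟩
    · rw [show e * c ^ j * e * (c ^ j)⁻¹ = e * (c ^ j * e * (c ^ j)⁻¹) by group]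
      exact mul_mem heE ((inferInstance : E.Normal).conj_mem e heE _)
    · have hei : e⁻¹ = e := inv_eq_of_mul_eq_one_right he2
      have h := hCn.conj_mem (c ^ j) (zpow_mem (mem_zpowers c) j) e
      rw [hei] at h
      exact mul_mem h (inv_mem (zpow_mem (mem_zpowers c) j))
  have hdec : ∀ g : G, g ∈ zpowers c ∨ e * g ∈ zpowers c := fun g => or_iff_not_imp_left.mpr fun hg =>
    (mul_mem_iff_of_index_two hCi).mpr (iff_of_false hec hg)
  have hsq : ∀ j : ℤ, ∃ v, (v = 1 ∨ v = z) ∧ (e * c ^ j) * (e * c ^ j) = v * c ^ (j + j) := by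
    intro j
    obtain ⟨v, hv, h⟩ := hcomm j
    refine ⟨v, hv, ?_⟩
    rw [zpow_add, ← mul_assoc (e * c ^ j), h, mul_assoc]
  set c' := e * c with hc'
  have hc'C : c' ∉ zpowers c := fun h => hec ((mul_mem_cancel_right (mem_zpowers c)).mp h)
  have hzc' : z ∈ zpowers c' := by
    obtain ⟨v, hv, hvv⟩ := hsq 1
    rw [zpow_one] at hvv
    have hp : (c' ^ 2) ^ 2 ^ (m - 3) = z := by
      rw [sq, hc', hvv, show c ^ ((1 : ℤ) + 1) = c ^ 2 by rw [← zpow_natCast c 2]; norm_num]
      have hvc : Commute v (c ^ 2) := by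
        rcases hv with rfl | rfl
        · exact Commute.one_left _
        · exact (by simpa using hzc 2 : Commute z (c ^ (2 : ℤ))) |> fun h => by simpa using h
      have hv2 : v ^ 2 ^ (m - 3) = 1 := by
        rw [show 2 ^ (m - 3) = 2 * 2 ^ (m - 4) by rw [← pow_succ']; congr 1; omega, pow_mul]
        rcases hv with rfl | rfl
        · rw [one_pow, one_pow]
        · rw [sq, hz2, one_pow]
      rw [hvc.mul_pow, hv2, one_mul, ← pow_mul, hz, ← pow_succ']
      congr 2; omega
    rw [← hp]
    exact pow_mem (pow_mem (mem_zpowers c') 2) _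
  have hc'pow : ∀ l : ℕ, ∃ v, (v = 1 ∨ v = z) ∧ c' ^ (2 * l + 1) = v * (e * c ^ ((2 * l + 1 : ℕ) : ℤ)) := by
    intro l
    induction l with
    | zero => exact ⟨1, Or.inl rfl, by simp [hc']⟩
    | succ l ih =>
      obtain ⟨v, hv, hvl⟩ := ih
      obtain ⟨u, hu, hu'⟩ := hsq 1
      rw [zpow_one] at hu'
      refine ⟨v * u, ?_, ?_⟩
      · rcases hv with rfl | rfl <;> rcases hu with rfl | rfl <;> simp [hz2]
      · rw [show 2 * (l + 1) + 1 = 2 * l + 1 + 2 by ring, pow_add, hvl, sq, hc', hu']
        have huc : Commute u (e * c ^ ((2 * l + 1 : ℕ) : ℤ)) := by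
          have hze : Commute z e := by
            have h1 : e * z * e⁻¹ = z := by
              obtain ⟨i, hi⟩ := mem_zpowers_iff.mp (hCn.conj_mem z (pow_mem (mem_zpowers c) _) e)
              rw [← hi]
              rcases zpow_sq_eq_one (i := i) hco' (by rw [hi, conj_pow, sq, hz2, mul_one, mul_inv_cancel]) with h | h
              · rw [hi, conj_eq_one_iff] at h
                rw [h, orderOf_one] at hzo; omega
              · exact h
            exact (mul_inv_eq_iff_eq_mul.mp h1).symm
          rcases hu with rfl | rfl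
          · exact Commute.one_left _
          · exact hze.mul_right (hzc _)
        push_cast
        rw [show (2 * (l : ℤ) + 1 + 2) = 2 * (l : ℤ) + 1 + (1 + 1) by ring, zpow_add c (2 * (l : ℤ) + 1)]
        push_cast at huc
        rw [mul_assoc v, ← mul_assoc (e * c ^ (2 * (l : ℤ) + 1)) u, ← huc.eq]
        group
  have hc'o : orderOf c' = 2 ^ (m - 1) := by
    obtain ⟨v, hv, hvv⟩ := hsq 1
    rw [zpow_one, show c ^ ((1 : ℤ) + 1) = c ^ 2 by rw [← zpow_natCast c 2]; norm_num] at hvv
    have hvc : Commute v (c ^ 2) := by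
      rcases hv with rfl | rfl
      · exact Commute.one_left _
      · simpa using hzc 2
    have hp : c' ^ 2 ^ (m - 2) = z := by
      rw [show 2 ^ (m - 2) = 2 * 2 ^ (m - 3) by rw [← pow_succ']; congr 1; omega, pow_mul, sq, hc',
        hvv, hvc.mul_pow, ← pow_mul, hz]
      rw [show v ^ 2 ^ (m - 3) = 1 by
        rw [show 2 ^ (m - 3) = 2 * 2 ^ (m - 4) by rw [← pow_succ']; congr 1; omega, pow_mul]
        rcases hv with rfl | rfl
        · rw [one_pow, one_pow]
        · rw [sq, hz2, one_pow], one_mul]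
      congr 1; rw [← pow_succ']; congr 1; omega
    rw [show m - 1 = m - 2 + 1 by omega]
    refine orderOf_eq_prime_pow ?_ ?_
    · rw [hp]; intro h; rw [h, orderOf_one] at hzo; omega
    · rw [pow_succ, pow_mul, hp, sq, hz2]
  have hc'i : (zpowers c').index = 2 := by
    have h := (zpowers c').card_mul_index
    rw [Nat.card_zpowers, hc'o, hG, show 2 ^ m = 2 ^ (m - 1) * 2 by rw [← pow_succ]; congr 1; omega] at h
    exact Nat.eq_of_mul_eq_mul_left (pow_pos two_pos _) h
  have hset : {M : Subgroup G | M.index = 2 ∧ IsCyclic M} = {zpowers c, zpowers c'} := by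
    ext M
    simp only [Set.mem_setOf_eq, Set.mem_insert_iff, Set.mem_singleton_iff]
    constructor
    · rintro ⟨hMi, hMc⟩
      obtain ⟨g, rfl⟩ := CfsgLib.PLocal.exists_zpowers_eq hMc
      have hgo : orderOf g = 2 ^ (m - 1) := by
        have h := (zpowers g).card_mul_index
        rw [hMi, Nat.card_zpowers, hG, show 2 ^ m = 2 ^ (m - 1) * 2 by rw [← pow_succ]; congr 1; omega] at h
        omega
      have hcard : ∀ d : G, orderOf d = 2 ^ (m - 1) → g ∈ zpowers d → zpowers g = zpowers d := fun d hd hgd =>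
        eq_of_le_of_card_ge (zpowers_le.mpr hgd) (by rw [Nat.card_zpowers, Nat.card_zpowers, hd, hgo])
      rcases hdec g with hg | hg
      · exact Or.inl (hcard c hco hg)
      · obtain ⟨j, hj⟩ := mem_zpowers_iff.mp hg
        have hg' : g = e * c ^ j := by rw [hj, ← mul_assoc, he2, one_mul]
        right
        rcases Int.even_or_odd' j with ⟨l, rfl | rfl⟩
        · exfalso
          obtain ⟨v, hv, hvv⟩ := hsq (2 * l)
          rw [← hg'] at hvv
          have h1 : g ^ 2 ^ (m - 2) = 1 := by
            rw [show 2 ^ (m - 2) = 2 * 2 ^ (m - 3) by rw [← pow_succ']; congr 1; omega, pow_mul, sq, hvv,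
              (show Commute v (c ^ (2 * l + 2 * l)) by
                rcases hv with rfl | rfl
                · exact Commute.one_left _
                · exact hzc _).mul_pow,
              show 2 ^ (m - 3) = 2 * 2 ^ (m - 4) by rw [← pow_succ']; congr 1; omega, pow_mul v]
            have hv2 : v ^ 2 = 1 := by
              rcases hv with rfl | rfl
              · exact one_pow 2
              · rw [sq, hz2]
            rw [hv2, one_pow, one_mul, ← zpow_natCast, ← zpow_mul,
              show (2 * l + 2 * l) * ((2 * 2 ^ (m - 4) : ℕ) : ℤ) = ((2 ^ (m - 1) : ℕ) : ℤ) * l by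
                rw [show m - 1 = m - 4 + 3 by omega]; push_cast; ring,
              zpow_mul, zpow_natCast, ← hco, pow_orderOf_eq_one, one_zpow]
          have h2 := orderOf_dvd_of_pow_eq_one h1
          rw [hgo, Nat.pow_dvd_pow_iff_le_right one_lt_two] at h2
          omega
        · refine hcard c' hc'o ?_
          obtain ⟨q, hq⟩ : ∃ q : ℕ, c ^ (2 * l + 1) = c ^ ((2 * q + 1 : ℕ) : ℤ) := by
            refine ⟨(l % ((2 ^ (m - 2) : ℕ) : ℤ)).toNat, ?_⟩
            have h0 : (0 : ℤ) ≤ l % ((2 ^ (m - 2) : ℕ) : ℤ) := Int.emod_nonneg _ (by positivity)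
            rw [zpow_eq_zpow_iff_modEq, hco', Int.modEq_iff_dvd]
            push_cast
            rw [Int.toNat_of_nonneg (by exact_mod_cast h0), pow_succ]
            refine ⟨-(l / (2 : ℤ) ^ (m - 2)), ?_⟩
            have := Int.emod_add_mul_ediv l ((2 : ℤ) ^ (m - 2))
            linarith
          obtain ⟨v, hv, hvv⟩ := hc'pow q
          rw [← hq, ← hg'] at hvv
          have hv' : v ∈ zpowers c' := by
            rcases hv with rfl | rfl
            exacts [one_mem _, hzc']
          rw [show g = v⁻¹ * c' ^ (2 * q + 1) by rw [hvv, inv_mul_cancel_left]]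
          exact mul_mem (inv_mem hv') (pow_mem (mem_zpowers c') _)
    · rintro (rfl | rfl)
      · exact ⟨hCi, inferInstance⟩
      · exact ⟨hc'i, inferInstance⟩
  have h2 : Nat.card {M : Subgroup G // M.index = 2 ∧ IsCyclic M} = 2 := by
    show Nat.card ({M : Subgroup G | M.index = 2 ∧ IsCyclic M} : Set _) = 2
    rw [hset, Nat.card_coe_set_eq, Set.ncard_pair fun h => hc'C (by rw [h]; exact mem_zpowers c')]
  rw [h2]

end CfsgLib.FgsB.Kulakov
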