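import Cfsg.Agent.Lib.FgsB.DerivedLength
import Cfsg.Agent.Lib.Blocks.NormalPSubgroup

/-!
# Derived length of linear `p`-groups
-/

set_option autoImplicit false
set_option linter.unusedSectionVars false

namespace CfsgLib.FgsB.LinearDerivedLength

open Subgroup Module
open scoped commutatorElement

universe u v w

variable {K : Type v} [Field K] {p : ℕ} [hp : Fact p.Prime]

/-- The filtration by iterated fixed spaces. -/
def fixSeries {P : Type u} [Group P] {V : Type w} [AddCommGroup V] [Module K V]
    (ρ : P →* Module.End K V) : ℕ → Submodule K V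
  | 0 => ⊥
  | i + 1 => ⨅ g : P, (fixSeries ρ i).comap (ρ g - 1)

section CharEq

variable {P : Type u} [Group P] {V : Type w} [AddCommGroup V] [Module K V]
  (ρ : P →* Module.End K V)

theorem mem_fixSeries_succ {i : ℕ} {v : V} :
    v ∈ fixSeries ρ (i + 1) ↔ ∀ g, ρ g v - v ∈ fixSeries ρ i := by
  simp [fixSeries]

theorem fixSeries_invariant : ∀ (i : ℕ) (h : P) {v : V}, v ∈ fixSeries ρ i → ρ h v ∈ fixSeries ρ i
  | 0, h, v, hv => by simp_all [fixSeries]
  | i + 1, h, v, hv => by
    rw [mem_fixSeries_succ] at hv ⊢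
    intro g
    have h1 : ρ g (ρ h v) - ρ h v = (ρ (g * h) v - v) - (ρ h v - v) := by simp
    rw [h1]
    exact sub_mem (hv _) (hv h)

theorem fixSeries_mono (i : ℕ) : fixSeries ρ i ≤ fixSeries ρ (i + 1) := fun _ hv =>
  (mem_fixSeries_succ ρ).mpr fun g => sub_mem (fixSeries_invariant ρ i g hv) hv

/-- Level `j`: elements moving each term of the series down by `j` steps. -/
def Deep (j : ℕ) (g : P) : Prop :=
  ∀ i, ∀ v ∈ fixSeries ρ (i + j), ρ g v - v ∈ fixSeries ρ i

theorem deep_one (g : P) : Deep ρ 1 g := fun _ _ hv => (mem_fixSeries_succ ρ).mp hv g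

theorem deep_mul {j : ℕ} {a b : P} (ha : Deep ρ j a) (hb : Deep ρ j b) : Deep ρ j (a * b) := by
  intro i v hv
  have h1 : ρ (a * b) v - v = (ρ a (ρ b v) - ρ b v) + (ρ b v - v) := by simp
  rw [h1]
  exact add_mem (ha i _ (fixSeries_invariant ρ _ b hv)) (hb i v hv)

theorem deep_inv {j : ℕ} {a : P} (ha : Deep ρ j a) : Deep ρ j a⁻¹ := by
  intro i v hv
  have h := ha i _ (fixSeries_invariant ρ _ a⁻¹ hv)
  rw [← Module.End.mul_apply, ← map_mul, mul_inv_cancel, map_one, Module.End.one_apply] at h
  simpa using neg_mem h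

/-- The subgroup of elements of level `j`. -/
def deepSubgroup (j : ℕ) : Subgroup P where
  carrier := {g | Deep ρ j g}
  one_mem' := fun i v _ => by simp
  mul_mem' := deep_mul ρ
  inv_mem' := deep_inv ρ

theorem derivedSeries_le_deep : ∀ k, derivedSeries P k ≤ deepSubgroup ρ (2 ^ k)
  | 0 => fun g _ => deep_one ρ g
  | k + 1 => by
    rw [derivedSeries_succ, commutator_le]
    intro a ha b hb i v hv
    have hA := derivedSeries_le_deep k ha
    have hB := derivedSeries_le_deep k hb
    have h2 : 2 ^ (k + 1) = 2 ^ k + 2 ^ k := by rw [pow_succ]; ring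
    set u := ρ (b * a)⁻¹ v
    have hu : u ∈ fixSeries ρ (i + (2 ^ k + 2 ^ k)) := h2 ▸ fixSeries_invariant ρ _ _ hv
    have h1 : ρ ⁅a, b⁆ v - v = ρ (a * b) u - ρ (b * a) u := by
      simp only [u, ← Module.End.mul_apply, ← map_mul]
      rw [show a * b * (b * a)⁻¹ = ⁅a, b⁆ by rw [commutatorElement_def]; group, mul_inv_cancel,
        map_one, Module.End.one_apply]
    have h3 : ρ (a * b) u - ρ (b * a) u =
        (ρ a (ρ b u - u) - (ρ b u - u)) - (ρ b (ρ a u - u) - (ρ a u - u)) := by
      simp only [map_mul, Module.End.mul_apply, map_sub]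
      abel
    rw [h1, h3]
    exact sub_mem (hA i _ (hB (i + 2 ^ k) _ (by rwa [add_assoc])))
      (hB i _ (hA (i + 2 ^ k) _ (by rwa [add_assoc])))

theorem fixSeries_finrank [Finite P] [CharP K p] [FiniteDimensional K V] (hP : IsPGroup p P) :
    ∀ i, fixSeries ρ i = ⊤ ∨ i ≤ finrank K (fixSeries ρ i)
  | 0 => Or.inr (Nat.zero_le _)
  | i + 1 => by
    rcases fixSeries_finrank hP i with h | h
    · exact Or.inl (top_le_iff.mp (h ▸ fixSeries_mono ρ i))
    by_cases htop : fixSeries ρ i = ⊤
    · exact Or.inl (top_le_iff.mp (htop ▸ fixSeries_mono ρ i))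
    haveI : Nontrivial (V ⧸ fixSeries ρ i) := Submodule.Quotient.nontrivial_iff.mpr htop
    let σ : P →* Module.End K (V ⧸ fixSeries ρ i) :=
      { toFun := fun g => Submodule.mapQ _ _ (ρ g) fun v hv => fixSeries_invariant ρ i g hv
        map_one' := by ext; simp
        map_mul' := fun a b => by ext; simp }
    obtain ⟨q, hq, hfix⟩ := CfsgLib.Blocks.exists_fixed_ne_zero (k := K) hP σ
    obtain ⟨v, rfl⟩ := Submodule.Quotient.mk_surjective _ q
    have hv : v ∈ fixSeries ρ (i + 1) := (mem_fixSeries_succ ρ).mpr fun g =>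
      (Submodule.Quotient.eq _).mp (hfix g)
    have hlt : fixSeries ρ i < fixSeries ρ (i + 1) := lt_of_le_of_ne (fixSeries_mono ρ i) fun he =>
      hq ((Submodule.Quotient.mk_eq_zero _).mpr (he ▸ hv))
    exact Or.inr (h.trans_lt (Submodule.finrank_lt_finrank_of_lt hlt))

theorem trivial_of_charP [Finite P] [CharP K p] [FiniteDimensional K V] (hP : IsPGroup p P)
    {n : ℕ} (hn : finrank K V ≤ n) {g : P} (hg : g ∈ derivedSeries P (Nat.log 2 n + 1)) :
    ρ g = 1 := by
  set j := 2 ^ (Nat.log 2 n + 1)
  have hj : n < j := Nat.lt_pow_succ_log_self (by norm_num) n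
  have htop : fixSeries ρ j = ⊤ := by
    rcases fixSeries_finrank ρ hP j with h | h
    · exact h
    · have := (fixSeries ρ j).finrank_le
      omega
  refine LinearMap.ext fun v => sub_eq_zero.mp ?_
  have h := derivedSeries_le_deep ρ _ hg 0 v (by rw [zero_add, htop]; exact Submodule.mem_top)
  simpa [fixSeries] using h

end CharEq

theorem iSup_eigenspace_eq_top [IsAlgClosed K] {V : Type w} [AddCommGroup V] [Module K V]
    [FiniteDimensional K V] (f : Module.End K V) {N : ℕ} (hN : (N : K) ≠ 0) (hf : f ^ N = 1) :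
    ⨆ μ, f.eigenspace μ = ⊤ := by
  have hsq : Squarefree (Polynomial.X ^ N - Polynomial.C (1 : K)) :=
    (Polynomial.separable_X_pow_sub_C (1 : K) hN one_ne_zero).squarefree
  exact (Module.End.isSemisimple_of_squarefree_aeval_eq_zero hsq
    (by simp [hf])).iSup_eigenspace_eq_top

/-- Restriction of a representation to an invariant submodule. -/
def restrictHom {P : Type u} [Group P] {V : Type w} [AddCommGroup V] [Module K V]
    (ρ : P →* Module.End K V) (W : Submodule K V) (hW : ∀ g, ∀ v ∈ W, ρ g v ∈ W) :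
    P →* Module.End K W where
  toFun g := (ρ g).restrict (hW g)
  map_one' := by ext; simp
  map_mul' a b := by ext; simp

theorem trivial_of_ne_char [IsAlgClosed K] (hpK : (p : K) ≠ 0) (n : ℕ) :
    ∀ {P : Type u} [Group P] [Finite P], IsPGroup p P →
    ∀ {V : Type w} [AddCommGroup V] [Module K V] [FiniteDimensional K V],
    ∀ ρ : P →* Module.End K V, finrank K V ≤ n →
      ∀ g ∈ derivedSeries P (Nat.log p n + 1), ρ g = 1 := by
  induction n using Nat.strong_induction_on with
  | _ n ih =>
    intro P _ _ hP V _ _ _ ρ hn g₀ hg₀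
    let Q := P ⧸ ρ.ker
    let σ : Q →* Module.End K V := QuotientGroup.lift ρ.ker ρ le_rfl
    suffices hmain : ∀ g ∈ derivedSeries Q (Nat.log p n + 1), σ g = 1 by
      exact hmain _ (map_derivedSeries_le_derivedSeries (QuotientGroup.mk' ρ.ker) _
        (mem_map_of_mem _ hg₀))
    have hQ : IsPGroup p Q := hP.to_quotient _
    have hfaith : ∀ q : Q, σ q = 1 → q = 1 := fun q hq => by
      obtain ⟨x, rfl⟩ := QuotientGroup.mk_surjective q
      exact (QuotientGroup.eq_one_iff x).mpr hq
    have hN : (Nat.card Q : K) ≠ 0 := by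
      obtain ⟨j, hj⟩ := IsPGroup.iff_card.mp hQ
      rw [hj, Nat.cast_pow]
      exact pow_ne_zero j hpK
    have hord : ∀ q : Q, σ q ^ Nat.card Q = 1 := fun q => by
      rw [← map_pow, pow_card_eq_one', map_one]
    have hspan : ∀ a q : Q, (∀ μ : K, ∀ v ∈ (σ a).eigenspace μ, σ q v = v) → σ q = 1 := by
      intro a q h
      refine LinearMap.ext fun v => ?_
      have hv : v ∈ ⨆ μ, (σ a).eigenspace μ := by
        rw [iSup_eigenspace_eq_top (σ a) hN (hord a)]; exact Submodule.mem_top
      induction hv using Submodule.iSup_induction' with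
      | mem μ x hx => simpa using h μ x hx
      | zero => simp
      | add x y _ _ hx hy => simp_all
    intro q hq
    by_cases hc : ∃ z ∈ center Q, ∀ μ : K, (σ z).eigenspace μ ≠ ⊤
    · obtain ⟨z, hz, hμ⟩ := hc
      refine hspan z q fun μ v hv => ?_
      have hinv : ∀ h : Q, ∀ x ∈ (σ z).eigenspace μ, σ h x ∈ (σ z).eigenspace μ := by
        intro h x hx
        rw [Module.End.mem_eigenspace_iff] at hx ⊢
        rw [← Module.End.mul_apply, ← map_mul, ← mem_center_iff.mp hz h, map_mul,
          Module.End.mul_apply, hx, map_smul]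
      have hlt : finrank K ((σ z).eigenspace μ) < finrank K V := Submodule.finrank_lt (hμ μ)
      have h := ih _ (hlt.trans_le hn) hQ (restrictHom σ _ hinv) le_rfl q
        (derivedSeries_antitone Q (by
          have := Nat.log_mono_right (b := p) (hlt.le.trans hn); omega) hq)
      exact congrArg Subtype.val (LinearMap.congr_fun h ⟨v, hv⟩)
    push Not at hc
    have hscal : ∀ z ∈ center Q, ∃ c : K, ∀ v : V, σ z v = c • v := fun z hz => by
      obtain ⟨c, hc⟩ := hc z hz
      exact ⟨c, fun v => Module.End.mem_eigenspace_iff.mp (hc ▸ Submodule.mem_top)⟩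
    by_cases hab : center Q = ⊤
    · have h1 : derivedSeries Q (Nat.log p n + 1) ≤ ⊥ := (derivedSeries_antitone Q
        (show 1 ≤ Nat.log p n + 1 by omega)).trans (by
          rw [derivedSeries_one, _root_.commutator_def, commutator_le]
          intro x _ y _
          rw [mem_bot, commutatorElement_eq_one_iff_mul_comm]
          exact mem_center_iff.mp (hab ▸ mem_top y) x)
      rw [mem_bot.mp (h1 hq), map_one]
    haveI : Nontrivial (Q ⧸ center Q) := QuotientGroup.nontrivial_iff.mpr hab
    haveI := (hQ.to_quotient (center Q)).center_nontrivial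
    obtain ⟨⟨ā, hā⟩, hne⟩ := exists_ne (1 : center (Q ⧸ center Q))
    obtain ⟨a, rfl⟩ := QuotientGroup.mk_surjective ā
    have haZ : a ∉ center Q := fun h => hne (Subtype.ext ((QuotientGroup.eq_one_iff a).mpr h))
    have hcz : ∀ h : Q, ⁅h, a⁆ ∈ center Q := fun h => by
      refine (QuotientGroup.eq_one_iff _).mp ?_
      rw [← QuotientGroup.mk'_apply, map_commutatorElement, commutatorElement_eq_one_iff_mul_comm]
      exact mem_center_iff.mp hā (QuotientGroup.mk h)
    set M := centralizer ({a} : Set Q)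
    have hM : commutator Q ≤ M := by
      let κ : Q →* center Q := MonoidHom.mk' (fun h => ⟨⁅h, a⁆, hcz h⟩) fun x y => by
        refine Subtype.ext ?_
        show ⁅x * y, a⁆ = ⁅x, a⁆ * ⁅y, a⁆
        calc ⁅x * y, a⁆ = x * ⁅y, a⁆ * x⁻¹ * ⁅x, a⁆ := by
              simp only [commutatorElement_def]; group
          _ = _ := by
              rw [mem_center_iff.mp (hcz y) x, mul_inv_cancel_right]
              exact mem_center_iff.mp (hcz x) _
      rw [_root_.commutator_def, commutator_le]
      intro x _ y _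
      refine mem_centralizer_singleton_iff.mpr (commutatorElement_eq_one_iff_mul_comm.mp ?_)
      have h1 : κ ⁅x, y⁆ = 1 := by
        rw [map_commutatorElement, commutatorElement_eq_one_iff_mul_comm]
        exact Subtype.ext (mem_center_iff.mp (κ y).2 (κ x : Q))
      exact congrArg Subtype.val h1
    obtain ⟨g₁, hg₁⟩ : ∃ h : Q, ⁅h⁻¹, a⁆ ≠ 1 := by
      by_contra hall
      push Not at hall
      exact haZ (mem_center_iff.mpr fun h => by
        have h1 := hall h⁻¹
        rwa [inv_inv, commutatorElement_eq_one_iff_mul_comm] at h1)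
    obtain ⟨c, hcv⟩ := hscal _ (hcz g₁⁻¹)
    refine hspan a q fun μ v hv => ?_
    set E := (σ a).eigenspace μ
    rcases eq_or_ne v 0 with rfl | hv0
    · simp
    have hμ : μ ≠ 0 := fun h0 => hv0 (by
      have h1 := Module.End.mem_eigenspace_iff.mp hv
      rw [h0, zero_smul] at h1
      have h2 := congrArg (σ a⁻¹) h1
      rwa [← Module.End.mul_apply, ← map_mul, inv_mul_cancel, map_one, Module.End.one_apply,
        map_zero] at h2)
    have hc1 : c ≠ 1 := fun h1 => hg₁ (hfaith _ (LinearMap.ext fun w => by simp [hcv, h1]))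
    have hmove : ∀ (ν : K) (x : V), x ∈ (σ a).eigenspace ν → σ g₁ x ∈ (σ a).eigenspace (ν * c) := by
      intro ν x hx
      rw [Module.End.mem_eigenspace_iff]
      rw [← Module.End.mul_apply, ← map_mul,
        show a * g₁ = g₁ * (⁅g₁⁻¹, a⁆ * a) by rw [commutatorElement_def]; group,
        map_mul, map_mul, Module.End.mul_apply, Module.End.mul_apply, hcv,
        Module.End.mem_eigenspace_iff.mp hx, map_smul, map_smul, smul_smul, mul_comm]
    have hmove' : ∀ (i : ℕ) (x : V), x ∈ E → σ (g₁ ^ i) x ∈ (σ a).eigenspace (μ * c ^ i) := by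
      intro i x hx
      induction i with
      | zero => simpa using (Module.End.mem_eigenspace_iff.mp hx)
      | succ i ih' =>
        have := hmove _ _ ih'
        rwa [mul_assoc, ← pow_succ, ← Module.End.mul_apply, ← map_mul, ← pow_succ'] at this
    have hcinj : ∀ i j : ℕ, i < p → j < p → c ^ i = c ^ j → i = j := by
      obtain ⟨k, hk⟩ := IsPGroup.iff_orderOf.1 hQ ⁅g₁⁻¹, a⁆
      have hck : c ^ p ^ k = 1 := by
        have h1 : ∀ (m : ℕ) (w : V), σ (⁅g₁⁻¹, a⁆ ^ m) w = c ^ m • w := fun m => by
          induction m with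
          | zero => simp
          | succ m ihm =>
            intro w
            rw [pow_succ, map_mul, Module.End.mul_apply, hcv, map_smul, ihm, smul_smul, pow_succ']
        have h2 := h1 (p ^ k) v
        rw [← hk, pow_orderOf_eq_one, map_one, Module.End.one_apply, hk] at h2
        exact smul_left_injective K hv0 (h2.symm.trans (one_smul K v).symm)
      have hp_dvd : p ∣ orderOf c := by
        obtain ⟨l, -, hl⟩ := (Nat.dvd_prime_pow hp.out).1 (orderOf_dvd_of_pow_eq_one hck)
        rw [hl]
        exact dvd_pow_self p fun h0 => hc1 (orderOf_eq_one_iff.1 (by rw [hl, h0, pow_zero]))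
      have hfin : IsOfFinOrder c := isOfFinOrder_iff_pow_eq_one.2 ⟨p ^ k, pow_pos hp.out.pos k, hck⟩
      have hle := Nat.le_of_dvd hfin.orderOf_pos hp_dvd
      exact fun i j hi hj h => pow_injOn_Iio_orderOf (Set.mem_Iio.2 (lt_of_lt_of_le hi hle))
        (Set.mem_Iio.2 (lt_of_lt_of_le hj hle)) h
    have hdim : finrank K E * p ≤ n := by
      let L : (Fin p → E) →ₗ[K] V := ∑ i : Fin p,
        (σ (g₁ ^ (i : ℕ))).comp (E.subtype.comp (LinearMap.proj (φ := fun _ : Fin p => E) i))
      have hL : Function.Injective L := by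
        rw [injective_iff_map_eq_zero]
        intro w hw
        have hind : iSupIndep fun i : Fin p => (σ a).eigenspace (μ * c ^ (i : ℕ)) :=
          (Module.End.eigenspaces_iSupIndep (σ a)).comp fun i j h =>
            Fin.ext (hcinj _ _ i.2 j.2 (mul_left_cancel₀ hμ h))
        have hsum : ∑ i : Fin p, σ (g₁ ^ (i : ℕ)) (w i : V) = 0 := by
          simpa [L] using hw
        funext i
        have h0 := (iSupIndep_iff_finsetSum_eq_zero_imp_eq_zero _).1 hind Finset.univ
          (fun i => σ (g₁ ^ (i : ℕ)) (w i : V)) (fun i _ => hmove' _ _ (w i).2) hsum i (Finset.mem_univ i)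
        have h1 := congrArg (σ (g₁ ^ (i : ℕ))⁻¹) h0
        rw [← Module.End.mul_apply, ← map_mul, inv_mul_cancel, map_one, Module.End.one_apply,
          map_zero] at h1
        exact Subtype.ext h1
      have h1 := LinearMap.finrank_le_finrank_of_injective hL
      rw [Module.finrank_pi_fintype, Finset.sum_const, Finset.card_univ, Fintype.card_fin,
        smul_eq_mul, mul_comm] at h1
      omega
    have hpos : 0 < finrank K E := by
      rw [Module.finrank_pos_iff_exists_ne_zero]
      exact ⟨⟨v, hv⟩, fun h => hv0 (congrArg Subtype.val h)⟩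
    have hinv : ∀ h : M, ∀ x ∈ E, (σ.comp M.subtype) h x ∈ E := by
      intro h x hx
      rw [Module.End.mem_eigenspace_iff] at hx ⊢
      show σ a (σ h x) = μ • σ h x
      rw [← Module.End.mul_apply, ← map_mul, ← mem_centralizer_singleton_iff.mp h.2, map_mul,
        Module.End.mul_apply, hx, map_smul]
    obtain ⟨⟨q', hq'M⟩, hq', hqq⟩ := DerivedLength.derivedSeries_succ_le_map hM _ hq
    have h := ih (n / p) (Nat.div_lt_self (lt_of_lt_of_le (Nat.mul_pos hpos hp.out.pos) hdim)
      hp.out.one_lt) (hQ.to_subgroup M)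
      (restrictHom (σ.comp M.subtype) E hinv) ((Nat.le_div_iff_mul_le hp.out.pos).2 hdim) ⟨q', hq'M⟩
      (derivedSeries_antitone M (by
        have := Nat.log_div_base p n
        have := Nat.log_pos hp.out.one_lt
          ((Nat.le_mul_of_pos_left p hpos).trans hdim)
        omega) hq')
    rw [← hqq]
    exact congrArg Subtype.val (LinearMap.congr_fun h ⟨v, hv⟩)

theorem derivedSeries_eq_bot {P : Type u} [Group P] [Finite P] (hP : IsPGroup p P)
    (F : Type v) [Field F] (n : ℕ) (ρ : P →* Matrix.GeneralLinearGroup (Fin n) F)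
    (hρ : Function.Injective ρ) : derivedSeries P (Nat.log 2 n + 1) = ⊥ := by
  let L := AlgebraicClosure F
  let f : Matrix (Fin n) (Fin n) F →+* Module.End L (Fin n → L) :=
    (Matrix.toLinAlgEquiv' (R := L) (n := Fin n)).toRingEquiv.toRingHom.comp
      (algebraMap F L).mapMatrix
  have hf : Function.Injective f := Matrix.toLinAlgEquiv'.injective.comp
    (Matrix.map_injective (algebraMap F L).injective)
  let σ : P →* Module.End L (Fin n → L) :=
    (f.toMonoidHom.comp (Units.coeHom _)).comp ρ
  have hn : finrank L (Fin n → L) ≤ n := by simp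
  rw [eq_bot_iff]
  intro g hg
  refine mem_bot.mpr (hρ (Units.ext (hf ?_)))
  show σ g = f (ρ 1 : Matrix.GeneralLinearGroup (Fin n) F)
  rw [map_one, Units.val_one, map_one]
  by_cases hpK : (p : L) = 0
  · haveI : CharP L p := (CharP.charP_iff_prime_eq_zero hp.out).mpr hpK
    exact trivial_of_charP σ hP hn hg
  · exact trivial_of_ne_char hpK n hP σ hn g (derivedSeries_antitone P
      (Nat.succ_le_succ (Nat.log_anti_left one_lt_two hp.out.two_le)) hg)

end CfsgLib.FgsB.LinearDerivedLength
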