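import Cfsg.Agent.Lib.FgsB.LinearDerivedLength
import Mathlib.LinearAlgebra.Matrix.GeneralLinearGroup.Card

/-!
Derived length of `p`-subgroups of general linear groups over finite fields of characteristic
different from `p`.
-/

set_option autoImplicit false
set_option linter.style.haveILetI false

universe u v w

namespace CfsgLib.FgsB.LinearSylowLength

open Subgroup Module Polynomial

variable {p : ℕ} [hp : Fact p.Prime]

theorem derivedSeries_eq_bot_sharp {P : Type u} [Group P] [Finite P] (hP : IsPGroup p P)
    (F : Type v) [Field F] (hpF : (p : F) ≠ 0) (n : ℕ) (ρ : P →* Matrix.GeneralLinearGroup (Fin n) F)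
    (hρ : Function.Injective ρ) : derivedSeries P (Nat.log p n + 1) = ⊥ := by
  let L := AlgebraicClosure F
  let f : Matrix (Fin n) (Fin n) F →+* Module.End L (Fin n → L) :=
    (Matrix.toLinAlgEquiv' (R := L) (n := Fin n)).toRingEquiv.toRingHom.comp
      (algebraMap F L).mapMatrix
  have hf : Function.Injective f := Matrix.toLinAlgEquiv'.injective.comp
    (Matrix.map_injective (algebraMap F L).injective)
  let σ : P →* Module.End L (Fin n → L) :=
    (f.toMonoidHom.comp (Units.coeHom _)).comp ρ
  have hn : finrank L (Fin n → L) ≤ n := by simp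
  rw [eq_bot_iff]
  intro g hg
  refine mem_bot.mpr (hρ (Units.ext (hf ?_)))
  show σ g = f (ρ 1 : Matrix.GeneralLinearGroup (Fin n) F)
  rw [map_one, Units.val_one, map_one]
  have hpL : (p : L) ≠ 0 := by
    rw [← map_natCast (algebraMap F L) p]
    exact fun h => hpF ((algebraMap F L).injective (h.trans (map_zero _).symm))
  exact LinearDerivedLength.trivial_of_ne_char hpL n hP σ hn g hg

/-- The faithful case over any field of characteristic prime to `p`, for abstract spaces. -/
theorem eq_one_of_faithful {P : Type u} [Group P] [Finite P] (hP : IsPGroup p P)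
    (F : Type v) [Field F] (hpF : (p : F) ≠ 0) {V : Type w} [AddCommGroup V] [Module F V]
    [FiniteDimensional F V] (ρ : P →* Module.End F V) (hρ : Function.Injective ρ) {g : P}
    (hg : g ∈ derivedSeries P (Nat.log p (finrank F V) + 1)) : g = 1 := by
  let e := LinearMap.toMatrixAlgEquiv (Module.finBasis F V)
  let ψ : P →* Matrix.GeneralLinearGroup (Fin (finrank F V)) F :=
    ((e : Module.End F V →* Matrix (Fin (finrank F V)) (Fin (finrank F V)) F).comp ρ).toHomUnits
  have hψ : Function.Injective ψ := fun a b h => hρ (e.injective (congrArg Units.val h))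
  rw [derivedSeries_eq_bot_sharp hP F hpF _ ψ hψ] at hg
  exact mem_bot.1 hg

theorem natCast_ne_zero {F : Type v} [Field F] [Finite F] (hq : ¬ p ∣ Nat.card F) : (p : F) ≠ 0 := by
  intro h0
  haveI : CharP F p := (CharP.charP_iff_prime_eq_zero hp.out).mpr h0
  haveI := Fintype.ofFinite F
  obtain ⟨k, -, hk⟩ := FiniteField.card F p
  exact hq (by rw [Nat.card_eq_fintype_card, hk]; exact dvd_pow_self p k.pos.ne')

theorem trivial_of_finite {F : Type v} [Field F] [Finite F] (hq : ¬ p ∣ Nat.card F) (m : ℕ) :
    ∀ {P : Type u} [Group P] [Finite P], IsPGroup p P →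
    ∀ {V : Type w} [AddCommGroup V] [Module F V] [FiniteDimensional F V],
    ∀ ρ : P →* Module.End F V, finrank F V ≤ m →
      ∀ g ∈ derivedSeries P (Nat.log p (m / orderOf (Nat.card F : ZMod p)) + 1), ρ g = 1 := by
  induction m using Nat.strong_induction_on with
  | _ m ih =>
    intro P _ _ hP V _ _ _ ρ hm g₀ hg₀
    set e := orderOf (Nat.card F : ZMod p) with he
    let Q := P ⧸ ρ.ker
    let σ : Q →* Module.End F V := QuotientGroup.lift ρ.ker ρ le_rfl
    suffices hmain : ∀ g ∈ derivedSeries Q (Nat.log p (m / e) + 1), σ g = 1 by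
      exact hmain _ (map_derivedSeries_le_derivedSeries (QuotientGroup.mk' ρ.ker) _
        (mem_map_of_mem _ hg₀))
    have hQ : IsPGroup p Q := hP.to_quotient _
    have hfaith : Function.Injective σ := by
      intro a b hab
      obtain ⟨x, rfl⟩ := QuotientGroup.mk_surjective a
      obtain ⟨y, rfl⟩ := QuotientGroup.mk_surjective b
      rw [QuotientGroup.eq, MonoidHom.mem_ker, map_mul]
      have h : ρ x = ρ y := hab
      rw [← h, ← map_mul, inv_mul_cancel, map_one]
    intro q hq'
    rcases subsingleton_or_nontrivial Q with hs | hs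
    · rw [Subsingleton.elim q 1, map_one]
    haveI := hQ.center_nontrivial
    obtain ⟨z, hz⟩ : ∃ z : center Q, orderOf z = p := by
      refine exists_prime_orderOf_dvd_card' p ?_
      obtain ⟨k, hk⟩ := (hQ.to_subgroup (center Q)).exists_card_eq
      have hk0 : k ≠ 0 := fun h => by
        rw [h, pow_zero] at hk
        exact (Finite.one_lt_card (α := center Q)).ne' hk
      exact hk ▸ dvd_pow_self p hk0
    set T := σ (z : Q) with hTdef
    have hTp : T ^ p = 1 := by
      rw [hTdef, ← map_pow, ← hz, ← Subgroup.orderOf_coe, pow_orderOf_eq_one, map_one]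
    have hT1 : T ≠ 1 := fun h => by
      have h1 : (z : Q) = 1 := hfaith (h.trans (map_one σ).symm)
      rw [← Subgroup.orderOf_coe, h1, orderOf_one] at hz
      exact hp.out.one_lt.ne hz
    have hcomm : ∀ (h : Q) (f : F[X]), Commute (σ h) (aeval T f) := by
      intro h f
      have hc : Commute (σ h) T := by
        rw [Commute, SemiconjBy, ← map_mul, ← map_mul, mem_center_iff.1 z.2 h]
      induction f using Polynomial.induction_on' with
      | add a b ha hb => rw [map_add]; exact ha.add_right hb
      | monomial k a =>
        rw [aeval_monomial]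
        exact Commute.mul_right (show Commute (σ h) (algebraMap F (Module.End F V) a) from
          (Algebra.commutes a (σ h)).symm) (hc.pow_right k)
    set mp := minpoly F T with hmp
    have hint : IsIntegral F T := Algebra.IsIntegral.isIntegral T
    have hdvd : mp ∣ X ^ p - C (1 : F) := minpoly.dvd F T (by simp [hTp])
    have hpF : (p : F) ≠ 0 := natCast_ne_zero hq
    have hsq : Squarefree mp :=
      ((separable_X_pow_sub_C (1 : F) hpF one_ne_zero).squarefree).squarefree_of_dvd hdvd
    haveI : Nontrivial (Module.End F V) := nontrivial_of_ne T 1 hT1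
    by_cases hirr : Irreducible mp
    · haveI : Fact (Irreducible mp) := ⟨hirr⟩
      let φ : AdjoinRoot mp →+* Module.End F V :=
        Ideal.Quotient.lift _ (aeval T).toRingHom (fun a ha => by
          obtain ⟨b, rfl⟩ := Ideal.mem_span_singleton.1 ha
          simp [hmp, minpoly.aeval])
      have hφmk : ∀ f : F[X], φ (AdjoinRoot.mk mp f) = aeval T f := fun f => rfl
      letI : Module (AdjoinRoot mp) V := Module.compHom V φ
      haveI : IsScalarTower F (AdjoinRoot mp) V := IsScalarTower.of_algebraMap_smul fun c v => by
        change φ (algebraMap F (AdjoinRoot mp) c) v = c • v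
        rw [AdjoinRoot.algebraMap_eq, ← AdjoinRoot.mk_C, hφmk, aeval_C, Module.algebraMap_end_apply]
      haveI : FiniteDimensional (AdjoinRoot mp) V := FiniteDimensional.right F (AdjoinRoot mp) V
      let σ' : Q →* Module.End (AdjoinRoot mp) V :=
        { toFun := fun h =>
            { toFun := σ h
              map_add' := map_add (σ h)
              map_smul' := fun x v => by
                obtain ⟨f, rfl⟩ := AdjoinRoot.mk_surjective x
                exact LinearMap.congr_fun (hcomm h f).eq v }
          map_one' := LinearMap.ext fun v => LinearMap.congr_fun (map_one σ) v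
          map_mul' := fun a b => LinearMap.ext fun v => LinearMap.congr_fun (map_mul σ a b) v }
      have hσ' : Function.Injective σ' := fun a b h =>
        hfaith (LinearMap.ext fun v => LinearMap.congr_fun h v)
      -- the degree is at least e
      haveI : Finite (AdjoinRoot mp) := by
        haveI := Module.Finite.of_basis (AdjoinRoot.powerBasis hirr.ne_zero).basis
        exact Module.finite_of_finite F
      have hdeg : finrank F (AdjoinRoot mp) = mp.natDegree :=
        (AdjoinRoot.powerBasis hirr.ne_zero).finrank
      have hroot : φ (AdjoinRoot.root mp) = T := by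
        show φ (AdjoinRoot.mk mp X) = T
        rw [hφmk, aeval_X]
      have hr : orderOf (AdjoinRoot.root mp) = p := by
        refine orderOf_eq_prime (φ.injective ?_) fun h => hT1 ?_
        · rw [map_pow, hroot, map_one, hTp]
        · rw [← hroot, h, map_one]
      have hcardK : Nat.card (AdjoinRoot mp) = Nat.card F ^ mp.natDegree := by
        rw [← hdeg]; exact Module.natCard_eq_pow_finrank
      have hp_dvd : p ∣ Nat.card F ^ mp.natDegree - 1 := by
        rw [← hcardK, ← Nat.card_units]
        have hne : AdjoinRoot.root mp ≠ 0 := fun h => by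
          have := hr
          rw [h, orderOf_zero] at this
          exact hp.out.ne_zero this.symm
        rw [← hr, ← Units.val_mk0 hne, orderOf_units]
        exact _root_.orderOf_dvd_natCard _
      have hed : e ∣ mp.natDegree := by
        rw [he, orderOf_dvd_iff_pow_eq_one]
        have h1 : 1 ≤ Nat.card F ^ mp.natDegree := Nat.one_le_pow _ _ Nat.card_pos
        have h2 : ((Nat.card F ^ mp.natDegree - 1 : ℕ) : ZMod p) = 0 :=
          (ZMod.natCast_eq_zero_iff _ _).2 hp_dvd
        rw [Nat.cast_sub h1, sub_eq_zero] at h2
        exact_mod_cast h2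
      have hdpos : 0 < mp.natDegree := minpoly.natDegree_pos hint
      have hfr := Module.finrank_mul_finrank F (AdjoinRoot mp) V
      rw [hdeg] at hfr
      have hbound : finrank (AdjoinRoot mp) V ≤ m / e := by
        have he0 : 0 < e := Nat.pos_of_ne_zero fun h0 => by
          rw [h0, zero_dvd_iff] at hed
          omega
        rw [Nat.le_div_iff_mul_le he0, mul_comm]
        exact (Nat.mul_le_mul_right _ (Nat.le_of_dvd hdpos hed)).trans (hfr.le.trans hm)
      have hpK : (p : AdjoinRoot mp) ≠ 0 := by
        rw [← map_natCast (algebraMap F (AdjoinRoot mp)) p]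
        exact fun h => hpF ((algebraMap F (AdjoinRoot mp)).injective (h.trans (map_zero _).symm))
      rw [eq_one_of_faithful hQ _ hpK σ' hσ' (derivedSeries_antitone Q
        (Nat.succ_le_succ (Nat.log_mono_right hbound)) hq'), map_one]
    · -- split the space
      obtain ⟨f, g, hfg, hfu, hgu⟩ : ∃ f g : F[X], mp = f * g ∧ ¬ IsUnit f ∧ ¬ IsUnit g := by
        by_contra h
        push Not at h
        exact hirr ⟨minpoly.not_isUnit F T, fun a b hab => or_iff_not_imp_left.2 (h a b hab)⟩
      have hcop : IsCoprime f g := by
        rw [hfg] at hsq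
        exact ((squarefree_mul_iff.1 hsq).1).isCoprime
      have hf0 : f ≠ 0 := fun h => minpoly.ne_zero hint (by rw [← hmp, hfg, h, zero_mul])
      have hg0 : g ≠ 0 := fun h => minpoly.ne_zero hint (by rw [← hmp, hfg, h, mul_zero])
      have key : ∀ f' g' : F[X], mp = f' * g' → f' ≠ 0 → ¬ IsUnit g' →
          ∀ v ∈ LinearMap.ker (aeval T f'), σ q v = v := by
        intro f' g' hfg' hf' hg' v hv
        set W := LinearMap.ker (aeval T f') with hW
        have hne : W ≠ ⊤ := by
          intro h
          have hz0 : aeval T f' = 0 := LinearMap.ker_eq_top.1 h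
          have hd := minpoly.dvd F T hz0
          rw [← hmp, hfg'] at hd
          obtain ⟨c, hc⟩ := hd
          apply hg'
          refine IsUnit.of_mul_eq_one c ?_
          have : f' * 1 = f' * (g' * c) := by rw [mul_one, ← mul_assoc]; exact hc
          exact (mul_left_cancel₀ hf' this).symm
        have hinv : ∀ h : Q, ∀ x ∈ W, σ h x ∈ W := by
          intro h x hx
          rw [hW, LinearMap.mem_ker] at hx ⊢
          rw [← Module.End.mul_apply, ← (hcomm h f').eq, Module.End.mul_apply, hx, map_zero]
        have hlt : finrank F W < m := (Submodule.finrank_lt hne).trans_le hm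
        have h := ih _ hlt hQ (LinearDerivedLength.restrictHom σ W hinv) le_rfl q
          (derivedSeries_antitone Q (Nat.succ_le_succ (Nat.log_mono_right
            (Nat.div_le_div_right hlt.le))) hq')
        exact congrArg Subtype.val (LinearMap.congr_fun h ⟨v, hv⟩)
      obtain ⟨a, b, hab⟩ := hcop
      refine LinearMap.ext fun v => ?_
      have hv : v = aeval T (b * g) v + aeval T (a * f) v := by
        rw [← LinearMap.add_apply, ← map_add, add_comm, hab, map_one, Module.End.one_apply]
      have hmp0 : ∀ c : F[X], aeval T (c * mp) v = 0 := fun c => by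
        rw [map_mul, hmp, minpoly.aeval, mul_zero, LinearMap.zero_apply]
      have h1 : σ q (aeval T (b * g) v) = aeval T (b * g) v :=
        key f g hfg hf0 hgu _ (by
          rw [LinearMap.mem_ker, ← Module.End.mul_apply, ← map_mul,
            show f * (b * g) = b * mp by rw [hfg]; ring]
          exact hmp0 b)
      have h2 : σ q (aeval T (a * f) v) = aeval T (a * f) v :=
        key g f (hfg.trans (mul_comm f g)) hg0 hfu _ (by
          rw [LinearMap.mem_ker, ← Module.End.mul_apply, ← map_mul,
            show g * (a * f) = a * mp by rw [hfg]; ring]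
          exact hmp0 a)
      rw [Module.End.one_apply]
      conv_lhs => rw [hv, map_add, h1, h2, ← hv]

theorem derivedSeries_le {F : Type v} [Field F] [Finite F] (hq : ¬ p ∣ Nat.card F) {n : ℕ}
    (P : Subgroup (Matrix.GeneralLinearGroup (Fin n) F)) (hP : IsPGroup p P) :
    derivedSeries P (Nat.log p (n / orderOf (Nat.card F : ZMod p)) + 1) = ⊥ := by
  haveI := Fintype.ofFinite F
  let f : Matrix (Fin n) (Fin n) F →* Module.End F (Fin n → F) :=
    (Matrix.toLinAlgEquiv' (R := F) (n := Fin n) : Matrix (Fin n) (Fin n) F →* _)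
  let ρ : P →* Module.End F (Fin n → F) := (f.comp (Units.coeHom _)).comp P.subtype
  rw [eq_bot_iff]
  intro g hg
  have h := trivial_of_finite hq n hP ρ (by simp) g hg
  refine mem_bot.2 (Subtype.ext (Units.ext ?_))
  exact Matrix.toLinAlgEquiv'.injective (h.trans (map_one f).symm)

section Lower

variable {F : Type v} [Field F]

/-- A faithful linear representation of a regular wreath product. -/
def wreathRep {D : Type u} {Q : Type u} [Group D] [Group Q] {V : Type w} [AddCommGroup V]
    [Module F V] (ρ : D →* Module.End F V) : D ≀ᵣ Q →* Module.End F (Q → V) where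
  toFun a :=
    { toFun := fun v x => ρ (a.left x) (v (a.right⁻¹ * x))
      map_add' := fun v w => by funext x; simp
      map_smul' := fun c v => by funext x; simp }
  map_one' := by ext v x; simp
  map_mul' a b := by
    refine LinearMap.ext fun v => funext fun x => ?_
    simp [mul_assoc]

theorem wreathRep_injective {D : Type u} {Q : Type u} [Group D] [Group Q] {V : Type w}
    [AddCommGroup V] [Module F V] [Nontrivial V] (ρ : D →* Module.End F V) (hρ : Function.Injective ρ) :
    Function.Injective (wreathRep (Q := Q) ρ) := by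
  classical
  rw [injective_iff_map_eq_one]
  intro a ha
  obtain ⟨w, hw⟩ := exists_ne (0 : V)
  have hright : a.right = 1 := by
    by_contra hne
    have h := congrFun (LinearMap.congr_fun ha (Pi.single 1 w)) a.right
    change ρ (a.left a.right) ((Pi.single 1 w : Q → V) (a.right⁻¹ * a.right)) =
      (Pi.single 1 w : Q → V) a.right at h
    rw [inv_mul_cancel, Pi.single_eq_same, Pi.single_eq_of_ne hne] at h
    apply hw
    have h2 := congrArg (ρ (a.left a.right)⁻¹) h
    rwa [← Module.End.mul_apply, ← map_mul, inv_mul_cancel, map_one, Module.End.one_apply,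
      map_zero] at h2
  refine RegularWreathProduct.ext (funext fun x => hρ (LinearMap.ext fun v => ?_)) hright
  have h := congrFun (LinearMap.congr_fun ha fun _ => v) x
  change ρ (a.left x) v = v at h
  rw [h]
  simp

theorem exists_prime_order_GL [Finite F] (hq : ¬ p ∣ Nat.card F) :
    ∃ g : Matrix.GeneralLinearGroup (Fin (orderOf (Nat.card F : ZMod p))) F, orderOf g = p := by
  haveI := Fintype.ofFinite F
  haveI := Fintype.ofFinite (Matrix.GeneralLinearGroup (Fin (orderOf (Nat.card F : ZMod p))) F)
  refine exists_prime_orderOf_dvd_card' p ?_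
  rw [Matrix.card_GL_field]
  set e := orderOf (Nat.card F : ZMod p) with he
  have hu : IsOfFinOrder (Nat.card F : ZMod p) := by
    have hne : (Nat.card F : ZMod p) ≠ 0 := fun h => hq ((ZMod.natCast_eq_zero_iff _ _).1 h)
    exact isOfFinOrder_iff_pow_eq_one.2 ⟨p - 1, by have := hp.out.two_le; omega,
      ZMod.pow_card_sub_one_eq_one hne⟩
  have he0 : 0 < e := hu.orderOf_pos
  refine dvd_trans ?_ (Finset.dvd_prod_of_mem _ (Finset.mem_univ (⟨0, he0⟩ : Fin e)))
  have h1 : 1 ≤ Fintype.card F ^ e := Nat.one_le_pow _ _ Fintype.card_pos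
  rw [pow_zero, ← ZMod.natCast_eq_zero_iff, Nat.cast_sub h1, sub_eq_zero, Nat.cast_one, Nat.cast_pow,
    ← Nat.card_eq_fintype_card, he, pow_orderOf_eq_one]

theorem exists_iterated_rep [Finite F] (hq : ¬ p ∣ Nat.card F) : ∀ k : ℕ,
    ∃ (V : Type v) (_ : AddCommGroup V) (_ : Module F V) (_ : FiniteDimensional F V)
      (ρ : IteratedWreathProduct (Multiplicative (ZMod p)) (k + 1) →* Module.End F V),
      Function.Injective ρ ∧ Nontrivial V ∧ finrank F V = orderOf (Nat.card F : ZMod p) * p ^ k
  | 0 => by
    haveI := Fintype.ofFinite F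
    obtain ⟨g, hg⟩ := exists_prime_order_GL (F := F) hq
    let ψ : Multiplicative (ZMod p) →* Matrix.GeneralLinearGroup (Fin (orderOf (Nat.card F : ZMod p))) F :=
      AddMonoidHom.toMultiplicativeLeft (ZMod.lift p ⟨zmultiplesHom _ (Additive.ofMul g), by
        simp [← ofMul_pow, ← hg, pow_orderOf_eq_one]⟩)
    have hψ : Function.Injective ψ := by
      rw [← MonoidHom.ker_eq_bot_iff, eq_bot_iff]
      intro x hx
      obtain ⟨i, rfl⟩ : ∃ i : ℕ, Multiplicative.ofAdd (i : ZMod p) = x :=
        ⟨(Multiplicative.toAdd x).val, by simp⟩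
      have h1 : g ^ i = 1 := by
        change Additive.toMul (ZMod.lift p _ ((i : ℕ) : ZMod p)) = 1 at hx
        have hcast : ((i : ℤ) : ZMod p) = ((i : ℕ) : ZMod p) := Int.cast_natCast i
        simp only [← hcast, ZMod.lift_coe] at hx
        simpa using hx
      rw [← orderOf_dvd_iff_pow_eq_one, hg, ← ZMod.natCast_eq_zero_iff] at h1
      simp [h1]
    let f : Matrix (Fin (orderOf (Nat.card F : ZMod p))) (Fin (orderOf (Nat.card F : ZMod p))) F →*
        Module.End F (Fin (orderOf (Nat.card F : ZMod p)) → F) :=
      (Matrix.toLinAlgEquiv' (R := F) (n := Fin (orderOf (Nat.card F : ZMod p))) :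
        Matrix (Fin (orderOf (Nat.card F : ZMod p))) (Fin (orderOf (Nat.card F : ZMod p))) F →* _)
    let π : IteratedWreathProduct (Multiplicative (ZMod p)) 1 →* Multiplicative (ZMod p) :=
      RegularWreathProduct.rightHom (D := IteratedWreathProduct (Multiplicative (ZMod p)) 0)
    refine ⟨Fin (orderOf (Nat.card F : ZMod p)) → F, inferInstance, inferInstance, inferInstance,
      ((f.comp (Units.coeHom _)).comp ψ).comp π, ?_, ?_, by simp⟩
    · have hf : Function.Injective ((f.comp (Units.coeHom _)).comp ψ) := fun a b h =>
        hψ (Units.ext (Matrix.toLinAlgEquiv'.injective h))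
      intro a b h
      haveI : Subsingleton (IteratedWreathProduct (Multiplicative (ZMod p)) 0) :=
        inferInstanceAs (Subsingleton PUnit)
      exact RegularWreathProduct.ext (funext fun x => Subsingleton.elim _ _) (hf h)
    · haveI : Nonempty (Fin (orderOf (Nat.card F : ZMod p))) := by
        refine ⟨⟨0, Nat.pos_of_ne_zero fun h0 => ?_⟩⟩
        have h1 : Subsingleton (Matrix.GeneralLinearGroup (Fin (orderOf (Nat.card F : ZMod p))) F) := by
          haveI : IsEmpty (Fin (orderOf (Nat.card F : ZMod p))) := by rw [h0]; infer_instance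
          infer_instance
        rw [Subsingleton.elim g 1, orderOf_one] at hg
        exact hp.out.one_lt.ne hg
      infer_instance
  | k + 1 => by
    obtain ⟨V, i₁, i₂, i₃, ρ, hρ, hV, hdim⟩ := exists_iterated_rep hq k
    haveI : NeZero p := ⟨hp.out.ne_zero⟩
    haveI : Nonempty (Multiplicative (ZMod p)) := ⟨1⟩
    refine ⟨Multiplicative (ZMod p) → V, inferInstance, inferInstance, inferInstance,
      wreathRep (Q := Multiplicative (ZMod p)) ρ, wreathRep_injective ρ hρ, inferInstance, ?_⟩
    rw [Module.finrank_pi_fintype, Finset.sum_const, Finset.card_univ, smul_eq_mul, hdim,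
      Fintype.card_multiplicative, ZMod.card, pow_succ]
    ring

theorem derivedSeries_sylow_ne_bot [Finite F] (hq : ¬ p ∣ Nat.card F) {n k : ℕ}
    (hk : orderOf (Nat.card F : ZMod p) * p ^ k ≤ n)
    (P : Sylow p (Matrix.GeneralLinearGroup (Fin n) F)) :
    derivedSeries ↥(P : Subgroup (Matrix.GeneralLinearGroup (Fin n) F)) k ≠ ⊥ := by
  obtain ⟨V, i₁, i₂, i₃, ρ, hρ, -, hdim⟩ := exists_iterated_rep (F := F) hq k
  set d := n - orderOf (Nat.card F : ZMod p) * p ^ k with hd
  let σ : IteratedWreathProduct (Multiplicative (ZMod p)) (k + 1) →* Module.End F (V × (Fin d → F)) :=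
    { toFun := fun a => (ρ a).prodMap LinearMap.id
      map_one' := LinearMap.ext fun x => Prod.ext (LinearMap.congr_fun (map_one ρ) x.1) rfl
      map_mul' := fun a b => LinearMap.ext fun x =>
        Prod.ext (LinearMap.congr_fun (map_mul ρ a b) x.1) rfl }
  have hσ : Function.Injective σ := fun a b h => hρ (LinearMap.ext fun v => by
    exact congrArg Prod.fst (LinearMap.congr_fun h (v, 0)))
  have hdimn : finrank F (V × (Fin d → F)) = n := by
    rw [Module.finrank_prod, hdim, Module.finrank_fin_fun, hd]; omega
  let e := LinearMap.toMatrixAlgEquiv (Module.finBasisOfFinrankEq F (V × (Fin d → F)) hdimn)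
  let ψ : IteratedWreathProduct (Multiplicative (ZMod p)) (k + 1) →*
      Matrix.GeneralLinearGroup (Fin n) F :=
    ((e : Module.End F (V × (Fin d → F)) →* Matrix (Fin n) (Fin n) F).comp σ).toHomUnits
  have hψ : Function.Injective ψ := fun a b h => hσ (e.injective (congrArg Units.val h))
  haveI : NeZero p := ⟨hp.out.ne_zero⟩
  have hC : Nat.card (Multiplicative (ZMod p)) = p := by simp
  have hW : IsPGroup p (IteratedWreathProduct (Multiplicative (ZMod p)) (k + 1)) :=
    IsPGroup.of_card (by rw [IteratedWreathProduct.card, hC])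
  obtain ⟨S, hS⟩ := (hW.of_surjective ψ.rangeRestrict ψ.rangeRestrict_surjective).exists_le_sylow
  let g : IteratedWreathProduct (Multiplicative (ZMod p)) (k + 1) →*
      ↥(P : Subgroup (Matrix.GeneralLinearGroup (Fin n) F)) :=
    (S.equiv P).toMonoidHom.comp ((inclusion hS).comp ψ.rangeRestrict)
  have hg : Function.Injective g := (S.equiv P).injective.comp
    ((inclusion_injective hS).comp fun a b h => hψ (congrArg Subtype.val h))
  intro hbot
  refine DerivedLength.derivedSeries_iterated_ne_bot (Multiplicative (ZMod p)) k
    ((Subgroup.map_eq_bot_iff_of_injective _ hg).mp ?_)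
  rw [eq_bot_iff, ← hbot]
  exact map_derivedSeries_le_derivedSeries g k

end Lower

end CfsgLib.FgsB.LinearSylowLength
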