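import Cfsg.Agent.Lib.FgsB.HomocyclicSylow
import Cfsg.Agent.Lib.FgsB.OrthTwoRank
import Cfsg.Agent.Lib.Base.Cores

/-!
The normal `2`-rank of the Sylow `2`-subgroups of `GL_n(q)` and `Sp_{2n}(q)`, `q` odd.
-/

set_option autoImplicit false
set_option linter.style.haveILetI false

universe u

namespace CfsgLib.FgsB.NormalTwoRank

open Finset

/-! ### Two-adic valuations -/

section Arith

/-- `2`-exponent of `|GL_n(q)|`. -/
def vGL (q n : ℕ) : ℕ := ∑ i ∈ range n, padicValNat 2 (q ^ (i + 1) - 1)

variable {q : ℕ}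

theorem val_odd (hq : 1 < q) (hodd : Odd q) {i : ℕ} (hi : Odd i) :
    padicValNat 2 (q ^ i - 1) = padicValNat 2 (q - 1) := by
  haveI : Fact (Nat.Prime 2) := ⟨Nat.prime_two⟩
  have h2 : ¬ 2 ∣ q := fun h => (Nat.not_even_iff_odd.2 hodd) (even_iff_two_dvd.2 h)
  have hd : orderOf ((q : ℕ) : ZMod 2) = 1 := by
    rw [orderOf_eq_one_iff]
    exact (ZMod.natCast_eq_one_iff_odd).2 hodd
  have := Homocyclic.padic_pow_sub_one (r := 2) hq (j := i)
    (fun h => (Nat.not_even_iff_odd.2 hi) (even_iff_two_dvd.2 h))
  rw [hd, one_mul] at this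
  rw [this, Homocyclic.vexp, hd, pow_one]

theorem val_even (hq : 1 < q) (hodd : Odd q) {i : ℕ} (hi0 : i ≠ 0) (hi : Even i) :
    padicValNat 2 (q ^ i - 1) + 1 =
      padicValNat 2 (q + 1) + padicValNat 2 (q - 1) + padicValNat 2 i := by
  have h2 : ¬ 2 ∣ q := fun h => (Nat.not_even_iff_odd.2 hodd) (even_iff_two_dvd.2 h)
  have := padicValNat.pow_two_sub_pow (x := q) (y := 1) hq (by omega) h2 hi0 hi
  rwa [one_pow] at this

theorem val_pred_of_three (h3 : q % 4 = 3) :
    padicValNat 2 (q - 1) = 1 ∧ 2 ≤ padicValNat 2 (q + 1) := by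
  haveI : Fact (Nat.Prime 2) := ⟨Nat.prime_two⟩
  constructor
  · obtain ⟨c, hc⟩ : ∃ c, q - 1 = 2 * (2 * c + 1) := ⟨q / 4, by omega⟩
    rw [hc, padicValNat.mul two_ne_zero (by omega), padicValNat.self (by norm_num),
      padicValNat.eq_zero_of_not_dvd (by omega)]
  · exact (padicValNat_dvd_iff_le (by omega)).1 (by omega)

theorem val_succ_of_one (h1 : q % 4 = 1) : padicValNat 2 (q + 1) = 1 := by
  haveI : Fact (Nat.Prime 2) := ⟨Nat.prime_two⟩
  obtain ⟨c, hc⟩ : ∃ c, q + 1 = 2 * (2 * c + 1) := ⟨q / 4, by omega⟩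
  rw [hc, padicValNat.mul two_ne_zero (by omega), padicValNat.self (by norm_num),
    padicValNat.eq_zero_of_not_dvd (by omega)]

theorem val_factorial_succ (n : ℕ) :
    padicValNat 2 (n + 1).factorial = padicValNat 2 (n + 1) + padicValNat 2 n.factorial := by
  haveI : Fact (Nat.Prime 2) := ⟨Nat.prime_two⟩
  rw [Nat.factorial_succ, padicValNat.mul (Nat.succ_ne_zero n) n.factorial_ne_zero]

theorem vGL_one (hq : 1 < q) (h1 : q % 4 = 1) (n : ℕ) :
    vGL q n = n * padicValNat 2 (q - 1) + padicValNat 2 n.factorial := by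
  haveI : Fact (Nat.Prime 2) := ⟨Nat.prime_two⟩
  have hodd : Odd q := ⟨q / 2, by omega⟩
  induction n with
  | zero => simp [vGL]
  | succ n ih =>
    rw [vGL, Finset.sum_range_succ, ← vGL, ih, val_factorial_succ, Nat.succ_mul]
    rcases Nat.even_or_odd (n + 1) with he | ho
    · have := val_even hq hodd (show n + 1 ≠ 0 by omega) he
      rw [val_succ_of_one h1] at this
      omega
    · rw [val_odd hq hodd ho, padicValNat.eq_zero_of_not_dvd (fun h => (Nat.not_even_iff_odd.2 ho)
        (even_iff_two_dvd.2 h))]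
      omega

theorem vGL_three (hq : 1 < q) (h3 : q % 4 = 3) (m : ℕ) :
    vGL q (2 * m) = m * (padicValNat 2 (q + 1) + 2) + padicValNat 2 m.factorial ∧
      vGL q (2 * m + 1) = m * (padicValNat 2 (q + 1) + 2) + padicValNat 2 m.factorial + 1 := by
  haveI : Fact (Nat.Prime 2) := ⟨Nat.prime_two⟩
  have hodd : Odd q := ⟨q / 2, by omega⟩
  have hstep : ∀ m, vGL q (2 * m + 1) = vGL q (2 * m) + 1 := fun m => by
    rw [vGL, Finset.sum_range_succ, ← vGL, val_odd hq hodd ⟨m, rfl⟩, (val_pred_of_three h3).1]
  suffices h : vGL q (2 * m) = m * (padicValNat 2 (q + 1) + 2) + padicValNat 2 m.factorial from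
    ⟨h, by rw [hstep, h]⟩
  induction m with
  | zero => simp [vGL]
  | succ m ih =>
    rw [show 2 * (m + 1) = 2 * m + 1 + 1 by ring, vGL, Finset.sum_range_succ, ← vGL, hstep, ih]
    have h := val_even hq hodd (i := 2 * m + 1 + 1) (by omega) ⟨m + 1, by ring⟩
    have e : padicValNat 2 (2 * m + 1 + 1) = 1 + padicValNat 2 (m + 1) := by
      rw [show 2 * m + 1 + 1 = 2 * (m + 1) by ring, padicValNat.mul two_ne_zero m.succ_ne_zero,
        padicValNat.self (by norm_num)]
    rw [e, (val_pred_of_three h3).1] at h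
    rw [val_factorial_succ, Nat.add_mul, one_mul]
    omega

theorem vGL_gt (hq : 1 < q) (h3 : q % 4 = 3) {r : ℕ} (hr : 2 ≤ r) :
    r + padicValNat 2 r.factorial < vGL q r := by
  haveI : Fact (Nat.Prime 2) := ⟨Nat.prime_two⟩
  have hodd : Odd q := ⟨q / 2, by omega⟩
  obtain ⟨ha, hb⟩ := val_pred_of_three h3
  have hterm : ∀ i, 1 + padicValNat 2 (i + 1) + (if Even (i + 1) then 1 else 0) ≤
      padicValNat 2 (q ^ (i + 1) - 1) := by
    intro i
    rcases Nat.even_or_odd (i + 1) with he | ho
    · have := val_even hq hodd (show i + 1 ≠ 0 by omega) he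
      rw [if_pos he]
      omega
    · rw [if_neg (Nat.not_even_iff_odd.2 ho), val_odd hq hodd ho, ha,
        padicValNat.eq_zero_of_not_dvd (fun h => (Nat.not_even_iff_odd.2 ho) (even_iff_two_dvd.2 h))]
  have hfac : ∀ n, n + padicValNat 2 n.factorial = ∑ i ∈ range n, (1 + padicValNat 2 (i + 1)) := by
    intro n
    induction n with
    | zero => simp
    | succ n ih => rw [Finset.sum_range_succ, ← ih, val_factorial_succ]; omega
  rw [hfac]
  refine Finset.sum_lt_sum (fun i _ => le_trans (Nat.le_add_right _ _) (hterm i))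
    ⟨1, Finset.mem_range.2 hr, ?_⟩
  have := hterm 1
  rw [if_pos (by norm_num : Even (1 + 1))] at this
  omega

end Arith

/-! ### Group orders -/

section Orders

variable {F : Type u} [Field F] [Fintype F]

theorem factorization_GL (hodd : Odd (Fintype.card F)) (n : ℕ) :
    (Nat.card (GL (Fin n) F)).factorization 2 = vGL (Fintype.card F) n := by
  have hq : 1 < Fintype.card F := Fintype.one_lt_card
  have h2 : ¬ 2 ∣ Fintype.card F := fun h => (Nat.not_even_iff_odd.2 hodd) (even_iff_two_dvd.2 h)
  rw [Matrix.card_GL_field, Nat.factorization_prod_apply]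
  · have e : ∀ i : Fin n, (Fintype.card F ^ n - Fintype.card F ^ (i : ℕ)).factorization 2 =
        padicValNat 2 (Fintype.card F ^ (n - (i : ℕ)) - 1) := by
      intro i
      rw [← Nat.factorization_def _ Nat.prime_two,
        show Fintype.card F ^ n - Fintype.card F ^ (i : ℕ) =
            Fintype.card F ^ (i : ℕ) * (Fintype.card F ^ (n - (i : ℕ)) - 1) by
          rw [Nat.mul_sub, ← pow_add, mul_one, Nat.add_sub_cancel' i.2.le],
        Nat.factorization_mul (pow_ne_zero _ (by omega))
          (by have := Nat.one_lt_pow (n := n - (i : ℕ)) (by omega) hq; omega),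
        Finsupp.add_apply, Nat.factorization_eq_zero_of_not_dvd fun h => h2 (Nat.prime_two.dvd_of_dvd_pow h),
        zero_add]
    rw [Finset.sum_congr rfl fun i _ => e i,
      Fin.sum_univ_eq_sum_range (fun i => padicValNat 2 (Fintype.card F ^ (n - i) - 1)),
      ← Finset.sum_range_reflect]
    refine Finset.sum_congr rfl fun i hi => ?_
    rw [Finset.mem_range] at hi
    rw [show n - (n - 1 - i) = i + 1 by omega]
  · intro i _
    have := Nat.pow_lt_pow_right (a := Fintype.card F) Fintype.one_lt_card i.2
    omega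

theorem factorization_GL' (hodd : Odd (Fintype.card F)) (ι : Type) [Fintype ι] [DecidableEq ι] :
    (Nat.card (GL ι F)).factorization 2 = vGL (Fintype.card F) (Fintype.card ι) := by
  rw [← factorization_GL hodd, Nat.card_congr (Units.mapEquiv
    (Matrix.reindexAlgEquiv F F (Fintype.equivFin ι)).toMulEquiv).toEquiv]

theorem factorization_SL2 (hodd : Odd (Fintype.card F)) :
    (Nat.card (Matrix.SpecialLinearGroup (Fin 2) F)).factorization 2 =
      padicValNat 2 (Fintype.card F ^ 2 - 1) := by
  let f : GL (Fin 2) F →* Fˣ := Matrix.GeneralLinearGroup.det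
  have hsurj : Function.Surjective f := by
    intro c
    refine ⟨Matrix.GeneralLinearGroup.mkOfDetNeZero (Matrix.diagonal ![(c : F), 1]) ?_, Units.ext ?_⟩
    · simp [Matrix.det_diagonal]
    · rw [Matrix.GeneralLinearGroup.val_det_apply]
      show (Matrix.diagonal _).det = _
      simp [Matrix.det_diagonal]
  have hker : f.ker = (Matrix.SpecialLinearGroup.toGL : Matrix.SpecialLinearGroup (Fin 2) F →* _).range := by
    ext g
    constructor
    · intro hg
      exact ⟨⟨g, by simpa [f] using congrArg Units.val (MonoidHom.mem_ker.1 hg)⟩, Units.ext rfl⟩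
    · rintro ⟨s, rfl⟩
      exact MonoidHom.mem_ker.2 (Units.ext s.2)
  have hcard : Nat.card (GL (Fin 2) F) =
      (Fintype.card F - 1) * Nat.card (Matrix.SpecialLinearGroup (Fin 2) F) := by
    rw [← Subgroup.index_mul_card f.ker, Subgroup.index_ker, MonoidHom.range_eq_top.2 hsurj,
      Subgroup.card_top, Nat.card_units, Nat.card_eq_fintype_card, hker]
    congr 1
    exact (Nat.card_congr (MonoidHom.ofInjective (f := (Matrix.SpecialLinearGroup.toGL :
      Matrix.SpecialLinearGroup (Fin 2) F →* _)) Matrix.SpecialLinearGroup.toGL_injective).toEquiv).symm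
  have h := factorization_GL hodd 2
  have hq : 1 < Fintype.card F := Fintype.one_lt_card
  rw [hcard, Nat.factorization_mul (by omega) Nat.card_pos.ne', Finsupp.add_apply, vGL,
    Finset.sum_range_succ, Finset.sum_range_one, pow_one, Nat.factorization_def _ Nat.prime_two] at h
  rw [show (1 + 1 : ℕ) = 2 from rfl] at h
  omega

theorem factorization_Sp (hodd : Odd (Fintype.card F)) (n : ℕ) :
    (Nat.card (Matrix.symplecticGroup (Fin n) F)).factorization 2 =
      n * padicValNat 2 (Fintype.card F ^ 2 - 1) + padicValNat 2 n.factorial := by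
  haveI : Fact (Nat.Prime 2) := ⟨Nat.prime_two⟩
  set q := Fintype.card F
  have hq : 1 < q := Fintype.one_lt_card
  have h2 : ¬ 2 ∣ q := fun h => (Nat.not_even_iff_odd.2 hodd) (even_iff_two_dvd.2 h)
  have hne : ∀ i ∈ range n, q ^ (2 * (i + 1)) - 1 ≠ 0 := fun i _ => by
    have := Nat.one_lt_pow (n := 2 * (i + 1)) (by omega) hq
    omega
  rw [CfsgLib.Classical.card_symplecticGroup, Fintype.card_fin, Nat.card_eq_fintype_card (α := F),
    Nat.factorization_mul (pow_ne_zero _ (by omega)) (Finset.prod_ne_zero_iff.2 hne),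
    Finsupp.add_apply, Nat.factorization_eq_zero_of_not_dvd fun h => h2 (Nat.prime_two.dvd_of_dvd_pow h),
    zero_add, Nat.factorization_prod_apply hne]
  clear hne
  induction n with
  | zero => simp
  | succ n ih =>
    rw [Finset.sum_range_succ, ih, val_factorial_succ, Nat.add_mul, one_mul, Nat.factorization_def _ Nat.prime_two]
    have h1 := val_even hq hodd (i := 2 * (n + 1)) (by omega) (even_two_mul _)
    have h4 := val_even hq hodd (i := 2) (by omega) even_two
    rw [padicValNat.mul two_ne_zero (show n + 1 ≠ 0 by omega), padicValNat.self (by norm_num)] at h1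
    rw [padicValNat.self (by norm_num)] at h4
    omega

end Orders

/-! ### Wreath models -/

section Model

variable (K : Type*) [Group K] (m ε : ℕ) (F : Type u) [Field F]

/-- Permutations of the factors of a power. -/
def permAct : Equiv.Perm (Fin m) →* MulAut (Fin m → K) where
  toFun π :=
    { toFun := fun f => f ∘ π.symm
      invFun := fun f => f ∘ π
      left_inv := fun f => funext fun i => by simp
      right_inv := fun f => funext fun i => by simp
      map_mul' := fun _ _ => rfl }
  map_one' := rfl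
  map_mul' _ _ := rfl

/-- `(K ≀ Sym_m) × (F^×)^ε`. -/
abbrev Model : Type _ := ((Fin m → K) ⋊[permAct K m] Equiv.Perm (Fin m)) × (Fin ε → Fˣ)

theorem card_model [Finite F] [Finite K] :
    Nat.card (Model K m ε F) = Nat.card K ^ m * m.factorial * (Nat.card F - 1) ^ ε := by
  haveI := Fintype.ofFinite F
  rw [Nat.card_prod, SemidirectProduct.card, Nat.card_fun, Nat.card_fun, Nat.card_units, Nat.card_perm,
    Nat.card_fin, Nat.card_fin]

theorem factorization_model [Finite F] [Finite K] :
    (Nat.card (Model K m ε F)).factorization 2 = m * (Nat.card K).factorization 2 +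
      padicValNat 2 m.factorial + ε * (Nat.card F - 1).factorization 2 := by
  have hF : 1 < Nat.card F := Finite.one_lt_card
  rw [card_model, Nat.factorization_mul (mul_ne_zero (pow_ne_zero _ Nat.card_pos.ne') m.factorial_ne_zero)
    (pow_ne_zero _ (by omega)), Nat.factorization_mul (pow_ne_zero _ Nat.card_pos.ne') m.factorial_ne_zero,
    Nat.factorization_pow, Nat.factorization_pow, Finsupp.add_apply, Finsupp.add_apply,
    Finsupp.smul_apply, Finsupp.smul_apply, smul_eq_mul, smul_eq_mul,
    Nat.factorization_def m.factorial Nat.prime_two]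

/-- The signs in the model. -/
def signs (z : ℤˣ →* K) : (Fin m → ℤˣ) × (Fin ε → ℤˣ) →* Model K m ε F :=
  (SemidirectProduct.inl.comp (MonoidHom.piMap fun _ => z)).prodMap
    (MonoidHom.piMap fun _ => Units.map (Int.castRingHom F).toMonoidHom)

theorem signs_normal (z : ℤˣ →* K) (hz : ∀ s k, z s * k = k * z s) : (signs K m ε F z).range.Normal := by
  refine ⟨?_⟩
  rintro _ ⟨⟨s, t⟩, rfl⟩ ⟨⟨f, π⟩, u⟩
  refine ⟨(s ∘ π.symm, t), Prod.ext ?_ ?_⟩
  · show SemidirectProduct.inl (fun i => z (s (π.symm i))) =
      (⟨f, π⟩ : (Fin m → K) ⋊[permAct K m] Equiv.Perm (Fin m)) * SemidirectProduct.inl (fun i => z (s i)) *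
        (⟨f, π⟩ : (Fin m → K) ⋊[permAct K m] Equiv.Perm (Fin m))⁻¹
    rw [eq_mul_inv_iff_mul_eq]
    refine SemidirectProduct.ext (funext fun i => ?_) (Equiv.ext fun i => rfl)
    exact hz _ _
  · exact (mul_inv_cancel_comm _ _).symm

theorem signs_injective (h2 : (2 : F) ≠ 0) (z : ℤˣ →* K) (hz : Function.Injective z) :
    Function.Injective (signs K m ε F z) := by
  rintro ⟨s, t⟩ ⟨s', t'⟩ h
  refine Prod.ext (funext fun i => hz ?_) (funext fun i => SignDiagonal.sign_inj h2 ?_)
  · exact congrFun (congrArg SemidirectProduct.left (congrArg Prod.fst h)) i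
  · exact congrArg Units.val (congrFun (congrArg Prod.snd h) i)

variable {K m ε F}
variable {W : Type*} [AddCommGroup W] [Module F W]

/-- The block representation. -/
def blockRep (r : K →* (W ≃ₗ[F] W)) :
    (Fin m → K) ⋊[permAct K m] Equiv.Perm (Fin m) →* ((Fin m → W) ≃ₗ[F] (Fin m → W)) :=
  SemidirectProduct.lift
    { toFun := fun f => LinearEquiv.piCongrRight fun i => r (f i)
      map_one' := LinearEquiv.ext fun v => funext fun i => by simp
      map_mul' := fun f g => LinearEquiv.ext fun v => funext fun i => by simp }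
    { toFun := fun π => LinearEquiv.funCongrLeft F W π.symm
      map_one' := LinearEquiv.ext fun v => rfl
      map_mul' := fun π π' => LinearEquiv.ext fun v => rfl }
    (fun π => MonoidHom.ext fun f => LinearEquiv.ext fun v => funext fun i => by
      simp [permAct, LinearEquiv.funCongrLeft_apply, LinearMap.funLeft_apply, MulAut.conj_apply]
      rfl)

theorem blockRep_apply (r : K →* (W ≃ₗ[F] W)) (x : (Fin m → K) ⋊[permAct K m] Equiv.Perm (Fin m))
    (v : Fin m → W) (i : Fin m) : blockRep r x v i = r (x.left i) (v (x.right.symm i)) := by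
  simp [blockRep, SemidirectProduct.lift, LinearEquiv.funCongrLeft_apply, LinearMap.funLeft_apply]

theorem blockRep_injective [Nontrivial W] (r : K →* (W ≃ₗ[F] W)) (hr : Function.Injective r) :
    Function.Injective (blockRep (m := m) r) := by
  intro x y h
  obtain ⟨w, hw⟩ := exists_ne (0 : W)
  have key : ∀ (v : Fin m → W) i, r (x.left i) (v (x.right.symm i)) = r (y.left i) (v (y.right.symm i)) := fun v i => by
    rw [← blockRep_apply, ← blockRep_apply, h]
  have hπ : ∀ i, x.right.symm i = y.right.symm i := fun i => by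
    by_contra hne
    have := key (Pi.single (x.right.symm i) w) i
    rw [Pi.single_eq_same, Pi.single_eq_of_ne (Ne.symm hne), map_zero] at this
    exact hw ((r (x.left i)).injective (this.trans (map_zero _).symm))
  refine SemidirectProduct.ext (funext fun i => hr (LinearEquiv.ext fun v => ?_)) ?_
  · have := key (fun _ => v) i
    exact this
  · exact Equiv.symm_bijective.injective (Equiv.ext hπ)

/-- Diagonal units. -/
def diagRep : (Fin ε → Fˣ) →* ((Fin ε → F) ≃ₗ[F] (Fin ε → F)) where
  toFun u := LinearEquiv.piCongrRight fun i => LinearEquiv.smulOfUnit (u i)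
  map_one' := LinearEquiv.ext fun v => funext fun i => by simp [LinearEquiv.smulOfUnit]
  map_mul' u u' := LinearEquiv.ext fun v => funext fun i => by
    simp [LinearEquiv.smulOfUnit, mul_smul]

theorem diagRep_injective : Function.Injective (diagRep (F := F) (ε := ε)) := fun u u' h =>
  funext fun i => Units.ext (by
    have := congrFun (LinearEquiv.congr_fun h (fun _ => 1)) i
    simpa [diagRep, LinearEquiv.smulOfUnit, Units.smul_def] using this)

/-- The representation of the model. -/
def modelRep (r : K →* (W ≃ₗ[F] W)) :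
    Model K m ε F →* (((Fin m → W) × (Fin ε → F)) ≃ₗ[F] ((Fin m → W) × (Fin ε → F))) where
  toFun x := (blockRep r x.1).prodCongr (diagRep x.2)
  map_one' := LinearEquiv.ext fun v => by simp
  map_mul' x y := LinearEquiv.ext fun v => by simp

theorem modelRep_injective [Nontrivial W] (r : K →* (W ≃ₗ[F] W)) (hr : Function.Injective r) :
    Function.Injective (modelRep (m := m) (ε := ε) r) := fun x y h => by
  refine Prod.ext (blockRep_injective r hr (LinearEquiv.ext fun v => ?_))
    (diagRep_injective (LinearEquiv.ext fun v => ?_))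
  · exact congrArg Prod.fst (LinearEquiv.congr_fun h (v, 0))
  · exact congrArg Prod.snd (LinearEquiv.congr_fun h (0, v))

end Model

/-- Sylow subgroups inherit normal sign subgroups from a model of full `2`-order. -/
theorem exists_normal_elementary {G : Type*} [Group G] [Finite G] {H : Type*} [Group H] [Finite H]
    (ψ : H →* G) (hψ : Function.Injective ψ)
    (hv : (Nat.card H).factorization 2 = (Nat.card G).factorization 2)
    {E : Type*} [CommGroup E] [Finite E] (hE : ∀ x : E, x ^ 2 = 1) (δ : E →* H)
    (hδ : Function.Injective δ) (hn : δ.range.Normal) (S : Sylow 2 G) :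
    ∃ A : Subgroup (S : Subgroup G), A.Normal ∧ Cfsg.IsElementaryAbelian 2 A ∧
      Nat.card A = Nat.card E := by
  haveI : Fact (Nat.Prime 2) := ⟨Nat.prime_two⟩
  obtain ⟨P⟩ : Nonempty (Sylow 2 H) := inferInstance
  have hD : δ.range ≤ (P : Subgroup H) := by
    refine le_trans ?_ (CfsgLib.Base.pCore_le_sylow P)
    haveI := hn
    refine CfsgLib.Base.le_pCore (fun x => ?_)
    obtain ⟨y, hy⟩ := x.2
    exact ⟨1, Subtype.ext (by rw [pow_one, SubmonoidClass.coe_pow, ← hy, ← map_pow, hE, map_one]; rfl)⟩
  let Q : Sylow 2 G := Sylow.ofCard ((P : Subgroup H).map ψ) (by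
    rw [Nat.card_congr ((P : Subgroup H).equivMapOfInjective ψ hψ).symm.toEquiv, Sylow.card_eq_multiplicity, hv])
  let e : (P : Subgroup H) ≃* (S : Subgroup G) :=
    (((P : Subgroup H).equivMapOfInjective ψ hψ).trans (MulEquiv.refl (Q : Subgroup G))).trans (Q.equiv S)
  let δ' : E →* (S : Subgroup G) := e.toMonoidHom.comp (δ.codRestrict _ fun x => hD ⟨x, rfl⟩)
  have hδ' : Function.Injective δ' := e.injective.comp fun x y h => hδ (congrArg Subtype.val h)
  refine ⟨δ'.range, ⟨?_⟩, ⟨⟨⟨?_⟩⟩, ?_⟩, ?_⟩
  · rintro _ ⟨x, rfl⟩ g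
    obtain ⟨y, hy⟩ := hn.conj_mem (δ x) ⟨x, rfl⟩ ((e.symm g : (P : Subgroup H)) : H)
    refine ⟨y, ?_⟩
    show e _ = g * e _ * g⁻¹
    conv_rhs => rw [← e.apply_symm_apply g, ← map_inv, ← map_mul, ← map_mul]
    exact congrArg e (Subtype.ext hy)
  · rintro ⟨_, s, rfl⟩ ⟨_, t, rfl⟩
    exact Subtype.ext (by show δ' s * δ' t = δ' t * δ' s; rw [← map_mul, ← map_mul, mul_comm])
  · rintro _ ⟨s, rfl⟩
    rw [← map_pow, hE, map_one]
  · exact (Nat.card_congr (MonoidHom.ofInjective hδ').toEquiv).symm

section Lower

variable {F : Type u} [Field F] [Fintype F]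

theorem card_signs (m ε : ℕ) : Nat.card ((Fin m → ℤˣ) × (Fin ε → ℤˣ)) = 2 ^ (m + ε) := by
  rw [Nat.card_prod, Nat.card_fun, Nat.card_fun, Nat.card_fin, Nat.card_fin, Nat.card_eq_fintype_card,
    Fintype.card_units_int, pow_add]

theorem sq_signs (m ε : ℕ) (x : (Fin m → ℤˣ) × (Fin ε → ℤˣ)) : x ^ 2 = 1 :=
  Prod.ext (funext fun _ => Int.units_sq _) (funext fun _ => Int.units_sq _)

/-- Scalar signs. -/
def scalarSign (ι : Type) [Fintype ι] [DecidableEq ι] : ℤˣ →* GL ι F :=
  Units.map ((Matrix.scalar ι).comp (Int.castRingHom F)).toMonoidHom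

theorem gl_lower (hodd : Odd (Fintype.card F)) {n b m ε : ℕ} (hb : 0 < b) (hn : m * b + ε = n)
    (hv : vGL (Fintype.card F) n = m * vGL (Fintype.card F) b + padicValNat 2 m.factorial +
      ε * padicValNat 2 (Fintype.card F - 1)) (S : Sylow 2 (GL (Fin n) F)) :
    ∃ A : Subgroup (S : Subgroup (GL (Fin n) F)), A.Normal ∧ Cfsg.IsElementaryAbelian 2 A ∧
      Nat.card A = 2 ^ (m + ε) := by
  have h2 := CfsgLib.Geometry.two_ne_zero_of_odd_card (F := F) rfl hodd
  let r : GL (Fin b) F →* ((Fin b → F) ≃ₗ[F] (Fin b → F)) :=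
    ((LinearMap.GeneralLinearGroup.generalLinearEquiv F (Fin b → F)).toMonoidHom).comp
      Matrix.GeneralLinearGroup.toLin.toMonoidHom
  have hr : Function.Injective r := fun x y h =>
    Matrix.GeneralLinearGroup.toLin.injective
      ((LinearMap.GeneralLinearGroup.generalLinearEquiv F _).injective h)
  haveI : Nonempty (Fin b) := ⟨⟨0, hb⟩⟩
  haveI : Nontrivial (Fin b → F) := Function.nontrivial
  have hd : Module.finrank F ((Fin m → (Fin b → F)) × (Fin ε → F)) = n := by
    rw [Module.finrank_prod, Module.finrank_pi_fintype, Finset.sum_const, Finset.card_univ,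
      Fintype.card_fin, Module.finrank_fin_fun, Module.finrank_fin_fun, smul_eq_mul, hn]
  let bas := Module.finBasisOfFinrankEq F _ hd
  let ψ : Model (GL (Fin b) F) m ε F →* GL (Fin n) F :=
    (((Matrix.GeneralLinearGroup.toLin' bas).trans
      (LinearMap.GeneralLinearGroup.generalLinearEquiv F _)).symm.toMonoidHom).comp (modelRep r)
  have hψ : Function.Injective ψ := fun x y h => modelRep_injective r hr
    (((Matrix.GeneralLinearGroup.toLin' bas).trans
      (LinearMap.GeneralLinearGroup.generalLinearEquiv F _)).symm.injective h)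
  haveI : Finite (Model (GL (Fin b) F) m ε F) := Finite.of_injective _ hψ
  have hz : Function.Injective (scalarSign (F := F) (Fin b)) := fun s t h => SignDiagonal.sign_inj h2 (by
    have h1 : Matrix.scalar (Fin b) ((s : ℤ) : F) = Matrix.scalar (Fin b) ((t : ℤ) : F) :=
      congrArg Units.val h
    exact Matrix.scalar_inj.1 h1)
  have hzc : ∀ s (k : GL (Fin b) F), scalarSign (Fin b) s * k = k * scalarSign (Fin b) s := fun s k =>
    Units.ext (Matrix.scalar_commute _ (fun _ => Commute.all _ _) _).eq
  obtain ⟨A, h1, h3, h4⟩ := exists_normal_elementary ψ hψ (by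
    rw [factorization_model, factorization_GL hodd, factorization_GL hodd, hv, Nat.card_eq_fintype_card,
      Nat.factorization_def _ Nat.prime_two])
    (sq_signs m ε) (signs (GL (Fin b) F) m ε F (scalarSign (Fin b)))
    (signs_injective _ m ε F h2 _ hz) (signs_normal _ m ε F _ hzc) S
  exact ⟨A, h1, h3, h4.trans (card_signs m ε)⟩

theorem sp_lower (hodd : Odd (Fintype.card F)) (n : ℕ) (S : Sylow 2 (Matrix.symplecticGroup (Fin n) F)) :
    ∃ A : Subgroup (S : Subgroup (Matrix.symplecticGroup (Fin n) F)),
      A.Normal ∧ Cfsg.IsElementaryAbelian 2 A ∧ Nat.card A = 2 ^ n := by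
  have h2 := CfsgLib.Geometry.two_ne_zero_of_odd_card (F := F) rfl hodd
  let r : Matrix.SpecialLinearGroup (Fin 2) F →* ((Fin 2 → F) ≃ₗ[F] (Fin 2 → F)) :=
    Matrix.SpecialLinearGroup.toLin'
  have hr : Function.Injective r := Matrix.SpecialLinearGroup.toLin'_injective
  let B : LinearMap.BilinForm F ((Fin n → (Fin 2 → F)) × (Fin 0 → F)) :=
    LinearMap.mk₂ F (fun x y => ∑ i, (x.1 i 0 * y.1 i 1 - x.1 i 1 * y.1 i 0))
      (fun x x' y => by
        rw [← Finset.sum_add_distrib]
        exact Finset.sum_congr rfl fun i _ => by simp only [Prod.fst_add, Pi.add_apply]; ring)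
      (fun c x y => by
        rw [smul_eq_mul, Finset.mul_sum]
        exact Finset.sum_congr rfl fun i _ => by simp only [Prod.smul_fst, Pi.smul_apply, smul_eq_mul]; ring)
      (fun x y y' => by
        rw [← Finset.sum_add_distrib]
        exact Finset.sum_congr rfl fun i _ => by simp only [Prod.fst_add, Pi.add_apply]; ring)
      (fun c x y => by
        rw [smul_eq_mul, Finset.mul_sum]
        exact Finset.sum_congr rfl fun i _ => by simp only [Prod.smul_fst, Pi.smul_apply, smul_eq_mul]; ring)
  obtain ⟨ψ, hψ⟩ := CfsgLib.KnownB.RestrictScalars.alt_embed (F := F)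
    (modelRep (m := n) (ε := 0) r) (modelRep_injective r hr) B (fun x => by simp [B, mul_comm])
    (fun x hx => by
      refine Prod.ext (funext fun i => funext fun j => ?_) (Subsingleton.elim _ _)
      have h0 := hx (Pi.single i (Pi.single 0 1), 0)
      have h1 := hx (Pi.single i (Pi.single 1 1), 0)
      simp [B, Pi.single_apply, ite_apply, Finset.sum_sub_distrib, mul_ite] at h0 h1
      fin_cases j
      · simpa using h1
      · simpa using h0)
    (fun g x y => by
      show ∑ i, (blockRep r g.1 x.1 i 0 * blockRep r g.1 y.1 i 1 -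
        blockRep r g.1 x.1 i 1 * blockRep r g.1 y.1 i 0) = ∑ i, (x.1 i 0 * y.1 i 1 - x.1 i 1 * y.1 i 0)
      rw [← Equiv.sum_comp g.1.right.symm (fun i => x.1 i 0 * y.1 i 1 - x.1 i 1 * y.1 i 0)]
      refine Finset.sum_congr rfl fun i _ => ?_
      simp only [blockRep_apply, r, Matrix.SpecialLinearGroup.toLin'_apply, Matrix.toLin'_apply,
        Matrix.mulVec, dotProduct, Fin.sum_univ_two]
      have hdet := (g.1.left i).2
      rw [Matrix.det_fin_two] at hdet
      linear_combination ((x.1 (g.1.right.symm i) 0 * y.1 (g.1.right.symm i) 1 -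
        x.1 (g.1.right.symm i) 1 * y.1 (g.1.right.symm i) 0)) * hdet)
    (m := n) (by rw [Module.finrank_prod, Module.finrank_pi_fintype]; simp [mul_comm])
  haveI : Finite (Model (Matrix.SpecialLinearGroup (Fin 2) F) n 0 F) := Finite.of_injective _ hψ
  let z : ℤˣ →* Matrix.SpecialLinearGroup (Fin 2) F :=
    { toFun := fun s => ⟨Matrix.scalar (Fin 2) ((s : ℤ) : F), by
        rw [Matrix.scalar_apply, Matrix.det_diagonal, Fin.prod_univ_two, SignDiagonal.sign_sq]⟩
      map_one' := Subtype.ext (by simp)
      map_mul' := fun s t => Subtype.ext (by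
        show Matrix.scalar (Fin 2) _ = Matrix.scalar (Fin 2) _ * Matrix.scalar (Fin 2) _
        rw [← map_mul]; simp) }
  have hz : Function.Injective z := fun s t h => SignDiagonal.sign_inj h2 (by
    have h1 : Matrix.scalar (Fin 2) ((s : ℤ) : F) = Matrix.scalar (Fin 2) ((t : ℤ) : F) :=
      congrArg Subtype.val h
    exact Matrix.scalar_inj.1 h1)
  have hzc : ∀ s k, z s * k = k * z s := fun s k =>
    Subtype.ext (Matrix.scalar_commute _ (fun _ => Commute.all _ _) _).eq
  obtain ⟨A, h1, h3, h4⟩ := exists_normal_elementary ψ hψ (by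
    rw [factorization_model, factorization_SL2 hodd, factorization_Sp hodd, zero_mul, add_zero])
    (sq_signs n 0) (signs _ n 0 F z) (signs_injective _ n 0 F h2 z hz) (signs_normal _ n 0 F z hzc) S
  exact ⟨A, h1, h3, h4.trans (card_signs n 0)⟩

end Lower

/-! ### Upper bound in `GL_n` -/

section Upper

variable {F : Type u} [Field F] [Fintype F] {n : ℕ}

open Classical in
theorem gl_upper (hodd : Odd (Fintype.card F)) (S : Subgroup (GL (Fin n) F))
    (A : Subgroup S) (hA : Cfsg.IsElementaryAbelian 2 A) :
    Nat.card A ≤ 2 ^ n ∧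
      (Fintype.card F % 4 = 3 → IsPGroup 2 S →
        (Nat.card S).factorization 2 = vGL (Fintype.card F) n → A.Normal →
        Nat.card A ≤ 2 ^ ((n + 1) / 2)) := by
  classical
  have h2 := CfsgLib.Geometry.two_ne_zero_of_odd_card (F := F) rfl hodd
  haveI := Fintype.ofFinite A
  let ρ : GL (Fin n) F →* Module.End F (Fin n → F) :=
    (Units.coeHom _).comp Matrix.GeneralLinearGroup.toLin.toMonoidHom
  let ρA : A → Module.End F (Fin n → F) := fun a => ρ (((a : S) : GL (Fin n) F))
  have hinv : ∀ a v, ρA a (ρA a v) = v := fun a v => by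
    have h := congrArg (fun g : S => ρ (g : GL (Fin n) F) v) (hA.2 (a : S) a.2)
    simpa [ρA, sq] using h
  have hcomm : ∀ a c v, ρA a (ρA c v) = ρA c (ρA a v) := fun a c v => by
    have h := congrArg (fun g : A => ρ (((g : S)) : GL (Fin n) F) v) (hA.1.is_comm.comm a c)
    simpa [ρA] using h
  have hspan : ∀ s : Finset A, Submodule.span F {v : Fin n → F |
      ∀ a ∈ s, ∃ z : ℤˣ, ρA a v = ((z : ℤ) : F) • v} = ⊤ := by
    intro s
    induction s using Finset.induction with
    | empty => simp
    | insert a s ha ih =>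
      rw [eq_top_iff, ← ih, Submodule.span_le]
      intro v hv
      have hstep : ∀ w : ℤˣ, v + ((w : ℤ) : F) • ρA a v ∈ Submodule.span F {v : Fin n → F |
          ∀ c ∈ insert a s, ∃ z : ℤˣ, ρA c v = ((z : ℤ) : F) • v} := by
        intro w
        refine Submodule.subset_span fun c hc => ?_
        rcases Finset.mem_insert.1 hc with rfl | hc
        · exact ⟨w, by rw [map_add, map_smul, hinv, smul_add, smul_smul, SignDiagonal.sign_sq, one_smul]; exact add_comm _ _⟩
        · obtain ⟨z, hz⟩ := hv c hc
          exact ⟨z, by rw [map_add, map_smul, hcomm, hz, map_smul, smul_add, smul_comm]⟩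
      have := Submodule.smul_mem _ (2 : F)⁻¹ (Submodule.add_mem _ (hstep 1) (hstep (-1)))
      have e : (2 : F)⁻¹ • (v + (((1 : ℤˣ) : ℤ) : F) • ρA a v + (v + (((-1 : ℤˣ) : ℤ) : F) • ρA a v)) = v := by
        simp only [Units.val_one, Units.val_neg, Int.cast_one, Int.cast_neg]
        match_scalars <;> field_simp <;> ring
      exact e ▸ this
  obtain ⟨b', hb's, hb'span, hb'li⟩ := exists_linearIndependent F {v : Fin n → F |
      ∀ a ∈ (Finset.univ : Finset A), ∃ z : ℤˣ, ρA a v = ((z : ℤ) : F) • v}
  let B := Module.Basis.mk hb'li (by rw [Subtype.range_coe, hb'span, hspan])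
  haveI : Fintype b' := Fintype.ofFinite _
  have hcardB : Fintype.card b' = n := by
    rw [← Module.finrank_eq_card_basis B, Module.finrank_fin_fun]
  have heig : ∀ (i : b') (a : A), ∃ z : ℤˣ, ρA a (B i) = ((z : ℤ) : F) • B i := fun i a => by
    rw [Module.Basis.mk_apply]
    exact hb's i.2 a (Finset.mem_univ a)
  choose z hz using heig
  have hinj : Function.Injective fun (a : A) (χ : Finset.univ.image z) => (χ : A → ℤˣ) a := by
    intro a c h
    have e : ρA a = ρA c := B.ext fun i => by
      rw [hz, hz, show z i a = z i c from congrFun h ⟨z i, Finset.mem_image.2 ⟨i, Finset.mem_univ _, rfl⟩⟩]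
    apply Subtype.ext; apply Subtype.ext
    exact Matrix.GeneralLinearGroup.toLin.injective (Units.ext e)
  have hk := Nat.card_le_card_of_injective _ hinj
  rw [Nat.card_fun, Nat.card_eq_fintype_card (α := ℤˣ), Fintype.card_units_int,
    Nat.card_eq_fintype_card (α := ↥(Finset.univ.image z)), Fintype.card_coe] at hk
  refine ⟨hk.trans (Nat.pow_le_pow_right two_pos ?_), fun h3 hS hSv hN => hk.trans (Nat.pow_le_pow_right two_pos ?_)⟩
  · exact Finset.card_image_le.trans (le_of_eq (Finset.card_univ.trans hcardB))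
  -- the joint eigenspaces of dimension one
  let mult : b' → ℕ := fun i => (Finset.univ.filter fun j => z j = z i).card
  let R : b' → Prop := fun i => mult i = 1
  set rr := (Finset.univ.filter R).card with hrr
  have hcount : 2 * (Finset.univ.image z).card ≤ n + rr := by
    have hn : n = ∑ χ ∈ Finset.univ.image z, (Finset.univ.filter fun j => z j = χ).card := by
      exact hcardB.symm.trans (Finset.card_univ.symm.trans (Finset.card_eq_sum_card_image z Finset.univ))
    have hr' : rr = ∑ χ ∈ Finset.univ.image z, ((Finset.univ.filter R).filter fun j => z j = χ).card :=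
      Finset.card_eq_sum_card_fiberwise fun j _ => Finset.mem_image.2 ⟨j, Finset.mem_univ _, rfl⟩
    suffices key : ∑ χ ∈ Finset.univ.image z, 2 ≤ ∑ χ ∈ Finset.univ.image z,
        ((Finset.univ.filter fun j => z j = χ).card +
          ((Finset.univ.filter R).filter fun j => z j = χ).card) by
      rw [Finset.sum_add_distrib, ← hn, ← hr', Finset.sum_const, smul_eq_mul] at key
      omega
    refine Finset.sum_le_sum fun χ hχ => ?_
    obtain ⟨i, -, rfl⟩ := Finset.mem_image.1 hχ
    by_cases h1 : mult i = 1
    · have : i ∈ (Finset.univ.filter R).filter fun j => z j = z i := by simp [R, h1]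
      have := Finset.card_pos.2 ⟨i, this⟩
      have : 0 < mult i := by omega
      simp only [mult] at this
      omega
    · have : 0 < mult i := Finset.card_pos.2 ⟨i, by simp⟩
      simp only [mult] at this h1
      omega
  suffices hr1 : rr ≤ 1 by omega
  -- `S` permutes the eigenspaces
  let act : S → (A → ℤˣ) → (A → ℤˣ) := fun g χ a => χ ⟨g⁻¹ * (a : S) * g, by
    simpa using hN.conj_mem (a : S) a.2 g⁻¹⟩
  have hmove : ∀ (g : S) (i : b') (a : A),
      ρA a (ρ (g : GL (Fin n) F) (B i)) = ((act g (z i) a : ℤ) : F) • ρ (g : GL (Fin n) F) (B i) := by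
    intro g i a
    rw [← map_smul, ← hz i ⟨g⁻¹ * (a : S) * g, _⟩]
    simp only [ρA, ← Module.End.mul_apply, ← map_mul, Subgroup.coe_mul, Subgroup.coe_inv, mul_assoc,
      mul_inv_cancel_left]
  have hsupp : ∀ (g : S) (i j : b'), B.repr (ρ (g : GL (Fin n) F) (B i)) j ≠ 0 → z j = act g (z i) := by
    intro g i j hne
    funext a
    have e := congrArg (fun w => B.repr w j) (hmove g i a)
    have hco : (B.coord j).comp (ρA a) = ((z j a : ℤ) : F) • B.coord j := B.ext fun l => by
      simp only [LinearMap.comp_apply, LinearMap.smul_apply, hz, map_smul, Module.Basis.coord_apply,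
        B.repr_self, smul_eq_mul]
      by_cases hl : l = j
      · rw [hl]
      · rw [Finsupp.single_eq_of_ne (Ne.symm hl), mul_zero, mul_zero]
    have e1 := LinearMap.congr_fun hco (ρ (g : GL (Fin n) F) (B i))
    simp only [LinearMap.comp_apply, LinearMap.smul_apply, Module.Basis.coord_apply, smul_eq_mul] at e1
    rw [e1, map_smul, Finsupp.smul_apply, smul_eq_mul] at e
    exact SignDiagonal.sign_inj h2 (mul_left_cancel₀ hne (by linear_combination e))
  -- multiplicities are preserved
  have hact : ∀ g i χ, z i = χ → mult i ≤ (Finset.univ.filter fun j => z j = act g χ).card := by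
    intro g i χ hi
    subst hi
    let W := Submodule.span F (B '' {j | z j = z i})
    let W' := Submodule.span F (B '' {j | z j = act g (z i)})
    have hdim : ∀ χ : A → ℤˣ, Module.finrank F (Submodule.span F (B '' {j | z j = χ})) =
        (Finset.univ.filter fun j => z j = χ).card := fun χ => by
      have hli := B.linearIndependent.comp (Subtype.val : {j // z j = χ} → b') Subtype.val_injective
      rw [show B '' {j | z j = χ} = Set.range (B ∘ (Subtype.val : {j // z j = χ} → b')) by
        rw [Set.range_comp, Subtype.range_coe_subtype], finrank_span_eq_card hli, Fintype.card_subtype]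
    have hle : W.map (ρ (g : GL (Fin n) F)) ≤ W' := by
      rw [Submodule.map_span, Submodule.span_le]
      rintro _ ⟨_, ⟨l, hl, rfl⟩, rfl⟩
      rw [SetLike.mem_coe, ← B.sum_repr (ρ (g : GL (Fin n) F) (B l))]
      refine Submodule.sum_mem _ fun j _ => ?_
      by_cases h0 : B.repr (ρ (g : GL (Fin n) F) (B l)) j = 0
      · rw [h0, zero_smul]; exact zero_mem _
      · refine Submodule.smul_mem _ _ (Submodule.subset_span ⟨j, ?_, rfl⟩)
        show z j = act g (z i)
        rw [hsupp g l j h0, show z l = z i from hl]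
    have hinj : Function.Injective (ρ (g : GL (Fin n) F)) :=
      (LinearMap.GeneralLinearGroup.toLinearEquiv (Matrix.GeneralLinearGroup.toLin (g : GL (Fin n) F))).injective
    have h1 := Submodule.finrank_mono hle
    rw [← (Submodule.equivMapOfInjective _ hinj W).finrank_eq, hdim, hdim] at h1
    exact h1
  have hactinv : ∀ g χ, act g⁻¹ (act g χ) = χ := fun g χ => funext fun a => by
    simp only [act]
    congr 1
    exact Subtype.ext (by simp [mul_assoc])
  have hblock : ∀ (g : S) (i j : b'), B.repr (ρ (g : GL (Fin n) F) (B i)) j ≠ 0 → (R i ↔ R j) := by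
    intro g i j hne
    have e := hsupp g i j hne
    have h1 : mult i ≤ mult j := by
      have := hact g i (z i) rfl
      rwa [← e] at this
    have h1' : mult j ≤ mult i := by
      have := hact g⁻¹ j (act g (z i)) e
      rwa [hactinv] at this
    simp only [R]
    omega
  -- block diagonal form
  let M : S →* Matrix b' b' F :=
    ((LinearMap.toMatrixAlgEquiv B : Module.End F (Fin n → F) →* Matrix b' b' F).comp ρ).comp S.subtype
  have hMap : ∀ g i j, M g j i = B.repr (ρ (g : GL (Fin n) F) (B i)) j := fun g i j => by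
    show LinearMap.toMatrixAlgEquiv B (ρ (g : GL (Fin n) F)) j i = _
    rw [LinearMap.toMatrixAlgEquiv_apply]
  have hoff : ∀ g i j, ¬ (R i ↔ R j) → M g j i = 0 := fun g i j h => by
    by_contra h0
    rw [hMap] at h0
    exact h (hblock g i j h0)
  let M1 : S →* Matrix {i // R i} {i // R i} F :=
    { toFun := fun g => (M g).submatrix Subtype.val Subtype.val
      map_one' := by rw [map_one]; exact Matrix.submatrix_one _ Subtype.val_injective
      map_mul' := fun g h => by
        rw [map_mul]
        ext i j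
        simp only [Matrix.submatrix_apply, Matrix.mul_apply]
        rw [← Finset.sum_subtype_eq_sum_filter (s := Finset.univ) (p := R) (fun l => M g i.1 l * M h l j.1) |>.trans
          (Finset.sum_subset (Finset.filter_subset R Finset.univ) fun l _ hl => by
            rw [hoff h j.1 l (fun e => hl (by simp [e.1 j.2])), mul_zero])]
        simp }
  let M2 : S →* Matrix {i // ¬ R i} {i // ¬ R i} F :=
    { toFun := fun g => (M g).submatrix Subtype.val Subtype.val
      map_one' := by rw [map_one]; exact Matrix.submatrix_one _ Subtype.val_injective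
      map_mul' := fun g h => by
        rw [map_mul]
        ext i j
        simp only [Matrix.submatrix_apply, Matrix.mul_apply]
        rw [← Finset.sum_subtype_eq_sum_filter (s := Finset.univ) (p := fun l => ¬ R l)
          (fun l => M g i.1 l * M h l j.1) |>.trans
          (Finset.sum_subset (Finset.filter_subset _ Finset.univ) fun l _ hl => by
            rw [hoff h j.1 l (fun e => hl (by simpa using fun hr => j.2 (e.2 hr))), mul_zero])]
        simp }
  have hMinj : ∀ g, M1 g = 1 → M2 g = 1 → g = 1 := fun g e1 e2 => by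
    have hM : M g = 1 := by
      ext j i
      by_cases hi : R i <;> by_cases hj : R j
      · simpa [M1, Matrix.one_apply] using congrFun (congrFun e1 ⟨j, hj⟩) ⟨i, hi⟩
      · rw [hoff g i j (by simp [hi, hj]), Matrix.one_apply_ne (by rintro rfl; exact hj hi)]
      · rw [hoff g i j (by simp [hi, hj]), Matrix.one_apply_ne (by rintro rfl; exact hi hj)]
      · simpa [M2, Matrix.one_apply] using congrFun (congrFun e2 ⟨j, hj⟩) ⟨i, hi⟩
    have := (LinearMap.toMatrixAlgEquiv B).injective
      ((show LinearMap.toMatrixAlgEquiv B (ρ (g : GL (Fin n) F)) = 1 from hM).trans (map_one _).symm)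
    exact Subtype.ext (Matrix.GeneralLinearGroup.toLin.injective (Units.ext (by simpa [ρ] using this)))
  -- the part on the simple eigenlines is monomial
  let N1 : S →* GL {i // R i} F := M1.toHomUnits
  let N2 : S →* GL {i // ¬ R i} F := M2.toHomUnits
  have hsingle : ∀ (g : S) (i : {i // R i}), ∃ j : {i // R i}, ∀ l : {i // R i}, l ≠ j → M g l i = 0 := by
    intro g i
    by_cases h : ∀ l : {i // R i}, M g l i = 0
    · exact ⟨i, fun l _ => h l⟩
    push Not at h
    obtain ⟨j, hj⟩ := h
    refine ⟨j, fun l hl => ?_⟩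
    by_contra h0
    rw [hMap] at h0 hj
    have e : z (l : b') = z (j : b') := (hsupp g i l h0).trans (hsupp g i j hj).symm
    exact hl (Subtype.ext (Finset.card_le_one.1 (le_of_eq j.2) _ (by simp [e]) _ (by simp)))
  choose σ hσ using hsingle
  have hcol : ∀ g i, M g (σ g i : {i // R i}) i ≠ 0 := fun g i h => by
    have h1 : (N1 g : Matrix {i // R i} {i // R i} F) * (↑(N1 g)⁻¹ : Matrix {i // R i} {i // R i} F) = 1 :=
      Units.mul_inv _
    have h0 : ∀ l, (N1 g : Matrix {i // R i} {i // R i} F) l i = 0 := fun l => by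
      by_cases hl : l = σ g i
      · rw [hl]; exact h
      · exact hσ g i l hl
    have h2' := congrFun (congrFun (Units.inv_mul (N1 g)) i) i
    rw [Matrix.mul_apply, Finset.sum_eq_zero (fun l _ => by rw [h0, mul_zero]), Matrix.one_apply_eq] at h2'
    exact zero_ne_one h2'
  have hσmul : ∀ g h i, σ (g * h) i = σ g (σ h i) := fun g h i => by
    by_contra hne
    apply hcol (g * h) i
    show M1 (g * h) (σ (g * h) i) i = 0
    rw [map_mul, Matrix.mul_apply, Finset.sum_eq_single (σ h i)
      (fun l _ hl => by rw [show M1 h l i = 0 from hσ h i l hl, mul_zero])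
      (fun hh => absurd (Finset.mem_univ _) hh), show M1 g _ (σ h i) = 0 from hσ g _ _ hne, zero_mul]
  have hσone : ∀ i, σ 1 i = i := fun i => by
    by_contra hne
    apply hcol 1 i
    rw [map_one, Matrix.one_apply_ne fun h => hne (Subtype.ext h)]
  let π : S →* Equiv.Perm {i // R i} :=
    { toFun := fun g =>
        { toFun := σ g
          invFun := σ g⁻¹
          left_inv := fun i => by rw [← hσmul, inv_mul_cancel, hσone]
          right_inv := fun i => by rw [← hσmul, mul_inv_cancel, hσone] }
      map_one' := Equiv.ext hσone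
      map_mul' := fun g h => Equiv.ext (hσmul g h) }
  have hcardR : Fintype.card {i // R i} = rr := by rw [Fintype.card_subtype]
  -- bound for the image
  haveI : Finite S := inferInstance
  have hkle : N1.ker ≤ π.ker := fun g hg => MonoidHom.mem_ker.2 (Equiv.ext fun i => by
    show σ g i = i
    by_contra hne
    apply hcol g i
    have e : M1 g = 1 := congrArg Units.val (MonoidHom.mem_ker.1 hg)
    show M1 g (σ g i) i = 0
    rw [e, Matrix.one_apply_ne hne])
  let ψ : π.ker →* GL {i // R i} F := N1.comp π.ker.subtype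
  have hcards : Nat.card N1.range = Nat.card ψ.range * Nat.card π.range := by
    rw [← Subgroup.index_ker, ← Subgroup.index_ker, ← Subgroup.index_ker, ← Subgroup.relIndex_mul_index hkle,
      show ψ.ker = N1.ker.subgroupOf π.ker from Subgroup.ext fun x => Iff.rfl]
    rfl
  have hψle : Nat.card ψ.range ≤ 2 ^ rr := by
    have hdiag : ∀ x : ψ.range, ∀ i, ∃ s : ℤˣ, ((x : GL {i // R i} F) : Matrix {i // R i} {i // R i} F) i i = ((s : ℤ) : F) := by
      rintro ⟨_, g, rfl⟩ i
      have hσg : ∀ g : π.ker, ∀ i, σ (g : S) i = i := fun g i =>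
        congrArg (fun e : Equiv.Perm {i // R i} => e i) (MonoidHom.mem_ker.1 g.2)
      have hpow : ∀ k : ℕ, M1 ((g : S) ^ k) i i = M1 (g : S) i i ^ k := fun k => by
        induction k with
        | zero => rw [pow_zero, map_one, Matrix.one_apply_eq, pow_zero]
        | succ k ih =>
          rw [pow_succ, map_mul, Matrix.mul_apply, Finset.sum_eq_single i (fun l _ hl => by
            rw [show M1 (g : S) l i = 0 from hσ _ i l (by rw [hσg]; exact hl), mul_zero])
            (fun h => absurd (Finset.mem_univ _) h), ih, pow_succ]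
      obtain ⟨k, hk⟩ := hS (g : S)
      have hd : M1 (g : S) i i ^ (2 ^ k) = 1 := by rw [← hpow, hk, map_one, Matrix.one_apply_eq]
      have hd0 : M1 (g : S) i i ≠ 0 := fun h => by simp [h] at hd
      show ∃ s : ℤˣ, M1 (g : S) i i = _
      have ho : orderOf (Units.mk0 _ hd0) ∣ 2 := by
        obtain ⟨j, hj, e⟩ := (Nat.dvd_prime_pow Nat.prime_two).1
          (orderOf_dvd_of_pow_eq_one (x := Units.mk0 _ hd0) (n := 2 ^ k) (Units.ext (by simpa using hd)))
        rcases Nat.lt_or_ge j 2 with hj2 | hj2
        · rw [e]; exact (pow_dvd_pow 2 (show j ≤ 1 by omega)).trans (dvd_of_eq (pow_one 2))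
        · exfalso
          have h4 : 2 ^ 2 ∣ Fintype.card F - 1 := by
            refine (pow_dvd_pow 2 hj2).trans ?_
            rw [← e, ← Nat.card_eq_fintype_card, ← Nat.card_units]
            exact orderOf_dvd_natCard _
          have : 4 ∣ Fintype.card F - 1 := h4
          omega
      have hsq : M1 (g : S) i i * M1 (g : S) i i = 1 := by
        have := congrArg Units.val (orderOf_dvd_iff_pow_eq_one.1 ho)
        simpa [sq] using this
      rcases mul_self_eq_one_iff.1 hsq with h | h
      · exact ⟨1, by rw [h]; simp⟩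
      · exact ⟨-1, by rw [h]; simp⟩
    choose sg hsg using hdiag
    have hle := Nat.card_le_card_of_injective sg fun x y h => by
      obtain ⟨_, g, rfl⟩ := x
      obtain ⟨_, g', rfl⟩ := y
      apply Subtype.ext; apply Units.ext
      ext j i
      by_cases hji : j = i
      · rw [hji, hsg, hsg, h]
      · have hz : ∀ g : π.ker, M1 (g : S) j i = 0 := fun g => hσ _ i j (by
          rw [show σ (g : S) i = i from
            congrArg (fun e : Equiv.Perm {i // R i} => e i) (MonoidHom.mem_ker.1 g.2)]
          exact hji)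
        exact (hz g).trans (hz g').symm
    rwa [Nat.card_fun, Nat.card_eq_fintype_card (α := ℤˣ), Fintype.card_units_int,
      Nat.card_eq_fintype_card (α := {i // R i}), hcardR] at hle
  haveI : Fact (Nat.Prime 2) := ⟨Nat.prime_two⟩
  have hψ2 : (Nat.card ψ.range).factorization 2 ≤ rr :=
    (Nat.pow_le_pow_iff_right (by norm_num : 1 < 2)).1
      ((Nat.le_of_dvd Nat.card_pos (Nat.ordProj_dvd _ _)).trans hψle)
  have hπ2 : (Nat.card π.range).factorization 2 ≤ padicValNat 2 rr.factorial := by
    rw [← Nat.factorization_def _ Nat.prime_two]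
    refine (Nat.factorization_le_iff_dvd Nat.card_pos.ne' rr.factorial_ne_zero).2 ?_ 2
    have := Subgroup.card_subgroup_dvd_card π.range
    rwa [Nat.card_perm, Nat.card_eq_fintype_card (α := {i // R i}), hcardR] at this
  have h12 : (Nat.card N1.range).factorization 2 ≤ rr + padicValNat 2 rr.factorial := by
    rw [hcards, Nat.factorization_mul Nat.card_pos.ne' Nat.card_pos.ne', Finsupp.add_apply]
    omega
  -- comparison with the order of `GL_n`
  let P : S →* N1.range × N2.range := N1.rangeRestrict.prod N2.rangeRestrict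
  have hP : Function.Injective P := (injective_iff_map_eq_one P).2 fun g hg =>
    hMinj g (congrArg (fun x : N1.range × N2.range => ((x.1 : GL {i // R i} F) : Matrix {i // R i} {i // R i} F)) hg)
      (congrArg (fun x : N1.range × N2.range => ((x.2 : GL {i // ¬ R i} F) : Matrix {i // ¬ R i} {i // ¬ R i} F)) hg)
  have hS2 : (Nat.card S).factorization 2 ≤
      (Nat.card N1.range).factorization 2 + (Nat.card N2.range).factorization 2 := by
    have := (Nat.factorization_le_iff_dvd Nat.card_pos.ne' Nat.card_pos.ne').2 (Subgroup.card_dvd_of_injective P hP) 2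
    rwa [Nat.card_prod, Nat.factorization_mul Nat.card_pos.ne' Nat.card_pos.ne', Finsupp.add_apply] at this
  have hN2 : (Nat.card N2.range).factorization 2 ≤ vGL (Fintype.card F) (n - rr) := by
    have hc : Fintype.card {i // ¬ R i} = n - rr := by
      rw [Fintype.card_subtype_compl, hcardB, hcardR]
    rw [← hc]
    have := (Nat.factorization_le_iff_dvd Nat.card_pos.ne' Nat.card_pos.ne').2
      (Subgroup.card_subgroup_dvd_card N2.range) 2
    rw [Nat.card_congr (Units.mapEquiv (Matrix.reindexAlgEquiv F F
      (Fintype.equivFin {i // ¬ R i})).toMulEquiv).toEquiv, factorization_GL hodd] at this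
    exact this
  have hrn : rr ≤ n := hrr ▸ (Finset.card_le_univ _).trans hcardB.le
  have hsplit : vGL (Fintype.card F) rr + vGL (Fintype.card F) (n - rr) ≤ vGL (Fintype.card F) n := by
    let j : GL (Fin rr) F × GL (Fin (n - rr)) F →* GL (Fin rr ⊕ Fin (n - rr)) F :=
      MonoidHom.toHomUnits
        { toFun := fun x => Matrix.fromBlocks (x.1 : Matrix (Fin rr) (Fin rr) F) 0 0
            (x.2 : Matrix (Fin (n - rr)) (Fin (n - rr)) F)
          map_one' := by simp
          map_mul' := fun x y => by simp [Matrix.fromBlocks_multiply] }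
    have hj : Function.Injective j := fun x y h => by
      have h' : Matrix.fromBlocks (x.1 : Matrix (Fin rr) (Fin rr) F) 0 0
          (x.2 : Matrix (Fin (n - rr)) (Fin (n - rr)) F) = Matrix.fromBlocks (y.1 : Matrix (Fin rr) (Fin rr) F)
          0 0 (y.2 : Matrix (Fin (n - rr)) (Fin (n - rr)) F) := congrArg Units.val h
      obtain ⟨e1, -, -, e2⟩ := Matrix.fromBlocks_inj.1 h'
      exact Prod.ext (Units.ext e1) (Units.ext e2)
    have hd := (Nat.factorization_le_iff_dvd Nat.card_pos.ne' Nat.card_pos.ne').2
      (Subgroup.card_dvd_of_injective j hj) 2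
    rw [Nat.card_congr (Units.mapEquiv (Matrix.reindexAlgEquiv F F
      ((finSumFinEquiv).trans (finCongr (show rr + (n - rr) = n by omega)))).toMulEquiv).toEquiv,
      Nat.card_prod, Nat.factorization_mul Nat.card_pos.ne' Nat.card_pos.ne', Finsupp.add_apply,
      factorization_GL hodd, factorization_GL hodd, factorization_GL hodd] at hd
    exact hd
  by_contra hgt
  have := vGL_gt Fintype.one_lt_card h3 (show 2 ≤ rr by omega)
  omega

theorem sp_upper (hodd : Odd (Fintype.card F)) (S : Subgroup (Matrix.symplecticGroup (Fin n) F))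
    (A : Subgroup S) (hA : Cfsg.IsElementaryAbelian 2 A) : Nat.card A ≤ 2 ^ n := by
  have h2 := CfsgLib.Geometry.two_ne_zero_of_odd_card (F := F) rfl hodd
  rw [Nat.card_congr (A.equivMapOfInjective S.subtype S.subtype_injective).toEquiv]
  refine (OrthTwoRank.rank_symplectic h2 n).2 _ ⟨⟨?_⟩⟩ ?_
  · rintro ⟨_, x, hx, rfl⟩ ⟨_, y, hy, rfl⟩
    exact Subtype.ext (congrArg (fun w : A => ((w : S) : Matrix.symplecticGroup (Fin n) F))
      (hA.1.is_comm.comm ⟨x, hx⟩ ⟨y, hy⟩))
  · rintro _ ⟨x, hx, rfl⟩
    rw [← map_pow, hA.2 x hx, map_one]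

end Upper

theorem gl_main {F : Type u} [Field F] [Fintype F] (hodd : Odd (Fintype.card F)) (n : ℕ)
    (S : Sylow 2 (GL (Fin n) F)) :
    (Fintype.card F % 4 = 1 →
      (∃ A : Subgroup (S : Subgroup (GL (Fin n) F)), A.Normal ∧ Cfsg.IsElementaryAbelian 2 A ∧ 2 ^ n ≤ Nat.card A) ∧
        ∀ A : Subgroup (S : Subgroup (GL (Fin n) F)), A.Normal → Cfsg.IsElementaryAbelian 2 A → Nat.card A ≤ 2 ^ n) ∧
    (Fintype.card F % 4 = 3 →
      (∃ A : Subgroup (S : Subgroup (GL (Fin n) F)), A.Normal ∧ Cfsg.IsElementaryAbelian 2 A ∧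
          2 ^ ((n + 1) / 2) ≤ Nat.card A) ∧
        ∀ A : Subgroup (S : Subgroup (GL (Fin n) F)), A.Normal → Cfsg.IsElementaryAbelian 2 A →
          Nat.card A ≤ 2 ^ ((n + 1) / 2)) := by
  have hq : 1 < Fintype.card F := Fintype.one_lt_card
  haveI : Fact (Nat.Prime 2) := ⟨Nat.prime_two⟩
  refine ⟨fun h1 => ⟨?_, fun A _ hA => (gl_upper hodd _ A hA).1⟩,
    fun h3 => ⟨?_, fun A hN hA => (gl_upper hodd _ A hA).2 h3 S.2 ?_ hN⟩⟩
  · obtain ⟨A, hn, he, hc⟩ := gl_lower hodd (b := 1) (m := n) (ε := 0) one_pos (by simp)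
      (by
        rw [vGL_one hq h1]
        simp [vGL]) S
    exact ⟨A, hn, he, hc.ge⟩
  · have h2v : vGL (Fintype.card F) 2 = padicValNat 2 (Fintype.card F + 1) + 2 := by
      have := (vGL_three hq h3 1).1
      simpa using this
    obtain ⟨A, hn, he, hc⟩ := gl_lower hodd (b := 2) (m := n / 2) (ε := n % 2) two_pos (by omega)
      (by
        rw [h2v, (val_pred_of_three h3).1, mul_one]
        rcases Nat.mod_two_eq_zero_or_one n with h | h
        · conv_lhs => rw [show n = 2 * (n / 2) by omega]
          rw [(vGL_three hq h3 _).1, h, add_zero]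
        · conv_lhs => rw [show n = 2 * (n / 2) + 1 by omega]
          rw [(vGL_three hq h3 _).2, h]) S
    refine ⟨A, hn, he, le_of_eq (hc.trans ?_).symm⟩
    congr 1
    omega
  · rw [Sylow.card_eq_multiplicity, Nat.factorization_pow, Finsupp.smul_apply, Nat.Prime.factorization_self Nat.prime_two,
      smul_eq_mul, mul_one, factorization_GL hodd]

end CfsgLib.FgsB.NormalTwoRank
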