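import Cfsg.Agent.Lib.PGroups.Basic

/-!
A `p'`-element centralizing the elements of order `p` (and `4`) of a `p`-group it normalizes
centralizes the group.
-/

set_option autoImplicit false

namespace CfsgLib.FgsB

variable {G : Type*} [Group G]

theorem mul_pow_of_central_commutator {x y c : G} (hcx : Commute c x) (hcy : Commute c y)
    (hxy : y * x = c * (x * y)) (n : ℕ) :
    (x * y) ^ n = c ^ n.choose 2 * (x ^ n * y ^ n) := by
  have hyn : ∀ n : ℕ, y ^ n * x = c ^ n * (x * y ^ n) := by
    intro n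
    induction n with
    | zero => simp
    | succ n ih =>
      calc y ^ (n + 1) * x = y * (y ^ n * x) := by rw [pow_succ', mul_assoc]
        _ = y * c ^ n * x * y ^ n := by rw [ih]; simp only [mul_assoc]
        _ = c ^ n * (y * x) * y ^ n := by rw [← (hcy.pow_left n).eq]; simp only [mul_assoc]
        _ = c ^ (n + 1) * (x * y ^ (n + 1)) := by
          rw [hxy, pow_succ, pow_succ']; simp only [mul_assoc]
  induction n with
  | zero => simp
  | succ n ih =>
    calc (x * y) ^ (n + 1) = c ^ n.choose 2 * (x ^ n * (y ^ n * x) * y) := by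
          rw [pow_succ, ih]; simp only [mul_assoc]
      _ = c ^ n.choose 2 * (x ^ n * c ^ n * x * y ^ n * y) := by rw [hyn]; simp only [mul_assoc]
      _ = c ^ n.choose 2 * (c ^ n * x ^ n * x * y ^ n * y) := by rw [((hcx.pow_pow n n)).eq]
      _ = c ^ (n + 1).choose 2 * (x ^ (n + 1) * y ^ (n + 1)) := by
          rw [Nat.choose_succ_succ, Nat.choose_one_right, Nat.add_comm n, pow_add]
          simp only [pow_succ, mul_assoc]

/-- A coprime element moving `x` by an element it centralizes fixes `x`. -/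
theorem eq_one_of_conj_eq_mul [Finite G] {p : ℕ} [Fact p.Prime] {g x c : G}
    (hg : (orderOf g).Coprime p) (h : g * x * g⁻¹ = x * c) (hgc : Commute g c)
    (hc : ∃ k, orderOf c = p ^ k) : c = 1 := by
  have key : ∀ n : ℕ, g ^ n * x * (g ^ n)⁻¹ = x * c ^ n := by
    intro n
    induction n with
    | zero => simp
    | succ n ih =>
      calc g ^ (n + 1) * x * (g ^ (n + 1))⁻¹ = g * (g ^ n * x * (g ^ n)⁻¹) * g⁻¹ := by
            rw [pow_succ']; group
        _ = (g * x * g⁻¹) * (g * c ^ n * g⁻¹) := by rw [ih]; group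
        _ = x * c * c ^ n := by rw [h, (hgc.pow_right n).eq, mul_inv_cancel_right]
        _ = x * c ^ (n + 1) := by rw [pow_succ']; simp only [mul_assoc]
  have h1 := key (orderOf g)
  rw [pow_orderOf_eq_one, one_mul, inv_one, mul_one, left_eq_mul] at h1
  obtain ⟨k, hk⟩ := hc
  exact orderOf_eq_one_iff.mp (Nat.eq_one_of_dvd_coprimes (hg.symm.pow_left k) hk.dvd
    (orderOf_dvd_of_pow_eq_one h1))

theorem centralizes_of_fix_small_aux [Finite G] {p : ℕ} [hp : Fact p.Prime] {g : G}
    (hg : (orderOf g).Coprime p) (n : ℕ) : ∀ Q : Subgroup G, Nat.card Q ≤ n → IsPGroup p Q →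
    g ∈ Subgroup.normalizer (Q : Set G) →
    (∀ x ∈ Q, (orderOf x = p ∨ (p = 2 ∧ orderOf x = 4)) → Commute g x) →
    ∀ x ∈ Q, Commute g x := by
  induction n with
  | zero => intro Q h; exact absurd h (Nat.not_le.mpr Nat.card_pos)
  | succ n ih =>
    intro Q hn hQ hgN hfix x hxQ
    rcases subsingleton_or_nontrivial Q with hs | hs
    · have : (⟨x, hxQ⟩ : Q) = 1 := Subsingleton.elim _ _
      have : x = 1 := congrArg Subtype.val this
      rw [this]; exact Commute.one_right g
    -- proper invariant subgroups are centralized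
    have hprop : ∀ R : Subgroup G, R ≤ Q → R ≠ Q → g ∈ Subgroup.normalizer (R : Set G) →
        ∀ y ∈ R, Commute g y := by
      intro R hRQ hne hgR
      refine ih R ?_ (hQ.to_le hRQ) hgR (fun y hy => hfix y (hRQ hy))
      by_contra hlt
      exact hne (Subgroup.eq_of_le_of_card_ge hRQ (by omega))
    set M := (frattini Q).map Q.subtype with hM
    have hMQ : M ≤ Q := Subgroup.map_subtype_le _
    have hMne : M ≠ Q := by
      intro h
      exact CfsgLib.PGroups.frattini_ne_top (G := Q)
        (Subgroup.map_injective Q.subtype_injective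
          (h.trans (by rw [← MonoidHom.range_eq_map, Subgroup.range_subtype])))
    have hgM : g ∈ Subgroup.normalizer (M : Set G) := by
      rw [Subgroup.mem_normalizer_iff_map_conj_eq]
      refine Subgroup.eq_of_le_of_card_ge ?_
        (le_of_eq (Subgroup.card_map_of_injective (MulAut.conj g).injective).symm)
      rintro _ ⟨_, ⟨y, hy, rfl⟩, rfl⟩
      let φ : Q ≃* Q := (MulEquiv.subgroupMap (MulAut.conj g) Q).trans
        (MulEquiv.subgroupCongr (Subgroup.mem_normalizer_iff_map_conj_eq.mp hgN))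
      refine ⟨φ y, ?_, rfl⟩
      have h5 : φ y ∈ (frattini Q).map φ.toMonoidHom := ⟨y, hy, rfl⟩
      rwa [Subgroup.characteristic_iff_map_eq.mp inferInstance φ] at h5
    have hfixM := hprop M hMQ hMne hgM
    have hmove : ∀ z ∈ Q, z⁻¹ * (g * z * g⁻¹) ∈ Q := fun z hz =>
      Q.mul_mem (Q.inv_mem hz) ((Subgroup.mem_normalizer_iff.mp hgN z).mp hz)
    have hgpow : ∀ z ∈ Q, ∃ k, orderOf z = p ^ k := fun z hz => by
      obtain ⟨k, hk⟩ := IsPGroup.iff_orderOf.mp hQ ⟨z, hz⟩
      exact ⟨k, by rwa [Subgroup.orderOf_mk] at hk⟩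
    have hMmem : ∀ z : Q, z ^ p ∈ frattini Q := fun z => CfsgLib.PGroups.pow_mem_frattini hQ z
    have hMcom : ∀ z w : Q, z * w * z⁻¹ * w⁻¹ ∈ frattini Q := fun z w =>
      CfsgLib.PGroups.commutator_le_frattini hQ (by
        rw [← commutatorElement_def, commutator_def]
        exact Subgroup.commutator_mem_commutator (Subgroup.mem_top z) (Subgroup.mem_top w))
    -- `M` is central in `Q`
    set R := Q ⊓ Subgroup.centralizer (M : Set G) with hR
    have hcx : ∀ z ∈ Q, z⁻¹ * (g * z * g⁻¹) ∈ R := by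
      intro z hz
      refine ⟨hmove z hz, ?_⟩
      show _ ∈ Subgroup.centralizer (M : Set G)
      rw [Subgroup.mem_centralizer_iff]
      intro m hm
      obtain ⟨m', hm', rfl⟩ := hm
      have hm1 : z * (m' : G) * z⁻¹ ∈ M :=
        ⟨⟨z, hz⟩ * m' * ⟨z, hz⟩⁻¹, (inferInstance : (frattini Q).Normal).conj_mem m' hm' _, rfl⟩
      have e1 : g * (z * (m' : G) * z⁻¹) * g⁻¹ = z * (m' : G) * z⁻¹ :=
        mul_inv_eq_iff_eq_mul.mpr (hfixM _ hm1).eq
      have e2 : g * (m' : G) * g⁻¹ = (m' : G) :=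
        mul_inv_eq_iff_eq_mul.mpr (hfixM _ ⟨m', hm', rfl⟩).eq
      show (m' : G) * (z⁻¹ * (g * z * g⁻¹)) = z⁻¹ * (g * z * g⁻¹) * (m' : G)
      have e3 : (g * z * g⁻¹) * (m' : G) * (g * z * g⁻¹)⁻¹ = z * (m' : G) * z⁻¹ := by
        calc (g * z * g⁻¹) * (m' : G) * (g * z * g⁻¹)⁻¹
            = (g * z * g⁻¹) * (g * (m' : G) * g⁻¹) * (g * z * g⁻¹)⁻¹ := by rw [e2]
          _ = g * (z * (m' : G) * z⁻¹) * g⁻¹ := by group
          _ = _ := e1
      calc (m' : G) * (z⁻¹ * (g * z * g⁻¹))
          = z⁻¹ * (z * (m' : G) * z⁻¹) * (g * z * g⁻¹) := by group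
        _ = z⁻¹ * (g * z * g⁻¹) * (m' : G) := by rw [← e3]; group
    by_cases hRQ : R = Q
    · -- class two
      have hcent : ∀ m ∈ M, ∀ z ∈ Q, Commute m z := fun m hm z hz =>
        Subgroup.mem_centralizer_iff.mp (hRQ.symm ▸ hz : z ∈ R).2 m hm
      set c := x⁻¹ * (g * x * g⁻¹) with hc
      have hcQ : c ∈ Q := hmove x hxQ
      set y := g * x * g⁻¹ with hy
      have hyQ : y ∈ Q := (Subgroup.mem_normalizer_iff.mp hgN x).mp hxQ
      set d := y * x⁻¹ * y⁻¹ * x⁻¹⁻¹ with hd
      have hdM : d ∈ M := ⟨⟨y, hyQ⟩ * ⟨x, hxQ⟩⁻¹ * ⟨y, hyQ⟩⁻¹ * ⟨x, hxQ⟩⁻¹⁻¹, hMcom _ _, by simp [hd]⟩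
      have hdp : d ^ p = 1 := by
        have h3 : (y * x⁻¹ * y⁻¹) ^ p = d ^ p * x⁻¹ ^ p := by
          rw [← (hcent d hdM _ (Q.inv_mem hxQ)).mul_pow, hd]; group
        rw [conj_pow, ← (hcent _ ⟨⟨x, hxQ⟩⁻¹ ^ p, hMmem _, by simp⟩ y hyQ).eq,
          mul_inv_cancel_right] at h3
        exact mul_eq_right.mp h3.symm
      -- the difference is killed by `p` or `4`
      set e := if p = 2 then 4 else p with he
      have hpe : p ∣ e.choose 2 := by
        rw [he]; split_ifs with h2
        · subst h2; decide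
        · exact hp.out.dvd_choose_self (by norm_num) (lt_of_le_of_ne hp.out.two_le (Ne.symm h2))
      have hxe : g * x ^ e * g⁻¹ = x ^ e := by
        refine mul_inv_eq_iff_eq_mul.mpr ?_
        have : x ^ e ∈ M := by
          have h1 : x ^ p ∈ M := ⟨⟨x, hxQ⟩ ^ p, hMmem _, by simp⟩
          rw [he]; split_ifs with h2
          · subst h2
            rw [show (4 : ℕ) = 2 * 2 from rfl, pow_mul]
            exact M.pow_mem h1 2
          · exact h1
        exact (hfixM _ this).eq
      have hce : c ^ e = 1 := by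
        rw [hc, mul_pow_of_central_commutator (c := d) (hcent d hdM _ (Q.inv_mem hxQ))
          (hcent d hdM y hyQ) (by rw [hd]; group)]
        obtain ⟨s, hs⟩ := hpe
        rw [hs, pow_mul, hdp, one_pow, one_mul, hy, conj_pow, hxe, inv_pow, inv_mul_cancel]
      have hgc : Commute g c := by
        by_cases hc1 : c = 1
        · rw [hc1]; exact Commute.one_right g
        obtain ⟨k, hk⟩ := hgpow c hcQ
        have hdvd := orderOf_dvd_of_pow_eq_one hce
        rw [hk, he] at hdvd
        have hk0 : k ≠ 0 := by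
          rintro rfl
          exact hc1 (orderOf_eq_one_iff.mp (by simpa using hk))
        split_ifs at hdvd with h2
        · subst h2
          rcases (Nat.dvd_prime_pow Nat.prime_two).mp (show (2 : ℕ) ^ k ∣ 2 ^ 2 from hdvd) with ⟨i, hi, hki⟩
          have := Nat.pow_right_injective le_rfl hki
          have hk2 : k ≤ 2 := by omega
          interval_cases k
          · exact absurd rfl hk0
          · exact hfix c hcQ (Or.inl (by rw [hk]; rfl))
          · exact hfix c hcQ (Or.inr ⟨rfl, by rw [hk]; rfl⟩)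
        · have h1 : p ^ k ∣ p ^ 1 := by rwa [pow_one]
          have := (Nat.pow_dvd_pow_iff_le_right hp.out.one_lt).mp h1
          exact hfix c hcQ (Or.inl (by rw [hk, show k = 1 by omega, pow_one]))
      have := eq_one_of_conj_eq_mul (x := x) hg (by rw [hc, mul_inv_cancel_left]) hgc (hgpow c hcQ)
      rw [this, eq_comm, inv_mul_eq_one] at hc
      exact mul_inv_eq_iff_eq_mul.mp hc.symm
    · have hgR : g ∈ Subgroup.normalizer (R : Set G) := by
        rw [Subgroup.mem_normalizer_iff_map_conj_eq]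
        refine Subgroup.eq_of_le_of_card_ge ?_
          (le_of_eq (Subgroup.card_map_of_injective (MulAut.conj g).injective).symm)
        rintro _ ⟨r, ⟨hr1, hr2⟩, rfl⟩
        refine ⟨(Subgroup.mem_normalizer_iff.mp hgN r).mp hr1, ?_⟩
        replace hr2 := Subgroup.mem_centralizer_iff.mp hr2
        show _ ∈ Subgroup.centralizer (M : Set G)
        rw [Subgroup.mem_centralizer_iff]
        intro m hm
        have hgm : g * m * g⁻¹ = m := mul_inv_eq_iff_eq_mul.mpr (hfixM m hm).eq
        show m * (g * r * g⁻¹) = g * r * g⁻¹ * m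
        calc m * (g * r * g⁻¹) = (g * m * g⁻¹) * (g * r * g⁻¹) := by rw [hgm]
          _ = g * (m * r) * g⁻¹ := by group
          _ = g * (r * m) * g⁻¹ := by rw [hr2 m hm]
          _ = (g * r * g⁻¹) * (g * m * g⁻¹) := by group
          _ = _ := by rw [hgm]
      have hgc := hprop R inf_le_left hRQ hgR _ (hcx x hxQ)
      have h1 := eq_one_of_conj_eq_mul (x := x) hg (mul_inv_cancel_left x _).symm hgc
        (hgpow _ (hmove x hxQ))
      rw [inv_mul_eq_one] at h1
      exact mul_inv_eq_iff_eq_mul.mp h1.symm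

/-- A `p'`-element centralizing the elements of order `p` (and `4` when `p = 2`) of a normalized
`p`-subgroup centralizes it. -/
theorem mem_centralizer_of_fix_small [Finite G] {p : ℕ} [Fact p.Prime] {g : G}
    (hg : (orderOf g).Coprime p) {Q : Subgroup G} (hQ : IsPGroup p Q)
    (hgN : g ∈ Subgroup.normalizer (Q : Set G))
    (hfix : ∀ x ∈ Q, (orderOf x = p ∨ (p = 2 ∧ orderOf x = 4)) → Commute g x) :
    g ∈ Subgroup.centralizer (Q : Set G) :=
  Subgroup.mem_centralizer_iff.mpr fun x hx =>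
    (centralizes_of_fix_small_aux hg (Nat.card Q) Q le_rfl hQ hgN hfix x hx).eq.symm

end CfsgLib.FgsB
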