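import Mathlib

/-!
Linear algebra for groups with three automorphism orbits: a fixed-point-free operator of prime
order `q` on a vector space over `ZMod p`.
-/

set_option autoImplicit false
set_option linter.unusedSectionVars false

open Polynomial

namespace CfsgLib.FgsB.OrbitModule

variable {p q : ℕ} [Fact p.Prime] [Fact q.Prime] {V : Type*} [AddCommGroup V] [Module (ZMod p) V]

theorem geom_sum_eq_zero (c : Module.End (ZMod p) V) (hc : c ^ q = 1)
    (hfix : ∀ v, c v = v → v = 0) : ∑ i ∈ Finset.range q, c ^ i = 0 := by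
  have h := mul_geom_sum c q
  rw [hc, sub_self] at h
  ext v
  apply hfix
  have h2 := LinearMap.congr_fun h v
  simp only [Module.End.mul_apply, LinearMap.sub_apply, Module.End.one_apply, LinearMap.zero_apply,
    sub_eq_zero] at h2
  exact h2

/-- Two commuting independent elements of order `q` cannot act fixed-point-freely. -/
theorem q_nsmul_eq_zero_of_commute (a b : Module.End (ZMod p) V) (hab : Commute a b)
    (ha : a ^ q = 1) (hb : b ^ q = 1)
    (hfix : ∀ i j : ℕ, ¬ (q ∣ i ∧ q ∣ j) → ∀ v, (a ^ i * b ^ j) v = v → v = 0) (v : V) :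
    q • v = 0 := by
  have hq : q.Prime := Fact.out
  have h1 : ∀ i j : ℕ, ¬ (q ∣ i ∧ q ∣ j) → ∑ k ∈ Finset.range q, (a ^ i * b ^ j) ^ k = 0 := by
    intro i j hij
    refine geom_sum_eq_zero _ ?_ (hfix i j hij)
    rw [(hab.pow_pow i j).mul_pow, ← pow_mul, ← pow_mul, mul_comm i, mul_comm j, pow_mul, pow_mul,
      ha, hb, one_pow, one_pow, mul_one]
  have h2 : ∑ j ∈ Finset.range q, ∑ k ∈ Finset.range q, (a ^ 1 * b ^ j) ^ k =
      (q : Module.End (ZMod p) V) := by
    rw [Finset.sum_comm, Finset.sum_eq_single 0]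
    · simp
    · intro k hk hk0
      have hk' : ¬ q ∣ k := fun hd => hk0 (Nat.eq_zero_of_dvd_of_lt hd (Finset.mem_range.mp hk))
      have : ∀ j, (a ^ 1 * b ^ j) ^ k = a ^ k * (a ^ 0 * b ^ k) ^ j := by
        intro j
        rw [(hab.pow_pow 1 j).mul_pow, pow_zero, one_mul, ← pow_mul, ← pow_mul, ← pow_mul, one_mul,
          mul_comm j]
      simp only [this, ← Finset.mul_sum, h1 0 k (fun h => hk' h.2), mul_zero]
    · simp [hq.pos]
  have h3 : (q : Module.End (ZMod p) V) = 0 := by
    rw [← h2]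
    exact Finset.sum_eq_zero fun j _ => h1 1 j (fun h => hq.not_dvd_one h.1)
  have h4 := LinearMap.congr_fun h3 v
  simpa [Module.End.natCast_apply] using h4

theorem aeval_cyclotomic_eq_zero (T : Module.End (ZMod p) V) (hT : T ^ q = 1)
    (hfix : ∀ v, T v = v → v = 0) : aeval T (cyclotomic q (ZMod p)) = 0 := by
  rw [cyclotomic_prime, map_sum]
  simp only [map_pow, aeval_X]
  exact geom_sum_eq_zero T hT hfix

theorem natCast_ne_zero (hpq : p ≠ q) : (p : ZMod q) ≠ 0 := by
  rw [Ne, ZMod.natCast_eq_zero_iff]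
  exact fun h => hpq ((Nat.prime_dvd_prime_iff_eq Fact.out Fact.out).mp h).symm

/-- For `p` a primitive root modulo `q` the cyclotomic polynomial is irreducible over `ZMod p`. -/
theorem irreducible_cyclotomic (hpq : p ≠ q) (hord : orderOf (p : ZMod q) = q - 1) :
    Irreducible (cyclotomic q (ZMod p)) := by
  classical
  have hq : q.Prime := Fact.out
  have hp : p.Prime := Fact.out
  have hmon := cyclotomic.monic q (ZMod p)
  have hdeg : (cyclotomic q (ZMod p)).natDegree = q - 1 := by
    rw [natDegree_cyclotomic, Nat.totient_prime hq]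
  have hnu : ¬ IsUnit (cyclotomic q (ZMod p)) := by
    intro hu
    have := natDegree_eq_zero_of_isUnit hu
    rw [hdeg] at this
    have := hq.two_le
    omega
  obtain ⟨f, hf, hdvd⟩ := WfDvdMonoid.exists_irreducible_factor hnu hmon.ne_zero
  have := Fact.mk hf
  have hroot : (cyclotomic q (AdjoinRoot f)).IsRoot (AdjoinRoot.root f) := by
    obtain ⟨c, hc⟩ := hdvd
    have h : aeval (AdjoinRoot.root f) (cyclotomic q (ZMod p)) = 0 := by
      rw [hc, map_mul, AdjoinRoot.aeval_eq, AdjoinRoot.mk_self, zero_mul]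
    rw [IsRoot, ← map_cyclotomic q (algebraMap (ZMod p) (AdjoinRoot f)), eval_map, ← aeval_def]
    exact h
  have : NeZero (q : AdjoinRoot f) := by
    constructor
    have h1 : (q : ZMod p) ≠ 0 := by
      rw [Ne, ZMod.natCast_eq_zero_iff]
      exact fun h => hpq ((Nat.prime_dvd_prime_iff_eq hp hq).mp h)
    rw [← map_natCast (algebraMap (ZMod p) (AdjoinRoot f))]
    exact (_root_.map_ne_zero _).mpr h1
  have hprim : IsPrimitiveRoot (AdjoinRoot.root f) q := isRoot_cyclotomic_iff.mp hroot
  have : CharP (AdjoinRoot f) p := charP_of_injective_algebraMap (algebraMap (ZMod p) (AdjoinRoot f)).injective p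
  have hroots : ∀ j : ℕ, aeval (AdjoinRoot.root f ^ p ^ j) f = 0 := by
    intro j
    induction j with
    | zero => rw [pow_zero, pow_one, AdjoinRoot.aeval_eq, AdjoinRoot.mk_self]
    | succ j ih =>
      rw [pow_succ, pow_mul, ← expand_aeval, ZMod.expand_card, map_pow, ih, zero_pow hp.ne_zero]
  have hinj : ∀ i < q - 1, ∀ j < q - 1,
      AdjoinRoot.root f ^ p ^ i = AdjoinRoot.root f ^ p ^ j → i = j := by
    intro i hi j hj h
    rw [(isOfFinOrder_iff_pow_eq_one.mpr ⟨q, hq.pos, hprim.pow_eq_one⟩).pow_inj_mod,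
      hprim.eq_orderOf.symm] at h
    have h' : (p : ZMod q) ^ i = (p : ZMod q) ^ j := by
      rw [← Nat.cast_pow, ← Nat.cast_pow, ZMod.natCast_eq_natCast_iff']
      exact h
    exact pow_injOn_Iio_orderOf (by rw [hord]; exact hi) (by rw [hord]; exact hj) h'
  have hcard : q - 1 ≤ f.natDegree := by
    have hsub : (Finset.range (q - 1)).image (fun j => AdjoinRoot.root f ^ p ^ j) ⊆
        ((f.map (algebraMap (ZMod p) (AdjoinRoot f))).roots).toFinset := by
      intro z hz
      obtain ⟨j, -, rfl⟩ := Finset.mem_image.mp hz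
      rw [Multiset.mem_toFinset, mem_roots (map_ne_zero hf.ne_zero), IsRoot, eval_map, ← aeval_def]
      exact hroots j
    have h1 := (Finset.card_le_card hsub).trans ((Multiset.toFinset_card_le _).trans (card_roots' _))
    rw [natDegree_map, Finset.card_image_of_injOn (fun i hi j hj h => hinj i (Finset.mem_range.mp hi) j
      (Finset.mem_range.mp hj) h), Finset.card_range] at h1
    exact h1
  exact (associated_of_dvd_of_natDegree_le hdvd hmon.ne_zero (by rw [hdeg]; exact hcard)).irreducible hf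

/-- The automorphisms needed for `p` a primitive root modulo `q`. -/
theorem exists_equivs [Finite V] (hpq : p ≠ q) (hord : orderOf (p : ZMod q) = q - 1)
    (T : Module.End (ZMod p) V) (hT : T ^ q = 1) (hfix : ∀ v, T v = v → v = 0) :
    (∀ u v : V, u ≠ 0 → v ≠ 0 → ∃ A : V ≃ₗ[ZMod p] V, A u = v ∧ ∀ w, A (T w) = T (A w)) ∧
    (∀ i : ℕ, ¬ q ∣ i → ∃ A : V ≃ₗ[ZMod p] V, ∀ w, A (T w) = (T ^ i) (A w)) := by
  classical
  have hp : p.Prime := Fact.out
  have hq : q.Prime := Fact.out
  set Φ := cyclotomic q (ZMod p) with hΦ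
  have hirr : Irreducible Φ := irreducible_cyclotomic hpq hord
  have := Fact.mk hirr
  let φ : AdjoinRoot Φ →ₐ[ZMod p] Module.End (ZMod p) V :=
    Ideal.Quotient.liftₐ (Ideal.span {Φ}) (aeval T) (fun a ha => by
      obtain ⟨c, rfl⟩ := Ideal.mem_span_singleton'.mp ha
      rw [map_mul, hΦ, aeval_cyclotomic_eq_zero T hT hfix, mul_zero])
  have hroot : φ (AdjoinRoot.root Φ) = T := by
    change φ (AdjoinRoot.mk Φ X) = T
    exact (Ideal.Quotient.lift_mk _ _ _).trans (aeval_X T)
  let _ : Module (AdjoinRoot Φ) V := Module.compHom V φ.toRingHom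
  have hsmul : ∀ (c : AdjoinRoot Φ) (v : V), c • v = φ c v := fun _ _ => rfl
  have htower : IsScalarTower (ZMod p) (AdjoinRoot Φ) V := ⟨fun r c v => by
    rw [hsmul, hsmul, map_smul]; rfl⟩
  have : Module.Finite (AdjoinRoot Φ) V := Module.Finite.of_finite
  constructor
  · intro u v hu hv
    obtain ⟨g, hg⟩ : ∃ g : V ≃ₗ[AdjoinRoot Φ] V, g u = v := by
      have e1 := Submodule.exists_isCompl ((AdjoinRoot Φ) ∙ u)
      have e2 := Submodule.exists_isCompl ((AdjoinRoot Φ) ∙ v)
      obtain ⟨U, hU⟩ := e1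
      obtain ⟨W, hW⟩ := e2
      have hdim : Module.finrank (AdjoinRoot Φ) U = Module.finrank (AdjoinRoot Φ) W := by
        have a1 := Submodule.finrank_add_eq_of_isCompl hU
        have a2 := Submodule.finrank_add_eq_of_isCompl hW
        rw [finrank_span_singleton hu] at a1
        rw [finrank_span_singleton hv] at a2
        omega
      refine ⟨(Submodule.prodEquivOfIsCompl _ _ hU).symm ≪≫ₗ
        (LinearEquiv.prodCongr ((LinearEquiv.toSpanNonzeroSingleton (AdjoinRoot Φ) V u hu).symm ≪≫ₗ
          LinearEquiv.toSpanNonzeroSingleton (AdjoinRoot Φ) V v hv) (LinearEquiv.ofFinrankEq U W hdim)) ≪≫ₗ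
        Submodule.prodEquivOfIsCompl _ _ hW, ?_⟩
      have hu' : (Submodule.prodEquivOfIsCompl _ _ hU).symm u =
          ((⟨u, Submodule.mem_span_singleton_self u⟩ : ↥((AdjoinRoot Φ) ∙ u)), (0 : U)) :=
        Submodule.prodEquivOfIsCompl_symm_apply_left _ _ hU ⟨u, Submodule.mem_span_singleton_self u⟩
      simp only [LinearEquiv.trans_apply, hu']
      simp [LinearEquiv.prodCongr_apply, LinearEquiv.coord_self]
    refine ⟨g.restrictScalars (ZMod p), hg, fun w => ?_⟩
    have h := g.map_smul (AdjoinRoot.root Φ) w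
    rw [hsmul, hsmul, hroot] at h
    exact h
  · intro i hi
    obtain ⟨j, hj⟩ : ∃ j : ℕ, (p : ZMod q) ^ j = (i : ZMod q) := by
      have hi0 : (i : ZMod q) ≠ 0 := by rwa [Ne, ZMod.natCast_eq_zero_iff]
      have hord' : orderOf (Units.mk0 _ (natCast_ne_zero hpq) : (ZMod q)ˣ) = Nat.card (ZMod q)ˣ := by
        rw [← orderOf_units, Units.val_mk0, hord, Nat.card_eq_fintype_card, ZMod.card_units q]
      have htop : Subgroup.zpowers (Units.mk0 _ (natCast_ne_zero hpq) : (ZMod q)ˣ) = ⊤ :=
        Subgroup.eq_top_of_card_eq _ (by rw [Nat.card_zpowers, hord'])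
      obtain ⟨j, hj⟩ := mem_powers_iff_mem_zpowers.mpr
        (htop ▸ Subgroup.mem_top (Units.mk0 _ hi0))
      exact ⟨j, by simpa using congrArg Units.val hj⟩
    have : Module.Finite (ZMod p) (AdjoinRoot Φ) := (AdjoinRoot.powerBasis hirr.ne_zero).finite
    have : CharP (AdjoinRoot Φ) p := charP_of_injective_algebraMap (algebraMap (ZMod p) (AdjoinRoot Φ)).injective p
    have := ExpChar.prime (R := AdjoinRoot Φ) hp
    have hfin : Finite (AdjoinRoot Φ) := Module.finite_of_finite (ZMod p)
    let _ : Fintype (AdjoinRoot Φ) := Fintype.ofFinite _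
    let σ : AdjoinRoot Φ ≃ₐ[ZMod p] AdjoinRoot Φ := (FiniteField.frobeniusAlgEquivOfAlgebraic (ZMod p) (AdjoinRoot Φ)) ^ j
    have hσ : σ (AdjoinRoot.root Φ) = AdjoinRoot.root Φ ^ i := by
      have h1 : ∀ m : ℕ, ((FiniteField.frobeniusAlgEquivOfAlgebraic (ZMod p) (AdjoinRoot Φ)) ^ m) (AdjoinRoot.root Φ) =
          AdjoinRoot.root Φ ^ p ^ m := by
        intro m
        induction m with
        | zero => simp
        | succ m ih =>
          rw [pow_succ', AlgEquiv.mul_apply, ih, FiniteField.coe_frobeniusAlgEquivOfAlgebraic, ZMod.card,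
            pow_succ p m, pow_mul]
      rw [h1]
      have hroot1 : AdjoinRoot.root Φ ^ q = 1 := by
        have h0 : aeval (AdjoinRoot.root Φ) (X ^ q - 1 : (ZMod p)[X]) = 0 := by
          rw [← prod_cyclotomic_eq_X_pow_sub_one hq.pos (ZMod p), Nat.Prime.divisors hq,
            Finset.prod_pair hq.ne_one.symm, map_mul, AdjoinRoot.aeval_eq, AdjoinRoot.aeval_eq,
            ← hΦ, AdjoinRoot.mk_self, mul_zero]
        simpa [sub_eq_zero] using h0
      rw [pow_eq_pow_mod (p ^ j) hroot1, pow_eq_pow_mod i hroot1,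
        (ZMod.natCast_eq_natCast_iff' _ _ _).mp (by push_cast; exact hj)]
    let b := Module.Free.chooseBasis (AdjoinRoot Φ) V
    let A : V ≃+ V := b.repr.toAddEquiv.trans
      ((Finsupp.mapRange.addEquiv σ.toRingEquiv.toAddEquiv).trans b.repr.toAddEquiv.symm)
    refine ⟨AddEquiv.toLinearEquiv A (fun c w => ZMod.map_smul A.toAddMonoidHom c w), fun w => ?_⟩
    change A (T w) = (T ^ i) (A w)
    have h1 : T w = AdjoinRoot.root Φ • w := by rw [hsmul, hroot]
    have h2 : (T ^ i) (A w) = (AdjoinRoot.root Φ ^ i) • A w := by rw [hsmul, map_pow, hroot]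
    rw [h1, h2, ← hσ]
    change b.repr.symm (Finsupp.mapRange σ (map_zero σ) (b.repr (AdjoinRoot.root Φ • w))) =
      σ (AdjoinRoot.root Φ) • b.repr.symm (Finsupp.mapRange σ (map_zero σ) (b.repr w))
    rw [← map_smul b.repr.symm]
    congr 1
    ext k
    simp [map_mul]

/-- Transitivity on nonzero vectors of the normaliser forces `p` to be a primitive root. -/
theorem orderOf_eq_sub_one [Finite V] [Nontrivial V] (hpq : p ≠ q) (T : Module.End (ZMod p) V)
    (hT : T ^ q = 1) (hfix : ∀ v, T v = v → v = 0)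
    (hi : ∀ i : ℕ, ¬ q ∣ i → ∃ A : V ≃ₗ[ZMod p] V, ∀ w, A (T w) = (T ^ i) (A w))
    (huv : ∀ u v : V, u ≠ 0 → v ≠ 0 → ∃ (i : ℕ) (A : V ≃ₗ[ZMod p] V),
      A u = v ∧ ∀ w, A (T w) = (T ^ i) (A w)) : orderOf (p : ZMod q) = q - 1 := by
  classical
  have hp : p.Prime := Fact.out
  have hq : q.Prime := Fact.out
  have hintertwine : ∀ (i : ℕ) (A : V ≃ₗ[ZMod p] V), (∀ w, A (T w) = (T ^ i) (A w)) →
      ∀ (f : (ZMod p)[X]) (w : V), A (aeval T f w) = aeval (T ^ i) f (A w) := by
    intro i A hA f
    induction f using Polynomial.induction_on' with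
    | add f g hf hg => intro w; simp [hf, hg]
    | monomial m c =>
      intro w
      rw [aeval_monomial, aeval_monomial]
      simp only [Module.algebraMap_end_apply, Module.End.mul_apply, map_smul]
      congr 1
      induction m generalizing w with
      | zero => simp
      | succ m ih => rw [pow_succ, Module.End.mul_apply, ih, hA, pow_succ (T ^ i), Module.End.mul_apply]
  have hxq : aeval T (X ^ q - 1 : (ZMod p)[X]) = 0 := by simp [hT]
  have hsep : (X ^ q - 1 : (ZMod p)[X]).Separable := by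
    rw [X_pow_sub_one_separable_iff, Ne, ZMod.natCast_eq_zero_iff]
    exact fun h => hpq ((Nat.prime_dvd_prime_iff_eq hp hq).mp h)
  have hx0 : (X ^ q - 1 : (ZMod p)[X]) ≠ 0 := hsep.ne_zero
  -- an irreducible polynomial killing a nonzero vector
  have hex : ∃ d : ℕ, ∃ f : (ZMod p)[X], f ≠ 0 ∧ f.natDegree = d ∧ ∃ v : V, v ≠ 0 ∧ aeval T f v = 0 := by
    obtain ⟨v, hv⟩ := exists_ne (0 : V)
    exact ⟨_, _, hx0, rfl, v, hv, by rw [hxq]; rfl⟩
  obtain ⟨f, hf0, hfdeg, v, hv, hfv⟩ := Nat.find_spec hex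
  have hfirr : Irreducible f := by
    constructor
    · intro hu
      obtain ⟨c, hc, rfl⟩ := Polynomial.isUnit_iff.mp hu
      rw [aeval_C, Module.algebraMap_end_apply] at hfv
      exact hv ((smul_eq_zero.mp hfv).resolve_left hc.ne_zero)
    · intro a b hab
      have ha0 : a ≠ 0 := fun h => hf0 (by rw [hab, h, zero_mul])
      have hb0 : b ≠ 0 := fun h => hf0 (by rw [hab, h, mul_zero])
      rw [hab, natDegree_mul ha0 hb0] at hfdeg
      rw [hab, map_mul, Module.End.mul_apply] at hfv
      by_cases hbv : aeval T b v = 0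
      · have := Nat.find_le (h := hex) ⟨b, hb0, rfl, v, hv, hbv⟩
        exact Or.inl (Polynomial.isUnit_iff_degree_eq_zero.mpr (by
          rw [degree_eq_natDegree ha0]; exact_mod_cast (by omega : a.natDegree = 0)))
      · have := Nat.find_le (h := hex) ⟨a, ha0, rfl, aeval T b v, hbv, hfv⟩
        exact Or.inr (Polynomial.isUnit_iff_degree_eq_zero.mpr (by
          rw [degree_eq_natDegree hb0]; exact_mod_cast (by omega : b.natDegree = 0)))
  have hfT : aeval T f = 0 := by
    by_contra hne
    obtain ⟨g, hg⟩ : f ∣ (X ^ q - 1 : (ZMod p)[X]) := by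
      by_contra hnd
      obtain ⟨a, b, hab⟩ := hfirr.coprime_iff_not_dvd.mpr hnd
      have := congrArg (fun P => aeval T P v) hab
      simp [hfv, hT] at this
      exact hv this.symm
    have hcop : IsCoprime f g := (hg ▸ hsep).isCoprime
    obtain ⟨a, b, hab⟩ := hcop
    have hboth : ∀ w, aeval T f w = 0 → aeval T g w = 0 → w = 0 := by
      intro w h1 h2
      have := congrArg (fun P => aeval T P w) hab
      simpa [h1, h2] using this.symm
    obtain ⟨u, hu⟩ : ∃ u, aeval T f u ≠ 0 := by
      by_contra h; push Not at h; exact hne (LinearMap.ext h)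
    set w := aeval T f u with hw
    have hgw : aeval T g w = 0 := by
      rw [hw, ← Module.End.mul_apply, ← map_mul, mul_comm, ← hg, hxq]; rfl
    have hfw : aeval T f w ≠ 0 := fun h => hu (hboth w h hgw)
    have hvw : v + w ≠ 0 := by
      intro h
      apply hfw
      rw [show w = -v from (neg_eq_of_add_eq_zero_right h).symm, map_neg, hfv, neg_zero]
    obtain ⟨i, A, hA, hA'⟩ := huv v (v + w) hv hvw
    set h := f.comp (X ^ i) with hh
    have hcomp : aeval T h = aeval (T ^ i) f := by rw [hh, aeval_comp, map_pow, aeval_X]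
    have hsum : aeval T h v + aeval T h w = 0 := by
      rw [← map_add, hcomp, ← hA, ← hintertwine i A hA', hfv, map_zero]
    have hcommh : ∀ (P : (ZMod p)[X]) (x : V), aeval T P (aeval T h x) = aeval T h (aeval T P x) := by
      intro P x
      rw [← Module.End.mul_apply, ← map_mul, mul_comm, map_mul, Module.End.mul_apply]
    have hv0 : aeval T h v = 0 := by
      refine hboth _ (by rw [hcommh, hfv, map_zero]) ?_
      rw [eq_neg_of_add_eq_zero_left hsum, map_neg, hcommh, hgw, map_zero, neg_zero]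
    have hw0 : aeval T h w = 0 := by rw [hv0, zero_add] at hsum; exact hsum
    obtain ⟨c, hc⟩ : f ∣ h := by
      by_contra hnd
      obtain ⟨a, b, hab⟩ := hfirr.coprime_iff_not_dvd.mpr hnd
      have := congrArg (fun P => aeval T P v) hab
      simp [hfv, hv0] at this
      exact hv this.symm
    have hsub : {x | aeval T f x = 0} ⊂ {x | aeval T h x = 0} := by
      refine Set.ssubset_iff_of_subset (fun x hx => ?_) |>.mpr ⟨w, hw0, hfw⟩
      rw [Set.mem_ofPred_eq] at hx ⊢
      rw [hc, mul_comm, map_mul, Module.End.mul_apply, hx, map_zero]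
    have hcard : Nat.card {x | aeval T f x = 0} = Nat.card {x | aeval T h x = 0} := by
      refine Nat.card_congr (Equiv.subtypeEquiv A.toEquiv (fun x => ?_))
      simp only [Set.mem_ofPred_eq, LinearEquiv.coe_toEquiv, hcomp, ← hintertwine i A hA',
        map_eq_zero_iff A A.injective]
    have := Set.ncard_lt_ncard hsub
    rw [← Nat.card_coe_set_eq, ← Nat.card_coe_set_eq, hcard] at this
    exact lt_irrefl _ this
  have := Fact.mk hfirr
  have hannih : ∀ P : (ZMod p)[X], aeval T P = 0 → f ∣ P := by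
    intro P hP
    by_contra hnd
    obtain ⟨a, b, hab⟩ := hfirr.coprime_iff_not_dvd.mpr hnd
    have := congrArg (fun P => aeval T P v) hab
    simp [hfT, hP] at this
    exact hv this.symm
  set ξ := AdjoinRoot.root f
  have hξ : ∀ P : (ZMod p)[X], aeval T P = 0 → aeval ξ P = 0 := by
    intro P hP
    rw [AdjoinRoot.aeval_eq, AdjoinRoot.mk_eq_zero]; exact hannih P hP
  have hξq : ξ ^ q = 1 := by simpa [sub_eq_zero] using hξ _ hxq
  have hξ1 : ξ ≠ 1 := by
    intro h
    have h1 : f ∣ X - C 1 := by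
      rw [← AdjoinRoot.mk_eq_zero, ← AdjoinRoot.aeval_eq]
      simp only [map_sub, aeval_X, aeval_C, map_one]
      exact sub_eq_zero.mpr h
    obtain ⟨c, hc⟩ := h1
    have := congrArg (fun P => aeval T P v) hc
    simp [map_mul, hfT, sub_eq_zero] at this
    exact hv (hfix v this)
  have hξord : orderOf ξ = q := orderOf_eq_prime hξq hξ1
  have hroots : ∀ i, ¬ q ∣ i → aeval (ξ ^ i) f = 0 := by
    intro i hqi
    obtain ⟨A, hA⟩ := hi i hqi
    have h0 : aeval T (f.comp (X ^ i)) = 0 := by
      rw [aeval_comp, map_pow, aeval_X]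
      ext x
      obtain ⟨y, rfl⟩ := A.surjective x
      rw [← hintertwine i A hA, hfT]; simp
    have := hξ _ h0
    rwa [aeval_comp, map_pow, aeval_X] at this
  have hdeg : q - 1 ≤ f.natDegree := by
    have hsub : (Finset.Ico 1 q).image (fun i => ξ ^ i) ⊆
        ((f.map (algebraMap (ZMod p) (AdjoinRoot f))).roots).toFinset := by
      intro z hz
      obtain ⟨i, hi', rfl⟩ := Finset.mem_image.mp hz
      obtain ⟨hi1, hi2⟩ := Finset.mem_Ico.mp hi'
      rw [Multiset.mem_toFinset, mem_roots (map_ne_zero hfirr.ne_zero), IsRoot, eval_map, ← aeval_def]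
      exact hroots i (fun hd => by have := Nat.le_of_dvd (by omega) hd; omega)
    have h1 := (Finset.card_le_card hsub).trans ((Multiset.toFinset_card_le _).trans (card_roots' _))
    rw [natDegree_map, Finset.card_image_of_injOn (fun i hi j hj h => pow_injOn_Iio_orderOf
      (by rw [hξord]; exact (Finset.mem_Ico.mp hi).2) (by rw [hξord]; exact (Finset.mem_Ico.mp hj).2) h),
      Nat.card_Ico] at h1
    exact h1
  have : CharP (AdjoinRoot f) p := charP_of_injective_algebraMap (algebraMap (ZMod p) (AdjoinRoot f)).injective p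
  have := ExpChar.prime (R := AdjoinRoot f) hp
  set d := orderOf (p : ZMod q) with hd
  have hd1 : d ≤ q - 1 := by
    have := ZMod.orderOf_dvd_card_sub_one (natCast_ne_zero (p := p) (q := q) hpq)
    exact Nat.le_of_dvd (by have := hq.two_le; omega) this
  have hdpos : 0 < d := IsOfFinOrder.orderOf_pos (isOfFinOrder_iff_isUnit.mpr (natCast_ne_zero hpq).isUnit)
  have hξd : ξ ^ p ^ d = ξ := by
    conv_rhs => rw [← pow_one ξ]
    rw [(isOfFinOrder_iff_pow_eq_one.mpr ⟨q, hq.pos, hξq⟩).pow_inj_mod, hξord,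
      ← ZMod.natCast_eq_natCast_iff']
    push_cast
    exact pow_orderOf_eq_one _
  have hall : ∀ z : AdjoinRoot f, z ^ p ^ d = z := by
    intro z
    obtain ⟨P, rfl⟩ := AdjoinRoot.mk_surjective z
    rw [← AdjoinRoot.aeval_eq]
    induction P using Polynomial.induction_on' with
    | add a b ha hb => rw [map_add, add_pow_expChar_pow, ha, hb]
    | monomial m c =>
      rw [aeval_monomial, mul_pow, ← pow_mul, mul_comm m, pow_mul, hξd, ← map_pow, ZMod.pow_card_pow]
  have hfin : Module.Finite (ZMod p) (AdjoinRoot f) := (AdjoinRoot.powerBasis hfirr.ne_zero).finite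
  have : Finite (AdjoinRoot f) := Module.finite_of_finite (ZMod p)
  let _ : Fintype (AdjoinRoot f) := Fintype.ofFinite _
  have hcard : Fintype.card (AdjoinRoot f) ≤ p ^ d := by
    have h1 : 1 < p ^ d := Nat.one_lt_pow hdpos.ne' hp.one_lt
    have hne : (X ^ p ^ d - X : (AdjoinRoot f)[X]) ≠ 0 := FiniteField.X_pow_card_sub_X_ne_zero _ h1
    have hsub : (Finset.univ : Finset (AdjoinRoot f)) ⊆ (X ^ p ^ d - X : (AdjoinRoot f)[X]).roots.toFinset := by
      intro z _
      rw [Multiset.mem_toFinset, mem_roots hne]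
      simp [IsRoot, hall z]
    have h2 := (Finset.card_le_card hsub).trans ((Multiset.toFinset_card_le _).trans (card_roots' _))
    rwa [Finset.card_univ, FiniteField.X_pow_card_sub_X_natDegree_eq _ h1] at h2
  rw [Module.card_eq_pow_finrank (K := ZMod p), ZMod.card, (AdjoinRoot.powerBasis hfirr.ne_zero).finrank,
    AdjoinRoot.powerBasis_dim] at hcard
  have := (Nat.pow_le_pow_iff_right hp.two_le).mp hcard
  omega

theorem exists_inverse_mod {j : ℕ} (hj : ¬ q ∣ j) : ∃ l : ℕ, j * l ≡ 1 [MOD q] := by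
  have hq : q.Prime := Fact.out
  obtain ⟨l, -, hl⟩ := Nat.exists_mul_mod_eq_one_of_coprime (n := j) (k := q)
    (hq.coprime_iff_not_dvd.mpr hj).symm hq.one_lt
  exact ⟨l, by rw [Nat.ModEq, hl, Nat.mod_eq_of_lt hq.one_lt]⟩

end CfsgLib.FgsB.OrbitModule
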