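import Mathlib

/-!
Groups with the same order type: normal Sylow subgroups and their quotients.
-/

set_option autoImplicit false

namespace CfsgLib.FgsB

universe u v

/-- Same order type. -/
def SameOrderType (G : Type u) (H : Type v) [Group G] [Group H] : Prop :=
  ∀ m : ℕ, Nat.card {g : G // orderOf g = m} = Nat.card {h : H // orderOf h = m}

theorem SameOrderType.exists_equiv {G : Type u} {H : Type v} [Group G] [Group H] [Finite G] [Finite H]
    (hT : SameOrderType G H) : ∃ e : G ≃ H, ∀ g : G, orderOf (e g) = orderOf g := by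
  classical
  have hfib : ∀ m, Nonempty ({g : G // orderOf g = m} ≃ {h : H // orderOf h = m}) := fun m => by
    have : Fintype {g : G // orderOf g = m} := Fintype.ofFinite _
    have : Fintype {h : H // orderOf h = m} := Fintype.ofFinite _
    exact ⟨Fintype.equivOfCardEq
      (by rw [← Nat.card_eq_fintype_card, ← Nat.card_eq_fintype_card]; exact hT m)⟩
  exact ⟨(Equiv.sigmaFiberEquiv (orderOf (G := G))).symm.trans
    ((Equiv.sigmaCongrRight fun m => (hfib m).some).trans (Equiv.sigmaFiberEquiv (orderOf (G := H)))),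
    fun g => ((hfib (orderOf g)).some ⟨g, rfl⟩).2⟩

theorem SameOrderType.card_eq {G : Type u} {H : Type v} [Group G] [Group H] [Finite G] [Finite H]
    (hT : SameOrderType G H) : Nat.card G = Nat.card H :=
  Nat.card_congr hT.exists_equiv.choose

theorem mem_normal_sylow_iff {G : Type u} [Group G] [Finite G] {p : ℕ} [Fact p.Prime] (S : Sylow p G)
    (hS : (S : Subgroup G).Normal) (g : G) :
    g ∈ (S : Subgroup G) ↔ ∃ k, orderOf g = p ^ k := by
  constructor
  · intro hg
    obtain ⟨k, hk⟩ := IsPGroup.iff_orderOf.mp S.isPGroup' ⟨g, hg⟩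
    exact ⟨k, by rwa [Subgroup.orderOf_mk] at hk⟩
  · rintro ⟨k, hk⟩
    obtain ⟨T, hT'⟩ := (IsPGroup.of_card (n := k) (by rw [Nat.card_zpowers, hk]) :
      IsPGroup p (Subgroup.zpowers g)).exists_le_sylow
    have := Sylow.unique_of_normal S hS
    rw [Subsingleton.elim S T]
    exact hT' (Subgroup.mem_zpowers g)

/-- Groups of the same order type have the same normal Sylow subgroups. -/
theorem SameOrderType.normal_sylow {G : Type u} {H : Type v} [Group G] [Group H] [Finite G] [Finite H]
    (hT : SameOrderType G H) {p : ℕ} [Fact p.Prime] (S : Sylow p G) (hS : (S : Subgroup G).Normal)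
    (P : Sylow p H) : (P : Subgroup H).Normal := by
  obtain ⟨e, he⟩ := hT.exists_equiv
  have hle : Nat.card {h : H // ∃ k, orderOf h = p ^ k} ≤ Nat.card (P : Subgroup H) := by
    rw [Sylow.card_eq_multiplicity P, ← hT.card_eq, ← Sylow.card_eq_multiplicity S]
    refine le_of_eq (Nat.card_congr ((e.subtypeEquiv (fun g => ?_)).symm))
    rw [he, mem_normal_sylow_iff S hS]
  let ι : ↥(P : Subgroup H) → {h : H // ∃ k, orderOf h = p ^ k} := fun x =>
    ⟨x.1, by
      obtain ⟨k, hk⟩ := IsPGroup.iff_orderOf.mp P.isPGroup' x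
      exact ⟨k, by rwa [← Subgroup.orderOf_coe] at hk⟩⟩
  have hinj : Function.Injective ι := fun a b hab => Subtype.ext (congrArg (fun z => z.1) hab)
  constructor
  intro n hn g
  obtain ⟨k, hk⟩ := IsPGroup.iff_orderOf.mp P.isPGroup' ⟨n, hn⟩
  have hh : ∃ k, orderOf (g * n * g⁻¹) = p ^ k :=
    ⟨k, by rw [← MulAut.conj_apply, MulEquiv.orderOf_eq]; rwa [Subgroup.orderOf_mk] at hk⟩
  obtain ⟨x, hx⟩ := (hinj.bijective_of_nat_card_le hle).2 ⟨_, hh⟩
  have hxe : (x : H) = g * n * g⁻¹ := congrArg Subtype.val hx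
  exact hxe ▸ x.2

/-- In the quotient by a normal Sylow `p`-subgroup the order is the `p'`-part of the order. -/
theorem orderOf_mk_of_normal_sylow {G : Type u} [Group G] [Finite G] {p : ℕ} [Fact p.Prime]
    (S : Sylow p G) [hS : (S : Subgroup G).Normal] (g : G) :
    orderOf (g : G ⧸ (S : Subgroup G)) = ordCompl[p] (orderOf g) := by
  have hp : p.Prime := Fact.out
  refine Nat.dvd_antisymm (orderOf_dvd_of_pow_eq_one ?_) ?_
  · rw [← QuotientGroup.mk_pow, QuotientGroup.eq_one_iff, mem_normal_sylow_iff S hS]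
    obtain ⟨j, -, hj⟩ := (Nat.dvd_prime_pow hp).mp (orderOf_dvd_of_pow_eq_one
      (n := p ^ (orderOf g).factorization p) (x := g ^ ordCompl[p] (orderOf g))
      (by rw [← pow_mul, mul_comm, Nat.ordProj_mul_ordCompl_eq_self, pow_orderOf_eq_one]))
    exact ⟨j, hj⟩
  · have hmem : g ^ orderOf (g : G ⧸ (S : Subgroup G)) ∈ (S : Subgroup G) := by
      rw [← QuotientGroup.eq_one_iff, QuotientGroup.mk_pow, pow_orderOf_eq_one]
    obtain ⟨k, hk⟩ := (mem_normal_sylow_iff S hS _).mp hmem
    have h1 : orderOf g ∣ orderOf (g : G ⧸ (S : Subgroup G)) * p ^ k := by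
      refine orderOf_dvd_of_pow_eq_one ?_
      rw [pow_mul, ← hk, pow_orderOf_eq_one]
    refine ((Nat.coprime_ordCompl hp (orderOf_pos g).ne').symm.pow_right k).dvd_of_dvd_mul_right
      ((Nat.ordCompl_dvd _ _).trans h1)

theorem card_fibre {G : Type u} [Group G] [Finite G] {p : ℕ} [Fact p.Prime]
    (S : Sylow p G) [hS : (S : Subgroup G).Normal] (m : ℕ) :
    Nat.card {g : G // ordCompl[p] (orderOf g) = m} =
      Nat.card {x : G ⧸ (S : Subgroup G) // orderOf x = m} * Nat.card (S : Subgroup G) := by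
  classical
  have h : Nat.card {g : G // ordCompl[p] (orderOf g) = m} =
      Nat.card (QuotientGroup.mk ⁻¹' {x : G ⧸ (S : Subgroup G) | orderOf x = m} : Set G) := by
    refine Nat.card_congr (Equiv.subtypeEquivRight fun g => ?_)
    rw [Set.mem_preimage, Set.mem_ofPred_eq, orderOf_mk_of_normal_sylow S]
  rw [h, Nat.card_congr (QuotientGroup.preimageMkEquivSubgroupProdSet _ _), Nat.card_prod, mul_comm]
  rfl

/-- Quotients by normal Sylow subgroups keep the same order type. -/
theorem SameOrderType.quotient {G : Type u} {H : Type v} [Group G] [Group H] [Finite G] [Finite H]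
    (hT : SameOrderType G H) {p : ℕ} [Fact p.Prime] (S : Sylow p G) [(S : Subgroup G).Normal]
    (P : Sylow p H) [(P : Subgroup H).Normal] :
    SameOrderType (G ⧸ (S : Subgroup G)) (H ⧸ (P : Subgroup H)) := by
  intro m
  obtain ⟨e, he⟩ := hT.exists_equiv
  have h1 : Nat.card {g : G // ordCompl[p] (orderOf g) = m} =
      Nat.card {h : H // ordCompl[p] (orderOf h) = m} :=
    Nat.card_congr (e.subtypeEquiv (fun g => by rw [he]))
  rw [card_fibre S, card_fibre P, Sylow.card_eq_multiplicity S, Sylow.card_eq_multiplicity P,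
    hT.card_eq] at h1
  exact Nat.eq_of_mul_eq_mul_right (pow_pos (Fact.out : p.Prime).pos _) h1

end CfsgLib.FgsB
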