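import Cfsg.Agent.Lib.FgsB.GLClassBound

/-!
The number of conjugacy classes of `SL_n(q)`.
-/

set_option autoImplicit false

universe u

namespace CfsgLib.FgsB.SLClassBound

open Finset Polynomial CfsgLib.FgsB.GLClassBound

variable {F : Type u} [Field F]

/-! ### Determinants of componentwise maps -/

theorem det_piVar {ι : Type*} [Fintype ι] [DecidableEq ι] {M : ι → Type*} [∀ i, AddCommGroup (M i)]
    [∀ i, Module F (M i)] [∀ i, FiniteDimensional F (M i)] (f : ∀ i, M i →ₗ[F] M i) :
    LinearMap.det (LinearMap.pi fun i => (f i).comp (LinearMap.proj i)) =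
      ∏ i, LinearMap.det (f i) := by
  letI : LinearOrder ι := LinearOrder.lift' (Fintype.equivFin ι) (Fintype.equivFin ι).injective
  let b := fun i => Module.finBasis F (M i)
  have hM : LinearMap.toMatrix (Pi.basis b) (Pi.basis b)
      (LinearMap.pi fun i => (f i).comp (LinearMap.proj i)) =
      Matrix.blockDiagonal' fun i => LinearMap.toMatrix (b i) (b i) (f i) := by
    ext ⟨x, i⟩ ⟨y, j⟩
    rw [LinearMap.toMatrix_apply, Pi.basis_apply, Pi.basis_repr, Matrix.blockDiagonal'_apply]
    simp only [LinearMap.pi_apply, LinearMap.coe_comp, Function.comp_apply, LinearMap.proj_apply]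
    split_ifs with h
    · subst h
      simp [LinearMap.toMatrix_apply]
    · rw [Pi.single_eq_of_ne h, map_zero, map_zero, Finsupp.zero_apply]
  rw [← LinearMap.det_toMatrix (Pi.basis b), hM, (Matrix.blockTriangular_blockDiagonal' _).det]
  simp only [← LinearMap.det_toMatrix (b _)]
  rw [Finset.prod_subset (Finset.subset_univ _) (fun x _ hx => ?_)]
  · refine Finset.prod_congr rfl fun x _ => ?_
    rw [← Matrix.det_submatrix_equiv_self (Equiv.sigmaSubtype x).symm]
    congr 1
    ext i j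
    simp [Matrix.toSquareBlock_def, Matrix.blockDiagonal'_apply, Equiv.sigmaSubtype]
  · haveI : IsEmpty {a : Σ i, Fin (Module.finrank F (M i)) // a.1 = x} :=
      ⟨fun a => hx (Finset.mem_image.2 ⟨a.1, Finset.mem_univ _, a.2⟩)⟩
    exact Matrix.det_isEmpty

/-! ### Norms on `F[X]/(p^e)` -/

theorem det_smul_eq_norm (P r : F[X]) :
    LinearMap.det ((LinearMap.lsmul F[X] (F[X] ⧸ F[X] ∙ P) r).restrictScalars F) =
      Algebra.norm F (AdjoinRoot.mk P r) := by
  rw [Algebra.norm_apply]
  have e : ((LinearMap.lsmul F[X] (F[X] ⧸ F[X] ∙ P) r).restrictScalars F) =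
      (Algebra.lmul F (AdjoinRoot P) (AdjoinRoot.mk P r) : Module.End F (AdjoinRoot P)) := by
    refine LinearMap.ext fun z => ?_
    obtain ⟨s, rfl⟩ := Submodule.Quotient.mk_surjective _ z
    rfl
  exact congrArg LinearMap.det e

/-- Every `e`-th power is a norm from `F[X]/(p^e)`. -/
theorem exists_norm_eq [Fintype F] {p : F[X]} (hp : p.Monic) (hirr : Irreducible p) {e : ℕ}
    (he : 1 ≤ e) (z : F) : ∃ r : F[X], Algebra.norm F (AdjoinRoot.mk (p ^ e) r) = z ^ e := by
  haveI := Fact.mk hirr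
  haveI : Module.Finite F (AdjoinRoot p) := hp.finite_adjoinRoot
  haveI : Finite (AdjoinRoot p) := Module.finite_of_finite F
  haveI : Module.Finite F (AdjoinRoot (p ^ e)) := (hp.pow e).finite_adjoinRoot
  -- lift of the residue field
  have hQ : ∀ m : ℕ, expand F (Fintype.card F ^ m) p = p ^ (Fintype.card F ^ m) := by
    intro m
    induction m with
    | zero => rw [pow_zero, expand_one, pow_one]
    | succ m ih => rw [pow_succ', expand_mul, ih, map_pow, FiniteField.expand_card, ← pow_mul]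
  set N := Fintype.card F ^ e
  have hroot : aeval (AdjoinRoot.mk (p ^ e) (X ^ N)) p = 0 := by
    rw [show AdjoinRoot.mk (p ^ e) (X ^ N) = (AdjoinRoot.root (p ^ e)) ^ N by
      rw [map_pow, AdjoinRoot.mk_X], ← expand_aeval, hQ e, AdjoinRoot.aeval_eq, AdjoinRoot.mk_eq_zero]
    exact pow_dvd_pow p (Nat.lt_pow_self Fintype.one_lt_card).le
  let φ : AdjoinRoot p →ₐ[F] AdjoinRoot (p ^ e) :=
    AdjoinRoot.liftAlgHom p (Algebra.ofId F _) (AdjoinRoot.mk (p ^ e) (X ^ N)) hroot
  letI : Algebra (AdjoinRoot p) (AdjoinRoot (p ^ e)) := φ.toRingHom.toAlgebra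
  haveI : IsScalarTower F (AdjoinRoot p) (AdjoinRoot (p ^ e)) :=
    IsScalarTower.of_algebraMap_eq fun c => (φ.commutes c).symm
  haveI : Module.Finite (AdjoinRoot p) (AdjoinRoot (p ^ e)) := Module.Finite.right F _ _
  have hdim : Module.finrank (AdjoinRoot p) (AdjoinRoot (p ^ e)) = e := by
    have h1 := Module.finrank_mul_finrank F (AdjoinRoot p) (AdjoinRoot (p ^ e))
    rw [(AdjoinRoot.powerBasis hp.ne_zero).finrank, (AdjoinRoot.powerBasis (hp.pow e).ne_zero).finrank,
      AdjoinRoot.powerBasis_dim, AdjoinRoot.powerBasis_dim, natDegree_pow, mul_comm e] at h1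
    exact Nat.eq_of_mul_eq_mul_left hirr.natDegree_pos h1
  obtain ⟨y, hy⟩ := FiniteField.norm_surjective F (AdjoinRoot p) z
  obtain ⟨r, hr⟩ := AdjoinRoot.mk_surjective (g := p ^ e) (algebraMap (AdjoinRoot p) (AdjoinRoot (p ^ e)) y)
  refine ⟨r, ?_⟩
  rw [hr, ← Algebra.norm_norm (R := F) (S := AdjoinRoot p), Algebra.norm_algebraMap, hdim, map_pow, hy]

theorem norm_root {P : F[X]} (hP : P.Monic) :
    Algebra.norm F (AdjoinRoot.root P) = (-1) ^ P.natDegree * P.coeff 0 := by
  rw [← AdjoinRoot.powerBasis_gen hP.ne_zero, Algebra.PowerBasis.norm_gen_eq_coeff_zero_minpoly,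
    AdjoinRoot.minpoly_powerBasis_gen_of_monic hP, AdjoinRoot.powerBasis_dim]

variable {n : ℕ}

/-- The determinant read off from the tuple. -/
noncomputable def tupleDet (g : Fin n → F[X]) : F :=
  (-1) ^ n * ∏ i : Fin n, (g i).coeff 0 ^ (1 + (i : ℕ))

section Data

variable {A : GL (Fin n) F} {ι : Type u} [Fintype ι] {p : ι → F[X]} {e : ι → ℕ}

theorem det_eq_tupleDet (hd : IsDivisorData n p e)
    (hE : Nonempty (MatModule (A : Matrix (Fin n) (Fin n) F) ≃ₗ[F[X]]
      ((i : ι) → F[X] ⧸ F[X] ∙ (p i ^ e i)))) :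
    (A : Matrix (Fin n) (Fin n) F).det = tupleDet (tupleOf n p e) := by
  classical
  obtain ⟨E⟩ := hE
  obtain ⟨hpe, hsum⟩ := hd
  set φ := Matrix.toLin' (A : Matrix (Fin n) (Fin n) F) with hφ
  let Φ : (Fin n → F) ≃ₗ[F] ((i : ι) → F[X] ⧸ F[X] ∙ (p i ^ e i)) :=
    (Module.AEval'.of φ).trans (E.restrictScalars F)
  haveI : ∀ i, Module.Finite F (F[X] ⧸ F[X] ∙ (p i ^ e i)) := fun i =>
    ((hpe i).1.pow _).finite_adjoinRoot
  have hconj : (Φ.toLinearMap ∘ₗ φ) ∘ₗ Φ.symm.toLinearMap = LinearMap.pi fun i =>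
      ((LinearMap.lsmul F[X] (F[X] ⧸ F[X] ∙ (p i ^ e i)) X).restrictScalars F).comp (LinearMap.proj i) := by
    refine LinearMap.ext fun w => funext fun i => ?_
    obtain ⟨v, rfl⟩ := Φ.surjective w
    simp only [LinearMap.comp_apply, LinearEquiv.coe_coe, LinearEquiv.symm_apply_apply]
    show E (Module.AEval'.of φ (φ v)) i = (X : F[X]) • E (Module.AEval'.of φ v) i
    rw [← Module.AEval'.X_smul_of, map_smul]
    rfl
  rw [← LinearMap.det_toLin', ← hφ, ← LinearMap.det_conj φ Φ, ← LinearMap.comp_assoc, hconj, det_piVar]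
  have hX : ∀ i, LinearMap.det ((LinearMap.lsmul F[X] (F[X] ⧸ F[X] ∙ (p i ^ e i)) X).restrictScalars F) =
      (-1) ^ (e i * (p i).natDegree) * (p i).coeff 0 ^ e i := fun i => by
    rw [det_smul_eq_norm, AdjoinRoot.mk_X, norm_root ((hpe i).1.pow _), natDegree_pow,
      coeff_zero_eq_eval_zero, eval_pow, ← coeff_zero_eq_eval_zero]
  rw [Finset.prod_congr rfl fun i _ => hX i, Finset.prod_mul_distrib, Finset.prod_pow_eq_pow_sum, hsum,
    tupleDet]
  congr 1
  have h1 : ∀ i : Fin n, (tupleOf n p e i).coeff 0 ^ (1 + (i : ℕ)) =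
      ∏ x : ι, if e x = (i : ℕ) + 1 then (p x).coeff 0 ^ e x else 1 := fun i => by
    rw [tupleOf_apply, coeff_zero_prod, ← Finset.prod_pow, Finset.prod_filter]
    exact Finset.prod_congr rfl fun x _ => by
      split_ifs with h
      · rw [h, add_comm]
      · rfl
  rw [Finset.prod_congr rfl fun i _ => h1 i, Finset.prod_comm]
  refine Finset.prod_congr rfl fun x _ => ?_
  obtain ⟨m, hm⟩ : ∃ m, e x = m + 1 := ⟨e x - 1, by have := (hpe x).2.2.2.1; omega⟩
  rw [Finset.prod_eq_single (⟨m, by have := (hpe x).2.2.2.2; omega⟩ : Fin n)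
    (fun i _ hi => if_neg fun h => hi (Fin.ext (show (i : ℕ) = m by omega)))
    (fun h => absurd (Finset.mem_univ _) h), if_pos hm]

/-- Determinants of centralising elements. -/
theorem exists_centralizer_det [Fintype F] (hd : IsDivisorData n p e)
    (hE : Nonempty (MatModule (A : Matrix (Fin n) (Fin n) F) ≃ₗ[F[X]]
      ((i : ι) → F[X] ⧸ F[X] ∙ (p i ^ e i)))) (x : ι) (z : Fˣ) :
    ∃ C : GL (Fin n) F, C * A = A * C ∧ Matrix.GeneralLinearGroup.det C = z ^ e x := by
  classical
  obtain ⟨E⟩ := hE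
  obtain ⟨hpe, -⟩ := hd
  obtain ⟨r, hr⟩ := exists_norm_eq (hpe x).1 (hpe x).2.1 (hpe x).2.2.2.1 (z : F)
  set φ := Matrix.toLin' (A : Matrix (Fin n) (Fin n) F) with hφ
  haveI : ∀ i, Module.Finite F (F[X] ⧸ F[X] ∙ (p i ^ e i)) := fun i =>
    ((hpe i).1.pow _).finite_adjoinRoot
  let rr : ι → F[X] := fun i => if i = x then r else 1
  let W : ((i : ι) → F[X] ⧸ F[X] ∙ (p i ^ e i)) →ₗ[F[X]] ((i : ι) → F[X] ⧸ F[X] ∙ (p i ^ e i)) :=
    LinearMap.pi fun i => (LinearMap.lsmul F[X] _ (rr i)).comp (LinearMap.proj i)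
  let L : Module.AEval' φ →ₗ[F[X]] Module.AEval' φ := E.symm.toLinearMap ∘ₗ W ∘ₗ E.toLinearMap
  let c : (Fin n → F) →ₗ[F] (Fin n → F) :=
    (Module.AEval'.of φ).symm.toLinearMap ∘ₗ (L.restrictScalars F) ∘ₗ (Module.AEval'.of φ).toLinearMap
  let Φ : (Fin n → F) ≃ₗ[F] ((i : ι) → F[X] ⧸ F[X] ∙ (p i ^ e i)) :=
    (Module.AEval'.of φ).trans (E.restrictScalars F)
  have hcc : c.comp φ = φ.comp c := by
    refine LinearMap.ext fun v => ?_
    simp only [c, LinearMap.comp_apply, LinearEquiv.coe_coe, LinearMap.restrictScalars_apply]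
    rw [← Module.AEval'.X_smul_of, map_smul, Module.AEval'.of_symm_X_smul]
  have hdet : LinearMap.det c = (z : F) ^ e x := by
    have hconj : (Φ.toLinearMap ∘ₗ c) ∘ₗ Φ.symm.toLinearMap = LinearMap.pi fun i =>
        ((LinearMap.lsmul F[X] (F[X] ⧸ F[X] ∙ (p i ^ e i)) (rr i)).restrictScalars F).comp
          (LinearMap.proj i) := by
      refine LinearMap.ext fun w => funext fun i => ?_
      obtain ⟨v, rfl⟩ := Φ.surjective w
      simp [c, L, W, Φ]
    rw [← LinearMap.det_conj c Φ, ← LinearMap.comp_assoc, hconj, det_piVar,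
      Finset.prod_eq_single x (fun i _ hi => by
        rw [show rr i = 1 from if_neg hi, show (LinearMap.lsmul F[X] (F[X] ⧸ F[X] ∙ (p i ^ e i)) 1).restrictScalars F =
          LinearMap.id from LinearMap.ext fun v => one_smul F[X] v, LinearMap.det_id])
      (fun h => absurd (Finset.mem_univ x) h), show rr x = r from if_pos rfl, det_smul_eq_norm, hr]
  have hdet' : (LinearMap.toMatrix' c).det = (z : F) ^ e x := by rw [LinearMap.det_toMatrix', hdet]
  refine ⟨Matrix.GeneralLinearGroup.mkOfDetNeZero (LinearMap.toMatrix' c)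
    (by rw [hdet']; exact pow_ne_zero _ z.ne_zero), Units.ext ?_, Units.ext ?_⟩
  · show LinearMap.toMatrix' c * (A : Matrix (Fin n) (Fin n) F) = _ * LinearMap.toMatrix' c
    rw [← LinearMap.toMatrix'_toLin' (A : Matrix (Fin n) (Fin n) F), ← LinearMap.toMatrix'_comp,
      ← LinearMap.toMatrix'_comp, ← hφ, hcc]
  · rw [Matrix.GeneralLinearGroup.val_det_apply, Units.val_pow_eq_pow_val]
    exact hdet'

end Data

/-! ### The scaling subgroup of a tuple -/

/-- Determinants reachable by scaling the constant terms of a tuple. -/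
noncomputable def scaleHom (g : Fin n → F[X]) : (Fin n → Fˣ) →* Fˣ where
  toFun c := ∏ i : Fin n, if 0 < (g i).natDegree then c i ^ (1 + (i : ℕ)) else 1
  map_one' := Finset.prod_eq_one fun i _ => by simp
  map_mul' c d := by
    rw [← Finset.prod_mul_distrib]
    exact Finset.prod_congr rfl fun i _ => by split_ifs <;> simp [mul_pow]

/-- The number of `SL`-classes in a `GL`-class is at most this index. -/
noncomputable def splitNumber (g : Fin n → F[X]) : ℕ := (scaleHom g).range.index

theorem scaleHom_congr {g g' : Fin n → F[X]} (h : ∀ i, (g i).natDegree = (g' i).natDegree) :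
    scaleHom g = scaleHom g' :=
  MonoidHom.ext fun c => by simp [scaleHom, h]

theorem splitNumber_dvd [Fintype F] (g : Fin n → F[X]) :
    splitNumber g ∣ Nat.card Fˣ ∧ ∀ i : Fin n, 0 < (g i).natDegree → splitNumber g ∣ 1 + (i : ℕ) := by
  classical
  refine ⟨Subgroup.index_dvd_card _, fun i hi => ?_⟩
  have hle : (powMonoidHom (1 + (i : ℕ)) : Fˣ →* Fˣ).range ≤ (scaleHom g).range := by
    rintro _ ⟨z, rfl⟩
    refine ⟨Pi.mulSingle i z, ?_⟩
    show (∏ j : Fin n, _) = z ^ (1 + (i : ℕ))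
    rw [Finset.prod_eq_single i (fun j _ hj => by rw [Pi.mulSingle_eq_of_ne hj]; simp)
      (fun h => absurd (Finset.mem_univ _) h), if_pos hi, Pi.mulSingle_eq_same]
  refine (Subgroup.index_dvd_of_le hle).trans ?_
  rw [IsCyclic.index_powMonoidHom_range]
  exact Nat.gcd_dvd_right _ _

variable [Fintype F]

theorem finite_tupleSet : Finite (tupleSet F n 1 n) := (tupleSet_card F n 1 one_pos n).1.to_subtype

/-- `SL`-classes inject into pairs of a tuple of determinant one and a coset of its scaling group. -/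
theorem card_classes_le_pairs :
    Nat.card (ConjClasses (Matrix.SpecialLinearGroup (Fin n) F)) ≤
      Nat.card (Σ g : {g : tupleSet F n 1 n // tupleDet g.1 = 1}, Fˣ ⧸ (scaleHom g.1.1).range) := by
  classical
  haveI := finite_tupleSet (F := F) (n := n)
  choose ι hι p e hpe hsum hE using fun A : GL (Fin n) F => exists_divisors A
  let toGL : Matrix.SpecialLinearGroup (Fin n) F →* GL (Fin n) F := Matrix.SpecialLinearGroup.toGL
  let cl : ConjClasses (Matrix.SpecialLinearGroup (Fin n) F) → GL (Fin n) F := fun x =>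
    (ConjClasses.mk (toGL x.out)).out
  have hcl : ∀ x, IsConj (cl x) (toGL x.out) := fun x =>
    ConjClasses.mk_eq_mk_iff_isConj.1 (Quotient.out_eq (ConjClasses.mk (toGL x.out)))
  choose h hh using fun x => isConj_iff.1 (hcl x)
  let T : ConjClasses (Matrix.SpecialLinearGroup (Fin n) F) → (Fin n → F[X]) := fun x =>
    tupleOf n (p (cl x)) (e (cl x))
  have hdetA : ∀ x, ((cl x : GL (Fin n) F) : Matrix (Fin n) (Fin n) F).det = 1 := fun x => by
    have := congrArg (fun g : GL (Fin n) F => Matrix.GeneralLinearGroup.det g) (hh x)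
    simp only [map_mul, map_inv, mul_inv_cancel_comm] at this
    rw [← Matrix.GeneralLinearGroup.val_det_apply, this]
    exact x.out.2
  have hT : ∀ x, T x ∈ tupleSet F n 1 n := fun x => tupleOf_mem ⟨hpe (cl x), hsum (cl x)⟩
  have hTd : ∀ x, tupleDet (T x) = 1 := fun x =>
    (det_eq_tupleDet ⟨hpe (cl x), hsum (cl x)⟩ (hE (cl x))).symm.trans (hdetA x)
  refine Nat.card_le_card_of_injective (fun x => ⟨⟨⟨T x, hT x⟩, hTd x⟩,
    QuotientGroup.mk (Matrix.GeneralLinearGroup.det (h x))⟩) fun x y hxy => ?_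
  obtain ⟨h1, h2⟩ := Sigma.mk.inj_iff.1 hxy
  have hT' : T x = T y := congrArg (fun z => z.1.1) h1
  have hclxy : cl x = cl y := by
    have hc : IsConj (cl x) (cl y) := isConj_of_tupleOf_eq ⟨hpe _, hsum _⟩ ⟨hpe _, hsum _⟩ (hE _) (hE _) hT'
    show (ConjClasses.mk (toGL x.out)).out = (ConjClasses.mk (toGL y.out)).out
    rw [show ConjClasses.mk (toGL x.out) = ConjClasses.mk (toGL y.out) from
      ConjClasses.mk_eq_mk_iff_isConj.2 (((hcl x).symm.trans hc).trans (hcl y))]
  have h3 : (Matrix.GeneralLinearGroup.det (h x))⁻¹ * Matrix.GeneralLinearGroup.det (h y) ∈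
      (scaleHom (T x)).range := by
    revert h2
    generalize hg : scaleHom (T y) = ψ
    rw [← hT'] at hg
    subst hg
    intro h2
    exact QuotientGroup.eq.1 (eq_of_heq h2)
  -- a centralising element of the same determinant
  have hle : (scaleHom (T x)).range ≤
      (Subgroup.centralizer {cl x}).map Matrix.GeneralLinearGroup.det := by
    rintro _ ⟨c, rfl⟩
    show (∏ i : Fin n, if 0 < ((T x) i).natDegree then c i ^ (1 + (i : ℕ)) else 1) ∈ _
    refine Subgroup.prod_mem _ fun i _ => ?_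
    split_ifs with hi
    · obtain ⟨j, hj⟩ : ∃ j, e (cl x) j = (i : ℕ) + 1 := by
        by_contra hno
        push Not at hno
        simp only [T, tupleOf_apply] at hi
        rw [Finset.filter_false_of_mem fun j _ => hno j, Finset.prod_empty, natDegree_one] at hi
        exact lt_irrefl _ hi
      obtain ⟨C, hC, hCd⟩ := exists_centralizer_det ⟨hpe _, hsum _⟩ (hE (cl x)) j (c i)
      exact ⟨C, Subgroup.mem_centralizer_singleton_iff.2 hC, by rw [hCd, hj, add_comm]⟩
    · exact one_mem _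
  obtain ⟨C, hC, hCd⟩ := hle h3
  rw [← Quotient.out_eq x, ← Quotient.out_eq y]
  refine ConjClasses.mk_eq_mk_iff_isConj.2 (isConj_iff.2 ?_)
  have hk : Matrix.GeneralLinearGroup.det (h y * C⁻¹ * (h x)⁻¹) = 1 := by
    rw [map_mul, map_mul, map_inv, map_inv, hCd, mul_inv_rev, inv_inv, ← mul_assoc,
      mul_inv_cancel, one_mul, mul_inv_cancel]
  have hC' : C⁻¹ * cl x * C = cl x := by
    rw [mul_assoc, ← Subgroup.mem_centralizer_singleton_iff.1 hC, inv_mul_cancel_left]
  let S : Matrix.SpecialLinearGroup (Fin n) F :=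
    ⟨((h y * C⁻¹ * (h x)⁻¹ : GL (Fin n) F) : Matrix (Fin n) (Fin n) F), congrArg Units.val hk⟩
  have hS : toGL S = h y * C⁻¹ * (h x)⁻¹ := Units.ext rfl
  refine ⟨S, (Matrix.SpecialLinearGroup.toGL_injective : Function.Injective toGL) ?_⟩
  rw [map_mul, map_mul, map_inv, hS]
  rw [← hh x, ← hh y, ← hclxy]
  calc _ = h y * (C⁻¹ * cl x * C) * (h y)⁻¹ := by group
    _ = _ := by rw [hC']

/-- Scale the constant terms. -/
noncomputable def scaleTuple (g : Fin n → F[X]) (c : Fin n → Fˣ) : Fin n → F[X] := fun i =>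
  if 0 < (g i).natDegree then g i + C ((g i).coeff 0 * ((c i : F) - 1)) else g i

theorem scaleTuple_natDegree (g : Fin n → F[X]) (c : Fin n → Fˣ) (i : Fin n) :
    (scaleTuple g c i).natDegree = (g i).natDegree := by
  unfold scaleTuple
  split_ifs
  · exact natDegree_add_C
  · rfl

theorem scaleTuple_mem {g : Fin n → F[X]} (hg : g ∈ tupleSet F n 1 n) (c : Fin n → Fˣ) :
    scaleTuple g c ∈ tupleSet F n 1 n ∧
      tupleDet (scaleTuple g c) = tupleDet g * (scaleHom g c : F) := by
  classical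
  have hco : ∀ i, (scaleTuple g c i).coeff 0 =
      (g i).coeff 0 * if 0 < (g i).natDegree then (c i : F) else 1 := fun i => by
    unfold scaleTuple
    split_ifs
    · rw [coeff_add, coeff_C_zero]; ring
    · rw [mul_one]
  refine ⟨⟨fun i => ⟨?_, ?_⟩, ?_⟩, ?_⟩
  · unfold scaleTuple
    split_ifs with h
    · refine (hg.1 i).1.add_of_left (lt_of_le_of_lt degree_C_le ?_)
      rw [degree_eq_natDegree (hg.1 i).1.ne_zero]
      exact_mod_cast h
    · exact (hg.1 i).1
  · rw [hco]
    refine mul_ne_zero (hg.1 i).2 ?_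
    split_ifs
    · exact (c i).ne_zero
    · exact one_ne_zero
  · simp only [scaleTuple_natDegree]
    exact hg.2
  · rw [tupleDet, tupleDet, mul_assoc]
    congr 1
    rw [show scaleHom g c = ∏ i : Fin n, if 0 < (g i).natDegree then c i ^ (1 + (i : ℕ)) else 1 from rfl,
      Units.coe_prod, ← Finset.prod_mul_distrib]
    refine Finset.prod_congr rfl fun i _ => ?_
    rw [hco, mul_pow]
    split_ifs <;> simp

theorem scaleTuple_injective {g g' : Fin n → F[X]} (c : Fin n → Fˣ)
    (h : scaleTuple g c = scaleTuple g' c) : g = g' := by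
  funext i
  have hd : (g i).natDegree = (g' i).natDegree := by
    rw [← scaleTuple_natDegree g c i, h, scaleTuple_natDegree]
  have hi : scaleTuple g c i = scaleTuple g' c i := congrFun h i
  unfold scaleTuple at hi
  rw [← hd] at hi
  split_ifs at hi with hpos
  · have h0 := congrArg (fun q : F[X] => q.coeff 0) hi
    simp only [coeff_add, coeff_C_zero] at h0
    have : (g i).coeff 0 = (g' i).coeff 0 := mul_right_cancel₀ (c i).ne_zero (by linear_combination h0)
    rw [this] at hi
    exact add_right_cancel hi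
  · exact hi

/-- Double counting by scaling. -/
theorem card_pairs_le :
    (Fintype.card F - 1) *
        Nat.card (Σ g : {g : tupleSet F n 1 n // tupleDet g.1 = 1}, Fˣ ⧸ (scaleHom g.1.1).range) ≤
      Nat.card (Σ g : tupleSet F n 1 n, (Fˣ ⧸ (scaleHom g.1).range) × (Fˣ ⧸ (scaleHom g.1).range)) := by
  classical
  haveI := finite_tupleSet (F := F) (n := n)
  haveI := Fintype.ofFinite (tupleSet F n 1 n)
  haveI := Fintype.ofFinite {g : tupleSet F n 1 n // tupleDet g.1 = 1}
  have hcard : Nat.card Fˣ = Fintype.card F - 1 := by rw [Nat.card_units, Nat.card_eq_fintype_card]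
  rw [Nat.card_sigma, Nat.card_sigma, Finset.mul_sum]
  simp only [Nat.card_prod, ← Subgroup.index_eq_card]
  -- the left hand side counts triples
  have hl : ∀ g : {g : tupleSet F n 1 n // tupleDet g.1 = 1},
      (Fintype.card F - 1) * (scaleHom g.1.1).range.index =
        Nat.card (scaleHom g.1.1).range * ((scaleHom g.1.1).range.index * (scaleHom g.1.1).range.index) := by
    intro g
    rw [← mul_assoc, Subgroup.card_mul_index, hcard]
  rw [Finset.sum_congr rfl fun g _ => hl g]
  let pre : (g : {g : tupleSet F n 1 n // tupleDet g.1 = 1}) → (scaleHom g.1.1).range → (Fin n → Fˣ) :=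
    fun g t => Function.invFun (scaleHom g.1.1) (t : Fˣ)
  have hpre : ∀ g t, scaleHom g.1.1 (pre g t) = (t : Fˣ) := fun g t => Function.invFun_eq t.2
  let sc : (Σ g : {g : tupleSet F n 1 n // tupleDet g.1 = 1}, (scaleHom g.1.1).range) →
      tupleSet F n 1 n := fun x => ⟨_, (scaleTuple_mem x.1.1.2 (pre x.1 x.2)).1⟩
  have hinj : Function.Injective sc := by
    rintro ⟨g, t⟩ ⟨g', t'⟩ e
    have e' : scaleTuple g.1.1 (pre g t) = scaleTuple g'.1.1 (pre g' t') := congrArg Subtype.val e
    have hT : (t : Fˣ) = (t' : Fˣ) := Units.ext (by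
      have := congrArg tupleDet e'
      rwa [(scaleTuple_mem g.1.2 _).2, (scaleTuple_mem g'.1.2 _).2, g.2, g'.2, one_mul, one_mul, hpre,
        hpre] at this)
    have hdeg : ∀ i, (g.1.1 i).natDegree = (g'.1.1 i).natDegree := fun i => by
      rw [← scaleTuple_natDegree g.1.1 (pre g t) i, e', scaleTuple_natDegree]
    have hpp : pre g' t' = pre g t := by
      simp only [pre, scaleHom_congr hdeg, hT]
    rw [hpp] at e'
    have hg : g = g' := Subtype.ext (Subtype.ext (scaleTuple_injective _ e'))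
    subst hg
    rw [Subtype.ext hT]
  -- regroup by the scaled tuple
  let f : tupleSet F n 1 n → ℕ := fun g => (scaleHom g.1).range.index * (scaleHom g.1).range.index
  haveI : ∀ g : {g : tupleSet F n 1 n // tupleDet g.1 = 1}, Fintype (scaleHom g.1.1).range :=
    fun g => Fintype.ofFinite _
  calc _ = ∑ x : (Σ g : {g : tupleSet F n 1 n // tupleDet g.1 = 1}, (scaleHom g.1.1).range), f (sc x) := by
        rw [Fintype.sum_sigma]
        refine Finset.sum_congr rfl fun g _ => ?_
        have hc : ∀ t, f (sc ⟨g, t⟩) =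
            (scaleHom g.1.1).range.index * (scaleHom g.1.1).range.index := fun t => by
          simp only [f, sc, scaleHom_congr fun i => scaleTuple_natDegree g.1.1 (pre g t) i]
        rw [Finset.sum_congr rfl fun t _ => hc t, Finset.sum_const, Finset.card_univ,
          ← Nat.card_eq_fintype_card, smul_eq_mul]
    _ = ∑ y ∈ Finset.univ.image sc, f y := (Finset.sum_image fun x _ y _ h => hinj h).symm
    _ ≤ ∑ y, f y := Finset.sum_le_sum_of_subset (Finset.subset_univ _)

/-- Tuples supported on multiples of `d`. -/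
theorem card_supported_le {d : ℕ} (hd : 0 < d) (hdn : d ∣ n) :
    Nat.card {g : tupleSet F n 1 n // ∀ i : Fin n, 0 < (g.1 i).natDegree → d ∣ 1 + (i : ℕ)} ≤
      tupleCount (Fintype.card F) (n / d) 1 (n / d) := by
  classical
  obtain ⟨hfin, hcard⟩ := tupleSet_card F (n / d) 1 one_pos (n / d)
  haveI := hfin.to_subtype
  have hm : d * (n / d) = n := Nat.mul_div_cancel' hdn
  let at' : Fin (n / d) → Fin n := fun i => ⟨d * ((i : ℕ) + 1) - 1, by
    have h1 : d * ((i : ℕ) + 1) ≤ d * (n / d) := Nat.mul_le_mul_left d (Nat.succ_le_of_lt i.2)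
    have h2 : 1 ≤ d * ((i : ℕ) + 1) := Nat.mul_pos hd (Nat.succ_pos _)
    omega⟩
  have hat : ∀ i, 1 + ((at' i : Fin n) : ℕ) = d * (1 + (i : ℕ)) := fun i => by
    have h2 : 1 ≤ d * ((i : ℕ) + 1) := Nat.mul_pos hd (Nat.succ_pos _)
    show 1 + (d * ((i : ℕ) + 1) - 1) = _
    rw [add_comm 1 (i : ℕ)]
    omega
  have hinj : Function.Injective at' := fun i j h => Fin.ext (by
    have := congrArg (fun z : Fin n => 1 + (z : ℕ)) h
    simp only [hat] at this
    have := Nat.eq_of_mul_eq_mul_left hd this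
    omega)
  have hout : ∀ i : Fin n, d ∣ 1 + (i : ℕ) → ∃ j, at' j = i := fun i h => by
    obtain ⟨c, hc⟩ := h
    rcases c with _ | c
    · simp at hc
    have hlt : c < n / d := Nat.lt_of_mul_lt_mul_left (a := d) (by
      rw [hm]
      have := i.2
      rw [Nat.mul_succ] at hc
      omega)
    refine ⟨⟨c, hlt⟩, Fin.ext ?_⟩
    show d * (c + 1) - 1 = (i : ℕ)
    omega
  have hmem : ∀ g : {g : tupleSet F n 1 n // ∀ i : Fin n, 0 < (g.1 i).natDegree → d ∣ 1 + (i : ℕ)},
      (fun j => g.1.1 (at' j)) ∈ tupleSet F (n / d) 1 (n / d) := fun g => by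
    refine ⟨fun j => g.1.2.1 (at' j), Nat.eq_of_mul_eq_mul_left hd ?_⟩
    rw [hm, Finset.mul_sum]
    refine Eq.trans ?_ g.1.2.2
    rw [← Finset.sum_subset (Finset.subset_univ (Finset.univ.image at')) (fun i _ hi => ?_),
      Finset.sum_image fun x _ y _ h => hinj h]
    · exact Finset.sum_congr rfl fun j _ => by rw [hat, mul_assoc]
    · rcases Nat.eq_zero_or_pos (g.1.1 i).natDegree with h0 | hp
      · rw [h0, mul_zero]
      · obtain ⟨j, hj⟩ := hout i (g.2 i hp)
        exact absurd (Finset.mem_image.2 ⟨j, Finset.mem_univ _, hj⟩) hi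
  refine le_trans (Nat.card_le_card_of_injective
    (fun g => (⟨_, hmem g⟩ : tupleSet F (n / d) 1 (n / d))) fun g g' h => ?_)
    ((le_of_eq (Nat.card_coe_set_eq _)).trans hcard)
  apply Subtype.ext; apply Subtype.ext; funext i
  rcases Nat.eq_zero_or_pos (g.1.1 i).natDegree with h0 | hp
  · rcases Nat.eq_zero_or_pos (g'.1.1 i).natDegree with h0' | hp'
    · rw [(g.1.2.1 i).1.natDegree_eq_zero.1 h0, (g'.1.2.1 i).1.natDegree_eq_zero.1 h0']
    · obtain ⟨j, rfl⟩ := hout i (g'.2 i hp')
      exact congrFun (congrArg Subtype.val h) j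
  · obtain ⟨j, rfl⟩ := hout i (g.2 i hp)
    exact congrFun (congrArg Subtype.val h) j

/-- The divisors governing the extra classes. -/
def splitDivisors (q n : ℕ) : Finset ℕ := (Nat.gcd n (q - 1)).divisors.erase 1

theorem card_classes_le_sum (hn : 1 ≤ n) :
    (Fintype.card F - 1) * Nat.card (ConjClasses (Matrix.SpecialLinearGroup (Fin n) F)) ≤
      tupleCount (Fintype.card F) n 1 n + ∑ d ∈ splitDivisors (Fintype.card F) n,
        (d ^ 2 - 1) * tupleCount (Fintype.card F) (n / d) 1 (n / d) := by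
  classical
  haveI := finite_tupleSet (F := F) (n := n)
  haveI := Fintype.ofFinite (tupleSet F n 1 n)
  refine ((Nat.mul_le_mul_left _ card_classes_le_pairs).trans card_pairs_le).trans ?_
  rw [Nat.card_sigma]
  simp only [Nat.card_prod, ← Subgroup.index_eq_card]
  have hone : ∀ g : tupleSet F n 1 n, (scaleHom g.1).range.index * (scaleHom g.1).range.index ≤
      1 + ∑ d ∈ splitDivisors (Fintype.card F) n,
        if ∀ i : Fin n, 0 < (g.1 i).natDegree → d ∣ 1 + (i : ℕ) then d ^ 2 - 1 else 0 := by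
    intro g
    obtain ⟨hs1, hs2⟩ := splitNumber_dvd g.1
    unfold splitNumber at hs1 hs2
    set s := (scaleHom g.1).range.index
    rw [Nat.card_units, Nat.card_eq_fintype_card] at hs1
    rcases eq_or_ne s 1 with h1 | h1
    · rw [h1]; omega
    have hsn : s ∣ n := by
      refine (Finset.dvd_sum fun i _ => ?_).trans (dvd_of_eq g.2.2)
      rcases Nat.eq_zero_or_pos (g.1 i).natDegree with h0 | hp
      · rw [h0, mul_zero]; exact dvd_zero _
      · exact (hs2 i hp).mul_right _
    have hmem : s ∈ splitDivisors (Fintype.card F) n :=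
      Finset.mem_erase.2 ⟨h1, Nat.mem_divisors.2 ⟨Nat.dvd_gcd hsn hs1, fun h => by
        have := (Nat.gcd_eq_zero_iff.1 h).1
        omega⟩⟩
    refine le_trans ?_ (Nat.add_le_add_left (Finset.single_le_sum
      (f := fun d => if ∀ i : Fin n, 0 < (g.1 i).natDegree → d ∣ 1 + (i : ℕ) then d ^ 2 - 1 else 0)
      (fun d _ => Nat.zero_le _) hmem) 1)
    rw [if_pos hs2, sq]
    omega
  refine (Finset.sum_le_sum fun g _ => hone g).trans ?_
  rw [Finset.sum_add_distrib, Finset.sum_comm]
  refine Nat.add_le_add ?_ (Finset.sum_le_sum fun d hd => ?_)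
  · rw [Finset.sum_const, smul_eq_mul, mul_one, Finset.card_univ, ← Nat.card_eq_fintype_card]
    exact (le_of_eq (Nat.card_coe_set_eq _)).trans (tupleSet_card F n 1 one_pos n).2
  · obtain ⟨hd1, hd2⟩ := Finset.mem_erase.1 hd
    have hdvd := (Nat.mem_divisors.1 hd2).1
    rw [← Finset.sum_filter, Finset.sum_const, smul_eq_mul, mul_comm, ← Fintype.card_subtype,
      ← Nat.card_eq_fintype_card]
    exact Nat.mul_le_mul_left _ (card_supported_le
      (Nat.pos_of_mem_divisors hd2) (hdvd.trans (Nat.gcd_dvd_left _ _)))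

/-! ### Arithmetic -/

theorem excess_le {q n : ℕ} (hq : 3 ≤ q) (hn : 3 ≤ n) (h : ¬ (n = 3 ∧ q = 4)) :
    ∑ d ∈ splitDivisors q n, (d ^ 2 - 1) * q ^ (n / d) ≤ q ^ (n - 2) * (2 * q - 3) := by
  have hmem : ∀ d ∈ splitDivisors q n, d ∣ n ∧ d ∣ q - 1 ∧ 2 ≤ d ∧ d < q := by
    intro d hd
    obtain ⟨hd1, hd2⟩ := Finset.mem_erase.1 hd
    have h1 := (Nat.mem_divisors.1 hd2).1
    have h2 := h1.trans (Nat.gcd_dvd_right n (q - 1))
    have h3 := Nat.le_of_dvd (by omega) h2
    have h4 := Nat.pos_of_mem_divisors hd2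
    exact ⟨h1.trans (Nat.gcd_dvd_left _ _), h2, by omega, by omega⟩
  have hsub : ∀ S : Finset ℕ, (∀ d, d ∣ n → d ∣ q - 1 → 2 ≤ d → d ∈ S) →
      ∑ d ∈ splitDivisors q n, (d ^ 2 - 1) * q ^ (n / d) ≤ ∑ d ∈ S, (d ^ 2 - 1) * q ^ (n / d) :=
    fun S hS => Finset.sum_le_sum_of_subset fun d hd => hS d (hmem d hd).1 (hmem d hd).2.1 (hmem d hd).2.2.1
  have hpm : q ^ (n - 2) * q ≤ q ^ (n - 2) * (2 * q - 3) := Nat.mul_le_mul_left _ (by omega)
  rcases Nat.lt_or_ge n 8 with h8 | h8
  · interval_cases n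
    · refine (hsub ((3 : ℕ).divisors.filter fun d => 2 ≤ d ∧ d ∣ q - 1) fun d h1 h2 h3 =>
        Finset.mem_filter.2 ⟨Nat.mem_divisors.2 ⟨h1, by norm_num⟩, h3, h2⟩).trans ?_
      have hdiv : (3 : ℕ).divisors = {1, 3} := by decide
      rw [hdiv, Finset.sum_filter]
      simp only [Finset.sum_insert (show (1 : ℕ) ∉ ({3} : Finset ℕ) by decide), Finset.sum_singleton]
      rw [if_neg (by omega)]
      split_ifs with h3
      · have : 6 ≤ q := by omega
        norm_num
        rw [mul_comm q]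
        exact Nat.mul_le_mul_right q (by omega)
      · simp
    · refine (hsub ((4 : ℕ).divisors.filter fun d => 2 ≤ d ∧ d ≤ q - 1) fun d h1 h2 h3 =>
        Finset.mem_filter.2 ⟨Nat.mem_divisors.2 ⟨h1, by norm_num⟩, h3, Nat.le_of_dvd (by omega) h2⟩).trans ?_
      have hdiv : (4 : ℕ).divisors = {1, 2, 4} := by decide
      rw [hdiv, Finset.sum_filter]
      simp only [Finset.sum_insert (show (1 : ℕ) ∉ ({2, 4} : Finset ℕ) by decide),
        Finset.sum_insert (show (2 : ℕ) ∉ ({4} : Finset ℕ) by decide), Finset.sum_singleton]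
      norm_num
      split_ifs <;> try omega
      · obtain ⟨c, rfl⟩ : ∃ c, q = c + 5 := ⟨q - 5, by omega⟩
        rw [show 2 * (c + 5) - 3 = 2 * c + 7 by omega]
        ring_nf
        nlinarith
      · rw [mul_comm 3, add_zero]
        exact Nat.mul_le_mul_left _ (by omega)
    · refine (hsub {5} fun d h1 h2 h3 => ?_).trans (le_trans ?_ hpm)
      · rcases (Nat.dvd_prime (by norm_num : Nat.Prime 5)).1 h1 with rfl | rfl
        · omega
        · simp
      · norm_num
        rw [← pow_succ, show q ^ (3 + 1) = q ^ 3 * q by ring]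
        exact Nat.mul_le_mul_right q (le_trans (by norm_num) (Nat.pow_le_pow_left hq 3))
    · refine (hsub ((6 : ℕ).divisors.filter fun d => 2 ≤ d ∧ d ≤ q - 1) fun d h1 h2 h3 =>
        Finset.mem_filter.2 ⟨Nat.mem_divisors.2 ⟨h1, by norm_num⟩, h3, Nat.le_of_dvd (by omega) h2⟩).trans
          (le_trans ?_ hpm)
      have hdiv : (6 : ℕ).divisors = {1, 2, 3, 6} := by decide
      rw [hdiv, Finset.sum_filter]
      simp only [Finset.sum_insert (show (1 : ℕ) ∉ ({2, 3, 6} : Finset ℕ) by decide),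
        Finset.sum_insert (show (2 : ℕ) ∉ ({3, 6} : Finset ℕ) by decide),
        Finset.sum_insert (show (3 : ℕ) ∉ ({6} : Finset ℕ) by decide), Finset.sum_singleton]
      norm_num
      rcases Nat.lt_or_ge q 4 with h4 | h4
      · obtain rfl : q = 3 := by omega
        norm_num
      · have e1 : 35 * q ≤ q ^ 4 * 2 := by
          rw [show q ^ 4 * 2 = (q ^ 3 * 2) * q by ring]
          exact Nat.mul_le_mul_right q (le_trans (by norm_num) (Nat.mul_le_mul_right 2 (Nat.pow_le_pow_left h4 3)))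
        have e2 : 8 * q ^ 2 ≤ q ^ 4 := by
          rw [show q ^ 4 = q ^ 2 * q ^ 2 by ring]
          exact Nat.mul_le_mul_right _ (le_trans (by norm_num) (Nat.pow_le_pow_left h4 2))
        have e3 : 3 * q ^ 3 ≤ q ^ 4 := by
          rw [show q ^ 4 = q * q ^ 3 by ring]
          exact Nat.mul_le_mul_right _ hq
        have e4 : 4 * q ^ 4 ≤ q ^ 4 * q := by rw [mul_comm 4]; exact Nat.mul_le_mul_left _ h4
        split_ifs <;> omega
    · refine (hsub {7} fun d h1 h2 h3 => ?_).trans (le_trans ?_ hpm)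
      · rcases (Nat.dvd_prime (by norm_num : Nat.Prime 7)).1 h1 with rfl | rfl
        · omega
        · simp
      · norm_num
        exact Nat.mul_le_mul_right q (le_trans (by norm_num) (Nat.pow_le_pow_left hq 5))
  · refine le_trans ?_ hpm
    have hterm : ∀ d ∈ splitDivisors q n, (d ^ 2 - 1) * q ^ (n / d) ≤ q ^ 2 * q ^ (n / 2) := fun d hd =>
      Nat.mul_le_mul ((Nat.sub_le _ _).trans (Nat.pow_le_pow_left (hmem d hd).2.2.2.le 2))
        (Nat.pow_le_pow_right (by omega) (Nat.div_le_div_left (hmem d hd).2.2.1 two_pos))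
    refine (Finset.sum_le_card_nsmul _ _ _ hterm).trans ?_
    rw [smul_eq_mul]
    have hcd : (splitDivisors q n).card ≤ q :=
      (Finset.card_le_card fun d hd => Finset.mem_range.2 (hmem d hd).2.2.2).trans (Finset.card_range q).le
    refine (Nat.mul_le_mul_right _ hcd).trans ?_
    rw [← pow_succ, ← pow_add, ← pow_succ']
    exact Nat.pow_le_pow_right (by omega) (by omega)

theorem splitDivisors_two (n : ℕ) : splitDivisors 2 n = ∅ := by simp [splitDivisors]

theorem card_classes_upper (hn : 3 ≤ n) :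
    Nat.card (ConjClasses (Matrix.SpecialLinearGroup (Fin n) F)) ≤
      Fintype.card F ^ (n - 1) + 3 * Fintype.card F ^ (n - 2) := by
  have h := card_classes_le_sum (F := F) (n := n) (by omega)
  set q := Fintype.card F with hqdef
  have hq : 2 ≤ q := Fintype.one_lt_card
  have hA := tupleCount_one_le hq n n
  have hB : ∑ d ∈ splitDivisors q n, (d ^ 2 - 1) * tupleCount q (n / d) 1 (n / d) ≤
      ∑ d ∈ splitDivisors q n, (d ^ 2 - 1) * q ^ (n / d) :=
    Finset.sum_le_sum fun d _ => Nat.mul_le_mul_left _ (tupleCount_one_le hq _ _)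
  refine Nat.le_of_mul_le_mul_left (h.trans ?_) (by omega : 0 < q - 1)
  obtain ⟨k, rfl⟩ : ∃ k, n = k + 2 := ⟨n - 2, by omega⟩
  rw [Nat.add_sub_cancel, show k + 2 - 1 = k + 1 by omega]
  rcases Nat.lt_or_ge q 3 with h3 | h3
  · have hq2 : q = 2 := by omega
    rw [hq2] at hA ⊢
    rw [splitDivisors_two, Finset.sum_empty, add_zero]
    refine hA.trans ?_
    rw [pow_succ, pow_succ]
    omega
  by_cases hex : k + 2 = 3 ∧ q = 4
  · obtain ⟨hk, hq4⟩ := hex
    obtain rfl : k = 1 := by omega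
    rw [hq4]
    decide
  have hE := excess_le h3 hn hex
  rw [Nat.add_sub_cancel] at hE
  have e : (q - 1) * (q ^ (k + 1) + 3 * q ^ k) = q ^ (k + 2) + q ^ k * (2 * q - 3) := by
    obtain ⟨c, hc⟩ : ∃ c, q = c + 2 := ⟨q - 2, by omega⟩
    rw [hc, show c + 2 - 1 = c + 1 by omega, show 2 * (c + 2) - 3 = 2 * c + 1 by omega]
    ring
  omega

theorem card_classes_upper_two (hn : 2 ≤ n) :
    2 * Nat.card (ConjClasses (Matrix.SpecialLinearGroup (Fin n) F)) ≤ 5 * Fintype.card F ^ (n - 1) := by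
  have hq : 2 ≤ Fintype.card F := Fintype.one_lt_card
  rcases Nat.lt_or_ge n 3 with h3 | h3
  · obtain rfl : n = 2 := by omega
    have h := card_classes_le_sum (F := F) (n := 2) (by omega)
    set q := Fintype.card F with hqdef
    refine Nat.le_of_mul_le_mul_left (le_trans ?_ (le_refl ((q - 1) * (5 * q ^ (2 - 1))))) (by omega : 0 < q - 1)
    rw [mul_left_comm]
    refine (Nat.mul_le_mul_left 2 h).trans ?_
    rcases Nat.lt_or_ge q 4 with h4 | h4
    · interval_cases q <;> decide
    · have hsub : splitDivisors q 2 ⊆ {2} := fun d hd => by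
        obtain ⟨hd1, hd2⟩ := Finset.mem_erase.1 hd
        have := Nat.le_of_dvd two_pos ((Nat.mem_divisors.1 hd2).1.trans (Nat.gcd_dvd_left _ _))
        have := Nat.pos_of_mem_divisors hd2
        simp
        omega
      have hA := tupleCount_one_le hq 2 2
      have hB : ∑ d ∈ splitDivisors q 2, (d ^ 2 - 1) * tupleCount q (2 / d) 1 (2 / d) ≤ 3 * q ^ 1 := by
        refine (Finset.sum_le_sum_of_subset hsub).trans ?_
        rw [Finset.sum_singleton]
        exact Nat.mul_le_mul_left _ (tupleCount_one_le hq _ _)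
      obtain ⟨c, hc⟩ : ∃ c, q = c + 4 := ⟨q - 4, by omega⟩
      rw [hc] at hA hB ⊢
      rw [show c + 4 - 1 = c + 3 by omega]
      norm_num at *
      nlinarith
  · have h := card_classes_upper (F := F) h3
    obtain ⟨k, rfl⟩ : ∃ k, n = k + 2 := ⟨n - 2, by omega⟩
    rw [Nat.add_sub_cancel, show k + 2 - 1 = k + 1 by omega, pow_succ] at *
    have := Nat.mul_le_mul_left (Fintype.card F ^ k) hq
    omega

theorem card_classes_lower (hn : 2 ≤ n) :
    Fintype.card F ^ (n - 1) < Nat.card (ConjClasses (Matrix.SpecialLinearGroup (Fin n) F)) := by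
  classical
  obtain ⟨k, rfl⟩ : ∃ k, n = k + 1 := ⟨n - 1, by omega⟩
  rw [Nat.add_sub_cancel]
  let e : {p : F[X] // p.Monic ∧ p.natDegree = k + 1} ≃ (Fin (k + 1) → F) :=
    (monicEquivDegreeLT (k + 1)).trans (degreeLTEquiv F (k + 1)).toEquiv
  have hco : ∀ v, (e.symm v).1.coeff 0 = v 0 := fun v => by
    have : e (e.symm v) 0 = (e.symm v).1.coeff 0 := by
      show ((e.symm v).1.eraseLead).coeff 0 = _
      rw [eraseLead_coeff_of_ne _ (by rw [(e.symm v).2.2]; omega)]
    rw [← this, Equiv.apply_symm_apply]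
  let P : (Fin k → F) → F[X] := fun v => (e.symm (Fin.cons ((-1) ^ (k + 1)) v)).1
  have hP : ∀ v, (P v).Monic ∧ (P v).natDegree = k + 1 ∧ (P v).coeff 0 = (-1) ^ (k + 1) := fun v =>
    ⟨(e.symm _).2.1, (e.symm _).2.2, by rw [hco, Fin.cons_zero]⟩
  have hcomp : ∀ v, ∃ A : Matrix.SpecialLinearGroup (Fin (k + 1)) F,
      (A : Matrix (Fin (k + 1)) (Fin (k + 1)) F).charpoly = P v ∧ A ≠ 1 := by
    intro v
    let pb := AdjoinRoot.powerBasis (hP v).1.ne_zero
    have hd : pb.dim = k + 1 := (AdjoinRoot.powerBasis_dim _).trans (hP v).2.1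
    let M := (Algebra.leftMulMatrix pb.basis pb.gen).reindex (finCongr hd) (finCongr hd)
    have hM : M.charpoly = P v := by
      rw [Matrix.charpoly_reindex, charpoly_leftMulMatrix,
        AdjoinRoot.minpoly_powerBasis_gen_of_monic (hP v).1]
    have hdet : M.det = 1 := by
      rw [Matrix.det_eq_sign_charpoly_coeff, hM, (hP v).2.2, Fintype.card_fin, ← mul_pow, neg_mul_neg,
        one_mul, one_pow]
    refine ⟨⟨M, hdet⟩, hM, fun h => ?_⟩
    have h1 : M = 1 := congrArg Subtype.val h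
    have h2 : Algebra.leftMulMatrix pb.basis pb.gen = 1 := (Matrix.reindex (finCongr hd) (finCongr hd)).injective
      (h1.trans (by simp))
    have h3 : pb.gen = 1 := Algebra.leftMulMatrix_injective pb.basis (h2.trans (map_one _).symm)
    haveI : Nontrivial (AdjoinRoot (P v)) := AdjoinRoot.nontrivial _ (by
      rw [degree_eq_natDegree (hP v).1.ne_zero, (hP v).2.1]; exact_mod_cast Nat.succ_ne_zero k)
    have h4 := minpoly.one (A := F) (B := AdjoinRoot (P v))
    rw [← h3, AdjoinRoot.minpoly_powerBasis_gen_of_monic (hP v).1] at h4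
    have := congrArg natDegree h4
    rw [(hP v).2.1, ← C_1, natDegree_X_sub_C] at this
    omega
  choose A hA hA1 using hcomp
  have hinj : Function.Injective (fun o : Option (Fin k → F) => ConjClasses.mk
      (o.elim (1 : Matrix.SpecialLinearGroup (Fin (k + 1)) F) A)) := by
    have key : ∀ v, ¬ IsConj (1 : Matrix.SpecialLinearGroup (Fin (k + 1)) F) (A v) := fun v h =>
      hA1 v (isConj_one_right.1 h)
    rintro (_ | v) (_ | w) h
    · rfl
    · exact absurd (ConjClasses.mk_eq_mk_iff_isConj.1 h) (key w)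
    · exact absurd (ConjClasses.mk_eq_mk_iff_isConj.1 h).symm (key v)
    · obtain ⟨c, hc⟩ := isConj_iff.1 (ConjClasses.mk_eq_mk_iff_isConj.1 h)
      have h1 : P v = P w := by
        rw [← hA v, ← hA w, ← show c * A v * c⁻¹ = A w from hc,
          Matrix.SpecialLinearGroup.coe_mul, Matrix.SpecialLinearGroup.coe_mul, Matrix.SpecialLinearGroup.coe_inv]
        rw [Matrix.charpoly_mul_comm, ← mul_assoc, Matrix.adjugate_mul, c.2, one_smul, one_mul]
      exact congrArg some (Fin.cons_right_injective _ (e.symm.injective (Subtype.ext h1)))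
  have := Nat.card_le_card_of_injective _ hinj
  rw [Nat.card_eq_fintype_card (α := Option _), Fintype.card_option, Fintype.card_fun, Fintype.card_fin] at this
  omega

end CfsgLib.FgsB.SLClassBound
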