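import Cfsg.Agent.Lib.Transfer.ZJComplement
import Cfsg.Agent.Lib.Transfer.Control
import Cfsg.Agent.Lib.Base.ThompsonFPF
import Cfsg.Agent.Lib.FgsB.FourOrbits

/-!
Kegel's theorem: a finite group with a splitting automorphism of prime order is nilpotent.

`sp σ k x` is the product `x * σ x * ⋯ * σ^(k-1) x`. The proof is by induction on the order, using
that every "twist" `x ↦ g * α x * g⁻¹` of a splitting automorphism is again one.
-/

set_option autoImplicit false
set_option linter.style.haveILetI false

universe u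

namespace CfsgLib.FgsB.Splitting

open Subgroup
open scoped commutatorElement

variable {G : Type u} [Group G]

/-- The iterated product `x * σ x * ⋯ * σ^(k-1) x`. -/
def sp (σ : MulAut G) : ℕ → G → G
  | 0, _ => 1
  | k + 1, x => x * σ (sp σ k x)

/-- The twist of an automorphism by an element. -/
def twist (σ : MulAut G) (g : G) : MulAut G := MulAut.conj g * σ

/-- A splitting automorphism of exponent `p`. -/
def Split (p : ℕ) (σ : MulAut G) : Prop := σ ^ p = 1 ∧ ∀ x, sp σ p x = 1

theorem twist_apply (σ : MulAut G) (g x : G) : twist σ g x = g * σ x * g⁻¹ := rfl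

theorem sp_add (σ : MulAut G) (a b : ℕ) (x : G) :
    sp σ (a + b) x = sp σ a x * (σ ^ a) (sp σ b x) := by
  induction a with
  | zero => simp [sp]
  | succ a ih =>
    rw [Nat.succ_add, sp, sp, ih, map_mul, pow_succ', MulAut.mul_apply, mul_assoc]

theorem sp_one (σ : MulAut G) (x : G) : sp σ 1 x = x := by simp [sp]

theorem sp_succ' (σ : MulAut G) (a : ℕ) (x : G) : sp σ (a + 1) x = sp σ a x * (σ ^ a) x := by
  rw [sp_add, sp_one]

theorem sp_of_fixed {σ : MulAut G} {x : G} (h : σ x = x) (k : ℕ) : sp σ k x = x ^ k := by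
  induction k with
  | zero => simp [sp]
  | succ k ih => rw [sp, ih, map_pow, h, ← pow_succ']

theorem sp_twist (σ : MulAut G) (g : G) (k : ℕ) (x : G) :
    sp (twist σ g) k x * sp σ k g = sp σ k (x * g) := by
  induction k with
  | zero => simp [sp]
  | succ k ih =>
    rw [sp, sp, sp, twist_apply, ← ih, map_mul]
    group

theorem twist_pow (σ : MulAut G) (g : G) (k : ℕ) :
    twist σ g ^ k = MulAut.conj (sp σ k g) * σ ^ k := by
  induction k with
  | zero => simp [sp]
  | succ k ih =>
    ext y
    rw [pow_succ', MulAut.mul_apply, ih, twist_apply, MulAut.mul_apply, MulAut.mul_apply,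
      MulAut.conj_apply, MulAut.conj_apply, sp, pow_succ', MulAut.mul_apply, map_mul, map_mul, map_inv]
    group

theorem Split.twist {p : ℕ} {σ : MulAut G} (h : Split p σ) (g : G) : Split p (twist σ g) := by
  refine ⟨by rw [twist_pow, h.2, map_one, one_mul, h.1], fun x => ?_⟩
  have := sp_twist σ g p x
  rwa [h.2, h.2, mul_one] at this

theorem sp_map {H : Type u} [Group H] (f : G →* H) (σ : MulAut G) (τ : MulAut H)
    (hf : ∀ x, f (σ x) = τ (f x)) (k : ℕ) (x : G) : f (sp σ k x) = sp τ k (f x) := by
  induction k with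
  | zero => simp [sp]
  | succ k ih => rw [sp, sp, map_mul, hf, ih]

theorem pow_map {H : Type u} [Group H] (f : G →* H) (σ : MulAut G) (τ : MulAut H)
    (hf : ∀ x, f (σ x) = τ (f x)) (k : ℕ) (x : G) : f ((σ ^ k) x) = (τ ^ k) (f x) := by
  induction k with
  | zero => simp
  | succ k ih => rw [pow_succ', pow_succ', MulAut.mul_apply, MulAut.mul_apply, hf, ih]

/-- The restriction to an invariant subgroup. -/
noncomputable def restrict (σ : MulAut G) {H : Subgroup G} (h : H.map σ.toMonoidHom = H) :
    MulAut H :=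
  (σ.subgroupMap H).trans (MulEquiv.subgroupCongr h)

theorem restrict_apply (σ : MulAut G) {H : Subgroup G} (h : H.map σ.toMonoidHom = H) (x : H) :
    (restrict σ h x : G) = σ x := rfl

theorem Split.restrict {p : ℕ} {σ : MulAut G} (hs : Split p σ) {H : Subgroup G}
    (h : H.map σ.toMonoidHom = H) : Split p (restrict σ h) := by
  constructor
  · ext x
    have h1 : ((Splitting.restrict σ h ^ p) x : G) = (σ ^ p) (x : G) :=
      pow_map H.subtype (Splitting.restrict σ h) σ (fun x => rfl) p x
    rw [h1, hs.1]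
    rfl
  · intro x
    have h1 : H.subtype (sp (Splitting.restrict σ h) p x) = sp σ p (x : G) :=
      sp_map H.subtype (Splitting.restrict σ h) σ (fun x => rfl) p x
    exact Subtype.ext (h1.trans (hs.2 _))

theorem Split.quotient {p : ℕ} {σ : MulAut G} (hs : Split p σ) {N : Subgroup G} [N.Normal]
    (h : N.map σ.toMonoidHom = N) :
    Split p (QuotientGroup.congr N N σ h : MulAut (G ⧸ N)) := by
  have hf : ∀ x : G, QuotientGroup.mk' N (σ x) =
      (QuotientGroup.congr N N σ h : MulAut (G ⧸ N)) (QuotientGroup.mk' N x) := fun x => rfl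
  constructor
  · ext y
    obtain ⟨x, rfl⟩ := QuotientGroup.mk'_surjective N y
    rw [← pow_map (QuotientGroup.mk' N) σ _ hf p x, hs.1]
    rfl
  · intro y
    obtain ⟨x, rfl⟩ := QuotientGroup.mk'_surjective N y
    rw [← sp_map (QuotientGroup.mk' N) σ _ hf p x, hs.2, map_one]

theorem map_twist_of_normal {σ : MulAut G} {N : Subgroup G} [N.Normal]
    (h : N.map σ.toMonoidHom = N) (g : G) : N.map (Splitting.twist σ g).toMonoidHom = N := by
  have e : (Splitting.twist σ g).toMonoidHom = (MulAut.conj g).toMonoidHom.comp σ.toMonoidHom := rfl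
  rw [e, ← Subgroup.map_map, h]
  exact Normal.map_conj_eq N g

theorem map_of_map_twist {σ : MulAut G} {N : Subgroup G} [N.Normal] (g : G)
    (h : N.map (Splitting.twist σ g).toMonoidHom = N) : N.map σ.toMonoidHom = N := by
  have e : σ.toMonoidHom = (MulAut.conj g⁻¹).toMonoidHom.comp (Splitting.twist σ g).toMonoidHom := by
    ext x
    change σ x = g⁻¹ * (g * σ x * g⁻¹) * g⁻¹⁻¹
    group
  rw [e, ← Subgroup.map_map, h]
  exact Normal.map_conj_eq N g⁻¹

variable [Finite G]

/-- For a prime `p` and a splitting `σ`, the `i`-th product determines the element. -/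
theorem sp_injective {p : ℕ} (hp : p.Prime) {σ : MulAut G} (hs : Split p σ) {i : ℕ} (hi : ¬ p ∣ i) :
    Function.Injective (sp σ i) := by
  intro x y hxy
  have hmul : ∀ m : ℕ, sp σ (m * i) x = sp σ (m * i) y := by
    intro m
    induction m with
    | zero => simp [sp]
    | succ m ih => rw [Nat.succ_mul, Nat.add_comm, sp_add, sp_add, hxy, ih]
  have hper : ∀ (z : G) (q : ℕ), sp σ (1 + q * p) z = z := by
    intro z q
    induction q with
    | zero => simp [sp]
    | succ q ih => rw [Nat.succ_mul, ← Nat.add_assoc, sp_add, ih, hs.2, map_one, mul_one]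
  obtain ⟨m, hm⟩ := (Nat.Prime.coprime_iff_not_dvd hp).2 hi |>.symm |> fun h =>
    Nat.exists_mul_mod_eq_one_of_coprime h hp.one_lt
  have e : m * i = 1 + (m * i / p) * p := by
    have := Nat.mod_add_div (m * i) p
    rw [mul_comm i m] at hm
    rw [hm.2] at this
    rw [mul_comm (m * i / p)]
    omega
  have := hmul m
  rwa [e, hper, hper] at this

/-- The key averaging argument. -/
theorem pow_card_eq_one {p : ℕ} (hp : p.Prime) {τ : MulAut G} (hs : Split p τ) {N R : Subgroup G}
    [N.Normal] (hNab : ∀ a ∈ N, ∀ b ∈ N, a * b = b * a) (hNτ : N.map τ.toMonoidHom = N)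
    (hRτ : R.map τ.toMonoidHom = R) (hfix : N ⊓ centralizer (R : Set G) = ⊥) {n : G} (hn : n ∈ N) :
    n ^ Nat.card R = 1 := by
  classical
  letI : CommGroup N := { (inferInstance : Group N) with
    mul_comm := fun a b => Subtype.ext (hNab a a.2 b b.2) }
  haveI := Fintype.ofFinite R
  let σ := restrict τ hNτ
  let ρ := restrict τ hRτ
  have hρ : ∀ (i : ℕ) (r : R), R.subtype (sp ρ i r) = sp τ i (r : G) := fun i r =>
    sp_map R.subtype ρ τ (fun x => rfl) i r
  have hσ : ∀ (i : ℕ) (m : N), ((σ ^ i) m : G) = (τ ^ i) (m : G) := fun i m =>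
    pow_map N.subtype σ τ (fun x => rfl) i m
  let c : G → N → N := fun g m => ⟨g * (m : G) * g⁻¹, Subgroup.Normal.conj_mem inferInstance _ m.2 g⟩
  -- the trace over R vanishes
  have htr : ∀ m : N, ∏ r : R, c r m = 1 := by
    intro m
    have hc : ∀ s : R, ∀ a : N, c s a = ⟨(s : G) * a * (s : G)⁻¹, Subgroup.Normal.conj_mem inferInstance _ a.2 _⟩ :=
      fun s a => rfl
    apply Subtype.ext
    have hmem : ((∏ r : R, c r m : N) : G) ∈ N ⊓ centralizer (R : Set G) := by
      refine ⟨(∏ r : R, c r m : N).2, mem_centralizer_iff.2 fun s hs' => ?_⟩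
      let cs : N →* N :=
        { toFun := c s
          map_one' := Subtype.ext (by simp [c])
          map_mul' := fun a b => Subtype.ext (by simp only [c, Subgroup.coe_mul]; group) }
      have h1 : cs (∏ r : R, c r m) = ∏ r : R, c r m := by
        rw [map_prod]
        refine Fintype.prod_equiv (Equiv.mulLeft ⟨s, hs'⟩) _ _ fun r => Subtype.ext ?_
        change s * ((r : G) * m * (r : G)⁻¹) * s⁻¹ = (s * r) * (m : G) * (s * r)⁻¹
        group
      exact mul_inv_eq_iff_eq_mul.1 (congrArg Subtype.val h1)
    rw [hfix, mem_bot] at hmem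
    exact hmem
  -- the splitting relation of the twists
  have hrel : ∀ r : R, ∏ i ∈ Finset.range p, c (sp τ i r) ((σ ^ i) ⟨n, hn⟩) = 1 := by
    intro r
    apply Subtype.ext
    rw [OneMemClass.coe_one, ← (hs.twist (r : G)).2 n]
    have : ∀ k, ((∏ i ∈ Finset.range k, c (sp τ i r) ((σ ^ i) ⟨n, hn⟩) : N) : G) =
        sp (twist τ (r : G)) k n := by
      intro k
      induction k with
      | zero => simp [sp]
      | succ k ih =>
        rw [Finset.prod_range_succ, Subgroup.coe_mul, ih, sp_succ', twist_pow]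
        congr 1
        simp [c, hσ]
    exact this p
  have hsum : ∏ r : R, ∏ i ∈ Finset.range p, c (sp τ i r) ((σ ^ i) ⟨n, hn⟩) = 1 :=
    Finset.prod_eq_one fun r _ => hrel r
  rw [Finset.prod_comm] at hsum
  have hzero : ∀ i ∈ Finset.range p, i ≠ 0 →
      ∏ r : R, c (sp τ i r) ((σ ^ i) ⟨n, hn⟩) = 1 := by
    intro i hi h0
    have hbij : Function.Bijective (fun r : R => sp ρ i r) :=
      Finite.injective_iff_bijective.1 (sp_injective hp (hs.restrict hRτ)
        (fun hd => h0 (Nat.eq_zero_of_dvd_of_lt hd (Finset.mem_range.1 hi))))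
    rw [← htr ((σ ^ i) ⟨n, hn⟩)]
    exact Fintype.prod_bijective _ hbij _ _ fun r => by rw [← hρ]; rfl
  rw [Finset.prod_eq_single 0 hzero (fun h => absurd (Finset.mem_range.2 hp.pos) h)] at hsum
  have hc0 : ∀ r : R, c (sp τ 0 r) ((σ ^ 0) ⟨n, hn⟩) = ⟨n, hn⟩ := fun r => by
    apply Subtype.ext
    simp [c, sp]
  rw [Finset.prod_congr rfl (fun r _ => hc0 r), Finset.prod_const, Finset.card_univ,
    Fintype.card_eq_nat_card] at hsum
  simpa using congrArg Subtype.val hsum

theorem map_eq_of_characteristic_in {σ : MulAut G} {N : Subgroup G} (h : N.map σ.toMonoidHom = N)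
    (C : Subgroup N) [C.Characteristic] :
    (C.map N.subtype).map σ.toMonoidHom = C.map N.subtype := by
  rw [Subgroup.map_map, show σ.toMonoidHom.comp N.subtype =
    N.subtype.comp (restrict σ h).toMonoidHom from rfl, ← Subgroup.map_map,
    Subgroup.characteristic_iff_map_eq.1 inferInstance (restrict σ h)]

theorem map_eq_of_normal_coprime (K : Subgroup G) [K.Normal] (φ : MulAut G)
    (hcop : (Nat.card K).Coprime K.index) : K.map φ.toMonoidHom = K := by
  refine Subgroup.eq_of_le_of_card_ge ?_ (by rw [Subgroup.card_map_of_injective φ.injective])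
  rintro _ ⟨x, hx, rfl⟩
  have h1 : orderOf (QuotientGroup.mk' K (φ x)) ∣ Nat.card K :=
    (orderOf_map_dvd _ _).trans ((MulEquiv.orderOf_eq φ x).trans (Subgroup.orderOf_mk x hx).symm ▸
      _root_.orderOf_dvd_natCard _)
  have h2 : orderOf (QuotientGroup.mk' K (φ x)) ∣ K.index :=
    (_root_.orderOf_dvd_natCard _).trans (dvd_of_eq K.index_eq_card.symm)
  have h3 := Nat.eq_one_of_dvd_coprimes hcop h1 h2
  rw [orderOf_eq_one_iff] at h3
  exact (QuotientGroup.eq_one_iff _).1 h3

theorem exists_twist_map_sylow (σ : MulAut G) {q : ℕ} [Fact q.Prime] (Q : Sylow q G) :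
    ∃ g : G, (Q : Subgroup G).map (twist σ g).toMonoidHom = Q := by
  let Q' : Sylow q G := Sylow.ofCard ((Q : Subgroup G).map σ.toMonoidHom) (by
    rw [Subgroup.card_map_of_injective σ.injective]; exact Q.card_eq_multiplicity)
  obtain ⟨g, hg⟩ := MulAction.exists_smul_eq G Q' Q
  refine ⟨g, ?_⟩
  rw [show (twist σ g).toMonoidHom = (MulAut.conj g).toMonoidHom.comp σ.toMonoidHom from rfl,
    ← Subgroup.map_map]
  exact congrArg Sylow.toSubgroup hg

theorem isNilpotent_aux (p : ℕ) (hp : p.Prime) (n : ℕ) : ∀ (G : Type u) [Group G] [Finite G]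
    (α : MulAut G), Nat.card G = n → Split p α → Group.IsNilpotent G := by
  induction n using Nat.strong_induction_on with
  | _ n ih =>
  intro G _ _ α hn hs
  classical
  haveI := Fact.mk hp
  have hsub : ∀ (g : G) (H : Subgroup G), H ≠ ⊤ → H.map (twist α g).toMonoidHom = H →
      Group.IsNilpotent H := fun g H hne hinv =>
    ih _ (hn ▸ lt_of_le_of_ne (Subgroup.card_le_card_group H)
      (fun e => hne (Subgroup.eq_top_of_card_eq H e))) H _ rfl ((hs.twist g).restrict hinv)
  have hquot : ∀ (N : Subgroup G) [N.Normal], N ≠ ⊥ → N.map α.toMonoidHom = N →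
      Group.IsNilpotent (G ⧸ N) := by
    intro N _ hne hinv
    refine ih _ ?_ (G ⧸ N) _ rfl (hs.quotient hinv)
    rw [← hn, ← Subgroup.index_eq_card, ← N.index_mul_card]
    exact lt_mul_of_one_lt_right (Nat.pos_of_ne_zero N.index_ne_zero_of_finite)
      (N.one_lt_card_iff_ne_bot.2 hne)
  -- Step 1: solvability
  have hsol : Group.IsSolvable G := by
    by_contra hns
    have hnorm : ∀ N : Subgroup G, N.Normal → N ≠ ⊥ → N.map α.toMonoidHom = N →
        ¬ Group.IsSolvable N := by
      intro N _ hne hinv hN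
      haveI := hquot N hne hinv
      haveI := hN
      exact hns (solvable_of_ker_le_range N.subtype (QuotientGroup.mk' N) (by simp))
    apply hns
    refine FourOrbits.isSolvable_of_card_primeFactors_le_two ((Finset.card_le_card ?_).trans
      (Finset.card_le_two (a := 2) (b := p)))
    intro q hq
    rw [Nat.mem_primeFactors] at hq
    obtain ⟨hqp, hqd, -⟩ := hq
    simp only [Finset.mem_insert, Finset.mem_singleton]
    by_contra hcon
    push Not at hcon
    haveI := Fact.mk hqp
    let Q : Sylow q G := default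
    obtain ⟨g, hg⟩ := exists_twist_map_sylow α Q
    set Z := Cfsg.centerThompsonOf q (Q : Subgroup G) with hZdef
    have hZinv : Z.map (twist α g).toMonoidHom = Z := by
      rw [hZdef, Transfer.map_centerThompsonOf _ _
        ((twist α g).injective.comp (Q : Subgroup G).subtype_injective), hg]
    have hQne : (Q : Subgroup G) ≠ ⊥ := Q.ne_bot_of_dvd_card hqd
    have hZne : Z ≠ ⊥ := Transfer.subgroupFunctor_centerThompsonOf.ne_bot G _ Q.isPGroup' hQne
    have hcompl : Cfsg.HasNormalPComplement q G := by
      refine Transfer.hasNormalPComplement_of_centerThompsonOf hcon.1 Q ?_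
      have hne : normalizer (Z : Set G) ≠ ⊤ := by
        intro htop
        haveI : Z.Normal := normalizer_eq_top_iff.1 htop
        refine hnorm Z inferInstance hZne (map_of_map_twist g hZinv) ?_
        haveI : Group.IsNilpotent Z :=
          (Q.isPGroup'.to_le (Transfer.subgroupFunctor_centerThompsonOf.le G _)).isNilpotent
        infer_instance
      haveI := hsub g (normalizer (Z : Set G)) hne (by
        rw [Subgroup.map_equiv_normalizer_eq, hZinv])
      exact Transfer.hasNormalPComplement_of_isNilpotent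
    obtain ⟨P, K, hKn, hK⟩ := hcompl
    have hidx : K.index = Nat.card (P : Subgroup G) := hK.symm.index_eq_card
    have hcop : (Nat.card K).Coprime K.index := by
      rw [hidx, ← hK.index_eq_card]
      exact (P.card_coprime_index).symm
    haveI hKc : K.Characteristic := by
      refine Subgroup.characteristic_iff_map_eq.2 fun φ => ?_
      exact map_eq_of_normal_coprime K φ hcop
    have hKinv : K.map α.toMonoidHom = K := Subgroup.characteristic_iff_map_eq.1 hKc α
    by_cases hKbot : K = ⊥
    · have : IsPGroup q G := by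
        have e : Nat.card G = Nat.card (P : Subgroup G) := by
          rw [← hidx, hKbot, Subgroup.index_bot]
        exact IsPGroup.of_card (n := (Nat.card G).factorization q) (e.trans P.card_eq_multiplicity)
      haveI := this.isNilpotent
      exact hns inferInstance
    · have hKtop : K ≠ ⊤ := by
        intro h
        rw [h, Subgroup.index_top] at hidx
        exact hQne (by
          have := Subgroup.eq_bot_of_card_eq (P : Subgroup G) hidx.symm
          have e := Sylow.card_eq_multiplicity P
          rw [← Q.card_eq_multiplicity] at e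
          exact Subgroup.eq_bot_of_card_eq _ (e.symm.trans hidx.symm))
      haveI := hsub 1 K hKtop (map_twist_of_normal hKinv 1)
      exact hnorm K hKn hKbot hKinv inferInstance
  -- Step 2: nilpotency of the solvable group
  by_cases htriv : Subsingleton G
  · infer_instance
  rw [not_subsingleton_iff_nontrivial] at htriv
  obtain ⟨N, ⟨hNn, hNne, hNinv⟩, hNmin⟩ := (Set.toFinite
    {N : Subgroup G | N.Normal ∧ N ≠ ⊥ ∧ N.map α.toMonoidHom = N}).exists_minimal
    ⟨⊤, inferInstance, top_ne_bot, Subgroup.map_top_of_surjective _ α.surjective⟩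
  haveI := hNn
  haveI : Nontrivial N := (nontrivial_iff_ne_bot N).2 hNne
  have hchar : ∀ C : Subgroup N, C.Characteristic → C = ⊥ ∨ C = ⊤ := by
    intro C _
    by_cases hC : C = ⊥
    · exact Or.inl hC
    right
    have h1 : C.map N.subtype ≠ ⊥ := fun h => hC ((Subgroup.map_eq_bot_iff_of_injective _ N.subtype_injective).1 h)
    have h2 : C.map N.subtype = N := le_antisymm (map_subtype_le C)
      (hNmin ⟨inferInstance, h1, map_eq_of_characteristic_in hNinv C⟩ (map_subtype_le C))
    apply Subgroup.map_injective N.subtype_injective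
    rw [h2, ← MonoidHom.range_eq_map, Subgroup.range_subtype]
  have hNab : ∀ a ∈ N, ∀ b ∈ N, a * b = b * a := by
    have hlt := Group.IsSolvable.commutator_lt_top_of_nontrivial N
    have hbot : commutator N = ⊥ := (hchar _ inferInstance).resolve_right hlt.ne
    intro a ha b hb
    have h1 : ⁅(⟨a, ha⟩ : N), ⟨b, hb⟩⁆ ∈ commutator N :=
      Subgroup.commutator_mem_commutator (mem_top _) (mem_top _)
    rw [hbot, mem_bot, commutatorElement_eq_one_iff_mul_comm] at h1
    exact congrArg Subtype.val h1
  obtain ⟨q, hqp, hqd⟩ := Nat.exists_prime_and_dvd (n := Nat.card N)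
    (Finite.one_lt_card (α := N)).ne'
  haveI := Fact.mk hqp
  have hNq : IsPGroup q N := by
    let S : Sylow q N := default
    haveI : (S : Subgroup N).Normal := ⟨fun a ha b => by
      have : b * a = a * b := Subtype.ext (hNab b b.2 a a.2)
      rwa [this, mul_inv_cancel_right]⟩
    have := (hchar _ (S.characteristic_of_normal inferInstance)).resolve_left (S.ne_bot_of_dvd_card hqd)
    have h2 := S.isPGroup'
    rw [this] at h2
    exact h2.of_equiv Subgroup.topEquiv
  haveI hQN := hquot N hNne hNinv
  by_cases hcen : N ≤ center G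
  · exact Subgroup.isNilpotent_of_ker_le_center (QuotientGroup.mk' N) (by rwa [QuotientGroup.ker_mk'])
  -- all Sylow subgroups normal, unless one of them supplements N
  have hsup : ∀ (r : ℕ) [Fact r.Prime] (S : Sylow r G),
      ((N ⊔ S : Subgroup G).Normal) ∧ (N ⊔ S : Subgroup G).map α.toMonoidHom = N ⊔ S := by
    intro r _ S
    have hsurj : Function.Surjective (QuotientGroup.mk' N) := QuotientGroup.mk'_surjective N
    have hn' : ((S.mapSurjective hsurj : Sylow r (G ⧸ N)) : Subgroup (G ⧸ N)).Normal :=
      ((Group.isNilpotent_of_finite_tfae (G := G ⧸ N)).out 0 3 rfl rfl).1 hQN r inferInstance _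
    have e : N ⊔ (S : Subgroup G) =
        ((S.mapSurjective hsurj : Sylow r (G ⧸ N)) : Subgroup (G ⧸ N)).comap (QuotientGroup.mk' N) := by
      rw [Sylow.coe_mapSurjective, Subgroup.comap_map_eq, QuotientGroup.ker_mk', sup_comm]
    refine ⟨e ▸ hn'.comap _, ?_⟩
    haveI : (N ⊔ (S : Subgroup G)).Normal := e ▸ hn'.comap _
    obtain ⟨g, hg⟩ := exists_twist_map_sylow α S
    refine map_of_map_twist g ?_
    rw [Subgroup.map_sup, hg, map_twist_of_normal hNinv g]
  by_cases hall : ∀ (r : ℕ) (_ : Fact r.Prime) (S : Sylow r G), (S : Subgroup G).Normal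
  · exact ((Group.isNilpotent_of_finite_tfae (G := G)).out 3 0 rfl rfl).1 fun r hr S => hall r hr S
  push Not at hall
  obtain ⟨r, hr, S, hSn⟩ := hall
  obtain ⟨hNSn, hNSinv⟩ := hsup r S
  have hrq : r ≠ q := by
    rintro rfl
    apply hSn
    have : (N ⊔ S : Subgroup G) = S := sup_eq_right.2 (hNq.le_sylow_of_normal S)
    exact this ▸ hNSn
  have htop : N ⊔ (S : Subgroup G) = ⊤ := by
    by_contra hne
    haveI := hsub 1 _ hne (map_twist_of_normal hNSinv 1)
    haveI := hNSn
    let S' : Sylow r ↥(N ⊔ (S : Subgroup G)) := S.subtype le_sup_right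
    haveI : (S' : Subgroup ↥(N ⊔ (S : Subgroup G))).Characteristic := S'.characteristic_of_normal
      (((Group.isNilpotent_of_finite_tfae (G := ↥(N ⊔ (S : Subgroup G)))).out 0 3 rfl rfl).1 inferInstance r hr _)
    apply hSn
    have : (S : Subgroup G) = (S' : Subgroup ↥(N ⊔ (S : Subgroup G))).map (N ⊔ (S : Subgroup G)).subtype := by
      rw [Sylow.coe_subtype, Subgroup.map_subgroupOf_eq_of_le le_sup_right]
    rw [this]
    infer_instance
  -- centralizer of S in N and centralizer of N in S are trivial
  have hcenN : ∀ R : Subgroup G, (∀ s ∈ (S : Subgroup G), s ∈ normalizer (R : Set G)) →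
      ∀ g : G, R.map (twist α g).toMonoidHom = R → R ≤ (S : Subgroup G) →
      ¬ N ≤ centralizer (R : Set G) → N ⊓ centralizer (R : Set G) = ⊥ := by
    intro R hRS g hg hRle hnot
    have hNC : (N ⊓ centralizer (R : Set G)).Normal := by
      refine ⟨fun a ha b => ?_⟩
      obtain ⟨m, hm, s, hs', rfl⟩ : ∃ m ∈ N, ∃ s ∈ (S : Subgroup G), b = m * s := by
        have : b ∈ N ⊔ (S : Subgroup G) := by rw [htop]; exact mem_top b
        obtain ⟨m, hm, s, hs', e⟩ := Subgroup.mem_sup_of_normal_left.1 this
        exact ⟨m, hm, s, hs', e.symm⟩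
      have h1 : s * a * s⁻¹ ∈ N ⊓ centralizer (R : Set G) := by
        refine ⟨hNn.conj_mem _ ha.1 _, mem_centralizer_iff.2 fun x hx => ?_⟩
        have hx' : s⁻¹ * x * s ∈ R := by
          simpa using (mem_normalizer_iff.1 ((normalizer (R : Set G)).inv_mem (hRS s hs')) x).1 hx
        have h2 := mem_centralizer_iff.1 ha.2 _ hx'
        calc x * (s * a * s⁻¹) = s * ((s⁻¹ * x * s) * a) * s⁻¹ := by group
          _ = s * (a * (s⁻¹ * x * s)) * s⁻¹ := by rw [h2]
          _ = s * a * s⁻¹ * x := by group
      have h3 : m * s * a * (m * s)⁻¹ = s * a * s⁻¹ := by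
        calc m * s * a * (m * s)⁻¹ = m * (s * a * s⁻¹) * m⁻¹ := by group
          _ = s * a * s⁻¹ := by rw [hNab m hm _ h1.1, mul_inv_cancel_right]
      rw [h3]
      exact h1
    by_contra hne
    apply hnot
    refine (hNmin ⟨hNC, hne, ?_⟩ inf_le_left).trans inf_le_right
    haveI := hNC
    refine map_of_map_twist g ?_
    rw [Subgroup.map_inf _ _ _ (twist α g).injective, map_twist_of_normal hNinv g]
    congr 1
    ext x
    rw [Subgroup.mem_map_equiv, mem_centralizer_iff, mem_centralizer_iff]
    constructor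
    · intro h y hy
      rw [← hg, SetLike.mem_coe, Subgroup.mem_map] at hy
      obtain ⟨z, hz, rfl⟩ := hy
      have := congrArg (twist α g) (h z hz)
      simpa using this
    · intro h y hy
      have := congrArg (twist α g).symm (h (twist α g y) (hg ▸ mem_map_of_mem _ hy))
      simpa using this
  have hSnot : ¬ N ≤ centralizer ((S : Subgroup G) : Set G) := by
    intro h
    apply hcen
    intro a ha
    rw [mem_center_iff]
    intro b
    obtain ⟨m, hm, s, hs', rfl⟩ := Subgroup.mem_sup_of_normal_left.1 (show b ∈ N ⊔ (S : Subgroup G) by rw [htop]; exact mem_top b)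
    rw [mul_assoc, mem_centralizer_iff.1 (h ha) s hs', ← mul_assoc, hNab m hm a ha, mul_assoc]
  have hone : ∀ m ∈ N, ∀ k : ℕ, ¬ q ∣ k → m ^ k = 1 → m = 1 := by
    intro m hm k hk he
    obtain ⟨l, hl⟩ := hNq ⟨m, hm⟩
    have hl' : m ^ q ^ l = 1 := congrArg Subtype.val hl
    have := pow_gcd_eq_one.2 ⟨hl', he⟩
    rwa [((Nat.Prime.coprime_iff_not_dvd hqp).2 hk).pow_left l, pow_one] at this
  obtain ⟨a, haN, ha1⟩ := (Subgroup.bot_or_exists_ne_one N).resolve_left hNne
  obtain ⟨g, hg⟩ := exists_twist_map_sylow α S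
  by_cases hrp : r = p
  · subst hrp
    -- C_S(N) is trivial
    set C := (S : Subgroup G) ⊓ centralizer (N : Set G) with hC
    haveI hCn : C.Normal := by
      refine ⟨fun x hx b => ?_⟩
      obtain ⟨m, hm, s, hs', rfl⟩ := Subgroup.mem_sup_of_normal_left.1 (show b ∈ N ⊔ (S : Subgroup G) by rw [htop]; exact mem_top b)
      have h1 : s * x * s⁻¹ ∈ C := ⟨(S : Subgroup G).mul_mem ((S : Subgroup G).mul_mem hs' hx.1) ((S : Subgroup G).inv_mem hs'),
        (inferInstance : (centralizer (N : Set G)).Normal).conj_mem _ hx.2 _⟩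
      have h3 : m * s * x * (m * s)⁻¹ = s * x * s⁻¹ := by
        calc m * s * x * (m * s)⁻¹ = m * (s * x * s⁻¹) * m⁻¹ := by group
          _ = s * x * s⁻¹ := by rw [mem_centralizer_iff.1 h1.2 m hm, mul_inv_cancel_right]
      rw [h3]
      exact h1
    by_cases hCbot : C = ⊥
    swap
    · have hCinv : C.map α.toMonoidHom = C := by
        refine map_of_map_twist g ?_
        rw [hC, Subgroup.map_inf _ _ _ (twist α g).injective, hg]
        congr 1
        have hN' := map_twist_of_normal hNinv g
        ext x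
        rw [Subgroup.mem_map_equiv, mem_centralizer_iff, mem_centralizer_iff]
        constructor
        · intro h y hy
          rw [← hN', SetLike.mem_coe, Subgroup.mem_map] at hy
          obtain ⟨z, hz, rfl⟩ := hy
          simpa using congrArg (twist α g) (h z hz)
        · intro h y hy
          simpa using congrArg (twist α g).symm (h (twist α g y) (hN' ▸ mem_map_of_mem _ hy))
      haveI := hquot C hCbot hCinv
      refine Subgroup.isNilpotent_of_ker_le_center
        ((QuotientGroup.mk' N).prod (QuotientGroup.mk' C)) ?_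
      rw [MonoidHom.ker_prod, QuotientGroup.ker_mk', QuotientGroup.ker_mk']
      intro x hx
      have h1 : x ∈ N ⊓ (S : Subgroup G) := ⟨hx.1, hx.2.1⟩
      rw [(IsPGroup.disjoint_of_ne q r hrq.symm _ _ hNq S.isPGroup').eq_bot, mem_bot] at h1
      rw [h1]
      exact one_mem _
    -- a fixed central element of order r
    let τ := restrict (twist α g) hg
    let V : Set (S : Subgroup G) := {z | z ∈ Subgroup.center (S : Subgroup G) ∧ z ^ r = 1}
    obtain ⟨z, hzV, hzfix, hz1⟩ : ∃ z : (S : Subgroup G), z ∈ V ∧ τ z = z ∧ z ≠ 1 := by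
      have hSne : (S : Subgroup G) ≠ ⊥ := fun h => hSn (h ▸ inferInstance)
      haveI : Nontrivial (S : Subgroup G) := (nontrivial_iff_ne_bot _).2 hSne
      haveI := S.isPGroup'.center_nontrivial
      have hd : r ∣ Nat.card (Subgroup.center (S : Subgroup G)) := by
        obtain ⟨k, hk⟩ := (S.isPGroup'.to_subgroup (Subgroup.center (S : Subgroup G))).exists_card_eq
        have hk0 : k ≠ 0 := fun h => by
          rw [h, pow_zero] at hk
          exact (Finite.one_lt_card (α := Subgroup.center (S : Subgroup G))).ne' hk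
        exact hk ▸ dvd_pow_self r hk0
      let V' : Subgroup (S : Subgroup G) :=
        { carrier := V
          one_mem' := ⟨one_mem _, one_pow _⟩
          mul_mem' := fun {a b} ha hb => ⟨mul_mem ha.1 hb.1, by
            have hc : Commute a b := (Subgroup.mem_center_iff.1 hb.1 a)
            rw [hc.mul_pow, ha.2, hb.2, one_mul]⟩
          inv_mem' := fun {a} ha => ⟨inv_mem ha.1, by rw [inv_pow, ha.2, inv_one]⟩ }
      have hV'inv : V'.map τ.toMonoidHom = V' := by
        refine Subgroup.eq_of_le_of_card_ge ?_ (by rw [Subgroup.card_map_of_injective τ.injective])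
        rintro _ ⟨x, hx, rfl⟩
        refine ⟨?_, ?_⟩
        · refine Subgroup.mem_center_iff.2 fun y => ?_
          obtain ⟨y, rfl⟩ := τ.surjective y
          change τ y * τ x = τ x * τ y
          rw [← map_mul, ← map_mul, Subgroup.mem_center_iff.1 hx.1]
        · change τ x ^ r = 1
          rw [← map_pow, hx.2, map_one]
      obtain ⟨⟨z, hz⟩, hzo⟩ := exists_prime_orderOf_dvd_card' r hd
      have hz1 : z ≠ 1 := fun e => hp.one_lt.ne (by rw [← hzo, Subgroup.orderOf_mk, e, orderOf_one])
      have hzV : z ∈ V' := ⟨hz, by rw [← orderOf_dvd_iff_pow_eq_one, ← Subgroup.orderOf_mk z hz, hzo]⟩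
      let ρ := restrict τ hV'inv
      have hρ : ρ ^ r = 1 := ((((hs.twist g).restrict hg)).restrict hV'inv).1
      have hgrp : IsPGroup r (Subgroup.zpowers ρ) :=
        (Nat.dvd_prime_pow hp).1 (show Nat.card (Subgroup.zpowers ρ) ∣ r ^ 1 by
          rw [Nat.card_zpowers, pow_one]; exact orderOf_dvd_of_pow_eq_one hρ) |>.elim
            fun k hk => IsPGroup.of_card hk.2
      have hdV : r ∣ Nat.card V' := by
        have h := _root_.orderOf_dvd_natCard (⟨z, hzV⟩ : V')
        rw [Subgroup.orderOf_mk] at h hzo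
        exact (dvd_of_eq hzo.symm).trans h
      obtain ⟨v, hv, hv1⟩ := hgrp.exists_fixed_point_of_prime_dvd_card_of_fixed_point (α := V') hdV
        (a := (1 : V')) (fun σ => map_one (σ : MulAut V'))
      refine ⟨v, v.2, ?_, fun e => hv1 (Subtype.ext e.symm)⟩
      have := hv ⟨ρ, Subgroup.mem_zpowers ρ⟩
      exact congrArg Subtype.val this
    let R : Subgroup G := Subgroup.zpowers (z : G)
    have hRle : R ≤ (S : Subgroup G) := Subgroup.zpowers_le.2 z.2
    have hzfix' : twist α g (z : G) = z := congrArg Subtype.val hzfix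
    have hRinv : R.map (twist α g).toMonoidHom = R := by
      rw [MonoidHom.map_zpowers]
      exact congrArg Subgroup.zpowers hzfix'
    have hfix := hcenN R (fun s hs' => by
      rw [mem_normalizer_iff]
      intro x
      have hcomm : ∀ y ∈ R, s * y * s⁻¹ = y := by
        intro y hy
        obtain ⟨k, rfl⟩ := Subgroup.mem_zpowers_iff.1 hy
        have hc : Commute s (z : G) := congrArg Subtype.val (Subgroup.mem_center_iff.1 hzV.1 ⟨s, hs'⟩)
        rw [(hc.zpow_right k).eq, mul_inv_cancel_right]
      constructor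
      · intro hx; rw [hcomm x hx]; exact hx
      · intro hx
        have h2 := hcomm _ hx
        have : s * x * s⁻¹ = x := mul_left_cancel (mul_right_cancel h2)
        rwa [this] at hx) g hRinv hRle (by
      intro h
      apply hz1
      have : (z : G) ∈ C := ⟨z.2, mem_centralizer_iff.2 fun m hm =>
        (mem_centralizer_iff.1 (h hm) z (Subgroup.mem_zpowers _)).symm⟩
      rw [hCbot, mem_bot] at this
      exact Subtype.ext this)
    refine absurd (hone a haN r (fun hd => hrq ((Nat.prime_dvd_prime_iff_eq hqp hp).1 hd).symm) ?_) ha1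
    have := pow_card_eq_one hp (hs.twist g) hNab (map_twist_of_normal hNinv g) hRinv hfix haN
    rwa [Nat.card_zpowers, orderOf_eq_prime (congrArg Subtype.val hzV.2)
      (fun e => hz1 (Subtype.ext e))] at this
  · have hfix := hcenN S (fun s hs' => le_normalizer hs') g hg le_rfl hSnot
    refine absurd (hone a haN _ ?_
      (pow_card_eq_one hp (hs.twist g) hNab (map_twist_of_normal hNinv g) hg hfix haN)) ha1
    intro hd
    obtain ⟨k, hk⟩ := S.isPGroup'.exists_card_eq
    rw [hk] at hd
    exact hrq ((Nat.prime_dvd_prime_iff_eq hqp hr.out).1 (hqp.dvd_of_dvd_pow hd)).symm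

/-- **Kegel's theorem**. -/
theorem isNilpotent {p : ℕ} (hp : p.Prime) {α : MulAut G} (hs : Split p α) : Group.IsNilpotent G :=
  isNilpotent_aux p hp _ G α rfl hs

theorem prod_range_map (σ : MulAut G) (x : G) : ∀ k : ℕ,
    ((List.range k).map (fun i : ℕ => (σ ^ i) x)).prod = sp σ k x
  | 0 => by simp [sp]
  | k + 1 => by
    rw [List.range_succ, List.map_append, List.prod_append, prod_range_map σ x k, sp_succ']
    simp

end CfsgLib.FgsB.Splitting
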