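import Cfsg.Agent.Lib.Chars.Irr
import Cfsg.Agent.Lib.Chars.Char
import Cfsg.Agent.Lib.Chars.Integral
import Cfsg.Agent.Lib.Base.Frattini
import Cfsg.Agent.Lib.PGroups.Basic

/-!
The Frobenius–Schur count of the solutions of `x² = 1`, and its divisibility by a power of two.
-/

set_option autoImplicit false
set_option linter.unusedSectionVars false

open Cfsg Matrix
open scoped ComplexConjugate commutatorElement

namespace CfsgLib.FgsB

universe u

variable {G : Type u} [Group G] [Fintype G]

/-- The number of solutions of `s * s = 1` as a sum over the irreducible characters. -/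
theorem card_sq_eq_one_eq_sum [Fintype (IrrCharacter G)] :
    (Nat.card {s : G // s * s = 1} : ℂ) =
      ∑ χ : IrrCharacter G, ((Nat.card G : ℂ)⁻¹ * ∑ s : G, (χ : G → ℂ) (s * s)) * (χ : G → ℂ) 1 := by
  classical
  have h1 : ∀ χ : IrrCharacter G, ((Nat.card G : ℂ)⁻¹ * ∑ s : G, (χ : G → ℂ) (s * s)) * (χ : G → ℂ) 1 =
      (Nat.card G : ℂ)⁻¹ * ∑ s : G, (χ : G → ℂ) 1 * (χ : G → ℂ) (s * s) := by
    intro χ
    rw [Finset.mul_sum, Finset.mul_sum, Finset.sum_mul]
    exact Finset.sum_congr rfl fun s _ => by ring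
  rw [Finset.sum_congr rfl fun χ _ => h1 χ, ← Finset.mul_sum, Finset.sum_comm]
  simp only [CfsgLib.Chars.sum_degree_mul]
  rw [← Finset.sum_filter, Finset.sum_const, nsmul_eq_mul, Nat.card_eq_fintype_card,
    Fintype.card_subtype, mul_comm ((Nat.card G : ℂ))⁻¹, mul_assoc,
    mul_inv_cancel₀ (CfsgLib.Chars.card_ne_zero G), mul_one]

/-- The Frobenius–Schur indicator is an integer. -/
theorem exists_int_indicator {χ : G → ℂ} (h : IsCharacter G χ) :
    ∃ z : ℤ, (Nat.card G : ℂ)⁻¹ * ∑ s : G, χ (s * s) = z := by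
  classical
  obtain ⟨n, ρ, rfl⟩ := h
  set A : G → Matrix (Fin n) (Fin n) ℂ := fun g => LinearMap.toMatrix' (ρ g) with hA
  have hmul : ∀ g h : G, A (g * h) = A g * A h := fun g h => by
    simp only [hA, map_mul, Module.End.mul_eq_comp, LinearMap.toMatrix'_comp]
  let T : G → Matrix (Fin n × Fin n) (Fin n × Fin n) ℂ :=
    fun g => Matrix.of fun a b => A g a.1 b.1 * A g a.2 b.2
  let W : Matrix (Fin n × Fin n) (Fin n × Fin n) ℂ :=
    Matrix.of fun a b => if b = a.swap then 1 else 0
  have hTmul : ∀ g h : G, T (g * h) = T g * T h := by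
    intro g h
    ext a b
    simp only [T, Matrix.of_apply, Matrix.mul_apply, hmul]
    rw [Fintype.sum_prod_type, Finset.sum_mul_sum]
    exact Finset.sum_congr rfl fun i _ => Finset.sum_congr rfl fun j _ => by ring
  have hMW : ∀ M : Matrix (Fin n × Fin n) (Fin n × Fin n) ℂ, ∀ a b, (M * W) a b = M a b.swap := by
    intro M a b
    rw [Matrix.mul_apply, Finset.sum_eq_single b.swap]
    · simp [W]
    · intro c _ hc
      simp only [W, Matrix.of_apply]
      rw [if_neg (fun hb => hc (by rw [hb, Prod.swap_swap])), mul_zero]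
    · simp
  have hWM : ∀ M : Matrix (Fin n × Fin n) (Fin n × Fin n) ℂ, ∀ a b, (W * M) a b = M a.swap b := by
    intro M a b
    rw [Matrix.mul_apply, Finset.sum_eq_single a.swap]
    · simp [W]
    · intro c _ hc
      simp only [W, Matrix.of_apply]
      rw [if_neg hc, zero_mul]
    · simp
  have hcomm : ∀ g, T g * W = W * T g := by
    intro g; ext a b
    rw [hMW, hWM]
    simp only [T, Matrix.of_apply, Prod.fst_swap, Prod.snd_swap]
    ring
  have hWW : W * W = 1 := by
    ext a b
    rw [hWM]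
    simp only [W, Matrix.of_apply, Prod.swap_swap, Matrix.one_apply, eq_comm]
  have htrace : ∀ g, (T g * W).trace = ρ.character (g * g) := by
    intro g
    have : ρ.character (g * g) = (A (g * g)).trace := by
      simp only [hA, Representation.character, LinearMap.trace_eq_matrix_trace ℂ (Pi.basisFun ℂ (Fin n)),
        LinearMap.toMatrix_eq_toMatrix']
    rw [this, hmul]
    simp only [Matrix.trace, Matrix.diag_apply, hMW]
    simp only [T, Matrix.of_apply, Prod.fst_swap, Prod.snd_swap, Matrix.mul_apply]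
    rw [Fintype.sum_prod_type]
  set c : ℂ := (Nat.card G : ℂ)⁻¹ with hc
  set P : Matrix (Fin n × Fin n) (Fin n × Fin n) ℂ := c • ∑ g, T g with hP
  have hPP : P * P = P := by
    rw [hP]
    simp only [smul_mul_assoc, mul_smul_comm, Finset.sum_mul, Finset.mul_sum, ← hTmul]
    have : ∀ g : G, ∑ h : G, T (h * g) = ∑ h : G, T h := fun g =>
      Fintype.sum_equiv (Equiv.mulRight g) _ _ (fun _ => rfl)
    simp only [this, Finset.sum_const, Finset.card_univ]
    rw [← Nat.card_eq_fintype_card, ← Nat.cast_smul_eq_nsmul ℂ, smul_smul, smul_smul, hc]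
    congr 1
    field_simp [CfsgLib.Chars.card_ne_zero G]
  have hPW : P * W = W * P := by
    rw [hP]; simp only [smul_mul_assoc, mul_smul_comm, Finset.sum_mul, Finset.mul_sum, hcomm]
  have hWWP : W * (W * P) = P := by rw [← Matrix.mul_assoc, hWW, Matrix.one_mul]
  set E : Matrix (Fin n × Fin n) (Fin n × Fin n) ℂ := (2 : ℂ)⁻¹ • (P + P * W) with hE
  have hEE : E * E = E := by
    have h1 : (P + P * W) * (P + P * W) = (2 : ℂ) • (P + P * W) := by
      have e1 : P * (P * W) = P * W := by rw [← Matrix.mul_assoc, hPP]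
      have e2 : P * W * P = P * W := by rw [Matrix.mul_assoc, ← hPW, ← Matrix.mul_assoc, hPP]
      have e3 : P * W * (P * W) = P := by
        rw [← Matrix.mul_assoc, e2, Matrix.mul_assoc, hWW, Matrix.mul_one]
      rw [add_mul, mul_add, mul_add, hPP, e1, e2, e3, two_smul]
      abel
    rw [hE, smul_mul_assoc, mul_smul_comm, h1, smul_smul, smul_smul]
    norm_num
  have hnat : ∀ M : Matrix (Fin n × Fin n) (Fin n × Fin n) ℂ, M * M = M → ∃ k : ℕ, M.trace = k := by
    intro M hM
    obtain ⟨p, hp⟩ := (LinearMap.isProj_iff_isIdempotentElem (Matrix.toLin' M)).mpr (by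
      rw [IsIdempotentElem, Module.End.mul_eq_comp, ← Matrix.toLin'_mul, hM])
    refine ⟨Module.finrank ℂ p, ?_⟩
    rw [← hp.trace, LinearMap.trace_eq_matrix_trace ℂ (Pi.basisFun ℂ _),
      LinearMap.toMatrix_eq_toMatrix', LinearMap.toMatrix'_toLin']
  obtain ⟨a, ha⟩ := hnat E hEE
  obtain ⟨b, hb⟩ := hnat P hPP
  refine ⟨2 * (a : ℤ) - b, ?_⟩
  have hsum : (P * W).trace = (Nat.card G : ℂ)⁻¹ * ∑ s : G, ρ.character (s * s) := by
    rw [hP, smul_mul_assoc, Matrix.trace_smul, Finset.sum_mul, Matrix.trace_sum,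
      Finset.sum_congr rfl (fun g _ => htrace g), hc, smul_eq_mul]
  rw [← hsum]
  rw [hE, Matrix.trace_smul, Matrix.trace_add, hb, smul_eq_mul] at ha
  push_cast
  linear_combination 2 * ha

/-- The linear characters `λ` with `λ² = 1`. -/
def signCharacters (G : Type u) [Group G] : Subgroup (G →* ℂˣ) where
  carrier := {l | ∀ g, l g * l g = 1}
  mul_mem' := by
    intro a b ha hb g
    rw [MonoidHom.mul_apply, mul_mul_mul_comm, ha g, hb g, one_mul]
  one_mem' := by intro g; simp
  inv_mem' := by
    intro a ha g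
    rw [MonoidHom.inv_apply, ← mul_inv, ha g, inv_one]

theorem signCharacters_apply (l : signCharacters G) (g : G) :
    ((l.1 g : ℂˣ) : ℂ) = 1 ∨ ((l.1 g : ℂˣ) : ℂ) = -1 := by
  have := congrArg Units.val (l.2 g)
  rw [Units.val_mul, Units.val_one] at this
  exact mul_self_eq_one_iff.mp this

/-- The number of sign characters fixing an irreducible character is at most the square of its
degree. -/
theorem card_fixing_le {χ : G → ℂ} (hχ : IsIrrCharacter G χ) (n : ℕ) (hn : χ 1 = n)
    (s : Finset (signCharacters G))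
    (hs : ∀ l ∈ s, ∀ g, ((l.1 g : ℂˣ) : ℂ) * χ g = χ g) : s.card ≤ n ^ 2 := by
  classical
  have hnorm : ∀ g, ‖χ g‖ ≤ n := by
    obtain ⟨m, ρ, hρ, rfl⟩ := hχ
    intro g
    have h1 := CfsgLib.Chars.norm_character_le ρ g
    have h2 : ρ.character 1 = (Module.finrank ℂ (Fin m → ℂ) : ℂ) := Representation.char_one ρ
    rw [hn] at h2
    rwa [← Nat.cast_inj.mp h2] at h1
  set a : G → ℝ := fun g => ‖χ g‖ ^ 2 with ha
  have hasum : ∑ g, a g = Nat.card G := by
    have h1 := CfsgLib.Chars.inner_irr_self (⟨χ, hχ⟩ : IrrCharacter G)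
    rw [CfsgLib.Chars.inner_def, inv_mul_eq_iff_eq_mul₀ (CfsgLib.Chars.card_ne_zero G), mul_one] at h1
    simp only [Complex.mul_conj'] at h1
    exact_mod_cast h1
  set r : signCharacters G → G → ℝ := fun l g => ((l.1 g : ℂˣ) : ℂ).re with hr
  have hrl : ∀ l g, ((l.1 g : ℂˣ) : ℂ) = (r l g : ℂ) := by
    intro l g
    rcases signCharacters_apply l g with h | h <;> simp [hr, h]
  have har : ∀ l ∈ s, ∑ g, a g * r l g = Nat.card G := by
    intro l hl
    rw [← hasum]
    refine Finset.sum_congr rfl fun g _ => ?_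
    have h1 := hs l hl g
    rw [hrl] at h1
    by_cases h0 : χ g = 0
    · simp [ha, h0]
    · have : (r l g : ℂ) = 1 := mul_right_cancel₀ h0 (h1.trans (one_mul _).symm)
      have h2 : r l g = 1 := by exact_mod_cast this
      rw [h2, mul_one]
  have horth : ∀ l ∈ s, ∀ m ∈ s, ∑ g, r l g * r m g = if l = m then (Nat.card G : ℝ) else 0 := by
    intro l _ m _
    have hprod : ∀ g, r l g * r m g = r (l * m) g := by
      intro g
      have : ((r (l * m) g : ℝ) : ℂ) = (r l g : ℂ) * (r m g : ℂ) := by
        rw [← hrl, ← hrl, ← hrl]; simp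
      exact_mod_cast this.symm
    simp only [hprod]
    split_ifs with hlm
    · subst hlm
      have h1 : l * l = 1 := Subtype.ext (MonoidHom.ext fun g => by simpa using l.2 g)
      simp [h1, hr]
    · have hne : l * m ≠ 1 := by
        intro h1
        apply hlm
        apply Subtype.ext; apply MonoidHom.ext; intro g
        have h2 := congrArg (fun x : signCharacters G => x.1 g) h1
        simp only [Subgroup.coe_mul, MonoidHom.mul_apply, OneMemClass.coe_one, MonoidHom.one_apply] at h2
        calc l.1 g = l.1 g * (m.1 g * m.1 g) := by rw [m.2 g, mul_one]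
          _ = m.1 g := by rw [← mul_assoc, h2, one_mul]
      have h2 : ((l * m).1 : G →* ℂˣ) ≠ 1 := fun h => hne (Subtype.ext h)
      have h3 : ∃ x, (l * m).1 x ≠ 1 := by
        by_contra h; push Not at h; exact h2 (MonoidHom.ext h)
      obtain ⟨x, hx⟩ := h3
      have h4 : ∑ g, ((((l * m).1 g : ℂˣ)) : ℂ) = 0 := by
        have e : (((l * m).1 x : ℂˣ) : ℂ) * ∑ g, ((((l * m).1 g : ℂˣ)) : ℂ) =
            ∑ g, ((((l * m).1 g : ℂˣ)) : ℂ) := by
          rw [Finset.mul_sum]
          exact Fintype.sum_equiv (Equiv.mulLeft x) _ _ (fun g => by simp [mul_mul_mul_comm])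
        by_contra hne0
        exact hx (Units.ext (mul_right_cancel₀ hne0 (e.trans (one_mul _).symm)))
      simp only [hrl] at h4
      exact_mod_cast h4
  set f : G → ℝ := fun g => ∑ l ∈ s, r l g with hf
  have h0 : 0 ≤ ∑ g, (a g - f g) ^ 2 := Finset.sum_nonneg fun g _ => sq_nonneg _
  have haf : ∑ g, a g * f g = s.card * Nat.card G := by
    simp only [hf, Finset.mul_sum]
    rw [Finset.sum_comm, Finset.sum_congr rfl har]; simp
  have hff : ∑ g, f g * f g = s.card * Nat.card G := by
    simp only [hf, Finset.sum_mul_sum]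
    rw [Finset.sum_comm]
    have : ∀ l ∈ s, ∑ g, ∑ m ∈ s, r l g * r m g = (Nat.card G : ℝ) := by
      intro l hl
      rw [Finset.sum_comm, Finset.sum_congr rfl (horth l hl), Finset.sum_ite_eq, if_pos hl]
    rw [Finset.sum_congr rfl this]; simp
  have haa : ∑ g, a g * a g ≤ (n : ℝ) ^ 2 * Nat.card G := by
    rw [← hasum, Finset.mul_sum]
    refine Finset.sum_le_sum fun g _ => mul_le_mul_of_nonneg_right ?_ (sq_nonneg _)
    exact pow_le_pow_left₀ (norm_nonneg _) (hnorm g) 2
  have hexp : ∑ g, (a g - f g) ^ 2 = ∑ g, a g * a g - 2 * ∑ g, a g * f g + ∑ g, f g * f g := by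
    rw [Finset.mul_sum, ← Finset.sum_sub_distrib, ← Finset.sum_add_distrib]
    exact Finset.sum_congr rfl fun g _ => by ring
  rw [hexp, haf, hff] at h0
  have hG : (0 : ℝ) < Nat.card G := by exact_mod_cast Nat.card_pos
  have : (s.card : ℝ) * Nat.card G ≤ (n : ℝ) ^ 2 * Nat.card G := by linarith
  exact_mod_cast le_of_mul_le_mul_right this hG

theorem signCharacters_sq (l : signCharacters G) : l ^ 2 = 1 := by
  apply Subtype.ext; apply MonoidHom.ext; intro g
  simp [pow_two, l.2 g]

theorem card_quotient_frattini_le (hG : IsPGroup 2 G) :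
    Nat.card (G ⧸ frattini G) ≤ Nat.card (signCharacters G) ∧ Finite (signCharacters G) := by
  have hab : ∀ a b : G ⧸ frattini G, a * b = b * a := by
    rintro ⟨a⟩ ⟨b⟩
    apply (QuotientGroup.eq).mpr
    apply CfsgLib.PGroups.commutator_le_frattini hG
    rw [show (a * b)⁻¹ * (b * a) = ⁅b⁻¹, a⁻¹⁆ by simp [commutatorElement_def, mul_assoc]]
    exact Subgroup.commutator_mem_commutator (Subgroup.mem_top _) (Subgroup.mem_top _)
  let _ : CommGroup (G ⧸ frattini G) :=
    { (inferInstance : Group (G ⧸ frattini G)) with mul_comm := hab }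
  have hfin : Finite (signCharacters G) := by
    refine Finite.of_injective (fun (l : signCharacters G) (g : G) => decide ((l.1 g : ℂ) = 1)) ?_
    intro l m h
    apply Subtype.ext; apply MonoidHom.ext; intro g
    have hg := congrFun h g
    apply Units.ext
    rcases signCharacters_apply l g with h1 | h1 <;> rcases signCharacters_apply m g with h2 | h2 <;>
      simp [h1, h2] at hg ⊢ <;> norm_num at hg
  refine ⟨?_, hfin⟩
  let i : ((G ⧸ frattini G) →* ℂˣ) → signCharacters G := fun l =>
    ⟨l.comp (QuotientGroup.mk' (frattini G)), fun g => by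
      rw [MonoidHom.comp_apply, ← map_mul, ← map_mul, ← pow_two]
      have : QuotientGroup.mk' (frattini G) (g ^ 2) = 1 :=
        (QuotientGroup.eq_one_iff _).mpr (CfsgLib.PGroups.pow_mem_frattini hG g)
      rw [this, map_one]⟩
  have hi : Function.Injective i := fun l m h => by
    apply MonoidHom.ext; intro q
    obtain ⟨g, rfl⟩ := QuotientGroup.mk'_surjective _ q
    exact DFunLike.congr_fun (congrArg Subtype.val h) g
  rw [← CommGroup.card_monoidHom_of_hasEnoughRootsOfUnity (G ⧸ frattini G) ℂ]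
  exact Nat.card_le_card_of_injective i hi

end CfsgLib.FgsB
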