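import Cfsg.Agent.Lib.FgsB.Basic
import Cfsg.Agent.Lib.Base.Fitting
import Cfsg.Agent.Lib.Base.MinimalNormal
import Cfsg.Agent.Lib.Base.Nilpotent
import Cfsg.Agent.Lib.CNGroups.Basic
import Cfsg.Agent.Lib.SolvStruct.Orders
import Cfsg.Agent.Lib.FT.OddOrderTheorem

/-!
Finite groups whose conjugacy class sizes are square-free.
-/

set_option autoImplicit false
set_option maxHeartbeats 800000

open scoped commutatorElement
open CfsgLib.Base

namespace CfsgLib.FgsB.SquareFree

universe u

variable {G : Type u} [Group G]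

/-- All conjugacy class sizes are square-free. -/
def SF (G : Type u) [Group G] : Prop := ∀ x : G, Squarefree (Subgroup.centralizer ({x} : Set G)).index

theorem card_mul_relIndex {A B : Subgroup G} (h : A ≤ B) : Nat.card A * A.relIndex B = Nat.card B := by
  rw [Subgroup.relIndex, ← Nat.card_congr (Subgroup.subgroupOfEquivOfLe h).toEquiv]
  exact Subgroup.card_mul_index _

theorem relIndex_eq_relIndex_sup [Finite G] (C N : Subgroup G) [N.Normal] :
    C.relIndex N = C.relIndex (C ⊔ N) := by
  have h1 := card_mul_relIndex (inf_le_left : C ⊓ N ≤ C)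
  have h2 := card_mul_relIndex (inf_le_right : C ⊓ N ≤ N)
  have h3 := card_mul_relIndex (le_sup_left : C ≤ C ⊔ N)
  have h4 := card_mul_relIndex (le_sup_right : N ≤ C ⊔ N)
  rw [Subgroup.inf_relIndex_left] at h1
  rw [Subgroup.inf_relIndex_right] at h2
  rw [Subgroup.relIndex_sup_right] at h4
  refine Nat.eq_of_mul_eq_mul_left (Nat.card_pos (α := C)) ?_
  rw [h3, ← h4, ← h1, ← h2]
  ring

theorem relIndex_dvd_index [Finite G] (C N : Subgroup G) [N.Normal] : C.relIndex N ∣ C.index :=
  relIndex_eq_relIndex_sup C N ▸ Subgroup.relIndex_dvd_index_of_le le_sup_left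

theorem SF.of_surjective {L : Type u} [Group L] {f : G →* L} (hf : Function.Surjective f) (h : SF G) :
    SF L := fun y => by
  obtain ⟨x, rfl⟩ := hf y
  refine (h x).squarefree_of_dvd ((Subgroup.index_dvd_of_le ?_).trans (Subgroup.index_map_dvd _ hf))
  rintro _ ⟨c, hc, rfl⟩
  have hc' : c * x = x * c := Subgroup.mem_centralizer_singleton_iff.1 hc
  exact Subgroup.mem_centralizer_singleton_iff.2 (by rw [← map_mul, hc', map_mul])

theorem SF.subgroup [Finite G] (N : Subgroup G) [N.Normal] (h : SF G) : SF N := fun x => by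
  refine (h (x : G)).squarefree_of_dvd ?_
  have e : Subgroup.centralizer ({x} : Set N) = (Subgroup.centralizer ({(x : G)} : Set G)).subgroupOf N := by
    ext y
    rw [Subgroup.mem_subgroupOf, Subgroup.mem_centralizer_singleton_iff, Subgroup.mem_centralizer_singleton_iff,
      Subtype.ext_iff, Subgroup.coe_mul, Subgroup.coe_mul]
  rw [e]
  exact relIndex_dvd_index _ N

theorem dvd_prime_of_pgroup [Finite G] {p : ℕ} [Fact p.Prime] {N : Subgroup G} [N.Normal] (hN : IsPGroup p N)
    (C : Subgroup G) (hC : Squarefree C.index) : C.relIndex N ∣ p := by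
  obtain ⟨k, hk⟩ := IsPGroup.iff_card.1 hN
  have hd : C.relIndex N ∣ p ^ k := hk ▸ Subgroup.index_dvd_card (C.subgroupOf N)
  obtain ⟨j, -, hj⟩ := (Nat.dvd_prime_pow Fact.out).1 hd
  have hsq : Squarefree (p ^ j) := hj ▸ hC.squarefree_of_dvd (relIndex_dvd_index C N)
  rw [hj]
  rcases j with _ | _ | j
  · simp
  · simp
  · have := (Nat.squarefree_pow_iff (Fact.out : p.Prime).ne_one (Nat.succ_ne_zero _)).1 hsq
    omega

/-! ### Solvability -/

theorem not_simple [Finite G] [IsSimpleGroup G] (hna : ¬ IsMulCommutative G) (h : SF G) : False := by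
  classical
  haveI : Fact (Nat.Prime 2) := ⟨Nat.prime_two⟩
  have hsol : ¬ Group.IsSolvable G := fun hs => hna (IsSimpleGroup.comm_iff_isSolvable.2 hs |> fun h => ⟨⟨h⟩⟩)
  have heven : 2 ∣ Nat.card G := by
    by_contra h2
    exact hsol (CfsgLib.FT.isSolvable_of_odd (Nat.odd_iff.2 (by omega)))
  have hcen : ∀ z : G, z ∈ Subgroup.center G → z = 1 := fun z hz => by
    rcases (inferInstance : (Subgroup.center G).Normal).eq_bot_or_eq_top with e | e
    · rw [e] at hz; exact hz
    · exact absurd (Subgroup.center_eq_top_iff.1 e) hna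
  have hperf : commutator G = ⊤ := by
    rcases (inferInstance : (commutator G).Normal).eq_bot_or_eq_top with e | e
    · refine absurd ⟨⟨fun a b => ?_⟩⟩ hna
      have : ⁅a, b⁆ ∈ commutator G := Subgroup.commutator_mem_commutator trivial trivial
      rw [e, Subgroup.mem_bot, commutatorElement_eq_one_iff_mul_comm] at this
      exact this
    · exact e
  let P : Sylow 2 G := default
  -- it suffices that every element centralises a subgroup of index at most two in a conjugate of `P`
  have hcover : ∀ z : G, z ∈ (P : Subgroup G) → z ≠ 1 →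
      ¬ ∀ M : Subgroup P, M.index ∣ 2 → ∃ n : G, n ∈ M.map (P : Subgroup G).subtype ∧
        ∃ g : G, n = g * z * g⁻¹ := by
    intro z hz hz1 hall
    refine hz1 (hcen z (Subgroup.mem_center_iff.2 fun g => ?_))
    have htop : Subgroup.centralizer ({z} : Set G) = ⊤ := by
      refine CfsgLib.FgsB.eq_top_of_forall_exists_conj_mem fun x => ?_
      obtain ⟨S⟩ : Nonempty (Sylow 2 (Subgroup.centralizer ({x} : Set G))) := inferInstance
      set S' := (S : Subgroup (Subgroup.centralizer ({x} : Set G))).map (Subgroup.centralizer ({x} : Set G)).subtype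
      obtain ⟨P', hP'⟩ := (S.2.map _ : IsPGroup 2 S').exists_le_sylow
      obtain ⟨g, hg⟩ := MulAction.exists_smul_eq G P' P
      let M : Subgroup P := (S'.map (MulAut.conj g).toMonoidHom).subgroupOf P
      have hle : S'.map (MulAut.conj g).toMonoidHom ≤ P := by
        rw [← hg]; exact Subgroup.map_mono hP'
      have hidx : M.index ∣ 2 := by
        have hcM : Nat.card M = Nat.card S := by
          rw [Nat.card_congr (Subgroup.subgroupOfEquivOfLe hle).toEquiv,
            ← Nat.card_congr (Subgroup.equivMapOfInjective S' _ (MulAut.conj g).injective).toEquiv]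
          exact (Nat.card_congr (Subgroup.equivMapOfInjective _ _ Subtype.val_injective).toEquiv).symm
        have h1 := M.card_mul_index
        have h2 := (S : Subgroup (Subgroup.centralizer ({x} : Set G))).card_mul_index
        have h3 := (Subgroup.centralizer ({x} : Set G)).card_mul_index
        rw [hcM] at h1
        rw [← h2] at h3
        obtain ⟨a, ha⟩ := IsPGroup.iff_card.1 P.2
        have hPd : Nat.card P ∣ Nat.card S * ((S : Subgroup (Subgroup.centralizer ({x} : Set G))).index *
            (Subgroup.centralizer ({x} : Set G)).index) := by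
          rw [← mul_assoc, h3]; exact Subgroup.card_subgroup_dvd_card _
        rw [← h1] at hPd
        have h4 := Nat.dvd_of_mul_dvd_mul_left (Nat.card_pos (α := S)) hPd
        have hMpow : M.index ∣ 2 ^ a := ha ▸ Subgroup.index_dvd_card M
        obtain ⟨j, -, hj⟩ := (Nat.dvd_prime_pow Nat.prime_two).1 hMpow
        have hcop : Nat.Coprime M.index (S : Subgroup (Subgroup.centralizer ({x} : Set G))).index := by
          rw [hj]; exact (Nat.Prime.coprime_iff_not_dvd Nat.prime_two).2 S.not_dvd_index |>.pow_left j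
        have hsq := (h x).squarefree_of_dvd (hcop.dvd_of_dvd_mul_left h4)
        rw [hj] at hsq ⊢
        rcases j with _ | _ | j
        · simp
        · simp
        · have := (Nat.squarefree_pow_iff (by norm_num) (Nat.succ_ne_zero _)).1 hsq
          omega
      obtain ⟨n, ⟨y, hy, rfl⟩, c, hc⟩ := hall M hidx
      obtain ⟨w, hw, hwy⟩ := Subgroup.mem_map.1 (Subgroup.mem_subgroupOf.1 hy)
      obtain ⟨w', hw', rfl⟩ := Subgroup.mem_map.1 hw
      refine ⟨g⁻¹ * c, Subgroup.mem_centralizer_singleton_iff.2 ?_⟩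
      have hwx : (w' : G) * x = x * w' := Subgroup.mem_centralizer_singleton_iff.1 w'.2
      have hwz : (w' : G) = g⁻¹ * c * z * (g⁻¹ * c)⁻¹ := by
        have e : g * (w' : G) * g⁻¹ = c * z * c⁻¹ := by rw [← hc]; exact hwy
        calc (w' : G) = g⁻¹ * (g * (w' : G) * g⁻¹) * g := by group
          _ = g⁻¹ * c * z * (g⁻¹ * c)⁻¹ := by rw [e]; group
      rw [hwz] at hwx
      calc (g⁻¹ * c)⁻¹ * x * (g⁻¹ * c) * z
          = (g⁻¹ * c)⁻¹ * (x * (g⁻¹ * c * z * (g⁻¹ * c)⁻¹)) * (g⁻¹ * c) := by group
        _ = z * ((g⁻¹ * c)⁻¹ * x * (g⁻¹ * c)) := by rw [← hwx]; group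
    have hg : g ∈ Subgroup.centralizer ({z} : Set G) := htop ▸ Subgroup.mem_top g
    exact Subgroup.mem_centralizer_singleton_iff.1 hg
  -- the Sylow subgroup is elementary abelian
  by_cases hexp : ∃ x : P, x * x ≠ 1
  · obtain ⟨x, hx⟩ := hexp
    let Q : Subgroup P := Subgroup.closure (Set.range fun y : P => y * y)
    haveI : Q.Normal := by
      refine ⟨fun v hv g => ?_⟩
      have hle : Q ≤ Q.comap (MulAut.conj g).toMonoidHom := by
        rw [Subgroup.closure_le]
        rintro _ ⟨y, rfl⟩
        exact Subgroup.subset_closure ⟨g * y * g⁻¹, by simp⟩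
      exact hle hv
    have hQ : Q ≠ ⊥ := fun e => hx (by
      have : x * x ∈ Q := Subgroup.subset_closure ⟨x, rfl⟩
      rwa [e, Subgroup.mem_bot] at this)
    haveI := P.2.isNilpotent
    obtain ⟨z, hz, hz1⟩ := (Subgroup.bot_or_exists_ne_one _).resolve_left (inf_center_ne_bot_of_isNilpotent hQ)
    refine hcover (z : G) z.2 (fun e => hz1 (Subtype.ext e)) fun M hM => ⟨z, ⟨z, ?_, rfl⟩, 1, by group⟩
    have hQM : Q ≤ M := by
      rw [Subgroup.closure_le]
      rintro _ ⟨y, rfl⟩
      rcases (Nat.dvd_prime Nat.prime_two).1 hM with e | e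
      · rw [Subgroup.index_eq_one.1 e]; exact Subgroup.mem_top _
      · exact Subgroup.mul_self_mem_of_index_two e y
    exact hQM hz.1
  · push Not at hexp
    haveI hPc : IsMulCommutative P := ⟨⟨fun x y => by
      have i : ∀ z : P, z⁻¹ = z := fun z => inv_eq_of_mul_eq_one_left (hexp z)
      rw [← i (x * y), mul_inv_rev, i, i]⟩⟩
    obtain ⟨t, ht⟩ := exists_prime_orderOf_dvd_card' (G := P) 2 (P.dvd_card_of_dvd_card heven)
    have ht1 : (t : G) ≠ 1 := fun e => by
      rw [← Subgroup.orderOf_coe, e, orderOf_one] at ht; omega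
    refine hcover t t.2 ht1 fun M hM => ?_
    by_contra hcon
    push Not at hcon
    have hM2 : M.index = 2 := ((Nat.dvd_prime Nat.prime_two).1 hM).resolve_left fun e =>
      hcon t ⟨t, by rw [Subgroup.index_eq_one.1 e]; exact Subgroup.mem_top _, rfl⟩ 1 (by group)
    haveI hMn : M.Normal := Subgroup.normal_of_index_eq_two hM2
    -- the product of the orbit under the normaliser
    let N := Subgroup.normalizer ((P : Subgroup G) : Set G)
    let cn : N → P := fun n => ⟨(n : G) * t * (n : G)⁻¹, (Subgroup.mem_normalizer_iff.1 n.2 t).1 t.2⟩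
    letI : CommGroup P := { (inferInstance : Group P) with mul_comm := hPc.is_comm.comm }
    haveI : Fintype G := Fintype.ofFinite G
    let O : Finset P := Finset.univ.image cn
    have hOodd : Odd O.card := by
      let C : Subgroup N := (Subgroup.centralizer ({(t : G)} : Set G)).subgroupOf N
      have hc : O.card = C.index := by
        rw [Subgroup.index, ← Nat.card_coe_set_eq (O : Set P) |>.trans (Set.ncard_coe_finset O)]
        refine (Nat.card_congr (Equiv.ofBijective
          (Quotient.lift (fun n => (⟨cn n, Finset.mem_image_of_mem _ (Finset.mem_univ n)⟩ : (O : Set P)))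
            ?_) ⟨?_, ?_⟩)).symm
        · intro a b hab
          refine Subtype.ext (Subtype.ext ?_)
          have h1 : (a⁻¹ * b : N) ∈ C := QuotientGroup.leftRel_apply.1 hab
          have h2 := Subgroup.mem_centralizer_singleton_iff.1 (Subgroup.mem_subgroupOf.1 h1)
          change (a : G) * t * (a : G)⁻¹ = (b : G) * t * (b : G)⁻¹
          push_cast at h2
          calc (a : G) * t * (a : G)⁻¹ = (a : G) * ((t : G) * ((a : G)⁻¹ * b)) * (b : G)⁻¹ := by group
            _ = (b : G) * t * (b : G)⁻¹ := by rw [← h2]; group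
        · rintro ⟨a⟩ ⟨b⟩ hab
          refine QuotientGroup.eq.2 (Subgroup.mem_subgroupOf.2 (Subgroup.mem_centralizer_singleton_iff.2 ?_))
          have h2 : (a : G) * t * (a : G)⁻¹ = (b : G) * t * (b : G)⁻¹ :=
            congrArg (fun w : (O : Set P) => ((w : P) : G)) hab
          push_cast
          calc (a : G)⁻¹ * b * t = (a : G)⁻¹ * ((b : G) * t * (b : G)⁻¹) * b := by group
            _ = (t : G) * ((a : G)⁻¹ * b) := by rw [← h2]; group
        · rintro ⟨o, ho⟩
          obtain ⟨n, -, rfl⟩ := Finset.mem_image.1 ho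
          exact ⟨QuotientGroup.mk n, rfl⟩
      rw [hc, Nat.odd_iff]
      have hle : (P : Subgroup G).subgroupOf N ≤ C := by
        intro n hn
        refine Subgroup.mem_subgroupOf.2 (Subgroup.mem_centralizer_singleton_iff.2 ?_)
        exact congrArg Subtype.val (hPc.is_comm.comm ⟨(n : G), hn⟩ t)
      have h1 : ¬ 2 ∣ ((P : Subgroup G).subgroupOf N).index := (P.subtype Subgroup.le_normalizer).not_dvd_index
      have h2 := Subgroup.index_dvd_of_le hle
      have : ¬ 2 ∣ C.index := fun h => h1 (h.trans h2)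
      omega
    set π : P := ∏ o ∈ O, o with hπ
    have hfixed : ∀ n : N, (n : G) * (π : P) * (n : G)⁻¹ = (π : P) := by
      intro n
      let φ : P →* P :=
        { toFun := fun o => ⟨(n : G) * o * (n : G)⁻¹, (Subgroup.mem_normalizer_iff.1 n.2 o).1 o.2⟩
          map_one' := Subtype.ext (by simp)
          map_mul' := fun a b => Subtype.ext (by simp [mul_assoc]) }
      have hφi : Function.Injective φ := fun a b hab => Subtype.ext
        (mul_left_cancel (mul_right_cancel (congrArg Subtype.val hab)))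
      have hsub : O.image φ = O := by
        refine Finset.eq_of_subset_of_card_le (fun o ho => ?_) (Finset.card_image_of_injective O hφi).ge
        obtain ⟨o', ho', rfl⟩ := Finset.mem_image.1 ho
        obtain ⟨m, -, rfl⟩ := Finset.mem_image.1 ho'
        exact Finset.mem_image.2 ⟨n * m, Finset.mem_univ _, Subtype.ext (by simp [φ, cn, mul_assoc])⟩
      have : φ π = π := by
        conv_rhs => rw [hπ, ← hsub, Finset.prod_image fun a _ b _ hab => hφi hab]
        exact map_prod φ _ _
      exact congrArg Subtype.val this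
    have hπ1 : π ∉ M := by
      intro hin
      have hval : ∀ o ∈ O, (QuotientGroup.mk' M) o = QuotientGroup.mk' M t := by
        intro o ho
        obtain ⟨n, -, rfl⟩ := Finset.mem_image.1 ho
        have h1 : cn n ∉ M := fun h => hcon (cn n : G) ⟨cn n, h, rfl⟩ n rfl
        have h2 : t ∉ M := fun h => hcon t ⟨t, h, rfl⟩ 1 (by group)
        refine QuotientGroup.eq.2 ((Subgroup.mul_mem_iff_of_index_two hM2).2 ?_)
        simp [inv_mem_iff, h1, h2]
      have h1 := map_prod (QuotientGroup.mk' M) (fun o => o) O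
      have hπM : QuotientGroup.mk' M π = 1 := (QuotientGroup.eq_one_iff π).2 hin
      rw [Finset.prod_congr rfl hval, Finset.prod_const, ← hπ, hπM] at h1
      obtain ⟨k, hk⟩ := hOodd
      have h2 : (QuotientGroup.mk' M t) ^ 2 = 1 := by
        rw [← map_pow, pow_two, hexp t, map_one]
      rw [hk, pow_succ, pow_mul, h2, one_pow, one_mul] at h1
      exact hcon t ⟨t, (QuotientGroup.eq_one_iff t).1 h1.symm, rfl⟩ 1 (by group)
    -- transfer
    let τ : G →* P := MonoidHom.transfer (MonoidHom.id P)
    have hkey : ∀ (k : ℕ) (g₀ : G), g₀⁻¹ * (π : G) ^ k * g₀ ∈ (P : Subgroup G) →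
        g₀⁻¹ * (π : G) ^ k * g₀ = (π : G) ^ k := by
      intro k g₀ hmem
      obtain ⟨n, hn, he⟩ := P.conj_eq_normalizer_conj_of_mem_centralizer ((π : G) ^ k) g₀
        ((P : Subgroup G).le_centralizer (pow_mem π.2 k)) ((P : Subgroup G).le_centralizer hmem)
      rw [he]
      have h2 := hfixed ⟨n, hn⟩⁻¹
      simp only [Subgroup.coe_inv, inv_inv] at h2
      calc n⁻¹ * (π : G) ^ k * n = (n⁻¹ * (π : G) * n⁻¹⁻¹) ^ k := by rw [conj_pow, inv_inv]
        _ = (π : G) ^ k := by rw [inv_inv, h2]
    have h1 : τ (π : G) = π ^ (P : Subgroup G).index := by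
      rw [MonoidHom.transfer_eq_pow (MonoidHom.id P) _ hkey]
      exact Subtype.ext (by simp)
    have h2 : τ (π : G) = 1 :=
      (Abelianization.commutator_subset_ker τ) (hperf ▸ Subgroup.mem_top _)
    have hidx : Odd (P : Subgroup G).index := Nat.odd_iff.2 (by have := P.not_dvd_index; omega)
    obtain ⟨k, hk⟩ := hidx
    rw [h1, hk, pow_succ, pow_mul, pow_two, hexp π, one_pow, one_mul] at h2
    exact hπ1 (h2 ▸ one_mem M)

theorem isSolvable : ∀ {G : Type u} [Group G] [Finite G], SF G → Group.IsSolvable G := by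
  suffices H : ∀ n, ∀ (G : Type u) [Group G] [Finite G], Nat.card G = n → SF G → Group.IsSolvable G from
    fun {G} _ _ h => H _ G rfl h
  intro n
  induction n using Nat.strong_induction_on with
  | _ n ih =>
  intro G _ _ hn h
  by_cases hc : IsMulCommutative G
  · exact Group.isSolvable_of_comm (fun a b => hc.is_comm.comm a b)
  haveI : Nontrivial G := by
    by_contra h'
    rw [not_nontrivial_iff_subsingleton] at h'
    exact hc ⟨⟨fun a b => Subsingleton.elim _ _⟩⟩
  by_cases hs : IsSimpleGroup G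
  · exact (not_simple hc h).elim
  obtain ⟨N, hN, hbot, htop⟩ : ∃ N : Subgroup G, N.Normal ∧ N ≠ ⊥ ∧ N ≠ ⊤ := by
    by_contra! hcon
    exact hs ⟨fun H hH => or_iff_not_imp_left.2 fun hb => hcon H hH hb⟩
  haveI := hN
  have hN1 : Nat.card N < n := hn ▸ lt_of_le_of_ne (Subgroup.card_le_card_group N) fun e =>
    htop (Subgroup.eq_top_of_card_eq N e)
  have h1 := ih _ hN1 N rfl (h.subgroup N)
  have h2 := ih _ (hn ▸ CfsgLib.SolvStruct.card_quotient_lt' hbot) (G ⧸ N) rfl
    (h.of_surjective (QuotientGroup.mk'_surjective N))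
  exact Group.isSolvable_of_ker_le_range N.subtype (QuotientGroup.mk' N)
    (by rw [QuotientGroup.ker_mk', N.range_subtype])

/-! ### Supersolvability -/

theorem card_prime_of_minimal [Finite G] (h : SF G) {N : Subgroup G} (hN : IsMinimalNormal N)
    (hs : Group.IsSolvable N) : (Nat.card N).Prime := by
  classical
  haveI := hN.normal
  obtain ⟨p, hp, hcomm, hexp, hpg⟩ := hN.exists_prime hs
  haveI := Fact.mk hp
  have hmul : ∀ a ∈ N, ∀ b ∈ N, a * b = b * a := fun a ha b hb =>
    congrArg Subtype.val (hcomm.is_comm.comm ⟨a, ha⟩ ⟨b, hb⟩)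
  have hm : ∀ (g : G), ∀ v ∈ N, ⁅g, v⁆ ∈ N := fun g v hv => by
    rw [commutatorElement_def]
    exact mul_mem (hN.normal.conj_mem v hv g) (inv_mem hv)
  let d : G → N →* N := fun g =>
    { toFun := fun v => ⟨⁅g, (v : G)⁆, hm g v v.2⟩
      map_one' := Subtype.ext (by simp [commutatorElement_def])
      map_mul' := fun v w => Subtype.ext (by
        change ⁅g, (v : G) * w⁆ = ⁅g, (v : G)⁆ * ⁅g, (w : G)⁆
        rw [commutatorElement_def, commutatorElement_def, commutatorElement_def]
        have e := hmul (g * (w : G) * g⁻¹ * (w : G)⁻¹) (mul_mem (hN.normal.conj_mem _ w.2 g) (inv_mem w.2))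
          (v : G)⁻¹ (inv_mem v.2)
        calc g * ((v : G) * w) * g⁻¹ * ((v : G) * w)⁻¹
            = g * (v : G) * g⁻¹ * (g * (w : G) * g⁻¹ * (w : G)⁻¹ * (v : G)⁻¹) := by group
          _ = g * (v : G) * g⁻¹ * ((v : G)⁻¹ * (g * (w : G) * g⁻¹ * (w : G)⁻¹)) := by rw [e]
          _ = _ := by group) }
  have hker : ∀ g, (d g).ker = (Subgroup.centralizer ({g} : Set G)).subgroupOf N := fun g => by
    ext v
    rw [MonoidHom.mem_ker, Subgroup.mem_subgroupOf, Subgroup.mem_centralizer_singleton_iff, Subtype.ext_iff,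
      eq_comm (a := (v : G) * g), ← commutatorElement_eq_one_iff_mul_comm]
    rfl
  have hsmall : ∀ g, (d g).ker.index ∣ p := fun g => by
    rw [hker]; exact dvd_prime_of_pgroup hpg _ (h g)
  have hrange : ∀ g, (d g).ker ≠ ⊤ → (d g).ker.index = p ∧ Nat.card (d g).range = p := fun g hne => by
    have e := ((Nat.dvd_prime hp).1 (hsmall g)).resolve_left fun e => hne (Subgroup.index_eq_one.1 e)
    exact ⟨e, by rw [← Subgroup.index_ker, e]⟩
  by_cases hall : ∀ g, (d g).ker = ⊤
  · -- central
    obtain ⟨x, hx⟩ := exists_prime_orderOf_dvd_card' (G := N) p (by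
      obtain ⟨k, hk⟩ := IsPGroup.iff_card.1 hpg
      rw [hk]
      exact dvd_pow_self p fun e => hN.ne_bot (N.eq_bot_of_card_eq (by rw [hk, e, pow_zero])))
    have hz : ∀ g v, v ∈ N → g * v = v * g := fun g v hv => by
      have : (⟨v, hv⟩ : N) ∈ (d g).ker := hall g ▸ Subgroup.mem_top _
      exact commutatorElement_eq_one_iff_mul_comm.1 (congrArg Subtype.val (MonoidHom.mem_ker.1 this))
    have hZ : (Subgroup.zpowers (x : G)).Normal := ⟨fun v hv g => by
      rw [hz g v (Subgroup.zpowers_le.2 x.2 hv), mul_inv_cancel_right]; exact hv⟩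
    have heq := (hN.eq_bot_or_eq hZ (Subgroup.zpowers_le.2 x.2)).resolve_left fun e => by
      rw [Subgroup.zpowers_eq_bot] at e
      rw [← Subgroup.orderOf_coe, e, orderOf_one] at hx
      exact hp.one_lt.ne hx
    rw [← heq, Nat.card_zpowers, Subgroup.orderOf_coe, hx]
    exact hp
  push Not at hall
  obtain ⟨g₀, hg₀⟩ := hall
  have hpair : ∀ g k, (d g).ker ≠ ⊤ → (d k).ker ≠ ⊤ → (d g).range ≠ (d k).range → (d g).ker = (d k).ker := by
    intro g k hg hk hne
    by_contra hkne
    have hdisj : (d g).range ⊓ (d k).range = ⊥ := by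
      by_contra hb
      haveI : Fact (Nat.card (d g).range).Prime := ⟨by rw [(hrange g hg).2]; exact hp⟩
      have := (((d g).range ⊓ (d k).range).subgroupOf (d g).range).eq_bot_or_eq_top_of_prime_card
      rcases this with e | e
      · exact hb ((Subgroup.subgroupOf_eq_bot.1 e).eq_bot_of_le inf_le_left)
      · exact hne (Subgroup.eq_of_le_of_card_ge (fun v hv => (Subgroup.subgroupOf_eq_top.1 e hv).2)
          (by rw [(hrange g hg).2, (hrange k hk).2]))
    have hconj : ∀ v : N, k * (v : G) * k⁻¹ ∈ N := fun v => hN.normal.conj_mem v v.2 k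
    have hle : (d (g * k)).ker ≤ (d g).ker ⊓ (d k).ker := by
      intro v hv
      have h1 : d g ⟨_, hconj v⟩ * d k v = 1 := by
        refine Eq.trans (Subtype.ext ?_) (MonoidHom.mem_ker.1 hv)
        change ⁅g, k * (v : G) * k⁻¹⁆ * ⁅k, (v : G)⁆ = ⁅g * k, (v : G)⁆
        simp only [commutatorElement_def]; group
      have h2 : d k v ∈ (d g).range ⊓ (d k).range :=
        ⟨by rw [eq_inv_of_mul_eq_one_right h1]; exact (d g).range.inv_mem ⟨_, rfl⟩, v, rfl⟩
      rw [hdisj, Subgroup.mem_bot] at h2
      rw [h2, mul_one] at h1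
      refine ⟨?_, h2⟩
      have hkv : k * (v : G) * k⁻¹ = v := by
        have := commutatorElement_eq_one_iff_mul_comm.1 (congrArg Subtype.val h2)
        rw [this, mul_inv_cancel_right]
      rwa [show (⟨_, hconj v⟩ : N) = v from Subtype.ext hkv] at h1
    have h3 := (Subgroup.index_dvd_of_le hle).trans (hsmall (g * k))
    have h4 : (d g).ker.index ∣ ((d g).ker ⊓ (d k).ker).index := Subgroup.index_dvd_of_le inf_le_left
    rw [(hrange g hg).1] at h4
    have h5 : ((d g).ker ⊓ (d k).ker).index = p := Nat.dvd_antisymm h3 h4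
    have h6 : (d g).ker ⊓ (d k).ker = (d g).ker :=
      Subgroup.eq_of_le_of_card_ge inf_le_left (by
        have e1 := ((d g).ker ⊓ (d k).ker).card_mul_index
        have e2 := (d g).ker.card_mul_index
        rw [h5] at e1
        rw [(hrange g hg).1, ← e1] at e2
        exact (Nat.eq_of_mul_eq_mul_right hp.pos e2).le)
    have h7 : (d g).ker = (d k).ker := Subgroup.eq_of_le_of_card_ge (inf_eq_left.1 h6) (by
      have e1 := (d k).ker.card_mul_index
      have e2 := (d g).ker.card_mul_index
      rw [(hrange k hk).1] at e1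
      rw [(hrange g hg).1, ← e1] at e2
      exact (Nat.eq_of_mul_eq_mul_right hp.pos e2).ge)
    exact hkne h7
  have hdconj : ∀ (g c : G) (v : N), c * ((d g v : N) : G) * c⁻¹ =
      ((d (c * g * c⁻¹) ⟨c * v * c⁻¹, hN.normal.conj_mem v v.2 c⟩ : N) : G) := fun g c v => by
    change c * ⁅g, (v : G)⁆ * c⁻¹ = ⁅c * g * c⁻¹, c * (v : G) * c⁻¹⁆
    simp only [commutatorElement_def]; group
  by_cases hL : ∀ g, (d g).ker ≠ ⊤ → (d g).range = (d g₀).range
  · -- a common image
    have hZ : ((d g₀).range.map N.subtype).Normal := ⟨fun v hv c => by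
      obtain ⟨w, ⟨u, rfl⟩, rfl⟩ := Subgroup.mem_map.1 hv
      by_cases hu : d g₀ u = 1
      · rw [hu, map_one, mul_one, mul_inv_cancel]; exact one_mem _
      rw [Subgroup.coe_subtype, hdconj]
      have hne : (d (c * g₀ * c⁻¹)).ker ≠ ⊤ := fun e => hu (Subtype.ext (by
        have h1 := hdconj g₀ c u
        have hz : d (c * g₀ * c⁻¹) ⟨c * u * c⁻¹, hN.normal.conj_mem u u.2 c⟩ = 1 :=
          MonoidHom.mem_ker.1 (by rw [e]; exact Subgroup.mem_top _)
        rw [hz] at h1
        rw [Subgroup.coe_one] at h1 ⊢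
        exact conj_eq_one_iff.1 h1))
      rw [← hL _ hne]
      exact ⟨_, ⟨_, rfl⟩, rfl⟩⟩
    have hc : Nat.card ((d g₀).range.map N.subtype) = p := by
      rw [← Nat.card_congr (Subgroup.equivMapOfInjective _ _ N.subtype_injective).toEquiv, (hrange g₀ hg₀).2]
    have heq := (hN.eq_bot_or_eq hZ (Subgroup.map_subtype_le _)).resolve_left fun e => by
      rw [e, Subgroup.card_bot] at hc; exact hp.one_lt.ne hc
    rw [← heq, hc]
    exact hp
  · -- a common kernel
    exfalso
    push Not at hL
    obtain ⟨g₁, hg₁, hne₁⟩ := hL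
    have hk01 : (d g₁).ker = (d g₀).ker := hpair _ _ hg₁ hg₀ hne₁
    have hkall : ∀ g, (d g).ker ≠ ⊤ → (d g).ker = (d g₀).ker := fun g hg => by
      by_cases e : (d g).range = (d g₀).range
      · exact (hpair g g₁ hg hg₁ (by rw [e]; exact hne₁.symm)).trans hk01
      · exact hpair g g₀ hg hg₀ e
    have hfix : ∀ (g : G), ∀ v ∈ (d g₀).ker, d g v = 1 := fun g v hv => by
      by_cases e : (d g).ker = ⊤
      · exact MonoidHom.mem_ker.1 (e ▸ Subgroup.mem_top v)
      · exact MonoidHom.mem_ker.1 (hkall g e ▸ hv)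
    have hZ : ((d g₀).ker.map N.subtype).Normal := ⟨fun v hv c => by
      obtain ⟨w, hw, rfl⟩ := Subgroup.mem_map.1 hv
      have := commutatorElement_eq_one_iff_mul_comm.1 (congrArg Subtype.val (hfix c w hw))
      refine ⟨w, hw, ?_⟩
      change (w : G) = c * (w : G) * c⁻¹
      rw [this, mul_inv_cancel_right]⟩
    rcases hN.eq_bot_or_eq hZ (Subgroup.map_subtype_le _) with e | e
    · have hNp : Nat.card N = p := by
        have h1 : (d g₀).ker = ⊥ := (Subgroup.map_eq_bot_iff_of_injective _ N.subtype_injective).1 e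
        have h2 := (d g₀).ker.card_mul_index
        rwa [(hrange g₀ hg₀).1, h1, Subgroup.card_bot, one_mul, eq_comm] at h2
      refine hne₁ ((Subgroup.eq_top_of_card_eq _ ?_).trans (Subgroup.eq_top_of_card_eq _ ?_).symm)
      · rw [(hrange g₁ hg₁).2, hNp]
      · rw [(hrange g₀ hg₀).2, hNp]
    · refine hg₀ (Subgroup.map_injective N.subtype_injective (e.trans ?_))
      rw [← MonoidHom.range_eq_map, N.range_subtype]

theorem isSupersolvable : ∀ {G : Type u} [Group G] [Finite G], SF G → Cfsg.IsSupersolvable G := by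
  suffices H : ∀ n, ∀ (G : Type u) [Group G] [Finite G], Nat.card G = n → SF G → Cfsg.IsSupersolvable G from
    fun {G} _ _ h => H _ G rfl h
  intro n
  induction n using Nat.strong_induction_on with
  | _ n ih =>
  intro G _ _ hn h
  rcases subsingleton_or_nontrivial G with hs | hs
  · exact CfsgLib.SolvStruct.supersolvable_of_subsingleton
  haveI := isSolvable h
  obtain ⟨N, hN⟩ := exists_isMinimalNormal (G := G)
  haveI := hN.normal
  haveI := CfsgLib.SolvStruct.isCyclic_of_card_prime (card_prime_of_minimal h hN inferInstance)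
  exact CfsgLib.SolvStruct.supersolvable_of_cyclic_normal N
    (ih _ (hn ▸ CfsgLib.SolvStruct.card_quotient_lt' hN.ne_bot) _ rfl
      (h.of_surjective (QuotientGroup.mk'_surjective N)))

/-! ### Chief factors -/

/-- The elements acting trivially on the factor `B / A`. -/
noncomputable def factCent (A B : Subgroup G) [A.Normal] : Subgroup G :=
  (Subgroup.centralizer ((B.map (QuotientGroup.mk' A) : Subgroup (G ⧸ A)) : Set (G ⧸ A))).comap (QuotientGroup.mk' A)

theorem mem_factCent {A B : Subgroup G} [A.Normal] {x : G} : x ∈ factCent A B ↔ ∀ u ∈ B, ⁅x, u⁆ ∈ A := by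
  rw [factCent, Subgroup.mem_comap, Subgroup.mem_centralizer_iff]
  constructor
  · intro h u hu
    have h1 := h _ (Subgroup.mem_map_of_mem _ hu)
    rw [← QuotientGroup.eq_one_iff, ← QuotientGroup.mk'_apply, map_commutatorElement,
      commutatorElement_eq_one_iff_mul_comm]
    exact h1.symm
  · rintro h _ ⟨u, hu, rfl⟩
    have h1 := h u hu
    rw [← QuotientGroup.eq_one_iff, ← QuotientGroup.mk'_apply, map_commutatorElement,
      commutatorElement_eq_one_iff_mul_comm] at h1
    exact h1.symm

instance factCent_normal (A B : Subgroup G) [A.Normal] [B.Normal] : (factCent A B).Normal := by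
  haveI : (B.map (QuotientGroup.mk' A)).Normal := Subgroup.Normal.map inferInstance _ (QuotientGroup.mk'_surjective A)
  exact Subgroup.Normal.comap inferInstance _

theorem commutator_le_factCent [Finite G] {A B : Subgroup G} [A.Normal] [B.Normal] (hAB : A ≤ B)
    (hp : (A.relIndex B).Prime) : commutator G ≤ factCent A B := by
  set Bq := B.map (QuotientGroup.mk' A)
  haveI : Bq.Normal := Subgroup.Normal.map inferInstance _ (QuotientGroup.mk'_surjective A)
  have hc : Nat.card Bq = A.relIndex B := by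
    have h1 : Nat.card Bq = (⊥ : Subgroup (G ⧸ A)).relIndex Bq := (Subgroup.relIndex_bot_left Bq).symm
    rw [h1, ← Subgroup.relIndex_comap, MonoidHom.comap_bot, QuotientGroup.ker_mk']
  haveI : IsCyclic Bq := CfsgLib.SolvStruct.isCyclic_of_card_prime (hc ▸ hp)
  let φ : G →* (ZMod (Nat.card Bq))ˣ := ((IsCyclic.mulAutMulEquiv Bq).toMonoidHom.comp
    (MulAut.conjNormal : G ⧸ A →* MulAut Bq)).comp (QuotientGroup.mk' A)
  refine (Abelianization.commutator_subset_ker φ).trans fun x hx => mem_factCent.2 fun u hu => ?_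
  have h1 : (MulAut.conjNormal (QuotientGroup.mk' A x) : MulAut Bq) = 1 :=
    (IsCyclic.mulAutMulEquiv Bq).injective (by rw [map_one]; exact hx)
  have h2 := congrArg (fun e : MulAut Bq => ((e ⟨_, Subgroup.mem_map_of_mem _ hu⟩ : Bq) : G ⧸ A)) h1
  simp only [MulAut.conjNormal_apply, MulAut.one_apply] at h2
  rw [← QuotientGroup.eq_one_iff, ← QuotientGroup.mk'_apply, map_commutatorElement,
    commutatorElement_eq_one_iff_mul_comm]
  exact mul_inv_eq_iff_eq_mul.1 h2

/-- A prime step through which a given element generates. -/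
theorem factCent_of_commute [Finite G] {A B : Subgroup G} [A.Normal] (hAB : A ≤ B)
    (hp : (A.relIndex B).Prime) {v x : G} (hv : v ∈ B) (hvA : v ∉ A) (hx : x * v = v * x) :
    x ∈ factCent A B := by
  rw [factCent, Subgroup.mem_comap, Subgroup.mem_centralizer_iff]
  set Bq := B.map (QuotientGroup.mk' A)
  have hc : Nat.card Bq = A.relIndex B := by
    have h1 : Nat.card Bq = (⊥ : Subgroup (G ⧸ A)).relIndex Bq := (Subgroup.relIndex_bot_left Bq).symm
    rw [h1, ← Subgroup.relIndex_comap, MonoidHom.comap_bot, QuotientGroup.ker_mk']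
  haveI : Fact (Nat.card Bq).Prime := ⟨hc ▸ hp⟩
  intro w hw
  have hv1 : (⟨QuotientGroup.mk' A v, Subgroup.mem_map_of_mem _ hv⟩ : Bq) ≠ 1 := fun e =>
    hvA ((QuotientGroup.eq_one_iff v).1 (congrArg Subtype.val e))
  obtain ⟨k, hk⟩ := Subgroup.mem_zpowers_iff.1 (mem_zpowers_of_prime_card (rfl : Nat.card Bq = _) hv1 (g' := ⟨w, hw⟩))
  have hk' : (QuotientGroup.mk' A v) ^ k = w := congrArg Subtype.val hk
  have hc' : Commute (QuotientGroup.mk' A v) (QuotientGroup.mk' A x) := by
    change _ = _; rw [← map_mul, ← map_mul, hx]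
  rw [← hk']
  exact (hc'.zpow_left k).eq

variable [Finite G] {m : ℕ} {H : Fin (m + 1) → Subgroup G} (h0 : H 0 = ⊥) (hlast : H (Fin.last m) = ⊤)
  [hn : ∀ i, (H i).Normal]
  (hstep : ∀ i : Fin m, H i.castSucc ≤ H i.succ ∧ ((H i.castSucc).relIndex (H i.succ)).Prime)

include h0 hstep in
/-- An element moving two factors of the same order has a class size divisible by the square. -/
theorem sq_dvd_index {x : G} {i j : Fin m} (hij : i < j) {p : ℕ}
    (hpi : (H i.castSucc).relIndex (H i.succ) = p) (hpj : (H j.castSucc).relIndex (H j.succ) = p)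
    (hxi : x ∉ factCent (H i.castSucc) (H i.succ)) (hxj : x ∉ factCent (H j.castSucc) (H j.succ)) :
    p ^ 2 ∣ (Subgroup.centralizer ({x} : Set G)).index := by
  set C := Subgroup.centralizer ({x} : Set G)
  let a : Fin (m + 1) → ℕ := fun k => Nat.card ↥(C ⊓ H k)
  let b : Fin (m + 1) → ℕ := fun k => Nat.card (H k)
  have hab : ∀ k, a k * C.relIndex (H k) = b k := fun k => by
    have h1 := card_mul_relIndex (inf_le_right : C ⊓ H k ≤ H k)
    rwa [Subgroup.inf_relIndex_right] at h1
  have hbs : ∀ k : Fin m, b k.succ = b k.castSucc * (H k.castSucc).relIndex (H k.succ) := fun k =>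
    (card_mul_relIndex (hstep k).1).symm
  have hmono : ∀ k : Fin m, C.relIndex (H k.castSucc) ∣ C.relIndex (H k.succ) := fun k => by
    set A := C ⊓ H k.succ
    have h1 := card_mul_relIndex (inf_le_left : A ⊓ H k.castSucc ≤ A)
    have h2 := card_mul_relIndex (le_sup_right : H k.castSucc ≤ A ⊔ H k.castSucc)
    rw [Subgroup.relIndex_sup_right] at h2
    rw [Subgroup.inf_relIndex_left] at h1
    have h3 := Subgroup.card_dvd_of_le (sup_le inf_le_right (hstep k).1 : A ⊔ H k.castSucc ≤ H k.succ)
    have e : A ⊓ H k.castSucc = C ⊓ H k.castSucc := by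
      rw [inf_assoc, inf_eq_right.2 (hstep k).1]
    rw [e] at h1
    rw [← h2] at h3
    change a k.castSucc * _ = a k.succ at h1
    change b k.castSucc * _ ∣ b k.succ at h3
    rw [← hab, ← hab, ← h1] at h3
    have hpos : 0 < a k.castSucc := Nat.card_pos
    have hpos2 : 0 < (H k.castSucc).relIndex A :=
      Nat.pos_of_ne_zero Subgroup.index_ne_zero_of_finite
    have h4 : a k.castSucc * (H k.castSucc).relIndex A * C.relIndex (H k.castSucc) ∣
        a k.castSucc * (H k.castSucc).relIndex A * C.relIndex (H k.succ) := by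
      convert h3 using 1
      ring
    exact Nat.dvd_of_mul_dvd_mul_left (Nat.mul_pos hpos hpos2) h4
  have hjump : ∀ k : Fin m, x ∉ factCent (H k.castSucc) (H k.succ) →
      C.relIndex (H k.succ) = C.relIndex (H k.castSucc) * (H k.castSucc).relIndex (H k.succ) := fun k hk => by
    have e : a k.succ = a k.castSucc := by
      refine congrArg (fun K : Subgroup G => Nat.card K)
        (le_antisymm (le_inf inf_le_left fun c hc => ?_) (inf_le_inf_left _ (hstep k).1))
      by_contra hcA
      exact hk (factCent_of_commute (hstep k).1 (hstep k).2 hc.2 hcA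
        (Subgroup.mem_centralizer_singleton_iff.1 hc.1).symm)
    have h1 := hab k.succ
    rw [hbs, ← hab, e, mul_assoc] at h1
    exact Nat.eq_of_mul_eq_mul_left Nat.card_pos h1
  have hle : ∀ k l : Fin (m + 1), k ≤ l → C.relIndex (H k) ∣ C.relIndex (H l) := by
    intro k l
    induction l using Fin.induction with
    | zero => intro hk; rw [Fin.le_zero_iff.1 hk]
    | succ l ih =>
      intro hk
      rcases hk.eq_or_lt with rfl | hlt
      · exact dvd_rfl
      · exact (ih (Fin.le_castSucc_iff.2 hlt)).trans (hmono l)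
  have h1 : p ∣ C.relIndex (H j.castSucc) := by
    refine (?_ : p ∣ C.relIndex (H i.succ)).trans (hle _ _ (Fin.succ_le_castSucc_iff.2 hij))
    rw [hjump i hxi, hpi]; exact dvd_mul_left _ _
  have h2 : p ^ 2 ∣ C.relIndex (H j.succ) := by
    rw [hjump j hxj, hpj, pow_two]; exact mul_dvd_mul_right h1 p
  exact h2.trans (relIndex_dvd_index C _)

include h0 hlast hstep in
theorem exists_nilpotent (h : SF G) : ∃ K : Subgroup G, K.Normal ∧ Group.IsNilpotent K ∧
    commutator G ≤ K ∧ Squarefree K.index := by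
  classical
  let C : Fin m → Subgroup G := fun i => factCent (H i.castSucc) (H i.succ)
  let p : Fin m → ℕ := fun i => (H i.castSucc).relIndex (H i.succ)
  let K : Subgroup G := ⨅ i, C i
  have hGK : commutator G ≤ K := le_iInf fun i => commutator_le_factCent (hstep i).1 (hstep i).2
  have hKn : K.Normal := Subgroup.normal_iInf_normal fun i => inferInstance
  have hKnil : Group.IsNilpotent K := by
    refine (Subgroup.nilpotent_iff_finite_ascending_central_series K).2 ⟨m,
      fun k => (H ⟨min k m, by omega⟩).subgroupOf K, ⟨?_, fun x k hx g => ?_⟩, ?_⟩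
    · simp only [Nat.zero_min]
      rw [show (⟨0, by omega⟩ : Fin (m + 1)) = 0 from rfl, h0, Subgroup.bot_subgroupOf]
    · by_cases hk : k < m
      · rw [Subgroup.mem_subgroupOf] at hx ⊢
        have e1 : (⟨min (k + 1) m, by omega⟩ : Fin (m + 1)) = (⟨k, hk⟩ : Fin m).succ := Fin.ext (by simp; omega)
        have e2 : (⟨min k m, by omega⟩ : Fin (m + 1)) = (⟨k, hk⟩ : Fin m).castSucc := Fin.ext (by simp; omega)
        rw [e1] at hx
        rw [e2]
        have hg := mem_factCent.1 ((Subgroup.mem_iInf.1 g.2) ⟨k, hk⟩) x hx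
        have := inv_mem hg
        rw [commutatorElement_inv] at this
        exact this
      · simp only [show min k m = m by omega, show min (k + 1) m = m by omega] at hx ⊢
        rw [show (⟨m, by omega⟩ : Fin (m + 1)) = Fin.last m from rfl, hlast, Subgroup.top_subgroupOf]
        exact Subgroup.mem_top _
    · simp only [Nat.min_self]
      rw [show (⟨m, by omega⟩ : Fin (m + 1)) = Fin.last m from rfl, hlast, Subgroup.top_subgroupOf]
  -- at most one non-trivial factor for each prime
  have huniq : ∀ i j, C i ≠ ⊤ → C j ≠ ⊤ → p i = p j → i = j := by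
    intro i j hi hj hij
    by_contra hne
    obtain ⟨x, hxi, hxj⟩ : ∃ x, x ∉ C i ∧ x ∉ C j := by
      by_contra! hcon
      obtain ⟨y, hy⟩ : ∃ y, y ∉ C i := by
        by_contra! h'; exact hi ((Subgroup.eq_top_iff' _).2 h')
      obtain ⟨z, hz⟩ : ∃ z, z ∉ C j := by
        by_contra! h'; exact hj ((Subgroup.eq_top_iff' _).2 h')
      have hyj := hcon y hy
      have hzi : z ∈ C i := by
        by_contra h'; exact hz (hcon z h')
      have := hcon (y * z) fun h' => hy (((C i).mul_mem_cancel_right hzi).1 h')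
      exact hz (((C j).mul_mem_cancel_left hyj).1 this)
    have hsq : ¬ (p i) ^ 2 ∣ (Subgroup.centralizer ({x} : Set G)).index := fun hd =>
      (hstep i).2.ne_one (Nat.isUnit_iff.1 ((h x) (p i) (pow_two (p i) ▸ hd)))
    rcases lt_or_gt_of_ne hne with hlt | hlt
    · exact hsq (sq_dvd_index h0 hstep hlt rfl hij.symm hxi hxj)
    · exact hsq (hij ▸ sq_dvd_index h0 hstep hlt rfl hij hxj hxi)
  -- witnesses
  have hwit : ∀ i, C i ≠ ⊤ → ∃ v ∈ K, v ∈ H i.succ ∧ v ∉ H i.castSucc ∧ ∃ e, orderOf v = p i ^ e := by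
    intro i hi
    obtain ⟨g, hg⟩ : ∃ g, g ∉ C i := by
      by_contra! h'; exact hi ((Subgroup.eq_top_iff' _).2 h')
    rw [mem_factCent] at hg
    push Not at hg
    obtain ⟨u, hu, hgu⟩ := hg
    set v := ⁅g, u⁆
    have hvK : v ∈ K := hGK (Subgroup.commutator_mem_commutator trivial trivial)
    have hvB : v ∈ H i.succ := by
      simp only [v, commutatorElement_def]
      exact mul_mem ((hn i.succ).conj_mem u hu g) (inv_mem hu)
    haveI := Fact.mk (hstep i).2
    obtain ⟨e, r, hr, her⟩ := Nat.exists_eq_pow_mul_and_not_dvd (orderOf_pos v).ne' (p i) (hstep i).2.ne_one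
    refine ⟨v ^ r, pow_mem hvK r, pow_mem hvB r, fun hin => ?_, e, ?_⟩
    · refine hgu ?_
      have h1 : v ^ p i ∈ H i.castSucc := by
        have h2 : (⟨v, hvB⟩ : H i.succ) ^ ((H i.castSucc).subgroupOf (H i.succ)).index ∈
            (H i.castSucc).subgroupOf (H i.succ) := Subgroup.pow_index_mem _ _
        exact h2
      have h3 := Subgroup.mem_zpowers_iff.1
        (show v ∈ Subgroup.zpowers (v ^ Nat.gcd r (p i)) by
          rw [((Nat.Prime.coprime_iff_not_dvd (hstep i).2).2 hr).symm.gcd_eq_one, pow_one]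
          exact Subgroup.mem_zpowers v)
      rw [((Nat.Prime.coprime_iff_not_dvd (hstep i).2).2 hr).symm.gcd_eq_one, pow_one] at h3
      have h4 : v ^ (r * Nat.gcdA r (p i) + p i * Nat.gcdB r (p i) : ℤ) ∈ H i.castSucc := by
        rw [zpow_add, zpow_mul, zpow_mul, zpow_natCast, zpow_natCast]
        exact mul_mem (Subgroup.zpow_mem _ hin _) (Subgroup.zpow_mem _ h1 _)
      rw [← Nat.gcd_eq_gcd_ab, ((Nat.Prime.coprime_iff_not_dvd (hstep i).2).2 hr).symm.gcd_eq_one] at h4
      simpa using h4
    · have hr0 : r ≠ 0 := fun h' => hr (by rw [h']; exact dvd_zero _)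
      rw [orderOf_pow' _ hr0, her, Nat.gcd_mul_left_left,
        Nat.mul_div_cancel _ (Nat.pos_of_ne_zero hr0)]
  have hall : ∀ S : Finset (Fin m), (∀ i ∈ S, C i ≠ ⊤) → ∃ y ∈ K,
      (∀ q : ℕ, q.Prime → q ∣ orderOf y → ∃ i ∈ S, p i = q) ∧
      ∀ i ∈ S, ∀ x, x * y = y * x → x ∈ C i := by
    intro S
    induction S using Finset.induction with
    | empty => exact fun _ => ⟨1, one_mem _, fun q hq hd => absurd (orderOf_one (G := G) ▸ hd : q ∣ 1) hq.not_dvd_one,
        fun i hi => absurd hi (Finset.notMem_empty i)⟩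
    | insert i S hiS ih =>
      intro hS
      obtain ⟨y, hyK, hy1, hy2⟩ := ih fun j hj => hS j (Finset.mem_insert_of_mem hj)
      obtain ⟨v, hvK, hvB, hvA, e, hve⟩ := hwit i (hS i (Finset.mem_insert_self _ _))
      have hcop : (orderOf y).Coprime (orderOf v) := by
        rw [hve]
        refine Nat.Coprime.pow_right e (Nat.Coprime.symm ((Nat.Prime.coprime_iff_not_dvd (hstep i).2).2 fun hd => ?_))
        obtain ⟨j, hj, hji⟩ := hy1 _ (hstep i).2 hd
        exact hiS (huniq j i (hS j (Finset.mem_insert_of_mem hj)) (hS i (Finset.mem_insert_self _ _)) hji ▸ hj)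
      have hc := CfsgLib.CNGroups.commute_of_coprime hKnil hyK hvK hcop
      refine ⟨y * v, mul_mem hyK hvK, fun q hq hd => ?_, fun j hj x hx => ?_⟩
      · rw [hc.orderOf_mul_eq_mul_orderOf_of_coprime hcop] at hd
        rcases hq.dvd_mul.1 hd with hd | hd
        · obtain ⟨j, hj, hje⟩ := hy1 q hq hd
          exact ⟨j, Finset.mem_insert_of_mem hj, hje⟩
        · refine ⟨i, Finset.mem_insert_self _ _, ?_⟩
          rw [hve] at hd
          exact ((Nat.prime_dvd_prime_iff_eq hq (hstep i).2).1 (hq.dvd_of_dvd_pow hd)).symm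
      · have hmem : y ∈ Subgroup.zpowers (y * v) ∧ v ∈ Subgroup.zpowers (y * v) := by
          have hg := hcop.gcd_eq_one
          have hyv : ∀ (n : ℕ) (a b : G), Commute a b → a ^ n = 1 → (a * b) ^ n = b ^ n := fun n a b hab ha => by
            rw [hab.mul_pow, ha, one_mul]
          have h1 : v ^ orderOf y ∈ Subgroup.zpowers (y * v) := by
            rw [← hyv _ y v hc (pow_orderOf_eq_one y)]; exact Subgroup.npow_mem_zpowers _ _
          have h2 : y ^ orderOf v ∈ Subgroup.zpowers (y * v) := by
            rw [← hyv _ v y hc.symm (pow_orderOf_eq_one v), ← hc.eq]; exact Subgroup.npow_mem_zpowers _ _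
          have hv' : v ∈ Subgroup.zpowers (y * v) := by
            have e : v = (v ^ orderOf y) ^ Nat.gcdA (orderOf y) (orderOf v) := by
              conv_lhs => rw [← zpow_one v, ← Nat.cast_one, ← hg, Nat.gcd_eq_gcd_ab, zpow_add, zpow_mul,
                zpow_mul, zpow_natCast, zpow_natCast, pow_orderOf_eq_one, one_zpow, mul_one]
            have h3 := Subgroup.zpow_mem _ h1 (Nat.gcdA (orderOf y) (orderOf v))
            rwa [← e] at h3
          refine ⟨?_, hv'⟩
          have := mul_mem (Subgroup.mem_zpowers (y * v)) (inv_mem hv')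
          rwa [mul_inv_cancel_right] at this
        have hxz : ∀ z ∈ Subgroup.zpowers (y * v), x * z = z * x := fun z hz => by
          obtain ⟨k, rfl⟩ := Subgroup.mem_zpowers_iff.1 hz
          exact (Commute.zpow_right hx k).eq
        rcases Finset.mem_insert.1 hj with rfl | hj
        · exact factCent_of_commute (hstep j).1 (hstep j).2 hvB hvA (hxz v hmem.2)
        · exact hy2 j hj x (hxz y hmem.1)
  obtain ⟨y, -, -, hy⟩ := hall (Finset.univ.filter fun i => C i ≠ ⊤) fun i hi => (Finset.mem_filter.1 hi).2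
  refine ⟨K, hKn, hKnil, hGK, (h y).squarefree_of_dvd (Subgroup.index_dvd_of_le (le_iInf fun i x hx => ?_))⟩
  by_cases hi : C i = ⊤
  · exact hi ▸ Subgroup.mem_top x
  · exact hy i (Finset.mem_filter.2 ⟨Finset.mem_univ _, hi⟩) x (Subgroup.mem_centralizer_singleton_iff.1 hx)

end CfsgLib.FgsB.SquareFree
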