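import Cfsg.Agent.Lib.FgsB.SquareFreeClasses

/-!
The derived subgroup of a group whose conjugacy class sizes are square-free.
-/

set_option autoImplicit false
set_option maxHeartbeats 800000

open scoped commutatorElement
open CfsgLib.Base

namespace CfsgLib.FgsB.SquareFree

universe u

theorem eq_of_card_prime {G : Type u} [Group G] [Finite G] {p : ℕ} (hp : p.Prime) {R S : Subgroup G}
    (hR : Nat.card R ∣ p) (hS : Nat.card S ∣ p) {a : G} (haR : a ∈ R) (haS : a ∈ S) (ha : a ≠ 1) : R = S := by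
  have key : ∀ T : Subgroup G, Nat.card T ∣ p → a ∈ T → Subgroup.zpowers a = T := fun T hT haT => by
    have h1 : orderOf a ∣ p := (Subgroup.orderOf_dvd_natCard T haT).trans hT
    have h2 := ((Nat.dvd_prime hp).1 h1).resolve_left (orderOf_eq_one_iff.not.2 ha)
    refine Subgroup.eq_of_le_of_card_ge (Subgroup.zpowers_le.2 haT) ?_
    rw [Nat.card_zpowers, h2]
    exact Nat.le_of_dvd hp.pos hT
  rw [← key R hR haR, ← key S hS haS]

/-- In a `p`-group with square-free classes the derived subgroup is central of order at most `p`. -/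
theorem pgroup_derived {P : Type u} [Group P] [Finite P] {p : ℕ} [Fact p.Prime] (hP : IsPGroup p P) (h : SF P) :
    commutator P ≤ Subgroup.center P ∧ Nat.card (commutator P) ∣ p := by
  classical
  have hp : p.Prime := Fact.out
  obtain ⟨k, hk⟩ := IsPGroup.iff_card.1 hP
  have hidx : ∀ x : P, (Subgroup.centralizer ({x} : Set P)).index ∣ p := fun x => by
    have := dvd_prime_of_pgroup (hP.to_subgroup (⊤ : Subgroup P)) (Subgroup.centralizer ({x} : Set P)) (h x)
    rwa [Subgroup.relIndex_top_right] at this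
  have hcent : ∀ x : P, commutator P ≤ Subgroup.centralizer ({x} : Set P) := by
    intro x
    rcases (Nat.dvd_prime hp).1 (hidx x) with e | e
    · rw [Subgroup.index_eq_one.1 e]; exact le_top
    set C := Subgroup.centralizer ({x} : Set P)
    haveI hn : C.Normal := Subgroup.normal_of_index_eq_minFac_card (by
      have hk0 : k ≠ 0 := fun h0 => by
        have := C.index_dvd_card
        rw [e, hk, h0, pow_zero] at this
        exact hp.not_dvd_one this
      rw [e, hk, Nat.Prime.pow_minFac hp hk0])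
    haveI : IsCyclic (P ⧸ C) := isCyclic_of_prime_card (p := p) (by rw [← Subgroup.index_eq_card]; exact e)
    rw [commutator_def, Subgroup.commutator_le]
    intro a _ b _
    rw [← QuotientGroup.eq_one_iff, ← QuotientGroup.mk'_apply, map_commutatorElement,
      commutatorElement_eq_one_iff_mul_comm]
    exact IsCyclic.isMulCommutative.is_comm.comm _ _
  have hZ : commutator P ≤ Subgroup.center P := fun c hc => Subgroup.mem_center_iff.2 fun x =>
    (Subgroup.mem_centralizer_singleton_iff.1 (hcent x hc)).symm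
  refine ⟨hZ, ?_⟩
  have hz : ∀ a b c : P, c * ⁅a, b⁆ = ⁅a, b⁆ * c := fun a b c =>
    Subgroup.mem_center_iff.1 (hZ (Subgroup.commutator_mem_commutator trivial trivial)) c
  let φ : P → P →* P := fun x =>
    { toFun := fun u => ⁅x, u⁆
      map_one' := by simp [commutatorElement_def]
      map_mul' := fun u v => by
        calc ⁅x, u * v⁆ = ⁅x, u⁆ * (u * ⁅x, v⁆ * u⁻¹) := by simp only [commutatorElement_def]; group
          _ = ⁅x, u⁆ * ⁅x, v⁆ := by rw [hz x v u, mul_inv_cancel_right] }
  have hker : ∀ x, (φ x).ker = Subgroup.centralizer ({x} : Set P) := fun x => by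
    ext v
    rw [MonoidHom.mem_ker, Subgroup.mem_centralizer_singleton_iff, eq_comm (a := v * x),
      ← commutatorElement_eq_one_iff_mul_comm]
    rfl
  have hr : ∀ x, Nat.card (φ x).range ∣ p := fun x => by
    rw [← Subgroup.index_ker, hker]; exact hidx x
  by_cases hall : ∀ x u : P, ⁅x, u⁆ = 1
  · have : commutator P = ⊥ := by
      rw [commutator_def, eq_bot_iff, Subgroup.commutator_le]
      intro a _ b _
      rw [Subgroup.mem_bot]; exact hall a b
    rw [this, Subgroup.card_bot]; exact one_dvd p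
  push Not at hall
  obtain ⟨x₀, u₀, hxu⟩ := hall
  suffices hR : ∀ x u : P, ⁅x, u⁆ ∈ (φ x₀).range by
    refine (Subgroup.card_dvd_of_le ?_).trans (hr x₀)
    rw [commutator_def, Subgroup.commutator_le]
    exact fun a _ b _ => hR a b
  intro x u
  by_contra hne
  have hxu1 : ⁅x, u⁆ ≠ 1 := fun e => hne (e ▸ one_mem _)
  have hrne : (φ x).range ≠ (φ x₀).range := fun e => hne (e ▸ ⟨u, rfl⟩)
  have hdisj : ∀ a ∈ (φ x).range, a ∈ (φ x₀).range → a = 1 := fun a ha ha' => by
    by_contra ha1
    exact hrne (eq_of_card_prime hp (hr x) (hr x₀) ha ha' ha1)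
  -- equal kernels
  have hle : (φ (x * x₀)).ker ≤ (φ x).ker ⊓ (φ x₀).ker := by
    intro v hv
    have h1 : ⁅x₀, v⁆ * ⁅x, v⁆ = 1 := by
      refine Eq.trans ?_ (MonoidHom.mem_ker.1 hv)
      calc ⁅x₀, v⁆ * ⁅x, v⁆ = x * ⁅x₀, v⁆ * x⁻¹ * ⁅x, v⁆ := by rw [hz x₀ v x, mul_inv_cancel_right]
        _ = ⁅x * x₀, v⁆ := by simp only [commutatorElement_def]; group
    have h2 : ⁅x₀, v⁆ = 1 := hdisj _ (by
      rw [eq_inv_of_mul_eq_one_left h1]
      exact (φ x).range.inv_mem ⟨v, rfl⟩) ⟨v, rfl⟩
    rw [h2, one_mul] at h1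
    exact ⟨h1, h2⟩
  have hi : ∀ y : P, (∃ w : P, ⁅y, w⁆ ≠ 1) → (φ y).ker.index = p := fun y ⟨w, hw⟩ => by
    refine ((Nat.dvd_prime hp).1 (hker y ▸ hidx y)).resolve_left fun e => hw ?_
    exact MonoidHom.mem_ker.1 (show w ∈ (φ y).ker by rw [Subgroup.index_eq_one.1 e]; trivial)
  have hx := hi x ⟨u, hxu1⟩
  have hx₀ := hi x₀ ⟨u₀, hxu⟩
  have h5 : ((φ x).ker ⊓ (φ x₀).ker).index = p := Nat.dvd_antisymm
    ((Subgroup.index_dvd_of_le hle).trans (hker (x * x₀) ▸ hidx (x * x₀)))
    (hx ▸ Subgroup.index_dvd_of_le inf_le_left)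
  have hkeq : (φ x).ker = (φ x₀).ker := by
    have key : ∀ K : Subgroup P, K.index = p → (φ x).ker ⊓ (φ x₀).ker ≤ K → (φ x).ker ⊓ (φ x₀).ker = K :=
      fun K hK hKle => Subgroup.eq_of_le_of_card_ge hKle (by
        have e1 := ((φ x).ker ⊓ (φ x₀).ker).card_mul_index
        have e2 := K.card_mul_index
        rw [h5] at e1
        rw [hK, ← e1] at e2
        exact (Nat.eq_of_mul_eq_mul_right hp.pos e2).le)
    exact (key _ hx inf_le_left).symm.trans (key _ hx₀ inf_le_right)
  have hxx : x ∈ (φ x₀).ker := hkeq ▸ (show x ∈ (φ x).ker from by simp [φ, commutatorElement_def])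
  obtain ⟨w, hw⟩ : ∃ w, w ∉ (φ x₀).ker := ⟨u₀, hxu⟩
  have hw' : w ∉ (φ x).ker := hkeq ▸ hw
  have f1 : ∀ y, w ∉ (φ y).ker → ⁅w, y⁆ ∈ (φ y).range ∧ ⁅w, y⁆ ≠ 1 := fun y hy => by
    refine ⟨?_, fun e => hy ?_⟩
    · rw [← commutatorElement_inv]; exact (φ y).range.inv_mem ⟨w, rfl⟩
    · rw [← commutatorElement_inv, inv_eq_one] at e
      exact e
  have g1 := eq_of_card_prime hp (hr w) (hr x) (⟨x, rfl⟩) (f1 x hw').1 (f1 x hw').2
  have g2 := eq_of_card_prime hp (hr w) (hr x₀) (⟨x₀, rfl⟩) (f1 x₀ hw).1 (f1 x₀ hw).2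
  exact hrne (g1.symm.trans g2)

/-- The square of a prime does not divide the order of the derived subgroup. -/
theorem sq_not_dvd_commutator : ∀ {G : Type u} [Group G] [Finite G], SF G → ∀ p : ℕ, p.Prime →
    ¬ p ^ 2 ∣ Nat.card (commutator G) := by
  classical
  suffices H : ∀ n, ∀ (G : Type u) [Group G] [Finite G], Nat.card G = n → SF G → ∀ p : ℕ, p.Prime →
      ¬ p ^ 2 ∣ Nat.card (commutator G) from fun {G} _ _ h => H _ G rfl h
  intro n
  induction n using Nat.strong_induction_on with
  | _ n ih =>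
  intro G _ _ hn h p hp hdvd
  haveI := Fact.mk hp
  have hss := isSupersolvable h
  by_cases hq : ∃ N : Subgroup G, N.Normal ∧ (Nat.card N).Prime ∧ Nat.card N ≠ p
  · obtain ⟨N, hN, hNp, hNne⟩ := hq
    haveI := hN
    set f := QuotientGroup.mk' N
    have hsurj : Function.Surjective f := QuotientGroup.mk'_surjective N
    refine ih _ (hn ▸ CfsgLib.SolvStruct.card_quotient_lt' (CfsgLib.SolvStruct.ne_bot_of_card_prime hNp)) _ rfl
      (h.of_surjective hsurj) p hp ?_
    have hmap : (commutator G).map f = commutator (G ⧸ N) := by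
      rw [commutator_def, Subgroup.map_commutator, Subgroup.map_top_of_surjective f hsurj, ← commutator_def]
    let r : ↥(commutator G) →* G ⧸ N := f.comp (commutator G).subtype
    have h1 := r.ker.card_mul_index
    rw [Subgroup.index_ker] at h1
    have hrange : r.range = commutator (G ⧸ N) := by
      rw [← hmap, MonoidHom.range_comp, Subgroup.range_subtype]
    rw [hrange] at h1
    have hkd : Nat.card r.ker ∣ Nat.card N := Subgroup.card_dvd_of_injective
      (f := ({ toFun := fun x => ⟨((x : ↥(commutator G)) : G), (QuotientGroup.eq_one_iff _).1 x.2⟩,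
               map_one' := rfl, map_mul' := fun _ _ => rfl } : r.ker →* N))
      fun a b hab => Subtype.ext (Subtype.ext (congrArg (fun z : N => (z : G)) hab))
    have hcop : Nat.Coprime (p ^ 2) (Nat.card r.ker) :=
      (((Nat.coprime_primes hp hNp).2 (Ne.symm hNne)).coprime_dvd_right hkd).pow_left 2
    rw [← h1] at hdvd
    exact hcop.dvd_of_dvd_mul_left hdvd
  push Not at hq
  obtain ⟨m, H, h0, hlast, hHn, hstep, -⟩ := CfsgLib.SolvStruct.exists_chain_aux _ le_rfl hss
  haveI := hHn
  obtain ⟨K, hKn, hKnil, hGK, hKsq⟩ := exists_nilpotent h0 hlast hstep h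
  haveI := hKn
  haveI := hKnil
  -- `K` is a `p`-group
  have hKp : IsPGroup p K := by
    refine IsPGroup.of_card (n := (Nat.card K).primeFactorsList.length)
      (Nat.eq_prime_pow_of_unique_prime_dvd Nat.card_pos.ne' fun {q} hqp hqd => ?_)
    haveI := Fact.mk hqp
    obtain ⟨Q⟩ : Nonempty (Sylow q K) := inferInstance
    haveI hQn : (Q : Subgroup K).Normal :=
      Q.normal_of_normalizerCondition Group.normalizerCondition_of_isNilpotent
    haveI := Q.characteristic_of_normal hQn
    haveI : ((Q : Subgroup K).map K.subtype).Normal := inferInstance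
    obtain ⟨R, hR, hRp, hRQ⟩ := CfsgLib.SolvStruct.exists_prime_normal_le hss
      (inferInstance : ((Q : Subgroup K).map K.subtype).Normal)
      (fun e => Q.ne_bot_of_dvd_card hqd ((Subgroup.map_eq_bot_iff_of_injective _ K.subtype_injective).1 e))
    rw [← hq R hR hRp]
    obtain ⟨j, hj⟩ := IsPGroup.iff_card.1 ((Q.2.map K.subtype).to_le hRQ)
    exact ((Nat.prime_dvd_prime_iff_eq hRp hqp).1 (hRp.dvd_of_dvd_pow hj.dvd)).symm
  -- the Sylow subgroup is normal
  obtain ⟨P, hKP⟩ := hKp.exists_le_sylow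
  haveI hPn : (P : Subgroup G).Normal := ⟨fun x hx g => by
    rw [show g * x * g⁻¹ = ⁅g, x⁆ * x by rw [commutatorElement_def, inv_mul_cancel_right]]
    exact mul_mem (hKP (hGK (Subgroup.commutator_mem_commutator trivial trivial))) hx⟩
  have hPd := (pgroup_derived P.2 (h.subgroup (P : Subgroup G))).2
  have hcontra : ∀ R : Subgroup G, commutator G ≤ R → Nat.card R ∣ p → False := fun R hle hR => by
    have := Nat.le_of_dvd hp.pos (hdvd.trans ((Subgroup.card_dvd_of_le hle).trans hR))
    nlinarith [hp.two_le]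
  -- a complementary element
  haveI : IsZGroup (G ⧸ K) := IsZGroup.of_squarefree (by rwa [← Subgroup.index_eq_card])
  haveI : IsMulCommutative (G ⧸ K) := ⟨⟨fun a b => by
    obtain ⟨a, rfl⟩ := QuotientGroup.mk'_surjective K a
    obtain ⟨b, rfl⟩ := QuotientGroup.mk'_surjective K b
    rw [← commutatorElement_eq_one_iff_mul_comm, ← map_commutatorElement]
    exact (QuotientGroup.eq_one_iff _).2 (hGK (Subgroup.commutator_mem_commutator trivial trivial))⟩⟩
  haveI : IsCyclic (G ⧸ K) := by
    haveI : Group.IsNilpotent (G ⧸ K) := by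
      letI : CommGroup (G ⧸ K) := { (inferInstance : Group (G ⧸ K)) with mul_comm := mul_comm' }
      exact CommGroup.isNilpotent
    infer_instance
  obtain ⟨g', hg'⟩ := IsCyclic.exists_generator (α := G ⧸ K)
  obtain ⟨g, rfl⟩ := QuotientGroup.mk'_surjective K g'
  have hgen0 : ∀ x : G, x ∈ K ⊔ Subgroup.zpowers g := fun x => by
    obtain ⟨i, hi⟩ := Subgroup.mem_zpowers_iff.1 (hg' (QuotientGroup.mk' K x))
    rw [← map_zpow, QuotientGroup.mk'_eq_mk'] at hi
    obtain ⟨z, hz, hz'⟩ := hi
    rw [← hz']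
    exact mul_mem (Subgroup.mem_sup_right (zpow_mem (Subgroup.mem_zpowers g) i)) (Subgroup.mem_sup_left hz)
  obtain ⟨e, r, hr, her⟩ := Nat.exists_eq_pow_mul_and_not_dvd (orderOf_pos g).ne' p hp.ne_one
  set h' := g ^ p ^ e with hh'
  have hgP : g ∈ (P : Subgroup G) ⊔ Subgroup.zpowers h' := by
    have hgr : g ^ r ∈ (P : Subgroup G) := by
      obtain ⟨Q, hQ⟩ := (IsPGroup.of_card (n := e) (show Nat.card (Subgroup.zpowers (g ^ r)) = p ^ e by
        rw [Nat.card_zpowers, orderOf_pow' _ (fun h0 => hr (by rw [h0]; exact dvd_zero _)), her,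
          Nat.gcd_mul_left_left, Nat.mul_div_cancel _ (Nat.pos_of_ne_zero fun h0 => hr (by rw [h0]; exact dvd_zero _))])
          ).exists_le_sylow
      haveI := Sylow.unique_of_normal P hPn
      rw [Subsingleton.elim Q P] at hQ
      exact hQ (Subgroup.mem_zpowers _)
    have hg1 : Nat.gcd r (p ^ e) = 1 := (((Nat.Prime.coprime_iff_not_dvd hp).2 hr).symm.pow_right e)
    rw [← zpow_one g, ← Nat.cast_one, ← hg1, Nat.gcd_eq_gcd_ab, zpow_add, zpow_mul, zpow_mul, zpow_natCast,
      zpow_natCast]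
    exact mul_mem (Subgroup.mem_sup_left (Subgroup.zpow_mem _ hgr _))
      (Subgroup.mem_sup_right (Subgroup.zpow_mem _ (Subgroup.mem_zpowers h') _))
  have hgen : (P : Subgroup G) ⊔ Subgroup.zpowers h' = ⊤ := (Subgroup.eq_top_iff' _).2 fun x =>
    sup_le (hKP.trans le_sup_left) (Subgroup.zpowers_le.2 hgP) (hgen0 x)
  have hord : ¬ p ∣ orderOf h' := by
    rw [hh', orderOf_pow' _ (pow_ne_zero _ hp.ne_zero), her, Nat.gcd_mul_right_left,
      Nat.mul_div_cancel_left _ (pow_pos hp.pos e)]
    exact hr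
  -- a criterion for containing the derived subgroup
  have hcrit : ∀ R : Subgroup G, R.Normal → (∀ a ∈ (P : Subgroup G), ∀ b ∈ (P : Subgroup G), ⁅a, b⁆ ∈ R) →
      (∀ a ∈ (P : Subgroup G), ⁅h', a⁆ ∈ R) → commutator G ≤ R := by
    intro R hR hPP hhP
    set f := QuotientGroup.mk' R
    have hc : ∀ a b, ⁅a, b⁆ ∈ R → Commute (f a) (f b) := fun a b hab => by
      rw [← QuotientGroup.eq_one_iff, ← QuotientGroup.mk'_apply, map_commutatorElement,
        commutatorElement_eq_one_iff_mul_comm] at hab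
      exact hab
    have hPc : (P : Subgroup G) ≤ (Subgroup.center (G ⧸ R)).comap f := fun a ha => by
      refine Subgroup.mem_center_iff.2 fun y => ?_
      obtain ⟨y, rfl⟩ := QuotientGroup.mk'_surjective R y
      have hy : y ∈ (Subgroup.centralizer ({f a} : Set (G ⧸ R))).comap f := by
        refine (sup_le (fun b hb => ?_) (Subgroup.zpowers_le.2 ?_)) (hgen ▸ Subgroup.mem_top y)
        · exact Subgroup.mem_centralizer_singleton_iff.2 (hc b a (hPP b hb a ha)).eq
        · exact Subgroup.mem_centralizer_singleton_iff.2 (hc h' a (hhP a ha)).eq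
      exact Subgroup.mem_centralizer_singleton_iff.1 hy
    have hhc : h' ∈ (Subgroup.center (G ⧸ R)).comap f := by
      refine Subgroup.mem_center_iff.2 fun y => ?_
      obtain ⟨y, rfl⟩ := QuotientGroup.mk'_surjective R y
      have hy : y ∈ (Subgroup.centralizer ({f h'} : Set (G ⧸ R))).comap f := by
        refine (sup_le (fun b hb => ?_) (Subgroup.zpowers_le.2 ?_)) (hgen ▸ Subgroup.mem_top y)
        · exact Subgroup.mem_centralizer_singleton_iff.2 (hc h' b (hhP b hb)).symm.eq
        · exact Subgroup.mem_centralizer_singleton_iff.2 rfl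
      exact Subgroup.mem_centralizer_singleton_iff.1 hy
    rw [commutator_def, Subgroup.commutator_le]
    intro a _ b _
    rw [← QuotientGroup.eq_one_iff, ← QuotientGroup.mk'_apply, map_commutatorElement,
      commutatorElement_eq_one_iff_mul_comm]
    exact (Subgroup.mem_center_iff.1 ((sup_le hPc (Subgroup.zpowers_le.2 hhc)) (hgen ▸ Subgroup.mem_top a)) (f b)).symm
  set C := Subgroup.centralizer ({h'} : Set G) with hC
  have hMp : C.relIndex P ∣ p := dvd_prime_of_pgroup P.2 C (h h')
  let PD : Subgroup G := (commutator (P : Subgroup G)).map (P : Subgroup G).subtype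
  have hPDn : PD.Normal := inferInstance
  have hPDc : Nat.card PD ∣ p := by
    rwa [← Nat.card_congr (Subgroup.equivMapOfInjective _ _ (P : Subgroup G).subtype_injective).toEquiv]
  have hPDmem : ∀ a ∈ (P : Subgroup G), ∀ b ∈ (P : Subgroup G), ⁅a, b⁆ ∈ PD := fun a ha b hb =>
    ⟨⁅(⟨a, ha⟩ : (P : Subgroup G)), ⟨b, hb⟩⁆, Subgroup.commutator_mem_commutator trivial trivial, rfl⟩
  rcases (Nat.dvd_prime hp).1 hMp with e1 | e1
  · -- `h'` centralises the Sylow subgroup
    refine hcontra PD (hcrit PD hPDn hPDmem fun a ha => ?_) hPDc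
    have : a ∈ C := (Subgroup.relIndex_eq_one.1 e1) ha
    rw [commutatorElement_eq_one_iff_mul_comm.2 (Subgroup.mem_centralizer_singleton_iff.1 this).symm]
    exact one_mem _
  have hconj : ∀ a ∈ (P : Subgroup G), h' * a * h'⁻¹ ∈ (P : Subgroup G) := fun a ha => hPn.conj_mem a ha h'
  by_cases hab : ∀ a ∈ (P : Subgroup G), ∀ b ∈ (P : Subgroup G), a * b = b * a
  · -- an abelian Sylow subgroup
    have hmem : ∀ u : (P : Subgroup G), ⁅h', (u : G)⁆ ∈ (P : Subgroup G) := fun u => by
      rw [commutatorElement_def]; exact mul_mem (hconj u u.2) (inv_mem u.2)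
    let φ : (P : Subgroup G) →* (P : Subgroup G) :=
      { toFun := fun u => ⟨⁅h', (u : G)⁆, hmem u⟩
        map_one' := Subtype.ext (by simp [commutatorElement_def])
        map_mul' := fun u v => Subtype.ext (by
          change ⁅h', (u : G) * v⁆ = ⁅h', (u : G)⁆ * ⁅h', (v : G)⁆
          calc ⁅h', (u : G) * v⁆ = ⁅h', (u : G)⁆ * ((u : G) * ⁅h', (v : G)⁆ * (u : G)⁻¹) := by
                simp only [commutatorElement_def]; group
            _ = _ := by rw [hab _ u.2 _ (hmem v), mul_inv_cancel_right]) }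
    have hφr : Nat.card φ.range ∣ p := by
      rw [← Subgroup.index_ker]
      have : φ.ker = C.subgroupOf P := by
        ext v
        rw [MonoidHom.mem_ker, Subgroup.mem_subgroupOf, hC, Subgroup.mem_centralizer_singleton_iff,
          Subtype.ext_iff, eq_comm (a := (v : G) * h'), ← commutatorElement_eq_one_iff_mul_comm]
        rfl
      rw [this]
      exact hMp
    let R := φ.range.map (P : Subgroup G).subtype
    have hRn : R.Normal := by
      refine ⟨fun x hx y => ?_⟩
      let S : Subgroup G := Subgroup.normalizer (R : Set G)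
      have hsub : (P : Subgroup G) ⊔ Subgroup.zpowers h' ≤ S := by
        refine sup_le (fun a ha => ?_) (Subgroup.zpowers_le.2 ?_)
        · have key : ∀ b ∈ (P : Subgroup G), ∀ z ∈ R, b * z * b⁻¹ = z := fun b hb z hz => by
            rw [hab b hb z (Subgroup.map_subtype_le _ hz), mul_inv_cancel_right]
          refine Subgroup.mem_normalizer_iff.2 fun z => ⟨fun hz => by rw [key a ha z hz]; exact hz, fun hz => ?_⟩
          have h1 := key a⁻¹ (inv_mem ha) _ hz
          have h2 : z = a * z * a⁻¹ := by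
            calc z = a⁻¹ * (a * z * a⁻¹) * a⁻¹⁻¹ := by group
              _ = _ := h1
          rw [h2]; exact hz
        · refine Subgroup.mem_normalizer_fintype (S := (R : Set G)) fun z hz => ?_
          obtain ⟨w, ⟨u, rfl⟩, rfl⟩ := Subgroup.mem_map.1 hz
          refine ⟨φ ⟨_, hconj u u.2⟩, ⟨_, rfl⟩, ?_⟩
          change ⁅h', h' * (u : G) * h'⁻¹⁆ = h' * ⁅h', (u : G)⁆ * h'⁻¹
          simp only [commutatorElement_def]; group
      have hy : y ∈ S := hsub (hgen ▸ Subgroup.mem_top y)
      exact (Subgroup.mem_normalizer_iff.1 hy x).1 hx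
    refine hcontra R (hcrit R hRn (fun a ha b hb => ?_)
      (fun a ha => ⟨φ ⟨a, ha⟩, ⟨_, rfl⟩, rfl⟩)) ?_
    · rw [commutatorElement_eq_one_iff_mul_comm.2 (hab a ha b hb)]; exact one_mem _
    · rwa [← Nat.card_congr (Subgroup.equivMapOfInjective _ _ (P : Subgroup G).subtype_injective).toEquiv]
  -- a non-abelian Sylow subgroup is impossible
  let M : Subgroup (P : Subgroup G) := C.subgroupOf P
  have hMi : M.index = p := e1
  have hMmax : ∀ T : Subgroup (P : Subgroup G), M ≤ T → T = M ∨ T = ⊤ := fun T hT => by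
    have h1 := Subgroup.index_dvd_of_le hT
    rw [hMi] at h1
    rcases (Nat.dvd_prime hp).1 h1 with e2 | e2
    · exact Or.inr (Subgroup.index_eq_one.1 e2)
    · refine Or.inl (Subgroup.eq_of_le_of_card_ge hT ?_).symm
      have a1 := M.card_mul_index
      have a2 := T.card_mul_index
      rw [hMi] at a1
      rw [e2, ← a1] at a2
      exact (Nat.eq_of_mul_eq_mul_right hp.pos a2).le
  obtain ⟨y, hyM, hyc⟩ : ∃ y : (P : Subgroup G), y ∈ M ∧ y ∉ Subgroup.center (P : Subgroup G) := by
    by_contra! hcon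
    apply hab
    have hZ : (⊤ : Subgroup (P : Subgroup G)) ≤ Subgroup.center (P : Subgroup G) := by
      obtain ⟨u, hu⟩ : ∃ u, u ∉ M := by
        by_contra! hh
        rw [(Subgroup.eq_top_iff' M).2 hh, Subgroup.index_top] at hMi
        exact hp.one_lt.ne hMi
      intro a _
      refine Subgroup.mem_center_iff.2 fun b => ?_
      have hb : ∀ c, c ∈ Subgroup.centralizer ({u} : Set (P : Subgroup G)) := by
        intro c
        rcases hMmax (Subgroup.centralizer ({u} : Set (P : Subgroup G))) (fun z hz =>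
          Subgroup.mem_centralizer_singleton_iff.2 (Subgroup.mem_center_iff.1 (hcon z hz) u).symm) with e2 | e2
        · exact absurd (e2 ▸ Subgroup.mem_centralizer_singleton_iff.2 rfl : u ∈ M) hu
        · rw [e2]; trivial
      rcases hMmax (Subgroup.center (P : Subgroup G)) hcon with e2 | e2
      · exact absurd (e2 ▸ Subgroup.mem_center_iff.2 (fun c =>
          Subgroup.mem_centralizer_singleton_iff.1 (hb c)) : u ∈ M) hu
      · exact Subgroup.mem_center_iff.1 (show a ∈ Subgroup.center _ by rw [e2]; trivial) b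
    intro a ha b hb
    exact congrArg Subtype.val (Subgroup.mem_center_iff.1 (hZ (Subgroup.mem_top ⟨b, hb⟩)) ⟨a, ha⟩)
  have hyh : Commute (y : G) h' := Subgroup.mem_centralizer_singleton_iff.1 hyM
  have hyo : (orderOf (y : G)).Coprime (orderOf h') := by
    obtain ⟨j, hj⟩ := P.2 y
    refine ((Nat.Prime.coprime_iff_not_dvd hp).2 hord).pow_left j |>.coprime_dvd_left ?_
    refine orderOf_dvd_of_pow_eq_one ?_
    rw [← Subgroup.coe_pow, hj, Subgroup.coe_one]
  -- the centraliser of `y` in the Sylow subgroup is `M`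
  let T : Subgroup (P : Subgroup G) := (Subgroup.centralizer ({(y : G) * h'} : Set G)).subgroupOf P
  have hTi : T.index ∣ p := dvd_prime_of_pgroup P.2 _ (h _)
  set Cy := Subgroup.centralizer ({y} : Set (P : Subgroup G)) with hCy
  have hTle : T ≤ M ⊓ Cy := by
    intro x hx
    have hxc : Commute (x : G) ((y : G) * h') := Subgroup.mem_centralizer_singleton_iff.1 hx
    have hg := hyo.gcd_eq_one
    have h1 : h' ^ orderOf (y : G) = ((y : G) * h') ^ orderOf (y : G) := by
      rw [hyh.mul_pow, pow_orderOf_eq_one, one_mul]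
    have hxh : Commute (x : G) h' := by
      have c1 : Commute (x : G) (h' ^ orderOf (y : G)) := h1 ▸ hxc.pow_right _
      have e : (h' ^ orderOf (y : G)) ^ Nat.gcdA (orderOf (y : G)) (orderOf h') = h' := by
        conv_rhs => rw [← zpow_one h', ← Nat.cast_one, ← hg, Nat.gcd_eq_gcd_ab, zpow_add, zpow_mul, zpow_mul,
          zpow_natCast, zpow_natCast, pow_orderOf_eq_one, one_zpow, mul_one]
      rw [← e]
      exact c1.zpow_right _
    have hxy : Commute (x : G) (y : G) := by
      have := hxc.mul_right hxh.inv_right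
      rwa [mul_inv_cancel_right] at this
    exact ⟨Subgroup.mem_centralizer_singleton_iff.2 hxh, Subgroup.mem_centralizer_singleton_iff.2 (Subtype.ext hxy)⟩
  have hTM : T = M := by
    refine Subgroup.eq_of_le_of_card_ge (hTle.trans inf_le_left) ?_
    have a1 := M.card_mul_index
    have a2 := T.card_mul_index
    rw [hMi, ← a2] at a1
    exact Nat.le_of_mul_le_mul_right (a1.le.trans (Nat.mul_le_mul_left _ (Nat.le_of_dvd hp.pos hTi))) hp.pos
  have hCyM : Cy = M := by
    refine (hMmax Cy (hTM ▸ hTle.trans inf_le_right)).resolve_right fun e2 => hyc ?_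
    exact Subgroup.mem_center_iff.2 fun g =>
      Subgroup.mem_centralizer_singleton_iff.1 (show g ∈ Cy by rw [e2]; trivial)
  have hzc := (pgroup_derived P.2 (h.subgroup (P : Subgroup G))).1
  obtain ⟨u, hu⟩ : ∃ u, u ∉ M := by
    by_contra! hh
    rw [(Subgroup.eq_top_iff' M).2 hh, Subgroup.index_top] at hMi
    exact hp.one_lt.ne hMi
  let w : (P : Subgroup G) := ⟨⁅h', (u : G)⁆, by rw [commutatorElement_def]; exact mul_mem (hconj u u.2) (inv_mem u.2)⟩
  have hz : ∀ a b c : (P : Subgroup G), c * ⁅a, b⁆ = ⁅a, b⁆ * c := fun a b c =>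
    Subgroup.mem_center_iff.1 (hzc (Subgroup.commutator_mem_commutator trivial trivial)) c
  have hzM : ⁅y, u⁆ ∈ M := hCyM ▸ Subgroup.mem_centralizer_singleton_iff.2 (hz y u y).symm
  have hzh : h' * ((⁅y, u⁆ : (P : Subgroup G)) : G) * h'⁻¹ = ((⁅y, u⁆ : (P : Subgroup G)) : G) := by
    rw [← Subgroup.mem_centralizer_singleton_iff.1 (Subgroup.mem_subgroupOf.1 hzM), mul_inv_cancel_right]
  have hyw : ⁅y, w⁆ = 1 := by
    have h2 : ⁅y, w * u⁆ = ⁅y, u⁆ := by
      refine Subtype.ext (Eq.trans ?_ hzh)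
      change ⁅(y : G), ⁅h', (u : G)⁆ * (u : G)⁆ = h' * ⁅(y : G), (u : G)⁆ * h'⁻¹
      have e : h' * (y : G) * h'⁻¹ = y := by rw [← hyh.eq, mul_inv_cancel_right]
      rw [show ⁅h', (u : G)⁆ * (u : G) = h' * (u : G) * h'⁻¹ by rw [commutatorElement_def, inv_mul_cancel_right]]
      calc ⁅(y : G), h' * (u : G) * h'⁻¹⁆ = ⁅h' * (y : G) * h'⁻¹, h' * (u : G) * h'⁻¹⁆ := by rw [e]
        _ = h' * ⁅(y : G), (u : G)⁆ * h'⁻¹ := by simp only [commutatorElement_def]; group
    have h3 : ⁅y, w * u⁆ = ⁅y, w⁆ * ⁅y, u⁆ := by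
      calc ⁅y, w * u⁆ = ⁅y, w⁆ * (w * ⁅y, u⁆ * w⁻¹) := by simp only [commutatorElement_def]; group
        _ = _ := by rw [hz y u w, mul_inv_cancel_right]
    rw [h3, mul_eq_right] at h2
    exact h2
  have hwM : w ∈ M := hCyM ▸ Subgroup.mem_centralizer_singleton_iff.2
    (commutatorElement_eq_one_iff_mul_comm.1 hyw).symm
  have hwh : Commute h' (w : G) := (Subgroup.mem_centralizer_singleton_iff.1 (Subgroup.mem_subgroupOf.1 hwM)).symm
  have hk : ∀ k : ℕ, h' ^ k * (u : G) * (h' ^ k)⁻¹ = (w : G) ^ k * u := by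
    intro k
    induction k with
    | zero => simp
    | succ k ih =>
      calc h' ^ (k + 1) * (u : G) * (h' ^ (k + 1))⁻¹ = h' * (h' ^ k * (u : G) * (h' ^ k)⁻¹) * h'⁻¹ := by
            rw [pow_succ']; group
        _ = h' * ((w : G) ^ k * u) * h'⁻¹ := by rw [ih]
        _ = (w : G) ^ k * (h' * (u : G) * h'⁻¹) := by rw [← mul_assoc, (hwh.pow_right k).eq]; group
        _ = (w : G) ^ k * ((w : G) * u) := by
            rw [show (w : G) * u = h' * (u : G) * h'⁻¹ from (by
              change ⁅h', (u : G)⁆ * (u : G) = _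
              rw [commutatorElement_def, inv_mul_cancel_right])]
        _ = _ := by rw [pow_succ, mul_assoc]
  have hw1 : (w : G) = 1 := by
    have h4 := hk (orderOf h')
    rw [pow_orderOf_eq_one, one_mul, inv_one, mul_one, eq_comm, mul_eq_right] at h4
    obtain ⟨j, hj⟩ := P.2 w
    have h5 : (w : G) ^ p ^ j = 1 := by rw [← Subgroup.coe_pow, hj, Subgroup.coe_one]
    have hc : Nat.Coprime (orderOf h') (p ^ j) :=
      ((Nat.Prime.coprime_iff_not_dvd hp).2 hord).symm.pow_right j
    exact orderOf_eq_one_iff.1 (Nat.dvd_one.1 (hc ▸ Nat.dvd_gcd (orderOf_dvd_of_pow_eq_one h4)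
      (orderOf_dvd_of_pow_eq_one h5)))
  exact hu (Subgroup.mem_subgroupOf.2 (Subgroup.mem_centralizer_singleton_iff.2
    (commutatorElement_eq_one_iff_mul_comm.1 hw1).symm))

/-- A nilpotent group with square-free classes has class at most two. -/
theorem nilpotent_derived_le_center {N : Type u} [Group N] [Finite N] [Group.IsNilpotent N] (h : SF N) :
    commutator N ≤ Subgroup.center N := by
  classical
  let S : ∀ p : Nat.Primes, Sylow (p : ℕ) N := fun p => default
  have hn : ∀ p : Nat.Primes, (S p : Subgroup N).Normal := fun p =>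
    haveI := Fact.mk p.2
    (S p).normal_of_normalizerCondition Group.normalizerCondition_of_isNilpotent
  have htop := iSup_sylow_eq_top S
  have hcross : ∀ p q : Nat.Primes, p ≠ q → ∀ a ∈ (S p : Subgroup N), ∀ b ∈ (S q : Subgroup N), Commute a b := by
    intro p q hpq a ha b hb
    refine CfsgLib.CNGroups.commute_of_coprime (H := (⊤ : Subgroup N)) (Group.isNilpotent_top.2 inferInstance)
      (Subgroup.mem_top a) (Subgroup.mem_top b) ?_
    haveI := Fact.mk p.2
    haveI := Fact.mk q.2
    obtain ⟨i, hi⟩ := (S p).2 ⟨a, ha⟩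
    obtain ⟨j, hj⟩ := (S q).2 ⟨b, hb⟩
    refine Nat.Coprime.coprime_dvd_left (orderOf_dvd_of_pow_eq_one (show a ^ (p : ℕ) ^ i = 1 from
      congrArg Subtype.val hi)) (Nat.Coprime.coprime_dvd_right (orderOf_dvd_of_pow_eq_one
      (show b ^ (q : ℕ) ^ j = 1 from congrArg Subtype.val hj)) ?_)
    exact ((Nat.coprime_primes p.2 q.2).2 fun e => hpq (Subtype.ext e)).pow i j
  set f := QuotientGroup.mk' (Subgroup.center N)
  have hcomm : ∀ p q : Nat.Primes, ∀ a ∈ (S p : Subgroup N), ∀ b ∈ (S q : Subgroup N), Commute (f a) (f b) := by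
    intro p q a ha b hb
    by_cases hpq : p = q
    · subst hpq
      haveI := Fact.mk p.2
      haveI := hn p
      have hz := (pgroup_derived (S p).2 (h.subgroup (S p : Subgroup N))).1
      refine commutatorElement_eq_one_iff_mul_comm.1 ?_
      rw [← map_commutatorElement]
      refine (QuotientGroup.eq_one_iff _).2 (Subgroup.mem_center_iff.2 fun g => ?_)
      set z : (S p : Subgroup N) := ⁅(⟨a, ha⟩ : (S p : Subgroup N)), ⟨b, hb⟩⁆
      have hg : g ∈ Subgroup.centralizer ({(z : N)} : Set N) := by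
        refine (iSup_le fun q => ?_ : ⨆ q, (S q : Subgroup N) ≤ _) (htop ▸ Subgroup.mem_top g)
        intro c hc
        refine Subgroup.mem_centralizer_singleton_iff.2 ?_
        by_cases hqp : q = p
        · subst hqp
          exact congrArg Subtype.val (Subgroup.mem_center_iff.1
            (hz (Subgroup.commutator_mem_commutator trivial trivial)) ⟨c, hc⟩)
        · exact (hcross q p hqp c hc z z.2).eq
      exact Subgroup.mem_centralizer_singleton_iff.1 hg
    · exact (hcross p q hpq a ha b hb).map f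
  rw [commutator_def, Subgroup.commutator_le]
  intro a _ b _
  rw [← QuotientGroup.eq_one_iff, ← QuotientGroup.mk'_apply, map_commutatorElement,
    commutatorElement_eq_one_iff_mul_comm]
  have hb : ∀ p : Nat.Primes, ∀ c ∈ (S p : Subgroup N), Commute (f c) (f b) := fun p c hc => by
    have : b ∈ (Subgroup.centralizer ({f c} : Set (N ⧸ Subgroup.center N))).comap f := by
      refine (iSup_le fun q => ?_ : ⨆ q, (S q : Subgroup N) ≤ _) (htop ▸ Subgroup.mem_top b)
      exact fun d hd => Subgroup.mem_centralizer_singleton_iff.2 (hcomm q p d hd c hc).eq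
    exact (Subgroup.mem_centralizer_singleton_iff.1 this).symm
  have : a ∈ (Subgroup.centralizer ({f b} : Set (N ⧸ Subgroup.center N))).comap f := by
    refine (iSup_le fun q => ?_ : ⨆ q, (S q : Subgroup N) ≤ _) (htop ▸ Subgroup.mem_top a)
    exact fun d hd => Subgroup.mem_centralizer_singleton_iff.2 (hb q d hd).eq
  exact Subgroup.mem_centralizer_singleton_iff.1 this

end CfsgLib.FgsB.SquareFree
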