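import Cfsg.Agent.Lib.Base.Cores
import Cfsg.Agent.Lib.Base.Nilpotent
import Mathlib

/-!
Casolo's count of the subnormalizer of a `p`-subgroup, by inclusion–exclusion over the subgroups
between `H` and its normalizer.
-/

set_option autoImplicit false

universe u

namespace CfsgLib.Subnormalizer

open Subgroup
open scoped Classical

variable {G : Type u} [Group G]

/-- The elements normalizing some `p`-subgroup containing `H`. -/
def subn (p : ℕ) (H : Subgroup G) : Set G :=
  {g | ∃ R : Subgroup G, IsPGroup p R ∧ H ≤ R ∧ g ∈ normalizer (R : Set G)}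

/-- The number of Sylow `p`-subgroups containing `H`. -/
noncomputable def sylowCount (p : ℕ) (H : Subgroup G) : ℕ :=
  Nat.card {Q : Sylow p G // H ≤ (Q : Subgroup G)}

/-- For a `p`-subgroup `subn` is the subnormalizer. -/
theorem mem_subn_iff [Finite G] {p : ℕ} [Fact p.Prime] {H : Subgroup G} (hH : IsPGroup p H)
    (g : G) :
    g ∈ subn p H ↔ (H.subgroupOf (H ⊔ zpowers g)).IsSubnormal := by
  constructor
  · rintro ⟨R, hR, hHR, hg⟩
    have hK : H ⊔ zpowers g ≤ normalizer (R : Set G) :=
      sup_le (hHR.trans le_normalizer) (zpowers_le.mpr hg)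
    haveI : (R.subgroupOf (H ⊔ zpowers g)).Normal := normal_subgroupOf_of_le_normalizer hK
    haveI : Group.IsNilpotent ↥(R.subgroupOf (H ⊔ zpowers g)) :=
      (hR.comap_subtype (K := H ⊔ zpowers g)).isNilpotent
    exact IsSubnormal.trans (K := R.subgroupOf (H ⊔ zpowers g))
      (comap_mono hHR) (CfsgLib.Base.isSubnormal_of_isNilpotent _)
      (Normal.isSubnormal inferInstance)
  · intro h
    refine ⟨(Cfsg.pCore p ↥(H ⊔ zpowers g)).map (H ⊔ zpowers g).subtype,
      CfsgLib.Base.isPGroup_map_pCore p _, ?_,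
      CfsgLib.Base.le_normalizer_map_pCore _ (mem_sup_right (mem_zpowers g))⟩
    conv_lhs => rw [← map_subgroupOf_eq_of_le (le_sup_left : H ≤ H ⊔ zpowers g)]
    exact map_mono (CfsgLib.Base.le_pCore_of_isSubnormal h hH.comap_subtype)

/-! ### Inclusion–exclusion weights -/

theorem exists_weight [Finite G] [Fintype (Subgroup G)] (H : Subgroup G) :
    ∃ w : Subgroup G → ℤ, ∀ K, H < K →
      ∑ L ∈ Finset.univ.filter (fun L => H < L ∧ L ≤ K), w L = 1 := by
  let w : Subgroup G → ℤ := (wellFounded_lt (α := Subgroup G)).fix fun K rec =>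
    1 - ∑ L ∈ (Finset.univ.filter (fun L => H < L ∧ L < K)).attach,
      rec L.1 (Finset.mem_filter.mp L.2).2.2
  have hw : ∀ K, w K = 1 - ∑ L ∈ Finset.univ.filter (fun L => H < L ∧ L < K), w L := by
    intro K
    conv_lhs => rw [show w K = _ from (wellFounded_lt (α := Subgroup G)).fix_eq _ K]
    rw [← Finset.sum_attach (Finset.univ.filter (fun L => H < L ∧ L < K)) w]
  refine ⟨w, fun K hK => ?_⟩
  have hins : Finset.univ.filter (fun L => H < L ∧ L ≤ K) =
      insert K (Finset.univ.filter (fun L => H < L ∧ L < K)) := by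
    ext L
    simp only [Finset.mem_filter, Finset.mem_univ, true_and, Finset.mem_insert]
    constructor
    · rintro ⟨h1, h2⟩
      rcases h2.eq_or_lt with h | h
      · exact Or.inl h
      · exact Or.inr ⟨h1, h⟩
    · rintro (rfl | ⟨h1, h2⟩)
      · exact ⟨hK, le_rfl⟩
      · exact ⟨h1, h2.le⟩
  rw [hins, Finset.sum_insert (by simp), hw K]
  ring

/-- A down-closed family of subgroups with a cone point has total weight one. -/
theorem sum_cone [Finite G] [Fintype (Subgroup G)] {H : Subgroup G} {w : Subgroup G → ℤ}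
    (hw : ∀ K, H < K → ∑ L ∈ Finset.univ.filter (fun L => H < L ∧ L ≤ K), w L = 1)
    (D : Finset (Subgroup G)) (hgt : ∀ K ∈ D, H < K)
    (hdown : ∀ K ∈ D, ∀ L, H < L → L ≤ K → L ∈ D) {M : Subgroup G} (hM : M ∈ D)
    (hsup : ∀ K ∈ D, K ⊔ M ∈ D) : ∑ K ∈ D, w K = 1 := by
  set g : Subgroup G → ℤ := fun L =>
    ∑ K ∈ Finset.univ.filter (fun K => H < K ∧ K ⊔ M = L), w K with hg
  have hHM := hgt M hM
  have key : ∀ L, M ≤ L → g L = if L = M then 1 else 0 := by
    intro L
    induction L using (wellFounded_lt (α := Subgroup G)).induction with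
    | _ L ih =>
    intro hML
    have h1 := hw L (hHM.trans_le hML)
    have h2 : ∑ L' ∈ Finset.univ.filter (fun L' => M ≤ L' ∧ L' ≤ L), g L' = 1 := by
      rw [← h1]
      rw [← Finset.sum_fiberwise_of_maps_to (g := fun K => K ⊔ M) (f := w)
        (s := Finset.univ.filter (fun K => H < K ∧ K ≤ L))
        (t := Finset.univ.filter (fun L' => M ≤ L' ∧ L' ≤ L))]
      swap
      · intro K hK
        simp only [Finset.mem_filter, Finset.mem_univ, true_and] at hK ⊢
        exact ⟨le_sup_right, sup_le hK.2 hML⟩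
      · refine Finset.sum_congr rfl fun L' hL' => ?_
        simp only [Finset.mem_filter, Finset.mem_univ, true_and] at hL'
        rw [hg]
        refine Finset.sum_congr ?_ fun _ _ => rfl
        ext K
        simp only [Finset.mem_filter, Finset.mem_univ, true_and]
        exact ⟨fun ⟨a, b⟩ => ⟨⟨a, (le_sup_left.trans b.le).trans hL'.2⟩, b⟩,
          fun ⟨⟨a, _⟩, b⟩ => ⟨a, b⟩⟩
    have hins : Finset.univ.filter (fun L' => M ≤ L' ∧ L' ≤ L) =
        insert L (Finset.univ.filter (fun L' => M ≤ L' ∧ L' < L)) := by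
      ext L'
      simp only [Finset.mem_filter, Finset.mem_univ, true_and, Finset.mem_insert]
      constructor
      · rintro ⟨a, b⟩
        rcases b.eq_or_lt with h | h
        · exact Or.inl h
        · exact Or.inr ⟨a, h⟩
      · rintro (rfl | ⟨a, b⟩)
        · exact ⟨hML, le_rfl⟩
        · exact ⟨a, b.le⟩
    rw [hins, Finset.sum_insert (by simp)] at h2
    rw [Finset.sum_congr rfl (g := fun L' => if L' = M then (1 : ℤ) else 0) (by
      intro L' hL'
      simp only [Finset.mem_filter, Finset.mem_univ, true_and] at hL'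
      exact ih L' hL'.2 hL'.1), Finset.sum_ite_eq'] at h2
    by_cases hL : L = M
    · subst hL
      simpa using h2
    · rw [if_neg hL]
      rw [if_pos (by simp [lt_of_le_of_ne hML (Ne.symm hL)])] at h2
      linarith
  calc ∑ K ∈ D, w K = ∑ L ∈ D.filter (fun L => M ≤ L), ∑ K ∈ D.filter (fun K => K ⊔ M = L), w K := by
        refine (Finset.sum_fiberwise_of_maps_to (fun K hK => ?_) w).symm
        exact Finset.mem_filter.mpr ⟨hsup K hK, le_sup_right⟩
    _ = ∑ L ∈ D.filter (fun L => M ≤ L), if L = M then (1 : ℤ) else 0 := by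
        refine Finset.sum_congr rfl fun L hL => ?_
        obtain ⟨hLD, hML⟩ := Finset.mem_filter.mp hL
        rw [← key L hML, hg]
        refine Finset.sum_congr ?_ fun _ _ => rfl
        ext K
        simp only [Finset.mem_filter, Finset.mem_univ, true_and]
        exact ⟨fun ⟨a, b⟩ => ⟨hgt K a, b⟩,
          fun ⟨a, b⟩ => ⟨hdown L hLD K a (le_sup_left.trans b.le), b⟩⟩
    _ = 1 := by rw [Finset.sum_ite_eq', if_pos (Finset.mem_filter.mpr ⟨hM, le_rfl⟩)]

/-! ### The count -/

theorem card_normalizer_sylow_mul [Finite G] {p : ℕ} [Fact p.Prime] (P : Sylow p G) :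
    Nat.card (Sylow p G) * Nat.card (normalizer ((P : Subgroup G) : Set G)) = Nat.card G := by
  rw [P.card_eq_index_normalizer, mul_comm]
  exact card_mul_index _

theorem card_subn_aux (p : ℕ) [Fact p.Prime] : ∀ n : ℕ, ∀ {G : Type u} [Group G] [Finite G],
    Nat.card G ≤ n → ∀ d : ℕ, ∀ H : Subgroup G, Nat.card G ≤ Nat.card H + d → ∀ P : Sylow p G,
      Nat.card (subn p H) = sylowCount p H * Nat.card (normalizer ((P : Subgroup G) : Set G)) := by
  intro n
  induction n using Nat.strong_induction_on with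
  | _ n ihn =>
  intro G _ _ hn d
  induction d using Nat.strong_induction_on with
  | _ d ihd =>
  intro H hd P
  haveI : Fintype G := Fintype.ofFinite G
  haveI : Fintype (Subgroup G) := Fintype.ofFinite _
  by_cases hH : IsPGroup p H
  swap
  · haveI : IsEmpty (subn p H) := ⟨fun ⟨g, R, hR, hle, _⟩ => hH (hR.to_le hle)⟩
    haveI : IsEmpty {Q : Sylow p G // H ≤ (Q : Subgroup G)} := ⟨fun ⟨Q, hQ⟩ => hH (Q.2.to_le hQ)⟩
    simp [sylowCount, Nat.card_of_isEmpty]
  set N := normalizer (H : Set G) with hN
  by_cases htop : N = ⊤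
  · -- `H` is normal
    haveI : H.Normal := normalizer_eq_top_iff.mp htop
    have h1 : subn p H = Set.univ := Set.eq_univ_of_forall fun g =>
      ⟨H, hH, le_rfl, by rw [← hN, htop]; trivial⟩
    have h2 : sylowCount p H = Nat.card (Sylow p G) :=
      Nat.card_congr (Equiv.subtypeUnivEquiv fun Q => hH.le_sylow_of_normal Q)
    rw [h1, h2, card_normalizer_sylow_mul, Nat.card_coe_set_eq, Set.ncard_univ]
  by_cases hsyl : ∃ Q : Sylow p G, (Q : Subgroup G) = H
  · obtain ⟨Q, rfl⟩ := hsyl
    have h1 : subn p (Q : Subgroup G) = (normalizer ((Q : Subgroup G) : Set G) : Set G) := by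
      ext g
      exact ⟨fun ⟨R, hR, hle, hg⟩ => by rwa [Q.3 hR hle] at hg, fun hg => ⟨_, Q.2, le_rfl, hg⟩⟩
    have h2 : sylowCount p (Q : Subgroup G) = 1 := by
      haveI : Nonempty {Q' : Sylow p G // (Q : Subgroup G) ≤ Q'} := ⟨⟨Q, le_rfl⟩⟩
      haveI : Subsingleton {Q' : Sylow p G // (Q : Subgroup G) ≤ Q'} :=
        ⟨fun a b => Subtype.ext (Sylow.ext ((Q.3 a.1.2 a.2).trans (Q.3 b.1.2 b.2).symm))⟩
      exact Nat.card_unique
    rw [h1, h2, one_mul]
    have h3 := card_normalizer_sylow_mul (p := p) Q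
    have h4 := card_normalizer_sylow_mul (p := p) P
    exact Nat.eq_of_mul_eq_mul_left (Nat.card_pos (α := Sylow p G)) (h3.trans h4.symm)
  obtain ⟨w, hw⟩ := exists_weight H
  set S : Finset (Subgroup G) := Finset.univ.filter (fun K => H < K ∧ K ≤ N) with hS
  -- a Sylow subgroup above `H` meets the normalizer above `H`
  have hgrow : ∀ Q : Subgroup G, IsPGroup p Q → H < Q → H < N ⊓ Q := by
    intro Q hQ hlt
    refine lt_of_le_of_ne (le_inf le_normalizer hlt.le) fun heq => ?_
    haveI : Group.IsNilpotent Q := hQ.isNilpotent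
    have hlt' : H.subgroupOf Q < ⊤ := lt_top_iff_ne_top.mpr fun h =>
      hlt.not_ge (subgroupOf_eq_top.mp h)
    obtain ⟨x, hx, hxH⟩ := SetLike.exists_of_lt (normalizerCondition_of_isNilpotent _ hlt')
    refine hxH (mem_subgroupOf.mpr ?_)
    rw [heq]
    refine ⟨?_, x.2⟩
    refine mem_normalizer_iff.mpr fun y => ⟨fun hy => ?_, fun hy => ?_⟩
    · exact mem_subgroupOf.mp ((mem_normalizer_iff.mp hx ⟨y, hlt.le hy⟩).mp (mem_subgroupOf.mpr hy))
    · have hyQ : y ∈ Q := by
        have h := mul_mem (mul_mem (inv_mem x.2) (hlt.le hy)) x.2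
        simpa [mul_assoc] using h
      exact mem_subgroupOf.mp ((mem_normalizer_iff.mp hx ⟨y, hyQ⟩).mpr (mem_subgroupOf.mpr hy))
  have hproper : ∀ Q : Sylow p G, H ≤ (Q : Subgroup G) → H < (Q : Subgroup G) := fun Q hQ =>
    lt_of_le_of_ne hQ fun h => hsyl ⟨Q, h.symm⟩
  set X : G → ℤ := fun g => ∑ K ∈ S.filter (fun K => g ∈ subn p K), w K with hX
  have hmono : ∀ K L : Subgroup G, K ≤ L → subn p L ⊆ subn p K :=
    fun K L h g ⟨R, hR, hle, hg⟩ => ⟨R, hR, h.trans hle, hg⟩
  -- outside the normalizer
  have hout : ∀ g, g ∉ N → X g = if g ∈ subn p H then 1 else 0 := by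
    intro g hgN
    by_cases hg : g ∈ subn p H
    swap
    · rw [if_neg hg, hX]
      refine Finset.sum_eq_zero fun K hK => ?_
      simp only [hS, Finset.mem_filter, Finset.mem_univ, true_and] at hK
      exact absurd (hmono H K hK.1.1.le hK.2) hg
    rw [if_pos hg]
    set M := sInf {R : Subgroup G | H ≤ R ∧ g ∈ normalizer (R : Set G)} with hM
    obtain ⟨R₀, hR₀, hHR₀, hgR₀⟩ := hg
    have hHM : H ≤ M := le_sInf fun R hR => hR.1
    have hgM : g ∈ normalizer (M : Set G) := by
      refine mem_normalizer_iff.mpr fun y => ?_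
      simp only [hM, Subgroup.mem_sInf, Set.mem_setOf_eq]
      exact ⟨fun h R hR => (mem_normalizer_iff.mp hR.2 y).mp (h R hR),
        fun h R hR => (mem_normalizer_iff.mp hR.2 y).mpr (h R hR)⟩
    have hMp : IsPGroup p M := hR₀.to_le (sInf_le ⟨hHR₀, hgR₀⟩)
    have hlt : H < M := lt_of_le_of_ne hHM fun h => hgN (by rw [hN, h]; exact hgM)
    refine sum_cone hw _ (fun K hK => ?_) (fun K hK L hL hLK => ?_) (M := N ⊓ M) ?_ (fun K hK => ?_)
    · simp only [hS, Finset.mem_filter, Finset.mem_univ, true_and] at hK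
      exact hK.1.1
    · simp only [hS, Finset.mem_filter, Finset.mem_univ, true_and] at hK ⊢
      exact ⟨⟨hL, hLK.trans hK.1.2⟩, hmono L K hLK hK.2⟩
    · simp only [hS, Finset.mem_filter, Finset.mem_univ, true_and]
      exact ⟨⟨hgrow M hMp hlt, inf_le_left⟩, M, hMp, inf_le_right, hgM⟩
    · simp only [hS, Finset.mem_filter, Finset.mem_univ, true_and] at hK ⊢
      obtain ⟨⟨h1, h2⟩, R, hR, hKR, hgR⟩ := hK
      exact ⟨⟨h1.trans_le le_sup_left, sup_le h2 inf_le_left⟩, R, hR,
        sup_le hKR (inf_le_right.trans (sInf_le ⟨h1.le.trans hKR, hgR⟩)), hgR⟩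
  -- double counting
  have hswap : ∀ A : Finset G, ∑ g ∈ A, X g =
      ∑ K ∈ S, w K * ((A.filter (fun g => g ∈ subn p K)).card : ℤ) := by
    intro A
    simp only [hX, Finset.sum_filter]
    rw [Finset.sum_comm]
    refine Finset.sum_congr rfl fun K _ => ?_
    rw [← Finset.sum_filter, Finset.sum_const, nsmul_eq_mul, mul_comm]
  -- inside the normalizer
  have hin : ∑ g ∈ Finset.univ.filter (fun g => g ∈ N), X g = (Nat.card N : ℤ) := by
    rw [hswap]
    have hlt : Nat.card N < Nat.card G := by
      refine lt_of_le_of_ne (card_le_card_group N) fun h => htop (eq_top_of_card_eq _ h)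
    let PN : Sylow p N := default
    have hterm : ∀ K ∈ S,
        (((Finset.univ.filter (fun g => g ∈ N)).filter (fun g => g ∈ subn p K)).card) =
          sylowCount p (K.subgroupOf N) * Nat.card (normalizer ((PN : Subgroup N) : Set N)) := by
      intro K hK
      simp only [hS, Finset.mem_filter, Finset.mem_univ, true_and] at hK
      rw [← ihn (Nat.card N) (lt_of_lt_of_le hlt hn) le_rfl (Nat.card N) (K.subgroupOf N)
        (Nat.le_add_left _ _) PN, Finset.filter_filter, ← Fintype.card_subtype,
        ← Nat.card_eq_fintype_card]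
      refine Nat.card_congr
        { toFun := fun g => ⟨⟨g.1, g.2.1⟩, ?_⟩
          invFun := fun g => ⟨g.1.1, g.1.2, ?_⟩
          left_inv := fun g => rfl
          right_inv := fun g => rfl }
      · obtain ⟨R, hR, hKR, hgR⟩ := g.2.2
        refine ⟨R.subgroupOf N, hR.comap_subtype, comap_mono hKR, ?_⟩
        refine mem_normalizer_iff.mpr fun y => ?_
        simp only [mem_subgroupOf]
        exact mem_normalizer_iff.mp hgR y
      · obtain ⟨R, hR, hKR, hgR⟩ := g.2
        refine ⟨R.map N.subtype, hR.map _, ?_, le_normalizer_map _ ⟨g.1, hgR, rfl⟩⟩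
        conv_lhs => rw [← map_subgroupOf_eq_of_le hK.2]
        exact map_mono hKR
    rw [Finset.sum_congr rfl (g := fun K => ∑ Q : Sylow p N,
      if K.subgroupOf N ≤ (Q : Subgroup N) then
        w K * (Nat.card (normalizer ((PN : Subgroup N) : Set N)) : ℤ) else 0)]
    swap
    · intro K hK
      rw [hterm K hK, ← Finset.sum_filter, Finset.sum_const, nsmul_eq_mul, sylowCount,
        Nat.card_eq_fintype_card (α := {Q : Sylow p N // _}), Fintype.card_subtype]
      push_cast
      ring
    rw [Finset.sum_comm, Finset.sum_congr rfl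
      (g := fun _ => (Nat.card (normalizer ((PN : Subgroup N) : Set N)) : ℤ))]
    · rw [Finset.sum_const, nsmul_eq_mul, Finset.card_univ, ← card_normalizer_sylow_mul (p := p) PN,
        Nat.card_eq_fintype_card (α := Sylow p N)]
      push_cast
      ring
    intro Q _
    set Q' := (Q : Subgroup N).map N.subtype with hQ'
    haveI hHn : (H.subgroupOf N).Normal := normal_subgroupOf_of_le_normalizer (le_refl N)
    have hHQ : H < Q' := by
      have hHp : IsPGroup p (H.subgroupOf N) := hH.comap_subtype
      have hle : H.subgroupOf N ≤ (Q : Subgroup N) := hHp.le_sylow_of_normal Q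
      have hle' : H ≤ Q' := by
        conv_lhs => rw [← map_subgroupOf_eq_of_le (le_normalizer : H ≤ N)]
        exact map_mono hle
      refine lt_of_le_of_ne hle' fun heq => ?_
      obtain ⟨Q₁, hQ₁⟩ := hH.exists_le_sylow
      have h1 := hgrow Q₁ Q₁.2 (hproper Q₁ hQ₁)
      have h2 : IsPGroup p ((N ⊓ (Q₁ : Subgroup G)).subgroupOf N) :=
        (Q₁.2.to_le inf_le_right).comap_subtype
      have h3 : (Q : Subgroup N) = H.subgroupOf N := by
        apply map_injective N.subtype_injective
        rw [map_subgroupOf_eq_of_le le_normalizer]; exact heq.symm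
      have h4 : (N ⊓ (Q₁ : Subgroup G)).subgroupOf N = (Q : Subgroup N) :=
        Q.3 h2 (by rw [h3]; exact comap_mono h1.le)
      have h5 := congrArg (map N.subtype) h4
      rw [map_subgroupOf_eq_of_le inf_le_left, ← hQ', ← heq] at h5
      exact h1.ne' h5
    rw [← Finset.sum_filter, ← Finset.sum_mul]
    have : S.filter (fun K => K.subgroupOf N ≤ (Q : Subgroup N)) =
        Finset.univ.filter (fun L => H < L ∧ L ≤ Q') := by
      ext L
      simp only [hS, Finset.mem_filter, Finset.mem_univ, true_and]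
      constructor
      · rintro ⟨⟨h1, h2⟩, h3⟩
        refine ⟨h1, ?_⟩
        rw [← map_subgroupOf_eq_of_le h2]
        exact map_mono h3
      · rintro ⟨h1, h2⟩
        refine ⟨⟨h1, h2.trans (map_subtype_le _)⟩, ?_⟩
        intro y hy
        obtain ⟨z, hz, hzy⟩ := h2 (mem_subgroupOf.mp hy)
        rwa [← Subtype.ext hzy]
    rw [this, hw Q' hHQ, one_mul]
  -- the total
  have hall : ∑ g : G, X g =
      (sylowCount p H : ℤ) * (Nat.card (normalizer ((P : Subgroup G) : Set G)) : ℤ) := by
    rw [hswap, Finset.sum_congr rfl (g := fun K => ∑ Q : Sylow p G,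
      if K ≤ (Q : Subgroup G) then
        w K * (Nat.card (normalizer ((P : Subgroup G) : Set G)) : ℤ) else 0)]
    swap
    · intro K hK
      simp only [hS, Finset.mem_filter, Finset.mem_univ, true_and] at hK
      have hlt : Nat.card H < Nat.card K :=
        lt_of_le_of_ne (card_le_of_le hK.1.le) fun h =>
          hK.1.ne (eq_of_le_of_card_ge hK.1.le h.ge)
      have := ihd (Nat.card G - Nat.card K) (by
        have := card_le_card_group K
        omega) K (by omega) P
      rw [Nat.card_eq_fintype_card (α := subn p K), ← Set.toFinset_card] at this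
      rw [show (Finset.univ.filter fun g => g ∈ subn p K) = (subn p K).toFinset by ext; simp, this,
        ← Finset.sum_filter, Finset.sum_const, nsmul_eq_mul, sylowCount,
        Nat.card_eq_fintype_card (α := {Q : Sylow p G // _}), Fintype.card_subtype]
      push_cast
      ring
    rw [Finset.sum_comm, Finset.sum_congr rfl (g := fun Q : Sylow p G =>
      if H ≤ (Q : Subgroup G) then (Nat.card (normalizer ((P : Subgroup G) : Set G)) : ℤ) else 0)]
    · rw [← Finset.sum_filter, Finset.sum_const, nsmul_eq_mul, sylowCount,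
        Nat.card_eq_fintype_card (α := {Q : Sylow p G // _}), Fintype.card_subtype]
    intro Q _
    rw [← Finset.sum_filter, ← Finset.sum_mul]
    split_ifs with hQ
    · have : S.filter (fun K => K ≤ (Q : Subgroup G)) =
          Finset.univ.filter (fun L => H < L ∧ L ≤ N ⊓ (Q : Subgroup G)) := by
        ext L; simp [hS, and_assoc]
      rw [this, hw _ (hgrow _ Q.2 (hproper Q hQ)), one_mul]
    · rw [Finset.sum_eq_zero, zero_mul]
      intro K hK
      simp only [hS, Finset.mem_filter, Finset.mem_univ, true_and] at hK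
      exact absurd (hK.1.1.le.trans hK.2) hQ
  have hNsub : ∀ g ∈ N, g ∈ subn p H := fun g hg => ⟨H, hH, le_rfl, hg⟩
  have hsplit : ((Nat.card (subn p H) : ℕ) : ℤ) = ∑ g : G, X g := by
    rw [← Finset.sum_filter_add_sum_filter_not Finset.univ (fun g => g ∈ N) X, hin,
      Finset.sum_congr rfl (s₁ := Finset.univ.filter (fun g => g ∉ N))
        (fun g hg => hout g (Finset.mem_filter.mp hg).2),
      ← Finset.sum_filter, Finset.sum_const, nsmul_eq_mul, mul_one, Finset.filter_filter]
    norm_cast
    rw [Nat.card_eq_fintype_card, ← Set.toFinset_card, Nat.card_eq_fintype_card,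
      Fintype.card_subtype, ← Finset.card_union_of_disjoint]
    · congr 1
      ext g
      simp only [Set.mem_toFinset, Finset.mem_union, Finset.mem_filter, Finset.mem_univ, true_and]
      exact ⟨fun h => (em (g ∈ N)).imp id fun h' => ⟨h', h⟩,
        fun h => h.elim (hNsub g) And.right⟩
    · rw [Finset.disjoint_filter]
      exact fun g _ h1 h2 => h2.1 h1
  rw [hall] at hsplit
  exact_mod_cast hsplit

/-- **Casolo**: the subnormalizer of `H` has as many elements as the number of Sylow subgroups
containing `H` times the order of a Sylow normalizer. -/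
theorem card_subn [Finite G] {p : ℕ} [Fact p.Prime] (H : Subgroup G) (P : Sylow p G) :
    Nat.card (subn p H) = sylowCount p H * Nat.card (normalizer ((P : Subgroup G) : Set G)) :=
  card_subn_aux p (Nat.card G) le_rfl (Nat.card G) H (Nat.le_add_left _ _) P

end CfsgLib.Subnormalizer
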