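import Cfsg.Agent.Lib.FgsB.NormalTwoRank
import Cfsg.Agent.Lib.KnownA.SylowAlt
import Cfsg.Agent.Lib.KnownA.SylowTwoSets
import Cfsg.Agent.Lib.KnownA.SylowTwoUnique

/-!
Direct decomposability of the Sylow `2`-subgroups of symmetric and alternating groups.
-/

set_option autoImplicit false

namespace CfsgLib.FgsB.SylowAltDecomp

open Equiv Equiv.Perm Finset CfsgLib.KnownA.SylowAlt
open scoped Pointwise

/-- An internal direct decomposition into two nontrivial factors. -/
def Decomposable (G : Type*) [Group G] : Prop :=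
  ∃ A B : Subgroup G, A ≠ ⊥ ∧ B ≠ ⊥ ∧ (∀ a ∈ A, ∀ b ∈ B, a * b = b * a) ∧ A ⊓ B = ⊥ ∧ A ⊔ B = ⊤

theorem decomposable_congr {G H : Type*} [Group G] [Group H] (e : G ≃* H) (h : Decomposable G) :
    Decomposable H := by
  obtain ⟨A, B, hA, hB, hc, hd, hs⟩ := h
  refine ⟨A.map e.toMonoidHom, B.map e.toMonoidHom, ?_, ?_, ?_, ?_, ?_⟩
  · rw [Ne, Subgroup.map_eq_bot_iff_of_injective _ (f := e.toMonoidHom) e.injective]
    exact hA
  · rw [Ne, Subgroup.map_eq_bot_iff_of_injective _ (f := e.toMonoidHom) e.injective]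
    exact hB
  · rintro _ ⟨a, ha, rfl⟩ _ ⟨b, hb, rfl⟩
    rw [← map_mul, ← map_mul, hc a ha b hb]
  · rw [← Subgroup.map_inf _ _ _ e.injective, hd, Subgroup.map_bot]
  · rw [← Subgroup.map_sup, hs, Subgroup.map_top_of_surjective _ e.surjective]

theorem decomposable_iff_internal {G : Type*} [Group G] (P : Subgroup G) :
    Decomposable P ↔ ∃ S₁ S₂ : Subgroup G, S₁ ≠ ⊥ ∧ S₂ ≠ ⊥ ∧
      S₁ ≤ P ∧ S₂ ≤ P ∧ (∀ a ∈ S₁, ∀ b ∈ S₂, a * b = b * a) ∧ S₁ ⊓ S₂ = ⊥ ∧ S₁ ⊔ S₂ = P := by
  constructor
  · rintro ⟨A, B, hA, hB, hc, hd, hs⟩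
    refine ⟨A.map P.subtype, B.map P.subtype, ?_, ?_, Subgroup.map_subtype_le _, Subgroup.map_subtype_le _,
      ?_, ?_, ?_⟩
    · simpa [Subgroup.map_eq_bot_iff_of_injective _ P.subtype_injective] using hA
    · simpa [Subgroup.map_eq_bot_iff_of_injective _ P.subtype_injective] using hB
    · rintro _ ⟨a, ha, rfl⟩ _ ⟨b, hb, rfl⟩
      rw [← map_mul, ← map_mul, hc a ha b hb]
    · rw [← Subgroup.map_inf _ _ _ P.subtype_injective, hd, Subgroup.map_bot]
    · rw [← Subgroup.map_sup, hs, ← MonoidHom.range_eq_map, Subgroup.range_subtype]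
  · rintro ⟨A, B, hA, hB, hAP, hBP, hc, hd, hs⟩
    refine ⟨A.subgroupOf P, B.subgroupOf P, ?_, ?_, ?_, ?_, ?_⟩
    · simpa [Subgroup.subgroupOf_eq_bot, disjoint_iff, inf_eq_left.2 hAP] using hA
    · simpa [Subgroup.subgroupOf_eq_bot, disjoint_iff, inf_eq_left.2 hBP] using hB
    · exact fun a ha b hb => Subtype.ext (hc _ ha _ hb)
    · rw [eq_bot_iff]
      rintro x ⟨h1, h2⟩
      have : (x : G) ∈ A ⊓ B := ⟨h1, h2⟩
      rw [hd, Subgroup.mem_bot] at this
      exact Subgroup.mem_bot.2 (Subtype.ext this)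
    · apply Subgroup.map_injective P.subtype_injective
      rw [Subgroup.map_sup, Subgroup.map_subgroupOf_eq_of_le hAP, Subgroup.map_subgroupOf_eq_of_le hBP,
        ← MonoidHom.range_eq_map, Subgroup.range_subtype, hs]

theorem exists_mul_eq {G : Type*} [Group G] {A B : Subgroup G} (hc : ∀ a ∈ A, ∀ b ∈ B, a * b = b * a)
    (hs : A ⊔ B = ⊤) (x : G) : ∃ a ∈ A, ∃ b ∈ B, a * b = x := by
  have hx : x ∈ A ⊔ B := hs ▸ Subgroup.mem_top x
  rw [← SetLike.mem_coe, Subgroup.coe_mul_of_left_le_normalizer_right A B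
    (fun a ha => Subgroup.mem_normalizer_iff.2 fun b => ⟨fun hb => by rwa [hc a ha b hb, mul_inv_cancel_right],
      fun hb => by
        have h := hc a⁻¹ (A.inv_mem ha) _ hb
        have e : a⁻¹ * (a * b * a⁻¹) * a = b := by group
        rwa [← e, h, inv_mul_cancel_right]⟩)] at hx
  obtain ⟨a, ha, b, hb, rfl⟩ := Set.mem_mul.1 hx
  exact ⟨a, ha, b, hb, rfl⟩

/-- A finite `2`-group whose centre has order at most two is indecomposable. -/
theorem not_decomposable_of_center {G : Type*} [Group G] [Finite G] (hG : IsPGroup 2 G) (z : G)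
    (hz : ∀ x ∈ Subgroup.center G, x = 1 ∨ x = z) : ¬ Decomposable G := by
  haveI : Fact (Nat.Prime 2) := ⟨Nat.prime_two⟩
  rintro ⟨A, B, hA, hB, hc, hd, hs⟩
  have hcent : ∀ {A B : Subgroup G}, (∀ a ∈ A, ∀ b ∈ B, a * b = b * a) → A ⊔ B = ⊤ → A ≠ ⊥ → z ∈ A := by
    intro A B hc hs hA
    haveI : Nontrivial A := (Subgroup.nontrivial_iff_ne_bot A).2 hA
    haveI := (hG.to_subgroup A).center_nontrivial
    obtain ⟨⟨⟨a, ha⟩, hac⟩, hne⟩ := exists_ne (1 : Subgroup.center A)
    have ha1 : a ≠ 1 := fun h => hne (Subtype.ext (Subtype.ext h))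
    have : a ∈ Subgroup.center G := Subgroup.mem_center_iff.2 fun g => by
      obtain ⟨a', ha', b, hb, rfl⟩ := exists_mul_eq hc hs g
      have e1 : a' * a = a * a' := congrArg Subtype.val (Subgroup.mem_center_iff.1 hac ⟨a', ha'⟩)
      rw [mul_assoc, ← hc a ha b hb, ← mul_assoc, e1, mul_assoc]
    rcases hz a this with h | h
    · exact absurd h ha1
    · exact h ▸ ha
  have h1 := hcent hc hs hA
  have h2 := hcent (fun b hb a ha => (hc a ha b hb).symm) (by rwa [sup_comm]) hB
  have : z ∈ A ⊓ B := ⟨h1, h2⟩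
  rw [hd, Subgroup.mem_bot] at this
  subst this
  obtain ⟨⟨a, _⟩, ha⟩ := Subgroup.ne_bot_iff_exists_ne_one.1 hA
  haveI : Nontrivial G := ⟨⟨1, a, fun h => ha (Subtype.ext h.symm)⟩⟩
  haveI := hG.center_nontrivial
  obtain ⟨⟨x, hx⟩, hne⟩ := exists_ne (1 : Subgroup.center G)
  exact hne (Subtype.ext ((hz x hx).elim id id))

/-! ### The model `{±1}^N ⋊ R` -/

variable {N : ℕ} (R : Subgroup (Perm (Fin N)))

/-- `{±1}^N ⋊ R`. -/
abbrev W : Type := (Fin N → ℤˣ) ⋊[(NormalTwoRank.permAct ℤˣ N).comp R.subtype] R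

variable {R}

theorem mul_left_apply (x y : W R) (i : Fin N) :
    (x * y).left i = x.left i * y.left ((x.right : Perm (Fin N)).symm i) := rfl

theorem mul_right_apply (x y : W R) (i : Fin N) :
    ((x * y).right : Perm (Fin N)) i = (x.right : Perm (Fin N)) ((y.right : Perm (Fin N)) i) := rfl

variable (R)

/-- The product of the signs. -/
def chi : W R →* ℤˣ where
  toFun x := ∏ i, x.left i
  map_one' := by simp
  map_mul' x y := by
    rw [← Equiv.prod_comp (x.right : Perm (Fin N)).symm y.left, ← Finset.prod_mul_distrib]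
    rfl

theorem card_W : Nat.card (W R) = 2 ^ N * Nat.card R := by
  rw [SemidirectProduct.card, Nat.card_fun, Nat.card_fin, Nat.card_eq_fintype_card (α := ℤˣ),
    Fintype.card_units_int]

instance : Finite (W R) := Nat.finite_of_card_ne_zero (by rw [card_W]; exact (Nat.mul_pos (pow_pos two_pos N) Nat.card_pos).ne')

theorem isPGroup_W (hR : IsPGroup 2 R) : IsPGroup 2 (W R) := by
  haveI : Fact (Nat.Prime 2) := ⟨Nat.prime_two⟩
  obtain ⟨k, hk⟩ := IsPGroup.iff_card.1 hR
  exact IsPGroup.of_card (n := N + k) (by rw [card_W, hk, pow_add])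

variable {R}

/-- A vector in the model. -/
abbrev vec (v : Fin N → ℤˣ) : W R := SemidirectProduct.inl v

/-- A permutation in the model. -/
abbrev per (r : R) : W R := SemidirectProduct.inr r

theorem chi_per (r : R) : chi R (per r) = 1 := by
  show ∏ i, (per r : W R).left i = 1
  exact Finset.prod_eq_one fun i _ => rfl

theorem chi_vec (v : Fin N → ℤˣ) : chi R (vec v) = ∏ i, v i := rfl

/-- Two signs. -/
def duo (i j : Fin N) : Fin N → ℤˣ := Pi.mulSingle i (-1) * Pi.mulSingle j (-1)

theorem chi_duo (i j : Fin N) : chi R (vec (duo i j)) = 1 := by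
  rw [chi_vec, duo]
  simp only [Pi.mul_apply, Finset.prod_mul_distrib, Finset.prod_pi_mulSingle', Finset.mem_univ, if_true]
  rfl

theorem commute_vec_iff {x : W R} {v : Fin N → ℤˣ} :
    x * vec v = vec v * x ↔ ∀ i, v ((x.right : Perm (Fin N)).symm i) = v i := by
  constructor
  · intro h i
    have := congrFun (congrArg SemidirectProduct.left h) i
    rw [mul_left_apply, mul_left_apply] at this
    replace this : x.left i * v _ = v i * x.left i := this
    rw [mul_comm (v i)] at this
    exact mul_left_cancel this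
  · intro h
    refine SemidirectProduct.ext (funext fun i => ?_) (by simp)
    rw [mul_left_apply, mul_left_apply]
    show x.left i * v _ = v i * x.left i
    rw [h, mul_comm]

theorem commute_per_iff {x : W R} {r : R} (hx : x.right = 1) :
    x * per r = per r * x ↔ ∀ i, x.left ((r : Perm (Fin N)) i) = x.left i := by
  constructor
  · intro h i
    have := congrFun (congrArg SemidirectProduct.left h) ((r : Perm (Fin N)) i)
    rw [mul_left_apply, mul_left_apply] at this
    simpa using this
  · intro h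
    refine SemidirectProduct.ext (funext fun i => ?_) (by simp [hx])
    rw [mul_left_apply, mul_left_apply]
    simpa using (h ((r : Perm (Fin N)).symm i))

/-- The action on signed points. -/
def act : W R →* Perm (Fin N × ℤˣ) where
  toFun x :=
    { toFun := fun q => ((x.right : Perm (Fin N)) q.1, x.left ((x.right : Perm (Fin N)) q.1) * q.2)
      invFun := fun q => ((x.right : Perm (Fin N)).symm q.1, x.left q.1 * q.2)
      left_inv := fun q => by simp [← mul_assoc, Int.units_mul_self]
      right_inv := fun q => by simp [← mul_assoc, Int.units_mul_self] }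
  map_one' := Equiv.ext fun q => by simp
  map_mul' x y := Equiv.ext fun q => by
    refine Prod.ext rfl ?_
    show (x * y).left _ * q.2 = x.left _ * (y.left _ * q.2)
    rw [mul_left_apply, mul_right_apply, Equiv.symm_apply_apply, mul_assoc]
    rfl

theorem act_apply (x : W R) (q : Fin N × ℤˣ) :
    act x q = ((x.right : Perm (Fin N)) q.1, x.left ((x.right : Perm (Fin N)) q.1) * q.2) := rfl

/-- The constant `-1`. -/
def z0 : W R := vec fun _ => -1

theorem eq_one_or_z0 (hN : 0 < N) (htr : ∀ i j : Fin N, ∃ r : R, (r : Perm (Fin N)) i = j) {x : W R}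
    (hx : x.right = 1) (hper : ∀ r : R, x * per r = per r * x) : x = 1 ∨ x = z0 := by
  have hconst : ∀ i, x.left i = x.left ⟨0, hN⟩ := fun i => by
    obtain ⟨r, hr⟩ := htr ⟨0, hN⟩ i
    rw [← hr]
    exact (commute_per_iff hx).1 (hper r) _
  rcases Int.units_eq_one_or (x.left ⟨0, hN⟩) with h | h
  · exact Or.inl (SemidirectProduct.ext (funext fun i => by rw [hconst i, h]; rfl) hx)
  · exact Or.inr (SemidirectProduct.ext (funext fun i => by rw [hconst i, h]; rfl) hx)

/-- The full wreath product over a transitive group is indecomposable. -/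
theorem not_decomposable_W (hR : IsPGroup 2 R) (hN : 0 < N)
    (htr : ∀ i j : Fin N, ∃ r : R, (r : Perm (Fin N)) i = j) : ¬ Decomposable (W R) := by
  refine not_decomposable_of_center (isPGroup_W R hR) z0 fun x hx => ?_
  have hc := fun y => (Subgroup.mem_center_iff.1 hx y).symm
  refine eq_one_or_z0 hN htr (Subtype.ext (Equiv.ext fun i => ?_)) fun r => hc _
  by_contra hne
  have := (commute_vec_iff.1 (hc (vec (Pi.mulSingle i (-1))))) ((x.right : Perm (Fin N)) i)
  rw [Equiv.symm_apply_apply, Pi.mulSingle_eq_same,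
    Pi.mulSingle_eq_of_ne (show (x.right : Perm (Fin N)) i ≠ i from hne)] at this
  exact absurd this (by decide)

/-- An intransitive wreath product splits. -/
theorem decomposable_W (S : Set (Fin N)) (hS : ∀ r : R, ∀ i, (r : Perm (Fin N)) i ∈ S ↔ i ∈ S)
    (hres : ∀ r : R, ∃ r' : R, ∀ i, (i ∈ S → (r' : Perm (Fin N)) i = (r : Perm (Fin N)) i) ∧
      (i ∉ S → (r' : Perm (Fin N)) i = i))
    {i j : Fin N} (hi : i ∈ S) (hj : j ∉ S) : Decomposable (W R) := by
  classical
  let part : Set (Fin N) → Subgroup (W R) := fun S =>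
    { carrier := {x | ∀ i, i ∉ S → x.left i = 1 ∧ (x.right : Perm (Fin N)) i = i}
      one_mem' := fun i _ => ⟨rfl, rfl⟩
      mul_mem' := fun {x y} hx hy i hi => by
        refine ⟨?_, by rw [mul_right_apply, (hy i hi).2, (hx i hi).2]⟩
        rw [mul_left_apply, (Equiv.symm_apply_eq _).2 (hx i hi).2.symm, (hx i hi).1, (hy i hi).1, one_mul]
      inv_mem' := fun {x} hx i hi => by
        have h1 : ((x⁻¹).right : Perm (Fin N)) i = i := by
          show (x.right : Perm (Fin N))⁻¹ i = i
          exact (Equiv.symm_apply_eq _).2 (hx i hi).2.symm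
        refine ⟨?_, h1⟩
        have h2 := congrFun (congrArg SemidirectProduct.left (inv_mul_cancel x)) i
        rw [mul_left_apply, (Equiv.symm_apply_eq _).2 h1.symm, (hx i hi).1, mul_one] at h2
        exact h2 }
  refine ⟨part S, part Sᶜ, ?_, ?_, ?_, ?_, ?_⟩
  · refine (Subgroup.ne_bot_iff_exists_ne_one).2 ⟨⟨vec (Pi.mulSingle i (-1)), fun k hk =>
      ⟨Pi.mulSingle_eq_of_ne (by rintro rfl; exact hk hi) _, rfl⟩⟩, fun h => ?_⟩
    have := congrFun (congrArg SemidirectProduct.left (congrArg Subtype.val h)) i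
    simp at this
  · refine (Subgroup.ne_bot_iff_exists_ne_one).2 ⟨⟨vec (Pi.mulSingle j (-1)), fun k hk =>
      ⟨Pi.mulSingle_eq_of_ne (by rintro rfl; exact hk hj) _, rfl⟩⟩, fun h => ?_⟩
    have := congrFun (congrArg SemidirectProduct.left (congrArg Subtype.val h)) j
    simp at this
  · intro a ha b hb
    have hsa : ∀ k, k ∉ S → (a.right : Perm (Fin N)) k = k := fun k hk => (ha k hk).2
    have hsb : ∀ k, k ∈ S → (b.right : Perm (Fin N)) k = k := fun k hk => (hb k fun h => h hk).2
    refine SemidirectProduct.ext (funext fun k => ?_) (Subtype.ext (Equiv.ext fun k => ?_))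
    · rw [mul_left_apply, mul_left_apply]
      by_cases hk : k ∈ S
      · rw [(Equiv.symm_apply_eq _).2 (hsb k hk).symm, (hb k fun h => h hk).1,
          (hb _ fun h => h ((hS a.right _).1 (by rwa [Equiv.apply_symm_apply]))).1, one_mul, mul_one]
      · rw [(Equiv.symm_apply_eq _).2 (hsa k hk).symm, (ha k hk).1,
          (ha _ fun h => hk (by simpa using (hS b.right _).2 h)).1, one_mul, mul_one]
    · rw [mul_right_apply, mul_right_apply]
      by_cases hk : k ∈ S
      · rw [hsb k hk, hsb _ ((hS a.right k).2 hk)]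
      · rw [hsa k hk, hsa _ (fun h => hk ((hS b.right k).1 h))]
  · rw [eq_bot_iff]
    rintro x ⟨h1, h2⟩
    refine Subgroup.mem_bot.2 (SemidirectProduct.ext (funext fun k => ?_) (Subtype.ext (Equiv.ext fun k => ?_))) <;>
      by_cases hk : k ∈ S
    · exact (h2 k fun h => h hk).1
    · exact (h1 k hk).1
    · exact (h2 k fun h => h hk).2
    · exact (h1 k hk).2
  · rw [eq_top_iff]
    intro x _
    obtain ⟨r', hr'⟩ := hres x.right
    let a : W R := ⟨fun k => if k ∈ S then x.left k else 1, r'⟩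
    have ha : a ∈ part S := fun k hk => ⟨if_neg hk, (hr' k).2 hk⟩
    have hb : a⁻¹ * x ∈ part Sᶜ := by
      intro k hk
      have hk' : k ∈ S := not_not.1 hk
      have hr : (r' : Perm (Fin N)).symm ((x.right : Perm (Fin N)) k) = k :=
        (Equiv.symm_apply_eq _).2 ((hr' k).1 hk').symm
      refine ⟨?_, hr⟩
      have h2 := congrFun (congrArg SemidirectProduct.left (mul_inv_cancel_left a x)) ((r' : Perm (Fin N)) k)
      rw [mul_left_apply, show (a.right : Perm (Fin N)) = r' from rfl, Equiv.symm_apply_apply,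
        show a.left ((r' : Perm (Fin N)) k) = x.left ((r' : Perm (Fin N)) k) from if_pos ((hS r' k).2 hk'),
        mul_eq_left] at h2
      exact h2
    rw [← mul_inv_cancel_left a x]
    exact Subgroup.mul_mem_sup ha hb

/-! ### The even part -/

/-- The even part of the model. -/
abbrev E (R : Subgroup (Perm (Fin N))) : Subgroup (W R) := (chi R).ker

theorem right_eq_one_of_commute_duo (hN : 3 ≤ N) {x : W R}
    (h : ∀ i j, x * vec (duo i j) = vec (duo i j) * x) : x.right = 1 := by
  refine Subtype.ext (Equiv.ext fun i => ?_)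
  show (x.right : Perm (Fin N)) i = i
  by_contra hne
  obtain ⟨k, -, hk⟩ := Finset.exists_mem_notMem_of_card_lt_card
    (s := ({i, (x.right : Perm (Fin N)) i} : Finset (Fin N))) (t := Finset.univ)
    (lt_of_le_of_lt Finset.card_le_two (by rw [Finset.card_univ, Fintype.card_fin]; omega))
  simp only [Finset.mem_insert, Finset.mem_singleton, not_or] at hk
  have := commute_vec_iff.1 (h i k) ((x.right : Perm (Fin N)) i)
  rw [Equiv.symm_apply_apply, duo, Pi.mul_apply, Pi.mul_apply, Pi.mulSingle_eq_same,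
    Pi.mulSingle_eq_of_ne hne, Pi.mulSingle_eq_of_ne (Ne.symm hk.1),
    Pi.mulSingle_eq_of_ne (Ne.symm hk.2)] at this
  exact absurd this (by decide)

theorem isPGroup_E (hR : IsPGroup 2 R) : IsPGroup 2 (E R) := (isPGroup_W R hR).to_subgroup _

theorem not_decomposable_E_transitive (hR : IsPGroup 2 R) (hN : 3 ≤ N) (hev : Even N)
    (htr : ∀ i j : Fin N, ∃ r : R, (r : Perm (Fin N)) i = j) : ¬ Decomposable (E R) := by
  have hz : z0 ∈ E R := by
    rw [MonoidHom.mem_ker, z0, chi_vec, Finset.prod_const, Finset.card_univ, Fintype.card_fin]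
    exact hev.neg_one_pow
  refine not_decomposable_of_center (isPGroup_E hR) ⟨z0, hz⟩ fun x hx => ?_
  have hc : ∀ y ∈ E R, (x : W R) * y = y * (x : W R) := fun y hy =>
    (congrArg Subtype.val (Subgroup.mem_center_iff.1 hx ⟨y, hy⟩)).symm
  rcases eq_one_or_z0 (by omega) htr
      (right_eq_one_of_commute_duo hN fun i j => hc _ (MonoidHom.mem_ker.2 (chi_duo i j)))
      (fun r => hc _ (MonoidHom.mem_ker.2 (chi_per r))) with h | h
  · exact Or.inl (Subtype.ext h)
  · exact Or.inr (Subtype.ext h)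

theorem conj_duo_left (a : W R) (i j p : Fin N) :
    (a * vec (duo i j) * a⁻¹ * (vec (duo i j))⁻¹).left p =
      duo i j ((a.right : Perm (Fin N)).symm p) * duo i j p := by
  have e : a * vec (duo i j) * a⁻¹ = vec (duo i j ∘ (a.right : Perm (Fin N)).symm) := by
    rw [mul_inv_eq_iff_eq_mul]
    refine SemidirectProduct.ext (funext fun k => ?_) (by simp)
    rw [mul_left_apply, mul_left_apply]
    show a.left k * _ = _ * a.left k
    rw [mul_comm]
    rfl
  rw [e, ← map_inv, ← map_mul, SemidirectProduct.left_inl, Pi.mul_apply, Pi.inv_apply, Int.units_inv_eq_self]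
  rfl

theorem conj_duo_right (a : W R) (i j : Fin N) :
    (a * vec (duo i j) * a⁻¹ * (vec (duo i j))⁻¹).right = 1 := by
  simp

/-- Several orbits, each of even size: the even part is indecomposable. -/
theorem not_decomposable_E_intransitive (hR : IsPGroup 2 R)
    (hev : ∀ i : Fin N, Even {j : Fin N | ∃ r : R, (r : Perm (Fin N)) i = j}.ncard)
    (hres : ∀ (S : Set (Fin N)), (∀ r : R, ∀ i, (r : Perm (Fin N)) i ∈ S ↔ i ∈ S) → ∀ r : R, ∃ r' : R,
      ∀ i, (i ∈ S → (r' : Perm (Fin N)) i = (r : Perm (Fin N)) i) ∧ (i ∉ S → (r' : Perm (Fin N)) i = i))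
    (hint : ∀ i : Fin N, ∃ k : Fin N, ∀ r : R, (r : Perm (Fin N)) i ≠ k) : ¬ Decomposable (E R) := by
  classical
  rintro ⟨A', B', hA', hB', hc', hd', hs'⟩
  set A := A'.map (E R).subtype with hAdef
  set B := B'.map (E R).subtype with hBdef
  have hAE : A ≤ E R := Subgroup.map_subtype_le _
  have hBE : B ≤ E R := Subgroup.map_subtype_le _
  have hc : ∀ a ∈ A, ∀ b ∈ B, a * b = b * a := by
    rintro _ ⟨a, ha, rfl⟩ _ ⟨b, hb, rfl⟩
    rw [← map_mul, ← map_mul, hc' a ha b hb]
  have hd : ∀ x, x ∈ A → x ∈ B → x = 1 := fun x h1 h2 => by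
    have : x ∈ A ⊓ B := ⟨h1, h2⟩
    rwa [hAdef, hBdef, ← Subgroup.map_inf _ _ _ (E R).subtype_injective, hd', Subgroup.map_bot,
      Subgroup.mem_bot] at this
  have hdec : ∀ x ∈ E R, ∃ a ∈ A, ∃ b ∈ B, a * b = x := fun x hx => by
    obtain ⟨a, ha, b, hb, e⟩ := exists_mul_eq hc' hs' ⟨x, hx⟩
    exact ⟨a, ⟨a, ha, rfl⟩, b, ⟨b, hb, rfl⟩, congrArg Subtype.val e⟩
  have hnorm : ∀ {A B : Subgroup (W R)}, (∀ a ∈ A, ∀ b ∈ B, a * b = b * a) →
      (∀ x ∈ E R, ∃ a ∈ A, ∃ b ∈ B, a * b = x) → ∀ a ∈ A, ∀ x ∈ E R, x * a * x⁻¹ ∈ A := by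
    intro A B hc hdec a ha x hx
    obtain ⟨a', ha', b, hb, rfl⟩ := hdec x hx
    rw [show a' * b * a * (a' * b)⁻¹ = a' * (b * a * b⁻¹) * a'⁻¹ by group, ← hc a ha b hb,
      mul_inv_cancel_right]
    exact A.mul_mem (A.mul_mem ha' ha) (A.inv_mem ha')
  have hdec' : ∀ x ∈ E R, ∃ b ∈ B, ∃ a ∈ A, b * a = x := fun x hx => by
    obtain ⟨a, ha, b, hb, e⟩ := hdec x hx
    exact ⟨b, hb, a, ha, (hc a ha b hb).symm.trans e⟩
  have hduo : ∀ i j, vec (duo i j) ∈ E R := fun i j => MonoidHom.mem_ker.2 (chi_duo i j)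
  have hper : ∀ r : R, per r ∈ E R := fun r => MonoidHom.mem_ker.2 (chi_per r)
  -- the orbit relation
  let rel : Fin N → Fin N → Prop := fun i j => ∃ r : R, (r : Perm (Fin N)) i = j
  have rrefl : ∀ i, rel i i := fun i => ⟨1, rfl⟩
  have rsymm : ∀ {i j}, rel i j → rel j i := fun {i j} ⟨r, hr⟩ => ⟨r⁻¹, (Equiv.symm_apply_eq _).2 hr.symm⟩
  have rtrans : ∀ {i j k}, rel i j → rel j k → rel i k := fun {i j k} ⟨r, hr⟩ ⟨s, hs⟩ =>
    ⟨s * r, by show (s : Perm (Fin N)) ((r : Perm (Fin N)) i) = k; rw [hr, hs]⟩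
  have rmove : ∀ (x : W R) i, rel i ((x.right : Perm (Fin N)) i) := fun x i => ⟨x.right, rfl⟩
  -- two moving elements of different factors move a pair in the same way
  have hsame : ∀ a ∈ A, ∀ b ∈ B, ∀ i, (a.right : Perm (Fin N)) i ≠ i → (b.right : Perm (Fin N)) i ≠ i →
      (b.right : Perm (Fin N)).symm i = (a.right : Perm (Fin N)) i := by
    intro a ha b hb i hai hbi
    obtain ⟨k, hk⟩ := hint i
    set u := a * vec (duo i k) * a⁻¹ * (vec (duo i k))⁻¹ with hu
    have huA : u ∈ A := by
      have h1 := hnorm hc hdec a⁻¹ (A.inv_mem ha) _ (hduo i k)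
      have e : u = a * (vec (duo i k) * a⁻¹ * (vec (duo i k))⁻¹) := by rw [hu]; group
      rw [e]
      exact A.mul_mem ha h1
    have hur : u.right = 1 := conj_duo_right a i k
    have hcu := congrFun (congrArg SemidirectProduct.left (hc u huA b hb)) i
    rw [mul_left_apply u b, mul_left_apply b u, hur] at hcu
    simp only [OneMemClass.coe_one, Equiv.Perm.one_apply, one_symm] at hcu
    rw [mul_comm] at hcu
    have h2 := mul_left_cancel hcu
    rw [hu, conj_duo_left, conj_duo_left] at h2
    have hk' : ∀ p, rel i p → p ≠ k := fun p ⟨r, hr⟩ => hr ▸ hk r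
    have hr1 : rel i ((b.right : Perm (Fin N)).symm i) := ⟨b.right⁻¹, rfl⟩
    have hr2 : ∀ p, rel i p → rel i ((a.right : Perm (Fin N)).symm p) := fun p hp => rtrans hp ⟨a.right⁻¹, rfl⟩
    have hai' : (a.right : Perm (Fin N)).symm i ≠ i := fun h => hai ((Equiv.symm_apply_eq _).1 h).symm
    have hbi' : (b.right : Perm (Fin N)).symm i ≠ i := fun h => hbi ((Equiv.symm_apply_eq _).1 h).symm
    simp only [duo, Pi.mul_apply, Pi.mulSingle_eq_of_ne (hk' _ (rrefl i)), Pi.mulSingle_eq_of_ne (hk' _ hr1),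
      Pi.mulSingle_eq_of_ne (hk' _ (hr2 _ (rrefl i))), Pi.mulSingle_eq_of_ne (hk' _ (hr2 _ hr1)), mul_one,
      Pi.mulSingle_eq_same, Pi.mulSingle_eq_of_ne hai', Pi.mulSingle_eq_of_ne hbi', one_mul] at h2
    by_contra hne
    rw [Pi.mulSingle_eq_of_ne (fun h => hne ((Equiv.symm_apply_eq _).1 h))] at h2
    exact absurd h2 (by decide)
  -- at most one factor moves a pair
  have hone : ∀ i, (∀ a ∈ A, (a.right : Perm (Fin N)) i = i) ∨ (∀ b ∈ B, (b.right : Perm (Fin N)) i = i) := by
    intro i
    by_contra h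
    push Not at h
    obtain ⟨⟨a, ha, hai⟩, b, hb, hbi⟩ := h
    set j := (a.right : Perm (Fin N)) i with hj
    have hA : ∀ a' ∈ A, (a'.right : Perm (Fin N)) i ≠ i → (a'.right : Perm (Fin N)) i = j := fun a' ha' h' => by
      rw [← hsame a' ha' b hb i h' hbi, hsame a ha b hb i hai hbi]
    have hAj : (a.right : Perm (Fin N)) j = i := by
      have h1 : ((a⁻¹).right : Perm (Fin N)) i ≠ i := fun h =>
        hai ((Equiv.symm_apply_eq _).1 h).symm
      exact ((Equiv.symm_apply_eq _).1 (hA a⁻¹ (A.inv_mem ha) h1)).symm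
    have hB : ∀ b' ∈ B, (b'.right : Perm (Fin N)) i ≠ i → (b'.right : Perm (Fin N)) i = j := fun b' hb' h' => by
      have h1 : ((b'⁻¹).right : Perm (Fin N)) i ≠ i := fun h => h' ((Equiv.symm_apply_eq _).1 h).symm
      have := hsame a ha b'⁻¹ (B.inv_mem hb') i hai h1
      rwa [show ((b'⁻¹).right : Perm (Fin N)).symm i = (b'.right : Perm (Fin N)) i from rfl] at this
    have hpair : ∀ x ∈ E R, ((x.right : Perm (Fin N)) i = i ∨ (x.right : Perm (Fin N)) i = j) := by
      intro x hx
      obtain ⟨a', ha', b', hb', rfl⟩ := hdec x hx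
      rw [mul_right_apply]
      by_cases hb0 : (b'.right : Perm (Fin N)) i = i
      · rw [hb0]
        by_cases ha0 : (a'.right : Perm (Fin N)) i = i
        · exact Or.inl ha0
        · exact Or.inr (hA a' ha' ha0)
      · rw [hB b' hb' hb0, hj, ← mul_right_apply]
        by_cases ha0 : ((a' * a).right : Perm (Fin N)) i = i
        · exact Or.inl ha0
        · exact Or.inr (hA _ (A.mul_mem ha' ha) ha0)
    have hjx : ∀ x ∈ E R, ((x.right : Perm (Fin N)) j = i ∨ (x.right : Perm (Fin N)) j = j) := by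
      intro x hx
      have := hpair (x * a) (Subgroup.mul_mem _ hx (hAE ha))
      rwa [mul_right_apply] at this
    have hbij : (b.right : Perm (Fin N)) i = j := hB b hb hbi
    have hbj : (b.right : Perm (Fin N)) j = i :=
      ((Equiv.symm_apply_eq _).1 (hsame a ha b hb i hai hbi)).symm
    have hcij : (a * b).left i = (a * b).left j := by
      have h1 := congrFun (congrArg SemidirectProduct.left
        (show a * (a * b) = (a * b) * a by rw [mul_assoc a b a, ← hc a ha b hb, ← mul_assoc])) i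
      rw [mul_left_apply, mul_left_apply (a * b) a, (Equiv.symm_apply_eq _).2 hAj.symm,
        show ((a * b).right : Perm (Fin N)).symm i = i from (Equiv.symm_apply_eq _).2
          (by rw [mul_right_apply, hbij, hAj]), mul_comm ((a * b).left i)] at h1
      exact (mul_left_cancel h1).symm
    -- on the two pairs `a * b` is scalar
    let O : Set (Fin N × ℤˣ) := {q | q.1 = i ∨ q.1 = j}
    have hO : ∀ x ∈ E R, ∀ q ∈ O, act x q ∈ O := by
      rintro x hx ⟨p, s⟩ (rfl | rfl)
      · exact hpair x hx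
      · exact hjx x hx
    have hsc : ∀ q ∈ O, act (a * b) q = (q.1, (a * b).left i * q.2) := by
      rintro ⟨p, s⟩ (rfl | rfl)
      · rw [act_apply, show ((a * b).right : Perm (Fin N)) p = p by rw [mul_right_apply, hbij, hAj]]
      · rw [act_apply, show ((a * b).right : Perm (Fin N)) j = j by rw [mul_right_apply, hbj], ← hcij]
    have hbE : b ∈ E R := hBE hb
    have hcomA : ∀ x ∈ A, ∀ q ∈ O, act a (act x q) = act x (act a q) := by
      intro x hx q hq
      obtain ⟨q', hq', rfl⟩ : ∃ q' ∈ O, act b q' = q :=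
        ⟨act b⁻¹ q, hO _ (Subgroup.inv_mem _ hbE) q hq, by
          rw [← Perm.mul_apply, ← map_mul, mul_inv_cancel, map_one, Perm.one_apply]⟩
      have e1 : act x (act b q') = act b (act x q') := by
        rw [← Perm.mul_apply, ← map_mul, hc x hx b hb, map_mul, Perm.mul_apply]
      rw [e1, ← Perm.mul_apply (act a) (act b), ← map_mul, hsc _ (hO x (hAE hx) q' hq'),
        ← Perm.mul_apply (act a) (act b), ← map_mul, hsc _ hq', act_apply, act_apply]
      simp only [mul_left_comm]
    obtain ⟨k, hk⟩ := hint i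
    obtain ⟨α, hα, β, hβ, he⟩ := hdec _ (hduo i k)
    have hq : ((i, 1) : Fin N × ℤˣ) ∈ O := Or.inl rfl
    have h3 : act a (act (α * β) (i, 1)) = act (α * β) (act a (i, 1)) := by
      rw [map_mul, Perm.mul_apply, Perm.mul_apply, hcomA α hα _ (hO β (hBE hβ) _ hq)]
      congr 1
      rw [← Perm.mul_apply, ← map_mul, hc a ha β hβ, map_mul, Perm.mul_apply]
    rw [he, act_apply, act_apply, act_apply, act_apply] at h3
    have h4 := congrArg Prod.snd h3
    simp only [SemidirectProduct.right_inl, SemidirectProduct.left_inl, OneMemClass.coe_one,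
      Perm.one_apply] at h4
    rw [← hj, duo, Pi.mul_apply, Pi.mul_apply, Pi.mulSingle_eq_same, Pi.mulSingle_eq_of_ne hai,
      Pi.mulSingle_eq_of_ne (show i ≠ k from hk 1), Pi.mulSingle_eq_of_ne (show j ≠ k from hk a.right)] at h4
    simp at h4
  -- products over invariant sets of pairs
  have hfib : ∀ (T : Finset (Fin N)), (∀ p q, rel p q → (p ∈ T ↔ q ∈ T)) →
      ∀ p, Even (T.filter fun q => rel p q).card := by
    intro T hT p
    by_cases hp : p ∈ T
    · have e : ((T.filter fun q => rel p q : Finset (Fin N)) : Set (Fin N)) =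
          {j : Fin N | ∃ r : R, (r : Perm (Fin N)) p = j} := by
        ext q
        simp only [Finset.coe_filter, Set.mem_setOf_eq]
        exact ⟨fun h => h.2, fun h => ⟨(hT p q h).1 hp, h⟩⟩
      rw [← Set.ncard_coe_finset, e]
      exact hev p
    · rw [Finset.filter_eq_empty_iff.2 fun q hq h => hp ((hT p q h).2 hq)]
      simp
  have hprodinv : ∀ (T : Finset (Fin N)), (∀ p q, rel p q → (p ∈ T ↔ q ∈ T)) → ∀ f : Fin N → ℤˣ,
      (∀ p ∈ T, ∀ q, rel p q → f q = f p) → ∏ p ∈ T, f p = 1 := by
    intro T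
    induction T using Finset.strongInduction with
    | _ T ih =>
      intro hT f hf
      rcases T.eq_empty_or_nonempty with rfl | ⟨p, hp⟩
      · exact Finset.prod_empty
      rw [← Finset.prod_filter_mul_prod_filter_not T (fun q => rel p q)]
      rw [ih (T.filter fun q => ¬ rel p q) (Finset.filter_ssubset.2 ⟨p, hp, fun h => h (rrefl p)⟩) (fun x y hxy => by
          simp only [Finset.mem_filter]
          rw [hT x y hxy]
          exact and_congr_right fun _ => not_congr
            ⟨fun h => rtrans h hxy, fun h => rtrans h (rsymm hxy)⟩)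
        f (fun x hx => hf x (Finset.mem_filter.1 hx).1), mul_one,
        Finset.prod_congr rfl fun q hq => hf p hp q (Finset.mem_filter.1 hq).2, Finset.prod_const]
      obtain ⟨c, hc⟩ := hfib T hT p
      rw [hc, pow_add]
      exact Int.units_mul_self _
  -- the type of a pair
  let MA : Fin N → Prop := fun p => ∃ a ∈ A, (a.right : Perm (Fin N)) p ≠ p
  have hMA : ∀ p, MA p → ∀ b ∈ B, (b.right : Perm (Fin N)) p = p := fun p ⟨a, ha, hap⟩ =>
    (hone p).resolve_left fun h => hap (h a ha)
  have hMB : ∀ p, ¬ MA p → ∀ a ∈ A, (a.right : Perm (Fin N)) p = p := fun p h a ha => by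
    by_contra h'
    exact h ⟨a, ha, h'⟩
  have hrelMA : ∀ p q, rel p q → MA p → MA q := by
    rintro p q ⟨r, rfl⟩ hp
    by_contra hq
    obtain ⟨a, ha, hap⟩ := hp
    apply hap
    have h1 := hMB _ hq _ (hnorm hc hdec a ha _ (hper r))
    rw [mul_right_apply, mul_right_apply] at h1
    have h2 : (((per r : W R)⁻¹).right : Perm (Fin N)) ((r : Perm (Fin N)) p) = p :=
      Equiv.symm_apply_apply _ _
    rw [h2] at h1
    exact (r : Perm (Fin N)).injective h1
  have hrelMA' : ∀ p q, rel p q → (MA p ↔ MA q) := fun p q h => ⟨hrelMA p q h, hrelMA q p (rsymm h)⟩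
  -- invariance of the components of elements of trivial image
  have hinv : ∀ {A B : Subgroup (W R)}, (∀ a ∈ A, ∀ b ∈ B, a * b = b * a) →
      ∀ a ∈ A, a.right = 1 → ∀ b ∈ B, ∀ p, a.left ((b.right : Perm (Fin N)) p) = a.left p := by
    intro A B hc a ha ha1 b hb p
    have h := congrFun (congrArg SemidirectProduct.left (hc a ha b hb)) ((b.right : Perm (Fin N)) p)
    rw [mul_left_apply, mul_left_apply, ha1, Equiv.symm_apply_apply, mul_comm (b.left _)] at h
    exact mul_right_cancel (h : a.left _ * b.left _ = a.left p * b.left _)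
  have hallcase : ∀ {A B : Subgroup (W R)}, (∀ a ∈ A, ∀ b ∈ B, a * b = b * a) →
      (∀ x, x ∈ A → x ∈ B → x = 1) → (∀ x ∈ E R, ∃ a ∈ A, ∃ b ∈ B, a * b = x) →
      (∀ b ∈ B, b.right = 1) → ∀ b ∈ B, b = 1 := by
    intro A B hc hd hdec hB1 b₀ hb
    have hBinv : ∀ b ∈ B, ∀ (r : R) (p : Fin N), b.left ((r : Perm (Fin N)) p) = b.left p := by
      intro b hb r p
      obtain ⟨a, ha, b', hb', e⟩ := hdec _ (hper r)
      have h1 : (r : Perm (Fin N)) p = (a.right : Perm (Fin N)) p := by
        rw [show (r : Perm (Fin N)) p = ((a * b').right : Perm (Fin N)) p by rw [e]; rfl, mul_right_apply,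
          show (b'.right : Perm (Fin N)) p = p by rw [hB1 b' hb']; rfl]
      rw [h1]
      exact hinv (fun b hb a ha => (hc a ha b hb).symm) b hb (hB1 b hb) a ha p
    have hBcent : ∀ b ∈ B, ∀ x : W R, b * x = x * b := fun b hb x => by
      refine SemidirectProduct.ext (funext fun p => ?_) (by simp [hB1 b hb])
      rw [mul_left_apply, mul_left_apply, hB1 b hb, ← hBinv b hb x.right ((x.right : Perm (Fin N)).symm p),
        Equiv.apply_symm_apply]
      exact mul_comm _ _
    have hpairA : ∀ p q, rel p q → vec (duo p q) ∈ A := by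
      rintro p q ⟨r, hr⟩
      obtain ⟨k, hk⟩ := hint p
      obtain ⟨r', hr'⟩ := hres {x | rel p x} (fun s x => ⟨fun h => rtrans h ⟨s⁻¹, Equiv.symm_apply_apply _ _⟩,
        fun h => rtrans h ⟨s, rfl⟩⟩) r
      have hrp : (r' : Perm (Fin N)) p = q := ((hr' p).1 (rrefl p)).trans hr
      have hrk : (r' : Perm (Fin N)) k = k := (hr' k).2 fun ⟨s, hs⟩ => hk s hs
      obtain ⟨a, ha, b, hb, e⟩ := hdec _ (hper r')
      have h1 : a * (vec (duo p k) * a⁻¹ * (vec (duo p k))⁻¹) ∈ A :=
        A.mul_mem ha (hnorm hc hdec a⁻¹ (A.inv_mem ha) _ (hduo p k))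
      have e1 : a * (vec (duo p k) * a⁻¹ * (vec (duo p k))⁻¹) =
          per r' * vec (duo p k) * (per r')⁻¹ * (vec (duo p k))⁻¹ := by
        rw [← e, show a * b * vec (duo p k) * (a * b)⁻¹ = a * (b * vec (duo p k) * b⁻¹) * a⁻¹ by group,
          hBcent b hb, mul_inv_cancel_right]
        group
      rw [e1] at h1
      convert h1 using 1
      refine SemidirectProduct.ext (funext fun x => ?_) (conj_duo_right _ _ _).symm
      rw [conj_duo_left, SemidirectProduct.left_inl, SemidirectProduct.right_inr]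
      have hs1 : ∀ y z : Fin N, (r' : Perm (Fin N)) y = z → ((r' : Perm (Fin N)).symm x = y ↔ x = z) :=
        fun y z h => by rw [Equiv.symm_apply_eq, h]
      simp only [duo, Pi.mul_apply, Pi.mulSingle_apply, hs1 p q hrp, hs1 k k hrk]
      split_ifs <;> decide
    have hsub : ∀ T : Finset (Fin N), (∀ p, Even (T.filter fun q => rel p q).card) →
        vec (fun x => if x ∈ T then (-1 : ℤˣ) else 1) ∈ A := by
      intro T
      induction T using Finset.strongInduction with
      | _ T ih =>
        intro hT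
        rcases T.eq_empty_or_nonempty with rfl | ⟨p, hp⟩
        · convert A.one_mem using 1
          exact SemidirectProduct.ext (funext fun x => by simp) rfl
        obtain ⟨q, hq, hqp⟩ : ∃ q ∈ T.filter (fun q => rel p q), q ≠ p := by
          by_contra h
          push Not at h
          have e : (T.filter fun q => rel p q) = {p} :=
            Finset.eq_singleton_iff_unique_mem.2 ⟨Finset.mem_filter.2 ⟨hp, rrefl p⟩, h⟩
          have := hT p
          rw [e, Finset.card_singleton] at this
          exact Nat.not_even_one this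
        obtain ⟨hqT, hpq⟩ := Finset.mem_filter.1 hq
        have hT' : ∀ x, Even (((T.erase p).erase q).filter fun y => rel x y).card := by
          intro x
          rw [Finset.filter_erase, Finset.filter_erase]
          by_cases hx : rel x p
          · rw [Finset.card_erase_of_mem (Finset.mem_erase.2 ⟨hqp, Finset.mem_filter.2 ⟨hqT, rtrans hx hpq⟩⟩),
              Finset.card_erase_of_mem (Finset.mem_filter.2 ⟨hp, hx⟩)]
            obtain ⟨c, hc⟩ := hT x
            have : 1 < (T.filter fun y => rel x y).card := Finset.one_lt_card.2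
              ⟨p, Finset.mem_filter.2 ⟨hp, hx⟩, q, Finset.mem_filter.2 ⟨hqT, rtrans hx hpq⟩, hqp.symm⟩
            exact ⟨c - 1, by
              rw [show (T.filter (rel x)).card = c + c from hc] at this ⊢
              omega⟩
          · rw [Finset.erase_eq_of_notMem (fun h => hx (rtrans (Finset.mem_filter.1 (Finset.mem_of_mem_erase h)).2 (rsymm hpq))),
              Finset.erase_eq_of_notMem (fun h => hx (Finset.mem_filter.1 h).2)]
            exact hT x
        have h1 := ih _ (lt_of_le_of_lt (Finset.erase_subset _ _) (Finset.erase_ssubset hp)) hT'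
        convert A.mul_mem (hpairA p q hpq) h1 using 1
        rw [← map_mul]
        congr 1
        funext x
        simp only [duo, Pi.mul_apply, Pi.mulSingle_apply, Finset.mem_erase]
        by_cases hxp : x = p
        · subst hxp; simp [hp, hqp.symm]
        · by_cases hxq : x = q
          · subst hxq; simp [hqT, hqp]
          · simp [hxp, hxq]
    refine hd _ ?_ hb
    have hT : ∀ p q, rel p q → (p ∈ Finset.univ.filter (fun x => b₀.left x = -1) ↔
        q ∈ Finset.univ.filter (fun x => b₀.left x = -1)) := by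
      rintro p q ⟨r, rfl⟩
      simp [hBinv _ hb r p]
    convert hsub _ (hfib _ hT) using 1
    refine SemidirectProduct.ext (funext fun x => ?_) (hB1 _ hb)
    rw [SemidirectProduct.left_inl]
    rcases Int.units_eq_one_or (b₀.left x) with h | h <;> simp [h]
  have hbot : ∀ {C' : Subgroup (E R)}, C' ≠ ⊥ → ¬ ∀ c ∈ C'.map (E R).subtype, c = 1 := by
    intro C' hC' h
    obtain ⟨⟨c, hc⟩, hne⟩ := Subgroup.ne_bot_iff_exists_ne_one.1 hC'
    exact hne (Subtype.ext (Subtype.ext (h _ ⟨c, hc, rfl⟩)))
  by_cases hall : ∀ p, MA p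
  · exact hbot hB' (hallcase hc hd hdec fun b hb =>
      Subtype.ext (Equiv.ext fun p => hMA p (hall p) b hb))
  push Not at hall
  obtain ⟨k, hk⟩ := hall
  by_cases hnone : ∀ p, ¬ MA p
  · exact hbot hA' (hallcase (fun b hb a ha => (hc a ha b hb).symm) (fun x h1 h2 => hd x h2 h1) hdec'
      fun a ha => Subtype.ext (Equiv.ext fun p => hMB p (hnone p) a ha))
  push Not at hnone
  obtain ⟨i, hi⟩ := hnone
  have hik : ¬ rel i k := fun h => hk (hrelMA i k h hi)
  obtain ⟨α, hα, β, hβ, he⟩ := hdec _ (hduo i k)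
  have hr : ∀ p, (α.right : Perm (Fin N)) p = p ∧ (β.right : Perm (Fin N)) p = p := fun p => by
    have h1 : ((α * β).right : Perm (Fin N)) p = p := by rw [he]; rfl
    rw [mul_right_apply] at h1
    by_cases hp : MA p
    · have h2 := hMA p hp β hβ
      rw [h2] at h1
      exact ⟨h1, h2⟩
    · have h2 := hMB p hp α hα
      exact ⟨h2, (α.right : Perm (Fin N)).injective (h1.trans h2.symm)⟩
  have hα1 : α.right = 1 := Subtype.ext (Equiv.ext fun p => (hr p).1)
  have hβ1 : β.right = 1 := Subtype.ext (Equiv.ext fun p => (hr p).2)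
  have hαinv : ∀ p, ¬ MA p → ∀ q, rel p q → α.left q = α.left p := by
    rintro p hp q ⟨r, rfl⟩
    obtain ⟨a, ha, b, hb, e⟩ := hdec _ (hper r)
    have h1 : (r : Perm (Fin N)) p = (b.right : Perm (Fin N)) p := by
      rw [show (r : Perm (Fin N)) p = ((b * a).right : Perm (Fin N)) p by rw [← hc a ha b hb, e]; rfl,
        mul_right_apply, hMB p hp a ha]
    rw [h1]
    exact hinv hc α hα hα1 b hb p
  have hβinv : ∀ p, MA p → ∀ q, rel p q → β.left q = β.left p := by
    rintro p hp q ⟨r, rfl⟩
    obtain ⟨a, ha, b, hb, e⟩ := hdec _ (hper r)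
    have h1 : (r : Perm (Fin N)) p = (a.right : Perm (Fin N)) p := by
      rw [show (r : Perm (Fin N)) p = ((a * b).right : Perm (Fin N)) p by rw [e]; rfl,
        mul_right_apply, hMA p hp b hb]
    rw [h1]
    exact hinv (fun b hb a ha => (hc a ha b hb).symm) β hβ hβ1 a ha p
  have hχ : chi R α = -1 := by
    show ∏ p, α.left p = -1
    rw [← Finset.prod_filter_mul_prod_filter_not Finset.univ MA,
      hprodinv (Finset.univ.filter fun p => ¬ MA p) (fun p q h => by simp [hrelMA' p q h]) α.left
        (fun p hp => hαinv p (Finset.mem_filter.1 hp).2), mul_one]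
    have e : ∀ p, α.left p = duo i k p * β.left p := fun p => by
      have h1 := congrFun (congrArg SemidirectProduct.left he) p
      rw [mul_left_apply, hα1, SemidirectProduct.left_inl] at h1
      rw [← h1, show ((1 : R) : Perm (Fin N)).symm p = p from rfl, mul_assoc, Int.units_mul_self, mul_one]
    rw [Finset.prod_congr rfl fun p _ => e p, Finset.prod_mul_distrib,
      hprodinv (Finset.univ.filter fun p => MA p) (fun p q h => by simp [hrelMA' p q h]) β.left
        (fun p hp => hβinv p (Finset.mem_filter.1 hp).2), mul_one]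
    simp only [duo, Pi.mul_apply, Finset.prod_mul_distrib, Finset.prod_pi_mulSingle', Finset.mem_filter,
      Finset.mem_univ, true_and, hi, hk, if_true, if_false, mul_one]
  have := MonoidHom.mem_ker.1 (hAE hα)
  rw [hχ] at this
  exact absurd this (by decide)

/-! ### The model inside the alternating groups -/

/-- `ℤˣ` as permutations of two points. -/
def swapHom : ℤˣ →* Perm (Fin 2) where
  toFun z := if z = 1 then 1 else Equiv.swap 0 1
  map_one' := if_pos rfl
  map_mul' := by decide

theorem swapHom_injective : Function.Injective swapHom := by decide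

theorem sign_swapHom (z : ℤˣ) : sign (swapHom z) = z := by
  rcases Int.units_eq_one_or z with rfl | rfl
  · simp
  · rw [show swapHom (-1) = Equiv.swap 0 1 by decide, sign_swap (by decide)]

variable (R)

/-- The model as permutations preserving pairs. -/
def toPerm (ε : ℕ) : W R →* Perm (Pt N ε) :=
  SemidirectProduct.lift ((cent N ε).subtype.comp ((flipHom N ε).comp (MonoidHom.piMap fun _ => swapHom)))
    { toFun := fun r => KnownA.SylowTwoUnique.liftP N ε (r : Perm (Fin N))
      map_one' := KnownA.SylowTwoUnique.liftP_one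
      map_mul' := fun r s => KnownA.SylowTwoUnique.liftP_mul _ _ }
    (fun r => MonoidHom.ext fun v => by
      rw [MonoidHom.comp_apply, MonoidHom.comp_apply]
      show _ = KnownA.SylowTwoUnique.liftP N ε (r : Perm (Fin N)) * _ *
        (KnownA.SylowTwoUnique.liftP N ε (r : Perm (Fin N)))⁻¹
      rw [eq_mul_inv_iff_mul_eq]
      ext a
      have key : ∀ (π : Perm (Fin N)) (f : Fin N → ℤˣ) (i : Fin N),
          NormalTwoRank.permAct ℤˣ N π f (π i) = f i := fun π f i => congrArg f (π.symm_apply_apply i)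
      rcases a with ⟨i, b⟩ | c <;>
        simp [flipHom, KnownA.SylowTwoUnique.liftP, key])

theorem toPerm_inl (ε : ℕ) (x : W R) (i : Fin N) (b : Fin 2) : toPerm R ε x (Sum.inl (i, b)) =
    Sum.inl ((x.right : Perm (Fin N)) i, swapHom (x.left ((x.right : Perm (Fin N)) i)) b) := by
  simp [toPerm, SemidirectProduct.lift, flipHom, KnownA.SylowTwoUnique.liftP]

theorem toPerm_injective (ε : ℕ) : Function.Injective (toPerm R ε) := by
  intro x y h
  have e : ∀ i b, (Sum.inl ((x.right : Perm (Fin N)) i, swapHom (x.left ((x.right : Perm (Fin N)) i)) b) : Pt N ε) =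
      Sum.inl ((y.right : Perm (Fin N)) i, swapHom (y.left ((y.right : Perm (Fin N)) i)) b) := fun i b => by
    rw [← toPerm_inl, ← toPerm_inl, h]
  have hr : x.right = y.right :=
    Subtype.ext (Equiv.ext fun i => congrArg Prod.fst (Sum.inl_injective (e i 0)))
  refine SemidirectProduct.ext (funext fun i => swapHom_injective (Equiv.ext fun b => ?_)) hr
  have := congrArg Prod.snd (Sum.inl_injective (e ((x.right : Perm (Fin N)).symm i) b))
  rwa [← hr, Equiv.apply_symm_apply] at this

theorem sign_toPerm (ε : ℕ) (x : W R) : sign (toPerm R ε x) = chi R x := by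
  show sign ((flipHom N ε (fun i => swapHom (x.left i)) : Perm (Pt N ε)) *
    KnownA.SylowTwoUnique.liftP N ε (x.right : Perm (Fin N))) = _
  rw [map_mul]
  have h1 : sign ((flipHom N ε (fun i => swapHom (x.left i)) : Perm (Pt N ε))) = chi R x := by
    show sign (Equiv.sumCongr (Equiv.prodCongrRight fun i => swapHom (x.left i)) (Equiv.refl _)) = _
    rw [sign_sumCongr, sign_prodCongrRight, sign_refl, mul_one]
    exact Finset.prod_congr rfl fun i _ => sign_swapHom _
  have h2 : sign (KnownA.SylowTwoUnique.liftP N ε (x.right : Perm (Fin N))) = 1 := by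
    show sign (Equiv.sumCongr (Equiv.prodCongr (x.right : Perm (Fin N)) (Equiv.refl (Fin 2))) (Equiv.refl _)) = _
    rw [show Equiv.prodCongr (x.right : Perm (Fin N)) (Equiv.refl (Fin 2)) =
        Equiv.prodCongrLeft fun _ : Fin 2 => (x.right : Perm (Fin N)) from Equiv.ext fun p => rfl,
      sign_sumCongr, sign_prodCongrLeft, sign_refl, mul_one, Fin.prod_univ_two, Int.units_mul_self]
  rw [h1, h2, mul_one]

variable {R}

/-- Transport to a Sylow subgroup of `A_n`. -/
theorem sylow_equiv {n : ℕ} {G : Type*} [Group G] [Finite G] {α : Type*} [Fintype α] [DecidableEq α]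
    (e : α ≃ Fin n) (ψ : G →* Perm α) (hψ : Function.Injective ψ) (hsign : ∀ g, sign (ψ g) = 1)
    (hcard : Nat.card G = 2 ^ (Nat.card (alternatingGroup (Fin n))).factorization 2)
    (P : Sylow 2 (alternatingGroup (Fin n))) : Nonempty (G ≃* (P : Subgroup (alternatingGroup (Fin n)))) := by
  haveI : Fact (Nat.Prime 2) := ⟨Nat.prime_two⟩
  let φ : G →* alternatingGroup (Fin n) := (e.permCongrHom.toMonoidHom.comp ψ).codRestrict _ fun g => by
    rw [mem_alternatingGroup]
    show sign (e.permCongr (ψ g)) = 1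
    rw [sign_permCongr, hsign]
  have hφ : Function.Injective φ := fun a b h => hψ (e.permCongrHom.injective (congrArg Subtype.val h))
  let Q : Sylow 2 (alternatingGroup (Fin n)) := Sylow.ofCard φ.range (by
    rw [← hcard, Nat.card_congr (MonoidHom.ofInjective hφ).toEquiv])
  exact ⟨(MonoidHom.ofInjective hφ).trans (Q.equiv P)⟩

theorem factorization_alt {n : ℕ} (hn : 2 ≤ n) :
    (Nat.card (alternatingGroup (Fin n))).factorization 2 + 1 = padicValNat 2 n.factorial := by
  haveI : Fact (Nat.Prime 2) := ⟨Nat.prime_two⟩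
  haveI : Nontrivial (Fin n) := Fin.nontrivial_iff_two_le.2 hn
  rw [← Nat.factorization_def _ Nat.prime_two, show n.factorial = 2 * Nat.card (alternatingGroup (Fin n)) by
    rw [nat_card_alternatingGroup, Nat.card_fin, Nat.mul_div_cancel' (Nat.dvd_factorial two_pos hn)],
    Nat.factorization_mul two_ne_zero Nat.card_pos.ne', Finsupp.add_apply,
    Nat.Prime.factorization_self Nat.prime_two, add_comm]

theorem val_fact_two_mul_add {m e : ℕ} (he : e ≤ 1) :
    padicValNat 2 (2 * m + e).factorial = m + padicValNat 2 m.factorial := by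
  haveI : Fact (Nat.Prime 2) := ⟨Nat.prime_two⟩
  rw [padicValNat_factorial_mul_add m (by omega), padicValNat_factorial_mul]
  omega

theorem restrictions_mem (Q : Sylow 2 (Perm (Fin N))) (S : Set (Fin N))
    (hS : ∀ r : (Q : Subgroup (Perm (Fin N))), ∀ i, (r : Perm (Fin N)) i ∈ S ↔ i ∈ S)
    : ∀ r : (Q : Subgroup (Perm (Fin N))), ∃ r' : (Q : Subgroup (Perm (Fin N))),
      ∀ i, (i ∈ S → (r' : Perm (Fin N)) i = (r : Perm (Fin N)) i) ∧ (i ∉ S → (r' : Perm (Fin N)) i = i) := by
  classical
  haveI : Fact (Nat.Prime 2) := ⟨Nat.prime_two⟩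
  set R := (Q : Subgroup (Perm (Fin N)))
  intro r
  -- permutations agreeing on each orbit with some element of `Q`
  let H : Subgroup (Perm (Fin N)) :=
    { carrier := {g | ∀ i, ∃ s : R, ∀ t : R, g ((t : Perm (Fin N)) i) = (s : Perm (Fin N)) ((t : Perm (Fin N)) i)}
      one_mem' := fun i => ⟨1, fun t => rfl⟩
      mul_mem' := fun {g h} hg hh i => by
        obtain ⟨sh, hsh⟩ := hh i
        obtain ⟨sg, hsg⟩ := hg i
        refine ⟨sg * sh, fun t => ?_⟩
        rw [Perm.mul_apply, hsh t]
        exact hsg (sh * t)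
      inv_mem' := fun {g} hg i => by
        obtain ⟨sg, hsg⟩ := hg i
        refine ⟨sg⁻¹, fun t => ?_⟩
        have := hsg (sg⁻¹ * t)
        rw [Subgroup.coe_mul, Perm.mul_apply, Subgroup.coe_inv, Perm.inv_def, Equiv.apply_symm_apply] at this
        exact (Equiv.symm_apply_eq _).2 this.symm }
  have hle : R ≤ H := fun g hg i => ⟨⟨g, hg⟩, fun t => rfl⟩
  have hpow : ∀ g ∈ H, ∀ i, ∃ s : R, ∀ (k : ℕ) (t : R), (g ^ k) ((t : Perm (Fin N)) i) =
      ((s : Perm (Fin N)) ^ k) ((t : Perm (Fin N)) i) := by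
    intro g hg i
    obtain ⟨s, hs⟩ := hg i
    refine ⟨s, fun k => ?_⟩
    induction k with
    | zero => simp
    | succ k ih =>
      intro t
      rw [pow_succ, pow_succ, Perm.mul_apply, Perm.mul_apply, hs t]
      exact ih (s * t)
  obtain ⟨d, hd⟩ := IsPGroup.iff_card.1 Q.2
  have hH : IsPGroup 2 H := fun g => by
    refine ⟨d, Subtype.ext (Equiv.ext fun i => ?_)⟩
    obtain ⟨s, hs⟩ := hpow g g.2 i
    have h1 := hs (2 ^ d) 1
    rw [OneMemClass.coe_one, Perm.one_apply, ← SubmonoidClass.coe_pow, ← SubmonoidClass.coe_pow s,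
      show s ^ 2 ^ d = 1 by rw [← hd]; exact pow_card_eq_one'] at h1
    exact h1
  have hHR : H = R := Q.3 hH hle
  let g : Perm (Fin N) :=
    { toFun := fun i => if i ∈ S then (r : Perm (Fin N)) i else i
      invFun := fun i => if i ∈ S then (r : Perm (Fin N)).symm i else i
      left_inv := fun i => by
        by_cases h : i ∈ S
        · simp [h, (hS r i).2 h]
        · simp [h]
      right_inv := fun i => by
        by_cases h : i ∈ S
        · have : (r : Perm (Fin N)).symm i ∈ S := (hS r _).1 (by simpa using h)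
          simp [h, this]
        · simp [h] }
  have hg : g ∈ H := fun i => by
    by_cases h : i ∈ S
    · exact ⟨r, fun t => if_pos ((hS t i).2 h)⟩
    · exact ⟨1, fun t => if_neg fun h' => h ((hS t i).1 h')⟩
  exact ⟨⟨g, (SetLike.ext_iff.1 hHR g).1 hg⟩, fun i => ⟨fun h => if_pos h, fun h => if_neg h⟩⟩

/-- The orbit of a point under a subgroup of permutations. -/
def orb (R : Subgroup (Perm (Fin N))) (i : Fin N) : Set (Fin N) := {j | ∃ r : R, (r : Perm (Fin N)) i = j}

theorem orb_invariant (R : Subgroup (Perm (Fin N))) (i : Fin N) (r : R) (x : Fin N) :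
    (r : Perm (Fin N)) x ∈ orb R i ↔ x ∈ orb R i := by
  constructor
  · rintro ⟨s, hs⟩
    exact ⟨r⁻¹ * s, by
      show (r : Perm (Fin N))⁻¹ ((s : Perm (Fin N)) i) = x
      rw [hs]; exact Equiv.symm_apply_apply _ _⟩
  · rintro ⟨s, hs⟩
    exact ⟨r * s, by show (r : Perm (Fin N)) ((s : Perm (Fin N)) i) = _; rw [hs]⟩

theorem odd_choose_orbit (Q : Sylow 2 (Perm (Fin N))) (i : Fin N) :
    Odd (N.choose (orb (Q : Subgroup (Perm (Fin N))) i).ncard) := by
  have := KnownA.SylowTwoSets.odd_choose_of_invariant Q (orb (Q : Subgroup (Perm (Fin N))) i) fun g hg => by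
    ext x
    rw [Set.mem_smul_set_iff_inv_smul_mem, Perm.smul_def]
    exact orb_invariant _ i (⟨g, hg⟩⁻¹) x
  rwa [Fintype.card_fin] at this

theorem even_orbit (Q : Sylow 2 (Perm (Fin N))) (hN : Even N) (i : Fin N) :
    Even (orb (Q : Subgroup (Perm (Fin N))) i).ncard := by
  by_contra h
  have hodd := Nat.not_even_iff_odd.1 h
  obtain ⟨a, ha⟩ : ∃ a, (orb (Q : Subgroup (Perm (Fin N))) i).ncard = a + 1 :=
    ⟨_, (Nat.succ_pred_eq_of_pos hodd.pos).symm⟩
  obtain ⟨b, rfl⟩ : ∃ b, N = b + 1 := ⟨N - 1, by have := i.2; omega⟩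
  have h1 := Nat.add_one_mul_choose_eq b a
  rw [← ha] at h1
  have h2 : Even ((b + 1).choose (orb (Q : Subgroup (Perm (Fin (b + 1)))) i).ncard *
      (orb (Q : Subgroup (Perm (Fin (b + 1)))) i).ncard) := by
    rw [← h1]; exact hN.mul_right _
  rcases Nat.even_mul.1 h2 with h3 | h3
  · exact Nat.not_even_iff_odd.2 (odd_choose_orbit Q i) h3
  · exact h h3

theorem transitive_of_pow (Q : Sylow 2 (Perm (Fin N))) {k : ℕ} (hN : N = 2 ^ k) (i j : Fin N) :
    ∃ r : (Q : Subgroup (Perm (Fin N))), (r : Perm (Fin N)) i = j := by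
  have hodd := odd_choose_orbit Q i
  have hle : (orb (Q : Subgroup (Perm (Fin N))) i).ncard ≤ N :=
    (Set.ncard_le_card _).trans_eq (Nat.card_fin N)
  have hpos : 0 < (orb (Q : Subgroup (Perm (Fin N))) i).ncard :=
    (Set.ncard_pos (Set.toFinite _)).2 ⟨i, 1, rfl⟩
  rcases hle.lt_or_eq with hlt | heq
  · exfalso
    subst hN
    exact Nat.not_even_iff_odd.2 hodd (KnownA.SylowTwoSets.even_choose_pow hpos hlt)
  · have : orb (Q : Subgroup (Perm (Fin N))) i = Set.univ :=
      Set.eq_of_subset_of_ncard_le (Set.subset_univ _) (by rw [Set.ncard_univ, Nat.card_fin, heq])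
    exact (Set.ext_iff.1 this j).2 trivial

theorem intransitive_of_not_pow (Q : Sylow 2 (Perm (Fin N))) (hN0 : 0 < N) (hN : ∀ k : ℕ, N ≠ 2 ^ k)
    (i : Fin N) : ∃ j, ∀ r : (Q : Subgroup (Perm (Fin N))), (r : Perm (Fin N)) i ≠ j := by
  obtain ⟨k, hk1, hk2⟩ : ∃ k, 2 ^ k < N ∧ N < 2 ^ (k + 1) := by
    refine ⟨Nat.log 2 N, lt_of_le_of_ne (Nat.pow_log_le_self 2 hN0.ne') (Ne.symm (hN _)),
      Nat.lt_pow_succ_log_self (by norm_num) N⟩
  obtain ⟨O, hO, hinv⟩ := KnownA.SylowTwoSets.exists_invariant Q (2 ^ k) (by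
    rw [Fintype.card_fin, show N = 2 ^ k + (N - 2 ^ k) by omega]
    exact KnownA.SylowTwoSets.odd_choose_top (by rw [pow_succ] at hk2; omega))
  have hmem : ∀ g ∈ (Q : Subgroup (Perm (Fin N))), ∀ x, g x ∈ O ↔ x ∈ O := fun g hg x => by
    conv_lhs => rw [← hinv g hg]
    exact Set.smul_mem_smul_set_iff
  by_cases hi : i ∈ O
  · obtain ⟨j, hj⟩ : ∃ j, j ∉ O := by
      by_contra h
      push Not at h
      rw [Set.eq_univ_of_forall h, Set.ncard_univ, Nat.card_fin] at hO
      omega
    exact ⟨j, fun r hr => hj (hr ▸ (hmem _ r.2 i).2 hi)⟩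
  · obtain ⟨j, hj⟩ := Set.nonempty_of_ncard_ne_zero (s := O) (by rw [hO]; exact (pow_pos two_pos k).ne')
    exact ⟨j, fun r hr => hi ((hmem _ r.2 i).1 (hr ▸ hj))⟩

theorem card_sylow_perm (Q : Sylow 2 (Perm (Fin N))) :
    Nat.card (Q : Subgroup (Perm (Fin N))) = 2 ^ padicValNat 2 N.factorial := by
  haveI : Fact (Nat.Prime 2) := ⟨Nat.prime_two⟩
  rw [Sylow.card_eq_multiplicity, Nat.card_perm, Nat.card_fin, Nat.factorization_def _ Nat.prime_two]

theorem card_E (R : Subgroup (Perm (Fin N))) (hN : 0 < N) : 2 * Nat.card (E R) = 2 ^ N * Nat.card R := by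
  have hsurj : Function.Surjective (chi R) := fun z => ⟨vec (Pi.mulSingle ⟨0, hN⟩ z), by
    rw [chi_vec, Finset.prod_pi_mulSingle', if_pos (Finset.mem_univ _)]⟩
  have h := (E R).index_mul_card
  rw [Subgroup.index_ker, MonoidHom.range_eq_top.2 hsurj, Subgroup.card_top, card_W,
    Nat.card_eq_fintype_card (α := ℤˣ), Fintype.card_units_int] at h
  exact h

/-- The main result. -/
theorem decomposable_sylow_alt_iff (n : ℕ) (hn : 4 ≤ n) (P : Sylow 2 (alternatingGroup (Fin n))) :
    Decomposable (P : Subgroup (alternatingGroup (Fin n))) ↔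
      (n = 4 ∨ n = 5 ∨ ((n % 4 = 2 ∨ n % 4 = 3) ∧ ∀ r : ℕ, 4 * (n / 4) ≠ 2 ^ r)) := by
  classical
  haveI : Fact (Nat.Prime 2) := ⟨Nat.prime_two⟩
  have hA := factorization_alt (n := n) (by omega)
  have hpow : ∀ k, 2 * (n / 4) = 2 ^ k → 4 * (n / 4) = 2 ^ (k + 1) := fun k h => by rw [pow_succ, ← h]; ring
  obtain ⟨Q⟩ : Nonempty (Sylow 2 (Perm (Fin (2 * (n / 4))))) := inferInstance
  set R := (Q : Subgroup (Perm (Fin (2 * (n / 4))))) with hR
  have hRc := card_sylow_perm Q
  have hm : Even (2 * (n / 4)) := even_two_mul _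
  have htr : ∀ {k : ℕ}, 2 * (n / 4) = 2 ^ k → ∀ i j, ∃ r : R, (r : Perm (Fin (2 * (n / 4)))) i = j :=
    fun hk => transitive_of_pow Q hk
  by_cases hcase : n % 4 = 2 ∨ n % 4 = 3
  · -- the whole model
    have hεq : n = 2 * (2 * (n / 4) + 1) + n % 2 := by omega
    let e : Pt (2 * (n / 4)) (n % 2) ⊕ Fin 2 ≃ Fin n := Fintype.equivFinOfCardEq (by simp; omega)
    let ψ : W R →* Perm (Pt (2 * (n / 4)) (n % 2) ⊕ Fin 2) :=
      (Perm.sumCongrHom _ _).comp ((toPerm R (n % 2)).prod (swapHom.comp (chi R)))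
    obtain ⟨eP⟩ := sylow_equiv e ψ
      (fun x y h => toPerm_injective R (n % 2) (congrArg Prod.fst (Perm.sumCongrHom_injective h)))
      (fun x => by
        show sign (Equiv.sumCongr (toPerm R (n % 2) x) (swapHom (chi R x))) = 1
        rw [sign_sumCongr, sign_toPerm, sign_swapHom, Int.units_mul_self]) (by
        rw [card_W, hRc, ← pow_add]
        congr 1
        rw [hεq, val_fact_two_mul_add (by omega), val_fact_two_mul_add le_rfl] at hA
        rw [show 2 * (2 * (n / 4) + 1) + n % 2 = n from hεq.symm] at hA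
        rw [show (2 * (n / 4)).factorial = (2 * (n / 4) + 0).factorial from rfl, val_fact_two_mul_add (by omega)]
        omega) P
    have hiff : Decomposable (W R) ↔ ∀ k : ℕ, 2 * (n / 4) ≠ 2 ^ k := by
      constructor
      · intro hd k hk
        exact not_decomposable_W Q.2 (by omega) (htr hk) hd
      · intro hk
        let i : Fin (2 * (n / 4)) := ⟨0, by omega⟩
        obtain ⟨j, hj⟩ := intransitive_of_not_pow Q (by omega) hk i
        exact decomposable_W (orb R i) (orb_invariant R i) (restrictions_mem Q _ (orb_invariant R i))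
          (show i ∈ orb R i from ⟨1, rfl⟩) (fun ⟨r, hr⟩ => hj r hr)
    have hd : Decomposable (P : Subgroup (alternatingGroup (Fin n))) ↔ Decomposable (W R) :=
      ⟨decomposable_congr eP.symm, decomposable_congr eP⟩
    rw [hd, hiff]
    constructor
    · refine fun h => Or.inr (Or.inr ⟨hcase, fun r hr => ?_⟩)
      rcases r with _ | r
      · omega
      · exact h r (by rw [pow_succ] at hr; omega)
    · rintro (h | h | ⟨-, h⟩) k hk
      · omega
      · omega
      · exact h (k + 1) (hpow k hk)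
  · -- the even part
    have hεq : n = 2 * (2 * (n / 4)) + n % 2 := by omega
    let e : Pt (2 * (n / 4)) (n % 2) ≃ Fin n := Fintype.equivFinOfCardEq (by simp; omega)
    obtain ⟨eP⟩ := sylow_equiv e ((toPerm R (n % 2)).comp (E R).subtype)
      ((toPerm_injective R (n % 2)).comp Subtype.val_injective)
      (fun x => (sign_toPerm R (n % 2) x).trans (MonoidHom.mem_ker.1 x.2)) (by
        have h1 := card_E R (show 0 < 2 * (n / 4) by omega)
        rw [hRc, ← pow_add] at h1
        refine Nat.eq_of_mul_eq_mul_left two_pos (h1.trans ?_)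
        rw [← pow_succ']
        congr 1
        rw [hεq, val_fact_two_mul_add (by omega)] at hA
        rw [show 2 * (2 * (n / 4)) + n % 2 = n from hεq.symm] at hA
        omega) P
    have hd : Decomposable (P : Subgroup (alternatingGroup (Fin n))) ↔ Decomposable (E R) :=
      ⟨decomposable_congr eP.symm, decomposable_congr eP⟩
    rw [hd]
    by_cases h4 : n = 4 ∨ n = 5
    · have h2 : 2 * (n / 4) = 2 := by omega
      refine iff_of_true ?_ (by omega)
      -- two pairs: the diagonal and the exchange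
      have htr2 := htr (k := 1) (by omega)
      let A : Subgroup (E R) := (SemidirectProduct.rightHom.comp (E R).subtype).ker
      let B : Subgroup (E R) :=
        { carrier := {x | (x : W R).left = 1}
          one_mem' := rfl
          mul_mem' := fun {x y} hx hy => funext fun i => by
            show ((x : W R) * y).left i = 1
            rw [mul_left_apply, show (x : W R).left = 1 from hx, show (y : W R).left = 1 from hy]
            rfl
          inv_mem' := fun {x} hx => funext fun i => by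
            show ((x : W R)⁻¹).left i = 1
            simp [SemidirectProduct.inv_left, show (x : W R).left = 1 from hx] }
      let i₀ : Fin (2 * (n / 4)) := ⟨0, by omega⟩
      let i₁ : Fin (2 * (n / 4)) := ⟨1, by omega⟩
      have hne : i₀ ≠ i₁ := by simp [i₀, i₁, Fin.ext_iff]
      have hall : ∀ i, i = i₀ ∨ i = i₁ := fun i => by
        rcases i with ⟨v, hv⟩; simp [i₀, i₁, Fin.ext_iff]; omega
      refine ⟨A, B, ?_, ?_, ?_, ?_, ?_⟩
      · refine Subgroup.ne_bot_iff_exists_ne_one.2 ⟨⟨⟨vec (duo i₀ i₁), MonoidHom.mem_ker.2 (chi_duo _ _)⟩,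
          rfl⟩, fun h => ?_⟩
        have h1 := congrFun (congrArg SemidirectProduct.left
          (congrArg Subtype.val (congrArg Subtype.val h))) i₀
        simp [duo, Pi.mulSingle_eq_of_ne hne] at h1
      · obtain ⟨r, hr⟩ := htr2 i₀ i₁
        refine Subgroup.ne_bot_iff_exists_ne_one.2 ⟨⟨⟨per r, MonoidHom.mem_ker.2 (chi_per r)⟩,
          rfl⟩, fun h => ?_⟩
        have h1 := congrArg (fun z : W R => (z.right : Perm _) i₀)
          (congrArg Subtype.val (congrArg Subtype.val h))
        simp [hr] at h1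
        exact hne h1.symm
      · intro a ha b hb
        have hconst : ∀ i, (a : W R).left i = (a : W R).left i₀ := fun i => by
          rcases hall i with h | h
          · rw [h]
          · have h1 : ∏ j, (a : W R).left j = 1 := MonoidHom.mem_ker.1 a.2
            rw [Finset.prod_eq_mul i₀ i₁ hne (fun j _ hj => ((hall j).elim hj.1 hj.2).elim)
              (fun h => absurd (Finset.mem_univ _) h) (fun h => absurd (Finset.mem_univ _) h)] at h1
            rw [h, ← mul_left_cancel (h1.trans (Int.units_mul_self ((a : W R).left i₀)).symm)]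
        have hb' : (b : W R).left = 1 := hb
        have ha' : (a : W R).right = 1 := ha
        refine Subtype.ext (SemidirectProduct.ext (funext fun i => ?_) ?_)
        · show ((a : W R) * b).left i = ((b : W R) * a).left i
          rw [mul_left_apply, mul_left_apply, hb', Pi.one_apply, Pi.one_apply, mul_one, one_mul,
            hconst, hconst ((((b : W R).right : Perm (Fin (2 * (n / 4))))).symm i)]
        · show (a : W R).right * (b : W R).right = (b : W R).right * (a : W R).right
          rw [ha', one_mul, mul_one]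
      · rw [eq_bot_iff]
        rintro x ⟨h1, h2⟩
        exact Subgroup.mem_bot.2 (Subtype.ext (SemidirectProduct.ext h2 h1))
      · rw [eq_top_iff]
        intro x _
        let b : E R := ⟨per (x : W R).right, MonoidHom.mem_ker.2 (chi_per _)⟩
        have hb : b ∈ B := rfl
        have ha : x * b⁻¹ ∈ A := by
          show (x : W R).right * ((x : W R).right)⁻¹ = 1
          exact mul_inv_cancel _
        rw [← inv_mul_cancel_right x b]
        exact Subgroup.mul_mem_sup ha hb
    · refine iff_of_false ?_ (by omega)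
      by_cases hk : ∃ k, 2 * (n / 4) = 2 ^ k
      · obtain ⟨k, hk⟩ := hk
        exact not_decomposable_E_transitive Q.2 (by omega) hm (htr hk)
      · push Not at hk
        exact not_decomposable_E_intransitive Q.2 (even_orbit Q hm) (restrictions_mem Q)
          (intransitive_of_not_pow Q (by omega) hk)

end CfsgLib.FgsB.SylowAltDecomp
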