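import Mathlib
import Cfsg.Agent.Lib.Chars.Burnside

/-!
# Groups all of whose Sylow numbers are prime powers

If every Sylow number of a finite group is `1` or a prime power, the group is solvable.
In a simple counterexample, write `n_a = b ^ k`. A Sylow `b`-subgroup is transitive on the Sylow
`a`-subgroups, so a subgroup containing one of each is everything. If `a` does not divide `n_b`
this makes `G` a product `PQ`, a `{a, b}`-group; hence `a` and `b` are paired, and for a third
prime `r` the normaliser of a Sylow `r`-subgroup contains an `a`- and a `b`-Sylow subgroup.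
-/

set_option autoImplicit false
set_option linter.style.haveILetI false

open scoped Pointwise
open Subgroup

namespace CfsgLib.FgsB.SylowNumberPowers

universe u

variable {G : Type u} [Group G] [Finite G]

theorem smul_transitive {a b k : ℕ} [Fact a.Prime] [Fact b.Prime]
    (hn : Nat.card (Sylow a G) = b ^ k) (P : Sylow a G) (Q : Sylow b G) (P' : Sylow a G) :
    ∃ x ∈ (Q : Subgroup G), x • P = P' := by
  classical
  set N : Subgroup G := normalizer (P : Set G) with hN
  have hidx : N.index = b ^ k := by rw [hN, ← Sylow.card_eq_index_normalizer, hn]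
  have h1 : N.index ∣ N.relIndex (Q : Subgroup G) * (Q : Subgroup G).index := by
    rw [show N.relIndex (Q : Subgroup G) * (Q : Subgroup G).index =
      (N ⊓ (Q : Subgroup G)).index by
        rw [← Subgroup.inf_relIndex_right, Subgroup.relIndex_mul_index inf_le_right]]
    exact Subgroup.index_dvd_of_le inf_le_left
  have hcop : Nat.Coprime N.index (Q : Subgroup G).index := by
    rw [hidx]
    exact Nat.Coprime.pow_left _ ((Nat.Prime.coprime_iff_not_dvd Fact.out).mpr Q.not_dvd_index)
  have h2 : N.index ∣ N.relIndex (Q : Subgroup G) := hcop.dvd_of_dvd_mul_right h1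
  have h3 : N.index ≤ N.relIndex (Q : Subgroup G) :=
    Nat.le_of_dvd (Nat.pos_of_ne_zero (Subgroup.index_ne_zero_of_finite : (N.subgroupOf (Q : Subgroup G)).index ≠ 0)) h2
  let f : ↥(Q : Subgroup G) ⧸ N.subgroupOf (Q : Subgroup G) → Sylow a G :=
    Quotient.lift (fun x => (x : G) • P) (fun x y hxy => by
      have hm : (x⁻¹ * y : ↥(Q : Subgroup G)) ∈ N.subgroupOf (Q : Subgroup G) :=
        QuotientGroup.leftRel_apply.mp hxy
      rw [Subgroup.mem_subgroupOf] at hm
      have := Sylow.smul_eq_iff_mem_normalizer.mpr hm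
      simp only [Subgroup.coe_mul, Subgroup.coe_inv, mul_smul] at this
      exact (inv_smul_eq_iff.mp this).symm)
  have hf : Function.Injective f := by
    rintro ⟨x⟩ ⟨y⟩ hxy
    apply Quotient.sound
    show QuotientGroup.leftRel _ x y
    rw [QuotientGroup.leftRel_apply, Subgroup.mem_subgroupOf, hN,
      ← Sylow.smul_eq_iff_mem_normalizer]
    simp only [Subgroup.coe_mul, Subgroup.coe_inv, mul_smul]
    rw [inv_smul_eq_iff]
    exact hxy.symm
  have hbij : Function.Bijective f :=
    hf.bijective_of_nat_card_le (by rw [Sylow.card_eq_index_normalizer P]; exact h3)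
  obtain ⟨⟨x⟩, hx⟩ := hbij.2 P'
  exact ⟨x, x.2, hx⟩

theorem sylow_le_of_mem {a b k : ℕ} [Fact a.Prime] [Fact b.Prime]
    (hn : Nat.card (Sylow a G) = b ^ k) {H : Subgroup G} {P : Sylow a G} {Q : Sylow b G}
    (hP : (P : Subgroup G) ≤ H) (hQ : (Q : Subgroup G) ≤ H) (P' : Sylow a G) :
    (P' : Subgroup G) ≤ H := by
  obtain ⟨x, hx, rfl⟩ := smul_transitive hn P Q P'
  intro y hy
  rw [Sylow.coe_subgroup_smul, Subgroup.mem_pointwise_smul_iff_inv_smul_mem] at hy
  have h := H.mul_mem (H.mul_mem (hQ hx) (hP hy)) (H.inv_mem (hQ hx))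
  simpa [mul_assoc] using h

/-- A Sylow `a`-subgroup inside a subgroup of index prime to `a`. -/
theorem exists_sylow_le {a : ℕ} [Fact a.Prime] {H : Subgroup G} (h : ¬ a ∣ H.index) :
    ∃ P : Sylow a G, (P : Subgroup G) ≤ H := by
  obtain ⟨R⟩ := (inferInstance : Nonempty (Sylow a ↥H))
  obtain ⟨P, hP⟩ := (R.2.map H.subtype).exists_le_sylow
  refine ⟨P, ?_⟩
  suffices hE : (R : Subgroup ↥H).map H.subtype = (P : Subgroup G) by
    rw [← hE]; exact map_subtype_le _
  refine Subgroup.eq_of_le_of_card_ge hP ?_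
  rw [card_subtype, Sylow.card_eq_multiplicity, Sylow.card_eq_multiplicity]
  refine Nat.pow_le_pow_right (Fact.out : a.Prime).pos ?_
  rw [← H.card_mul_index, Nat.factorization_mul Nat.card_pos.ne' (Subgroup.index_ne_zero_of_finite),
    Finsupp.add_apply, Nat.factorization_eq_zero_of_not_dvd h, add_zero]

theorem eq_top_of_sylow_le [IsSimpleGroup G] {a : ℕ} [Fact a.Prime] {H : Subgroup G}
    (ha : a ∣ Nat.card G) (h : ∀ P : Sylow a G, (P : Subgroup G) ≤ H) : H = ⊤ := by
  set K : Subgroup G := ⨆ P : Sylow a G, (P : Subgroup G) with hK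
  have hn : K.Normal := by
    rw [← normalizer_eq_top_iff, eq_top_iff]
    rintro g -
    rw [mem_normalizer_iff]
    have key : ∀ g y : G, y ∈ K → g * y * g⁻¹ ∈ K := by
      intro g y hy
      have : K ≤ K.comap (MulAut.conj g).toMonoidHom := by
        refine iSup_le fun P z hz => ?_
        rw [mem_comap]
        refine (le_iSup (fun P : Sylow a G => (P : Subgroup G)) (g • P)) ?_
        rw [Sylow.coe_subgroup_smul]
        exact smul_mem_pointwise_smul z _ _ hz
      exact this hy
    intro y
    refine ⟨key g y, fun hy => ?_⟩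
    simpa [mul_assoc] using key g⁻¹ _ hy
  rcases hn.eq_bot_or_eq_top with hb | ht
  · obtain ⟨P⟩ := (inferInstance : Nonempty (Sylow a G))
    have : (P : Subgroup G) ≤ ⊥ := hb ▸ le_iSup (fun P : Sylow a G => (P : Subgroup G)) P
    exact absurd (le_bot_iff.mp this) (P.ne_bot_of_dvd_card ha)
  · rw [eq_top_iff, ← ht]
    exact iSup_le h

theorem dvd_quotient (r : ℕ) [Fact r.Prime] (N : Subgroup G) [N.Normal] :
    Nat.card (Sylow r (G ⧸ N)) ∣ Nat.card (Sylow r G) := by
  obtain ⟨P⟩ := (inferInstance : Nonempty (Sylow r G))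
  have hs := QuotientGroup.mk'_surjective N
  rw [Sylow.card_eq_index_normalizer P, Sylow.card_eq_index_normalizer (P.mapSurjective hs)]
  refine dvd_trans (Subgroup.index_dvd_of_le ?_)
    (Subgroup.index_map_dvd (normalizer (P : Set G)) hs)
  exact le_normalizer_map (H := (P : Subgroup G)) (QuotientGroup.mk' N)

theorem dvd_normal (r : ℕ) [Fact r.Prime] (N : Subgroup G) [N.Normal] :
    Nat.card (Sylow r ↥N) ∣ Nat.card (Sylow r G) := by
  obtain ⟨R⟩ := (inferInstance : Nonempty (Sylow r ↥N))
  obtain ⟨P, hP⟩ := (R.2.map N.subtype).exists_le_sylow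
  have hR : (R : Subgroup ↥N) = (P : Subgroup G).subgroupOf N := by
    refine (R.3 (P.2.comap_of_injective N.subtype N.subtype_injective) ?_).symm
    exact map_le_iff_le_comap.mp hP
  set NP : Subgroup G := normalizer (P : Set G) with hNP
  rw [Sylow.card_eq_index_normalizer P, Sylow.card_eq_index_normalizer R, ← hNP]
  have h1 : (normalizer (R : Set ↥N)).index ∣ NP.relIndex N := by
    refine Subgroup.index_dvd_of_le ?_
    intro x hx
    rw [mem_subgroupOf, hNP] at hx
    replace hx := (mem_normalizer_iff (H := (P : Subgroup G))).mp hx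
    refine (mem_normalizer_iff (H := (R : Subgroup ↥N))).mpr fun y => ?_
    rw [hR]
    simp only [mem_subgroupOf, Subgroup.coe_mul, Subgroup.coe_inv]
    exact hx y
  refine h1.trans ?_
  have h2 : NP.relIndex N = NP.relIndex (N ⊔ NP) := by
    have hA := Subgroup.card_eq_card_quotient_mul_card_subgroup (N.subgroupOf (N ⊔ NP))
    have hB : N.relIndex NP = N.relIndex (N ⊔ NP) := (relIndex_sup_left (H := NP) (K := N)).symm
    have e1 : Nat.card ↥(NP ⊓ N) * NP.relIndex N = Nat.card N := by
      rw [← relIndex_bot_left, ← relIndex_bot_left, ← inf_relIndex_right NP N,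
        relIndex_mul_relIndex _ _ _ bot_le inf_le_right]
    have e2 : Nat.card ↥(NP ⊓ N) * N.relIndex NP = Nat.card NP := by
      rw [inf_comm, ← relIndex_bot_left, ← relIndex_bot_left, ← inf_relIndex_right N NP,
        relIndex_mul_relIndex _ _ _ bot_le inf_le_right]
    have e3 : Nat.card NP * NP.relIndex (N ⊔ NP) = Nat.card ↥(N ⊔ NP) := by
      rw [← relIndex_bot_left, ← relIndex_bot_left,
        relIndex_mul_relIndex _ _ _ bot_le le_sup_right]
    have e4 : Nat.card N * N.relIndex (N ⊔ NP) = Nat.card ↥(N ⊔ NP) := by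
      rw [← relIndex_bot_left, ← relIndex_bot_left,
        relIndex_mul_relIndex _ _ _ bot_le le_sup_left]
    have hpos : 0 < Nat.card NP := Nat.card_pos
    refine Nat.eq_of_mul_eq_mul_left hpos ?_
    rw [e3, ← e4, ← hB]
    calc Nat.card NP * NP.relIndex N
        = Nat.card ↥(NP ⊓ N) * N.relIndex NP * NP.relIndex N := by rw [e2]
      _ = Nat.card ↥(NP ⊓ N) * NP.relIndex N * N.relIndex NP := by ring
      _ = Nat.card N * N.relIndex NP := by rw [e1]
  rw [h2]
  exact relIndex_dvd_index_of_le le_sup_right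

theorem isSolvable_simple [IsSimpleGroup G]
    (h : ∀ (r : ℕ) [Fact r.Prime], Nat.card (Sylow r G) = 1 ∨ IsPrimePow (Nat.card (Sylow r G))) :
    Group.IsSolvable G := by
  classical
  by_contra hns
  -- Sylow numbers of prime divisors
  have hpow : ∀ r : ℕ, r.Prime → r ∣ Nat.card G → ∃ b k : ℕ, b.Prime ∧ b ≠ r ∧ 0 < k ∧
      (∀ [Fact r.Prime], Nat.card (Sylow r G) = b ^ k) := by
    intro r hr hd
    haveI : Fact r.Prime := ⟨hr⟩
    rcases h r with h1 | h1
    · exfalso
      obtain ⟨P⟩ := (inferInstance : Nonempty (Sylow r G))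
      have hidx : (normalizer (P : Set G)).index = 1 := by
        rw [← Sylow.card_eq_index_normalizer, h1]
      haveI hPn : (P : Subgroup G).Normal :=
        normalizer_eq_top_iff.mp (Subgroup.index_eq_one.mp hidx)
      rcases hPn.eq_bot_or_eq_top with hb | ht
      · exact P.ne_bot_of_dvd_card hd hb
      · have hnp : IsPGroup r G := by
          refine IsPGroup.of_equiv (P.2) ?_
          exact (MulEquiv.subgroupCongr ht).trans Subgroup.topEquiv
        haveI := hnp.isNilpotent
        exact hns inferInstance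
    · obtain ⟨b, k, hb, hk, e⟩ := h1
      refine ⟨b, k, hb.nat_prime, ?_, hk, fun {_} => e.symm⟩
      rintro rfl
      have h2 := card_sylow_modEq_one b G
      rw [← e, Nat.ModEq, Nat.pow_mod, Nat.mod_self, zero_pow hk.ne', Nat.zero_mod,
        Nat.one_mod_eq_one.mpr hr.ne_one] at h2
      exact zero_ne_one h2
  have hbd : ∀ {r b k : ℕ} [Fact r.Prime], b.Prime → 0 < k →
      Nat.card (Sylow r G) = b ^ k → b ∣ Nat.card G := by
    intro r b k _ hb hk e
    obtain ⟨P⟩ := (inferInstance : Nonempty (Sylow r G))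
    rw [Sylow.card_eq_index_normalizer P] at e
    exact (dvd_pow_self b hk.ne').trans (e ▸ Subgroup.index_dvd_card _)
  -- pairing
  have hpair : ∀ {a b k : ℕ} [Fact a.Prime] [Fact b.Prime], a ∣ Nat.card G →
      Nat.card (Sylow a G) = b ^ k → a ∣ Nat.card (Sylow b G) := by
    intro a b k _ _ ha hn
    by_contra hnd
    obtain ⟨Q⟩ := (inferInstance : Nonempty (Sylow b G))
    rw [Sylow.card_eq_index_normalizer Q] at hnd
    obtain ⟨P, hP⟩ := exists_sylow_le hnd
    have hH : (P : Subgroup G) ⊔ (Q : Subgroup G) = ⊤ :=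
      eq_top_of_sylow_le ha fun P' => sylow_le_of_mem hn le_sup_left le_sup_right P'
    haveI hQn : (Q : Subgroup G).Normal := normalizer_eq_top_iff.mp (top_le_iff.mp (hH ▸ sup_le hP le_normalizer))
    refine hns (CfsgLib.Chars.isSolvable_of_primeFactors_pair a b fun r hr hd => ?_)
    have hdd : r ∣ Nat.card (P : Subgroup G) * Nat.card (Q : Subgroup G) := by
      refine hd.trans ?_
      rw [← Subgroup.card_top (G := G), ← hH]
      have e3 : Nat.card (Q : Subgroup G) * (Q : Subgroup G).relIndex ((P : Subgroup G) ⊔ Q) =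
          Nat.card ↥((P : Subgroup G) ⊔ Q) := by
        rw [← relIndex_bot_left, ← relIndex_bot_left,
          relIndex_mul_relIndex _ _ _ bot_le le_sup_right]
      rw [← e3, relIndex_sup_right, mul_comm]
      exact mul_dvd_mul_right
        (Subgroup.index_dvd_card ((Q : Subgroup G).subgroupOf (P : Subgroup G))) _
    rw [P.card_eq_multiplicity, Q.card_eq_multiplicity] at hdd
    rcases (Nat.Prime.dvd_mul hr).mp hdd with h' | h'
    · exact Or.inl ((Nat.prime_dvd_prime_iff_eq hr Fact.out).mp (hr.dvd_of_dvd_pow h'))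
    · exact Or.inr ((Nat.prime_dvd_prime_iff_eq hr Fact.out).mp (hr.dvd_of_dvd_pow h'))
  -- three primes
  have h3 : 3 ≤ (Nat.card G).primeFactors.card :=
    CfsgLib.Chars.three_le_card_primeFactors_of_simple fun hc =>
      hns (IsSimpleGroup.comm_iff_isSolvable.mp hc)
  obtain ⟨a, ha⟩ : (Nat.card G).primeFactors.Nonempty := Finset.card_pos.mp (by omega)
  have haP : a.Prime := Nat.prime_of_mem_primeFactors ha
  have had : a ∣ Nat.card G := Nat.dvd_of_mem_primeFactors ha
  haveI : Fact a.Prime := ⟨haP⟩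
  obtain ⟨b, k, hbP, hba, hk, e⟩ := hpow a haP had
  haveI : Fact b.Prime := ⟨hbP⟩
  have hna : Nat.card (Sylow a G) = b ^ k := e
  have hbd' : b ∣ Nat.card G := hbd hbP hk hna
  obtain ⟨r, hr⟩ : (((Nat.card G).primeFactors.erase a).erase b).Nonempty := by
    refine Finset.card_pos.mp ?_
    have h4 := Finset.pred_card_le_card_erase (s := (Nat.card G).primeFactors) (a := a)
    have h5 := Finset.pred_card_le_card_erase (s := (Nat.card G).primeFactors.erase a) (a := b)
    omega
  simp only [Finset.mem_erase] at hr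
  obtain ⟨hrb, hra, hrm⟩ := hr
  have hrP : r.Prime := Nat.prime_of_mem_primeFactors hrm
  have hrd : r ∣ Nat.card G := Nat.dvd_of_mem_primeFactors hrm
  haveI : Fact r.Prime := ⟨hrP⟩
  obtain ⟨c, l, hcP, hcr, hl, e'⟩ := hpow r hrP hrd
  haveI : Fact c.Prime := ⟨hcP⟩
  have hnr : Nat.card (Sylow r G) = c ^ l := e'
  -- partner of `b` is `a`
  obtain ⟨d, m, hdP, -, -, e''⟩ := hpow b hbP hbd'
  have hnb : Nat.card (Sylow b G) = d ^ m := e''
  have hda : a = d := (Nat.prime_dvd_prime_iff_eq haP hdP).mp
    (haP.dvd_of_dvd_pow (hnb ▸ hpair had hna))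
  have hrc := hpair hrd hnr
  have hca : c ≠ a := by
    rintro rfl
    rw [hna] at hrc
    exact hrb ((Nat.prime_dvd_prime_iff_eq hrP hbP).mp (hrP.dvd_of_dvd_pow hrc))
  have hcb : c ≠ b := by
    rintro rfl
    rw [hnb, ← hda] at hrc
    exact hra ((Nat.prime_dvd_prime_iff_eq hrP haP).mp (hrP.dvd_of_dvd_pow hrc))
  obtain ⟨R⟩ := (inferInstance : Nonempty (Sylow r G))
  set NR : Subgroup G := normalizer (R : Set G) with hNR
  have hidx : NR.index = c ^ l := by rw [hNR, ← Sylow.card_eq_index_normalizer, hnr]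
  obtain ⟨P, hP⟩ := exists_sylow_le (a := a) (H := NR) (by
    rw [hidx]; exact fun h' => hca ((Nat.prime_dvd_prime_iff_eq haP hcP).mp (haP.dvd_of_dvd_pow h')).symm)
  obtain ⟨Q, hQ⟩ := exists_sylow_le (a := b) (H := NR) (by
    rw [hidx]; exact fun h' => hcb ((Nat.prime_dvd_prime_iff_eq hbP hcP).mp (hbP.dvd_of_dvd_pow h')).symm)
  have hNR1 : NR = ⊤ := eq_top_of_sylow_le had fun P' => sylow_le_of_mem hna hP hQ P'
  rw [hNR1, Subgroup.index_top] at hidx
  exact absurd hidx.symm (Nat.one_lt_pow hl.ne' hcP.one_lt).ne'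

theorem isSolvable_of_sylow_numbers
    (h : ∀ (r : ℕ) [Fact r.Prime], Nat.card (Sylow r G) = 1 ∨ IsPrimePow (Nat.card (Sylow r G))) :
    Group.IsSolvable G := by
  induction hn : Nat.card G using Nat.strong_induction_on generalizing G with
  | _ n ih =>
    rcases subsingleton_or_nontrivial G with hs | hs
    · infer_instance
    by_cases hsimp : IsSimpleGroup G
    · exact isSolvable_simple h
    obtain ⟨N, hN, hb, ht⟩ : ∃ N : Subgroup G, N.Normal ∧ N ≠ ⊥ ∧ N ≠ ⊤ := by
      by_contra hne
      push Not at hne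
      exact hsimp ⟨fun N hN => (em (N = ⊥)).imp_right (hne N hN)⟩
    haveI := hN
    have step : ∀ {m n : ℕ}, m ∣ n → (n = 1 ∨ IsPrimePow n) → m = 1 ∨ IsPrimePow m := by
      intro m n hmn hn'
      rcases hn' with rfl | hp
      · exact Or.inl (Nat.dvd_one.mp hmn)
      · exact (em (m = 1)).imp_right fun hm => hp.dvd hmn hm
    have h1 : Nat.card N < n := by
      rw [← hn]
      refine lt_of_le_of_ne (Subgroup.card_le_card_group N) fun he => ?_
      exact ht (Subgroup.eq_top_of_card_eq N he)
    have h2 : Nat.card (G ⧸ N) < n := by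
      rw [← hn, N.card_eq_card_quotient_mul_card_subgroup]
      exact lt_mul_of_one_lt_right Nat.card_pos ((Subgroup.one_lt_card_iff_ne_bot N).mpr hb)
    haveI := ih _ h1 (G := ↥N) (fun r _ => step (dvd_normal r N) (h r)) rfl
    haveI := ih _ h2 (G := G ⧸ N) (fun r _ => step (dvd_quotient r N) (h r)) rfl
    exact Group.isSolvable_of_ker_le_range N.subtype (QuotientGroup.mk' N) (by simp)

end CfsgLib.FgsB.SylowNumberPowers
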