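import Mathlib
import Cfsg.Agent.Lib.FgsB.SylowNumberPowers
import Cfsg.Agent.Lib.PLocal.PSolvable
import Cfsg.Agent.Lib.Coprime.Action
import Cfsg.Agent.Lib.Base.Cores
import Cfsg.Agent.Lib.Small.PSLPrimes
import Cfsg.Agent.S4700

/-!
# Fewer than `p ^ 2` Sylow `p`-subgroups

If `n = n_p(G) < p ^ 2` then all Sylow `p`-subgroups meet in a common subgroup of index dividing
`p`. In a group with Sylow order `p` and `p`-solvable, `n` is then a prime power; if the group is
not `p`-solvable, Brauer's theorem and elementary arithmetic show that `n` is not a prime power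
(unless `p` is a Mersenne prime).
-/

set_option autoImplicit false
set_option linter.unusedSectionVars false
set_option maxHeartbeats 400000
set_option linter.style.haveILetI false

open scoped Pointwise
open Subgroup

namespace CfsgLib.FgsB.SylowBelowSquare

universe u

variable {G : Type u} [Group G] [Finite G] {p : ℕ} [Fact p.Prime]


theorem inf_normalizer_eq (P Q : Sylow p G) :
    (P : Subgroup G) ⊓ normalizer (Q : Set G) = (P : Subgroup G) ⊓ (Q : Subgroup G) :=
  P.2.inf_normalizer_sylow Q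

theorem card_orbit (P Q : Sylow p G) :
    Nat.card (MulAction.orbit ↥(P : Subgroup G) Q) =
      ((P : Subgroup G) ⊓ (Q : Subgroup G)).relIndex (P : Subgroup G) := by
  rw [Nat.card_coe_set_eq, ← MulAction.index_stabilizer]
  show (MulAction.stabilizer (↥(P : Subgroup G)) Q).index = _
  have : MulAction.stabilizer (↥(P : Subgroup G)) Q =
      ((P : Subgroup G) ⊓ (Q : Subgroup G)).subgroupOf (P : Subgroup G) := by
    ext x
    rw [MulAction.mem_stabilizer_iff, mem_subgroupOf, ← inf_normalizer_eq, mem_inf]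
    show (x : G) • Q = Q ↔ _
    rw [Sylow.smul_eq_iff_mem_normalizer]
    simp
  rw [this]
  rfl

theorem orbit_self (P : Sylow p G) (x : ↥(P : Subgroup G)) : x • P = P := by
  show (x : G) • P = P
  exact Sylow.smul_eq_iff_mem_normalizer.mpr (le_normalizer x.2)

theorem relIndex_inter (hn : Nat.card (Sylow p G) < p ^ 2) {P Q : Sylow p G} (h : P ≠ Q) :
    ((P : Subgroup G) ⊓ (Q : Subgroup G)).relIndex (P : Subgroup G) = p := by
  have h1 := card_orbit P Q
  obtain ⟨j, hj⟩ := P.2.index (((P : Subgroup G) ⊓ (Q : Subgroup G)).subgroupOf (P : Subgroup G))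
  replace hj : ((P : Subgroup G) ⊓ (Q : Subgroup G)).relIndex (P : Subgroup G) = p ^ j := hj
  have h2 : Nat.card (MulAction.orbit ↥(P : Subgroup G) Q) < p ^ 2 :=
    lt_of_le_of_lt (Finite.card_subtype_le _) hn
  rw [h1, hj] at h2
  have hj2 : j < 2 := (Nat.pow_lt_pow_iff_right (Fact.out : Nat.Prime p).one_lt).mp h2
  interval_cases j
  · exfalso
    have h3 : (P : Subgroup G) ≤ (P : Subgroup G) ⊓ (Q : Subgroup G) :=
      relIndex_eq_one.mp (by rw [hj, pow_zero])
    exact h (Sylow.ext (eq_of_le_of_card_ge (h3.trans inf_le_right)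
      (by rw [P.card_eq_multiplicity, Q.card_eq_multiplicity])))
  · rw [hj, pow_one]

theorem normal_in (hn : Nat.card (Sylow p G) < p ^ 2) {P Q : Sylow p G} (h : P ≠ Q)
    {x : G} (hx : x ∈ (P : Subgroup G)) {d : G}
    (hd : d ∈ (P : Subgroup G) ⊓ (Q : Subgroup G)) :
    x * d * x⁻¹ ∈ (P : Subgroup G) ⊓ (Q : Subgroup G) := by
  set D := ((P : Subgroup G) ⊓ (Q : Subgroup G)).subgroupOf (P : Subgroup G)
  have hidx : D.index = p := relIndex_inter hn h
  haveI : D.Normal := by
    refine Subgroup.normal_of_index_eq_minFac_card ?_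
    obtain ⟨k, hk⟩ := P.2.exists_card_eq
    have hdvd : D.index ∣ Nat.card ↥(P : Subgroup G) := D.index_dvd_card
    rw [hidx, hk] at hdvd ⊢
    have hk0 : k ≠ 0 := fun h0 => (Fact.out : Nat.Prime p).ne_one (Nat.dvd_one.mp (by rwa [h0, pow_zero] at hdvd))
    exact (Nat.Prime.pow_minFac (Fact.out : Nat.Prime p) hk0).symm
  exact ‹D.Normal›.conj_mem ⟨d, hd.1⟩ hd ⟨x, hx⟩

theorem inter_le (hn : Nat.card (Sylow p G) < p ^ 2) {P Q : Sylow p G} (h : P ≠ Q)
    (R : Sylow p G) : (P : Subgroup G) ⊓ (Q : Subgroup G) ≤ (R : Subgroup G) := by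
  classical
  by_contra hR
  set D := (P : Subgroup G) ⊓ (Q : Subgroup G) with hD
  set A : Finset (Sylow p G) :=
    (Set.toFinite {S : Sylow p G | D ≤ (S : Subgroup G)}).toFinset with hA
  have hmemA : ∀ S, S ∈ A ↔ D ≤ (S : Subgroup G) := fun S => by simp [hA]
  -- `A` contains `P` and the `P`-orbit of `Q`
  have hcardA : p + 1 ≤ A.card := by
    set O := (Set.toFinite (MulAction.orbit ↥(P : Subgroup G) Q)).toFinset with hO
    have hPO : P ∉ O := by
      rw [hO, Set.Finite.mem_toFinset]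
      rintro ⟨x, hx⟩
      have hx' : x • Q = P := hx
      have := congrArg (fun S => x⁻¹ • S) hx'
      simp only [inv_smul_smul, orbit_self] at this
      exact h this.symm
    have hsub : insert P O ⊆ A := by
      intro S hS
      rw [hmemA]
      rcases Finset.mem_insert.mp hS with rfl | hS
      · exact inf_le_left
      · rw [hO, Set.Finite.mem_toFinset] at hS
        obtain ⟨x, hx⟩ := hS
        have hx' : (x : G) • Q = S := hx
        intro d hd
        rw [← hx', Sylow.coe_subgroup_smul, mem_pointwise_smul_iff_inv_smul_mem]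
        have := (normal_in hn h (inv_mem x.2) hd).2
        simp [MulAut.smul_def] at this ⊢
        exact this
    have hc := Finset.card_le_card hsub
    rw [Finset.card_insert_of_notMem hPO] at hc
    have hOc : O.card = p := by
      rw [hO, ← Set.ncard_eq_toFinset_card, ← Nat.card_coe_set_eq, card_orbit, relIndex_inter hn h]
    omega
  have hne : ∀ S ∈ A, S ≠ R := fun S hS hSR => hR (hSR ▸ (hmemA S).mp hS)
  -- the `R`-orbits of the members of `A` are disjoint
  let T : Sylow p G → Finset (Sylow p G) := fun S =>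
    (Set.toFinite (MulAction.orbit ↥(R : Subgroup G) S)).toFinset
  have hT : ∀ S ∈ A, (T S).card = p := fun S hS => by
    rw [← Set.ncard_eq_toFinset_card, ← Nat.card_coe_set_eq, card_orbit,
      relIndex_inter hn (hne S hS).symm]
  have hline : ∀ S ∈ A, ∀ U ∈ T S,
      (R : Subgroup G) ⊓ (U : Subgroup G) = (R : Subgroup G) ⊓ (S : Subgroup G) := by
    intro S hS U hU
    rw [Set.Finite.mem_toFinset] at hU
    obtain ⟨x, hx⟩ := hU
    have hx' : (x : G) • S = U := hx
    have hle : (R : Subgroup G) ⊓ (S : Subgroup G) ≤ (U : Subgroup G) := by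
      intro d hd
      rw [← hx', Sylow.coe_subgroup_smul, mem_pointwise_smul_iff_inv_smul_mem]
      have := (normal_in hn (hne S hS).symm (inv_mem x.2) hd).2
      simp [MulAut.smul_def] at this ⊢
      exact this
    have hUR : R ≠ U := by
      intro hRU
      rw [← hRU] at hx
      have hx2 : x • S = R := hx
      have := congrArg (fun V => x⁻¹ • V) hx2
      simp only [inv_smul_smul, orbit_self] at this
      exact hne S hS this
    refine (eq_of_le_of_card_ge (le_inf inf_le_left hle) ?_).symm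
    have e : ∀ {V : Sylow p G}, R ≠ V →
        Nat.card ↥((R : Subgroup G) ⊓ (V : Subgroup G)) * p = Nat.card ↥(R : Subgroup G) := by
      intro V hV
      have e' := relIndex_mul_relIndex ⊥ ((R : Subgroup G) ⊓ (V : Subgroup G)) (R : Subgroup G)
        bot_le inf_le_left
      rwa [relIndex_bot_left, relIndex_bot_left, relIndex_inter hn hV] at e'
    have e1 := e (hne S hS).symm
    have e2 := e hUR
    exact (Nat.eq_of_mul_eq_mul_right (Fact.out : Nat.Prime p).pos (e2.trans e1.symm)).le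
  have hdisj : (A : Set (Sylow p G)).PairwiseDisjoint T := by
    intro S hS S' hS' hSS'
    rw [Function.onFun, Finset.disjoint_left]
    intro U hU hU'
    have h1 := hline S hS U hU
    have h2 := hline S' hS' U hU'
    -- so `R ⊓ S = R ⊓ S'` lies in `S ⊓ S'`, which is `D`
    have h3 : (R : Subgroup G) ⊓ (S : Subgroup G) ≤ (S : Subgroup G) ⊓ (S' : Subgroup G) :=
      le_inf inf_le_right (by rw [← h1, h2]; exact inf_le_right)
    have h4 : D ≤ (S : Subgroup G) ⊓ (S' : Subgroup G) :=
      le_inf ((hmemA S).mp hS) ((hmemA S').mp hS')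
    have card_eq : ∀ {V W : Sylow p G}, V ≠ W →
        Nat.card ↥((V : Subgroup G) ⊓ (W : Subgroup G)) * p = p ^ (Nat.card G).factorization p := by
      intro V W hV
      have e' := relIndex_mul_relIndex ⊥ ((V : Subgroup G) ⊓ (W : Subgroup G)) (V : Subgroup G)
        bot_le inf_le_left
      rw [relIndex_bot_left, relIndex_bot_left, relIndex_inter hn hV] at e'
      rw [e', V.card_eq_multiplicity]
    have cD := card_eq h
    have cS := card_eq hSS'
    have cR := card_eq (hne S hS).symm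
    have e4 := eq_of_le_of_card_ge h4 (Nat.eq_of_mul_eq_mul_right (Fact.out : Nat.Prime p).pos (cS.trans cD.symm)).le
    have e3 := eq_of_le_of_card_ge h3 (Nat.eq_of_mul_eq_mul_right (Fact.out : Nat.Prime p).pos (cS.trans cR.symm)).le
    exact hR (e4.le.trans (e3.ge.trans inf_le_left))
  haveI : Fintype (Sylow p G) := Fintype.ofFinite _
  have h5 := Finset.card_le_univ (A.biUnion T)
  rw [Finset.card_biUnion hdisj, Finset.sum_congr rfl hT, Finset.sum_const, smul_eq_mul,
    ← Nat.card_eq_fintype_card] at h5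
  have h6 : (p + 1) * p ≤ A.card * p := Nat.mul_le_mul_right p hcardA
  nlinarith [(Fact.out : Nat.Prime p).pos]

theorem relIndex_pCore_dvd (hn : Nat.card (Sylow p G) < p ^ 2) (P : Sylow p G) :
    (Cfsg.pCore p G).relIndex (P : Subgroup G) ∣ p := by
  rcases subsingleton_or_nontrivial (Sylow p G) with hs | hs
  · have : (P : Subgroup G) ≤ Cfsg.pCore p G := by
      rw [CfsgLib.Base.pCore_eq_iInf_sylow]
      exact le_iInf fun Q => (congrArg _ (Subsingleton.elim P Q)).le
    rw [relIndex_eq_one.mpr this]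
    exact one_dvd p
  · obtain ⟨Q, hQ⟩ := exists_ne P
    refine dvd_trans ?_ (dvd_of_eq (relIndex_inter hn hQ.symm))
    refine relIndex_dvd_of_le_left _ ?_
    rw [CfsgLib.Base.pCore_eq_iInf_sylow]
    exact le_iInf fun R => inter_le hn hQ.symm R

theorem card_quotient_eq (D : Subgroup G) [D.Normal] (hD : IsPGroup p D) :
    Nat.card (Sylow p (G ⧸ D)) = Nat.card (Sylow p G) := by
  obtain ⟨P⟩ := (inferInstance : Nonempty (Sylow p G))
  have hs := QuotientGroup.mk'_surjective D
  have hle : D ≤ (P : Subgroup G) := (CfsgLib.Base.le_pCore hD).trans (CfsgLib.Base.pCore_le_sylow P)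
  rw [Sylow.card_eq_index_normalizer P, Sylow.card_eq_index_normalizer (P.mapSurjective hs)]
  rw [← index_comap_of_surjective (normalizer ((P.mapSurjective hs : Sylow p (G ⧸ D)) : Set (G ⧸ D))) hs]
  congr 1
  show (normalizer (((P : Subgroup G).map (QuotientGroup.mk' D) : Subgroup _) : Set (G ⧸ D))).comap
    (QuotientGroup.mk' D) = _
  rw [comap_normalizer_eq_of_surjective _ hs, comap_map_eq, QuotientGroup.ker_mk', sup_eq_left.mpr hle]
  rfl

/-- The `p`-solvable case with Sylow subgroups of order `p`. -/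
theorem exists_eq_pow (P : Sylow p G) (hP : Nat.card P = p) (hs : Cfsg.IsPSolvable p G)
    (hn : Nat.card (Sylow p G) < p ^ 2) : ∃ q k : ℕ, q.Prime ∧ Nat.card (Sylow p G) = q ^ k := by
  classical
  set n := Nat.card (Sylow p G) with hndef
  set R := Cfsg.pPrimeCore p G with hR
  haveI hRn : R.Normal := Cfsg.pPrimeCore_normal p G
  have hRp : ¬ p ∣ Nat.card R := CfsgLib.Base.not_dvd_card_pPrimeCore p G
  have hf := QuotientGroup.mk'_surjective R
  haveI : Nontrivial (G ⧸ R) := by
    rw [QuotientGroup.nontrivial_iff]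
    intro h
    exact hRp (h ▸ (Subgroup.card_top (G := G)).symm ▸
      (hP ▸ (P : Subgroup G).card_subgroup_dvd_card))
  obtain ⟨M, hM, hne, hMp | hMp⟩ :=
    CfsgLib.Coprime.pSolvable_step (CfsgLib.PLocal.isPSolvable_quotient hs R)
  swap
  · exact absurd (le_bot_iff.mp (CfsgLib.Base.pPrimeCore_quotient_pPrimeCore p G ▸
      CfsgLib.Base.le_pPrimeCore hMp)) hne
  haveI := hM
  set P1 := P.mapSurjective hf
  have hM1 : M ≤ (P1 : Subgroup (G ⧸ R)) :=
    (CfsgLib.Base.le_pCore hMp).trans (CfsgLib.Base.pCore_le_sylow _)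
  have hM2 : M = (P1 : Subgroup (G ⧸ R)) := by
    refine eq_of_le_of_card_ge hM1 ?_
    have h1 : Nat.card (P1 : Subgroup (G ⧸ R)) ∣ p :=
      (card_map_dvd (QuotientGroup.mk' R) (H := (P : Subgroup G))).trans (dvd_of_eq hP)
    rcases (Nat.dvd_prime (Fact.out : Nat.Prime p)).mp (dvd_trans (card_dvd_of_le hM1) h1) with h | h
    · exact absurd (card_eq_one.mp h) hne
    · exact (Nat.le_of_dvd (Fact.out : Nat.Prime p).pos h1).trans h.ge
  set N := M.comap (QuotientGroup.mk' R) with hN
  haveI : N.Normal := hM.comap _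
  have hNle : N ≤ (P : Subgroup G) ⊔ R := by
    rw [hN, hM2]
    show ((P : Subgroup G).map (QuotientGroup.mk' R)).comap (QuotientGroup.mk' R) ≤ _
    rw [comap_map_eq, QuotientGroup.ker_mk']
  have hPN : (P : Subgroup G) ≤ N := by
    rw [hN, hM2]
    exact le_comap_map _ _
  set NP := normalizer (P : Set G) with hNP
  have htop : NP ⊔ R = ⊤ := by
    obtain ⟨P0⟩ := (inferInstance : Nonempty (Sylow p ↥N))
    have h := Sylow.normalizer_sup_eq_top' P hPN
    refine top_le_iff.mp (h ▸ ?_)
    refine sup_le le_sup_left (hNle.trans ?_)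
    exact sup_le_sup_right le_normalizer R
  -- `N(P) ⊓ R = C_R(P)`
  set C := R ⊓ centralizer ((P : Subgroup G) : Set G) with hC
  have hCN : NP ⊓ R = C := by
    refine le_antisymm (le_inf inf_le_right ?_) (le_inf (inf_le_right.trans ?_) inf_le_left)
    · rintro x ⟨hx, hxR⟩
      rw [mem_centralizer_iff]
      intro y hy
      have h1 : x * y * x⁻¹ * y⁻¹ ∈ (P : Subgroup G) :=
        mul_mem ((mem_normalizer_iff (H := (P : Subgroup G))).mp hx y |>.mp hy) (inv_mem hy)
      have h2 : x * y * x⁻¹ * y⁻¹ ∈ R := by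
        have := mul_mem hxR (hRn.conj_mem _ (inv_mem hxR) y)
        simpa [mul_assoc] using this
      have hbot : (P : Subgroup G) ⊓ R = ⊥ := CfsgLib.Coprime.inf_eq_bot_of_coprime
        (by rw [hP]; exact (Fact.out : Nat.Prime p).coprime_iff_not_dvd.mpr hRp)
      have h3 : x * y * x⁻¹ * y⁻¹ = 1 := mem_bot.mp (hbot ▸ mem_inf.mpr ⟨h1, h2⟩)
      exact (mul_inv_eq_iff_eq_mul.mp (mul_inv_eq_one.mp h3)).symm
    · intro x hx
      refine (mem_normalizer_iff (H := (P : Subgroup G))).mpr fun y => ⟨fun hy => ?_, fun hy => ?_⟩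
      · rw [← (mem_centralizer_iff.mp hx) y hy]; simpa using hy
      · have := (mem_centralizer_iff.mp hx) _ hy
        rw [inv_mul_cancel_right, mul_right_inj] at this
        rwa [← this] at hy
  have hcard : Nat.card C * n = Nat.card R := by
    have h1 := CfsgLib.Coprime.card_sup_mul_card_inf (H := NP) (N := R)
      (by rw [normalizer_eq_top (H := R)]; exact le_top)
    rw [htop, hCN, card_top] at h1
    have h2 : Nat.card NP * n = Nat.card G := by
      rw [hndef, Sylow.card_eq_index_normalizer P]; exact card_mul_index NP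
    refine Nat.eq_of_mul_eq_mul_left (Nat.card_pos (α := NP)) ?_
    rw [← h1, ← h2]; ring
  have hn0 : n ≠ 0 := Nat.card_pos.ne'
  -- every prime part of `n` is congruent to `1` modulo `p`
  have hpart : ∀ q : ℕ, q.Prime → q ∣ n → p + 1 ≤ q ^ n.factorization q := by
    intro q hq hqn
    haveI : Fact q.Prime := ⟨hq⟩
    have hqp : q ≠ p := by
      rintro rfl
      exact hRp (hqn.trans (Dvd.intro_left _ hcard))
    have hPR : (P : Subgroup G) ≤ normalizer (R : Set G) := by
      rw [normalizer_eq_top (H := R)]; exact le_top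
    obtain ⟨S⟩ := (inferInstance : Nonempty (Sylow q ↥C))
    set U := (S : Subgroup C).map C.subtype with hU
    have hUC : U ≤ C := map_subtype_le _
    have hPU : (P : Subgroup G) ≤ normalizer (U : Set G) := by
      intro x hx
      refine (mem_normalizer_iff (H := U)).mpr fun y => ?_
      have key : ∀ y ∈ U, x * y * x⁻¹ = y := fun y hy => by
        rw [(mem_centralizer_iff.mp (hUC hy).2) x hx, mul_inv_cancel_right]
      refine ⟨fun hy => by rwa [key y hy], fun hy => ?_⟩
      have h1 := (mem_centralizer_iff.mp (hUC hy).2) x hx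
      rw [inv_mul_cancel_right, mul_right_inj] at h1
      rwa [h1] at hy
    have hcop : (Nat.card ↥(P : Subgroup G)).Coprime (Nat.card R) := by
      rw [hP]; exact (Fact.out : Nat.Prime p).coprime_iff_not_dvd.mpr hRp
    haveI : Group.IsNilpotent ↥(P : Subgroup G) := P.2.isNilpotent
    obtain ⟨Q, hUQ, hPQ⟩ := CfsgLib.Coprime.exists_invariant_sylow_ge (p := q) hPR hcop
      (Or.inl inferInstance) (hUC.trans inf_le_left) (S.2.map _) hPU
    set Q' := (Q : Subgroup R).map R.subtype with hQ'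
    have hQc : Nat.card Q' = q ^ (Nat.card R).factorization q := by
      rw [hQ', card_subtype, Q.card_eq_multiplicity]
    have hCQ : Nat.card ↥(C ⊓ Q') = q ^ (Nat.card C).factorization q := by
      refine le_antisymm ?_ ?_
      · obtain ⟨j, hj⟩ := ((Q.2.map R.subtype).to_le (inf_le_right : C ⊓ Q' ≤ Q')).exists_card_eq
        rw [hj]
        refine Nat.pow_le_pow_right hq.pos ?_
        exact (hq.pow_dvd_iff_le_factorization Nat.card_pos.ne').mp
          (hj ▸ card_dvd_of_le inf_le_left)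
      · rw [← S.card_eq_multiplicity, ← card_subtype C (S : Subgroup C)]
        exact card_le_of_le (le_inf hUC hUQ)
    -- fixed points of `P` on `Q'`
    letI : MulAction ↥(P : Subgroup G) ↥Q' :=
      { smul := fun x y => ⟨(x : G) * y * (x : G)⁻¹,
          ((mem_normalizer_iff (H := Q')).mp (hPQ x.2) y).mp y.2⟩
        one_smul := fun y => Subtype.ext (show (1 : G) * y * (1 : G)⁻¹ = y by simp)
        mul_smul := fun a b y => Subtype.ext (show ((a : G) * b) * y * ((a : G) * b)⁻¹ =
          (a : G) * ((b : G) * y * (b : G)⁻¹) * (a : G)⁻¹ by group) }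
    have hfix : Nat.card (MulAction.fixedPoints ↥(P : Subgroup G) ↥Q') = Nat.card ↥(C ⊓ Q') := by
      refine Nat.card_congr
        { toFun := fun y => ⟨(y : ↥Q'), ⟨map_subtype_le _ (y : ↥Q').2, ?_⟩, (y : ↥Q').2⟩
          invFun := fun y => ⟨⟨y, y.2.2⟩, fun x => Subtype.ext ?_⟩
          left_inv := fun _ => rfl
          right_inv := fun _ => rfl }
      · refine mem_centralizer_iff.mpr fun x hx => ?_
        have h1 := congrArg Subtype.val (y.2 ⟨x, hx⟩)
        exact mul_inv_eq_iff_eq_mul.mp h1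
      · show (x : G) * y * (x : G)⁻¹ = y
        rw [(mem_centralizer_iff.mp y.2.1.2) x x.2, mul_inv_cancel_right]
    have hmod := P.2.card_modEq_card_fixedPoints ↥Q'
    rw [hfix, hQc, hCQ] at hmod
    have hfac : (Nat.card R).factorization q =
        (Nat.card C).factorization q + n.factorization q := by
      rw [← hcard, Nat.factorization_mul Nat.card_pos.ne' hn0, Finsupp.add_apply]
    rw [hfac, pow_add] at hmod
    have hmod2 : q ^ n.factorization q ≡ 1 [MOD p] := by
      refine Nat.ModEq.cancel_left_of_coprime (c := q ^ (Nat.card C).factorization q) ?_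
        (by simpa using hmod)
      exact Nat.Coprime.pow_right _ ((Nat.coprime_primes (Fact.out : Nat.Prime p) hq).mpr hqp.symm)
    have hbig : 1 < q ^ n.factorization q :=
      Nat.one_lt_pow (hq.factorization_pos_of_dvd hn0 hqn).ne' hq.one_lt
    have hd := (Nat.modEq_iff_dvd' hbig.le).mp hmod2.symm
    have := Nat.le_of_dvd (by omega) hd
    omega
  by_cases h1 : n = 1
  · exact ⟨2, 0, Nat.prime_two, h1⟩
  obtain ⟨q, hq, hqn⟩ := Nat.exists_prime_and_dvd h1
  refine ⟨q, n.factorization q, hq, ?_⟩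
  by_contra hne
  have h2 : n / q ^ n.factorization q ≠ 1 := fun h => hne (by
    have := Nat.ordProj_mul_ordCompl_eq_self n q
    rw [h, mul_one] at this; exact this.symm)
  obtain ⟨r, hr, hrn⟩ := Nat.exists_prime_and_dvd h2
  have hrq : r ≠ q := fun h => Nat.not_dvd_ordCompl hq hn0 (h ▸ hrn)
  have hrn' : r ∣ n := hrn.trans (Nat.ordCompl_dvd n q)
  have hdvd : q ^ n.factorization q * r ^ n.factorization r ∣ n :=
    (((Nat.coprime_primes hq hr).mpr hrq.symm).pow _ _).mul_dvd_of_dvd_of_dvd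
      (Nat.ordProj_dvd n q) (Nat.ordProj_dvd n r)
  have h3 := Nat.le_of_dvd (Nat.pos_of_ne_zero hn0) hdvd
  have h4 := Nat.mul_le_mul (hpart q hq hqn) (hpart r hr hrn')
  nlinarith

/-- Sylow numbers of the two linear cases are not prime powers. -/
theorem psl_case {p q j : ℕ} (hp : p.Prime) (hp2 : p ≠ 2) (hm : ¬ ∃ k, p + 1 = 2 ^ k)
    (hq : q.Prime) (hge : p + 1 ≤ q ^ j) (hd : 2 * q ^ j ∣ p * (p ^ 2 - 1))
    (hqp : q ≠ p) : False := by
  obtain ⟨a, rfl⟩ := hp.odd_of_ne_two hp2
  have ha : 1 ≤ a := by have := hp.two_le; omega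
  have e : (2 * a + 1) ^ 2 - 1 = 4 * (a * (a + 1)) := by
    rw [show (2 * a + 1) ^ 2 = 4 * (a * (a + 1)) + 1 by ring, Nat.add_sub_cancel]
  rw [e] at hd
  have hcop : Nat.Coprime a (a + 1) := by simp
  have h1 : q ^ j ∣ 2 * (a * (a + 1)) := by
    have h2 : q ^ j ∣ (2 * a + 1) * (2 * (a * (a + 1))) := by
      refine Nat.dvd_of_mul_dvd_mul_left (show 0 < 2 by norm_num) ?_
      rw [show 2 * ((2 * a + 1) * (2 * (a * (a + 1)))) = (2 * a + 1) * (4 * (a * (a + 1))) by ring]
      exact hd
    exact (((Nat.coprime_primes hq hp).mpr hqp).pow_left j).dvd_of_dvd_mul_left h2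
  rcases hq.eq_two_or_odd' with rfl | hodd
  · rcases j with _ | j
    · simp at hge
    rw [pow_succ'] at h1 hge
    have h2 := Nat.dvd_of_mul_dvd_mul_left (show 0 < 2 by norm_num) h1
    rcases j with _ | j
    · simp at hge; omega
    have h3 : 2 ^ (j + 1) ∣ a ∨ 2 ^ (j + 1) ∣ a + 1 := by
      by_cases hev : 2 ∣ a
      · refine Or.inl (Nat.Coprime.dvd_of_dvd_mul_right ?_ h2)
        exact ((Nat.prime_two.coprime_iff_not_dvd).mpr (by omega)).pow_left _
      · refine Or.inr (Nat.Coprime.dvd_of_dvd_mul_left ?_ h2)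
        exact ((Nat.prime_two.coprime_iff_not_dvd).mpr hev).pow_left _
    rcases h3 with h3 | h3
    · have := Nat.le_of_dvd (by omega) h3; omega
    · have := Nat.le_of_dvd (by omega) h3
      exact hm ⟨j + 2, by rw [pow_succ']; omega⟩
  · have h2 : q ^ j ∣ a * (a + 1) :=
      ((Nat.coprime_primes hq Nat.prime_two).mpr (fun h => by rw [h] at hodd; exact Nat.not_odd_iff_even.mpr even_two hodd)).pow_left j
        |>.dvd_of_dvd_mul_left h1
    have h3 : q ^ j ∣ a ∨ q ^ j ∣ a + 1 := by
      by_cases hqa : q ∣ a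
      · refine Or.inl (Nat.Coprime.dvd_of_dvd_mul_right ?_ h2)
        exact ((Nat.Prime.coprime_iff_not_dvd hq).mpr fun h =>
          hq.not_dvd_one ((Nat.dvd_add_right hqa).mp h)).pow_left _
      · exact Or.inr (((Nat.Prime.coprime_iff_not_dvd hq).mpr hqa).pow_left _ |>.dvd_of_dvd_mul_left h2)
    rcases h3 with h3 | h3 <;> · have := Nat.le_of_dvd (by omega) h3; omega

theorem formula_case {p q k n h u : ℕ} (hp : p.Prime) (hq : q.Prime)
    (hN : 1 + n * p = q ^ k) (hlt : 1 + n * p < p ^ 2) (hh : 0 < h) (hu : 0 < u)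
    (hf : n * (u + 1) = h * u * p + u ^ 2 + u + h) : False := by
  have hp0 := hp.pos
  have key : (1 + n * p) * (u + 1) = (u * p + 1) * (h * p + u + 1) := by
    calc (1 + n * p) * (u + 1) = (u + 1) + (n * (u + 1)) * p := by ring
      _ = (u + 1) + (h * u * p + u ^ 2 + u + h) * p := by rw [hf]
      _ = (u * p + 1) * (h * p + u + 1) := by ring
  have hlt2 : (u * p + 1) * (h * p + u + 1) < p ^ 2 * (u + 1) := by
    rw [← key]; exact Nat.mul_lt_mul_of_pos_right hlt (by omega)
  have hh1 : h = 1 := by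
    by_contra hne
    have h2 : 2 ≤ h := by omega
    have : (u * p) * (2 * p) ≤ (u * p + 1) * (h * p + u + 1) :=
      Nat.mul_le_mul (by omega) (by nlinarith)
    nlinarith
  subst hh1
  have hu2 : u ^ 2 + u + 1 < p := by nlinarith
  obtain ⟨g, hg⟩ : ∃ g, g + 1 = u ^ 2 + u := ⟨u ^ 2 + u - 1, by
    have : 1 ≤ u ^ 2 + u := by nlinarith
    omega⟩
  have hup : u + 1 < p := by nlinarith
  rw [one_mul] at key
  have hcop : (u + 1).Coprime (p + u + 1) := by
    rw [show p + u + 1 = p + (u + 1) by ring, Nat.coprime_add_self_right]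
    exact ((hp.coprime_iff_not_dvd).mpr fun hd => by
      have := Nat.le_of_dvd (by omega) hd; omega).symm
  obtain ⟨A, hA⟩ : u + 1 ∣ u * p + 1 :=
    hcop.dvd_of_dvd_mul_right (Dvd.intro_left (1 + n * p) key)
  have hAB : q ^ k = A * (p + u + 1) := by
    refine Nat.eq_of_mul_eq_mul_left (show 0 < u + 1 by omega) ?_
    rw [← hN, mul_comm, key, hA]; ring
  obtain ⟨a, -, ha⟩ := (Nat.dvd_prime_pow hq).mp (Dvd.intro (p + u + 1) hAB.symm)
  obtain ⟨b, -, hb⟩ := (Nat.dvd_prime_pow hq).mp (Dvd.intro_left A hAB.symm)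
  have hAB2 : A ≤ p + u + 1 := by nlinarith
  have hAd : A ∣ p + u + 1 := by
    rw [ha, hb]
    exact pow_dvd_pow q ((Nat.pow_le_pow_iff_right hq.one_lt).mp (ha ▸ hb ▸ hAB2))
  obtain ⟨B, hB⟩ := hAd
  have hAg : A ∣ g := by
    have h1 : u * (p + u + 1) = A * (u + 1) + g := by
      rw [mul_comm A, ← hA]; nlinarith
    exact (Nat.dvd_add_right (Dvd.intro (u + 1) rfl)).mp (h1 ▸ (hB ▸ (Dvd.intro B rfl : A ∣ A * B)).mul_left u)
  obtain ⟨t, ht⟩ := hAg
  have hg1 : 1 ≤ g := by nlinarith
  have ht1 : t = 1 := by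
    by_contra hne
    have : 2 ≤ t := by
      rcases t with _ | _ | t
      · simp at ht; omega
      · omega
      · omega
    have h1 : (u + 1) * A * 2 ≤ (u + 1) * g := by
      rw [mul_assoc, ht]; exact Nat.mul_le_mul_left _ (Nat.mul_le_mul_left _ this)
    have h2 : u * (g + 3) ≤ u * p := Nat.mul_le_mul_left u (by omega)
    nlinarith
  subst ht1
  rw [mul_one] at ht
  subst ht
  have hu3 : u ∣ 2 := by
    have h1 : u * p + 2 = u * (u ^ 2 + 2 * u) := by
      have : (u + 1) * (g + 1) = (u + 1) * (u ^ 2 + u) := by rw [hg]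
      nlinarith
    exact (Nat.dvd_add_right (Dvd.intro p rfl)).mp (h1 ▸ Dvd.intro _ rfl)
  rcases (Nat.dvd_prime Nat.prime_two).mp hu3 with rfl | rfl
  · nlinarith
  · nlinarith

/-- The Sylow number is not a prime power outside the `p`-solvable case. -/
theorem isPSolvable_of_eq_pow (P : Sylow p G) (hP : Nat.card P = p)
    (hm : ¬ (3 < p ∧ ∃ k : ℕ, p + 1 = 2 ^ k)) (hn : Nat.card (Sylow p G) < p ^ 2)
    {q k : ℕ} (hq : q.Prime) (hk : Nat.card (Sylow p G) = q ^ k) : Cfsg.IsPSolvable p G := by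
  classical
  set L : Subgroup G := ⨆ Q : Sylow p G, (Q : Subgroup G) with hL
  have hconj : ∀ {H : Subgroup G}, H.Normal → ∀ (Q : Sylow p G), (Q : Subgroup G) ≤ H →
      L ≤ H := by
    intro H hH Q hQ
    refine iSup_le fun S => ?_
    obtain ⟨g, rfl⟩ := MulAction.exists_smul_eq G Q S
    intro y hy
    rw [Sylow.coe_subgroup_smul, mem_pointwise_smul_iff_inv_smul_mem] at hy
    have := hH.conj_mem _ (hQ hy) g
    simpa [MulAut.smul_def, mul_assoc] using this
  haveI hLn : L.Normal := by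
    refine ⟨fun y hy g => ?_⟩
    have : L ≤ L.comap (MulAut.conj g).toMonoidHom := by
      refine iSup_le fun S z hz => ?_
      rw [mem_comap]
      refine (le_iSup (fun Q : Sylow p G => (Q : Subgroup G)) (g • S)) ?_
      rw [Sylow.coe_subgroup_smul]
      exact smul_mem_pointwise_smul z _ _ hz
    exact this hy
  have hPL : (P : Subgroup G) ≤ L := le_iSup (fun Q : Sylow p G => (Q : Subgroup G)) P
  refine CfsgLib.PLocal.isPSolvable_of_normal L ?_ (CfsgLib.PLocal.isPSolvable_of_coprime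
    ((Nat.Prime.coprime_iff_not_dvd (Fact.out : Nat.Prime p)).mpr fun hd =>
      P.not_dvd_index (hd.trans (index_dvd_of_le hPL))).symm)
  set P0 : Sylow p ↥L := P.subtype hPL with hP0
  have hP0c : Nat.card P0 = p := by
    exact (Nat.card_congr (subgroupOfEquivOfLe hPL).toEquiv).trans hP
  by_cases hperf : commutator ↥L = ⊤
  swap
  · -- `L'` has order prime to `p`, and `L / L'` is a `p`-group
    set L' : Subgroup ↥L := commutator ↥L with hL'
    have hnd : ¬ p ∣ Nat.card L' := by
      intro hd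
      obtain ⟨Q⟩ := (inferInstance : Nonempty (Sylow p ↥L'))
      set Q' := ((Q : Subgroup L').map L'.subtype).map L.subtype with hQ'
      haveI : (L'.map L.subtype).Normal := by
        rw [hL', _root_.commutator_def, map_commutator, ← MonoidHom.range_eq_map, range_subtype]
        infer_instance
      obtain ⟨S, hS⟩ := ((Q.2.map L'.subtype).map L.subtype).exists_le_sylow
      have hSc : Nat.card (S : Subgroup G) = p := by
        rw [S.card_eq_multiplicity, ← P.card_eq_multiplicity, hP]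
      have hQc : Nat.card (S : Subgroup G) ≤ Nat.card Q' := by
        rw [hSc, hQ', card_subtype, card_subtype]
        obtain ⟨j, hj⟩ := Q.2.exists_card_eq
        rw [hj]
        refine Nat.le_self_pow ?_ p
        rintro rfl
        exact Q.ne_bot_of_dvd_card hd (card_eq_one.mp (by rw [hj, pow_zero]))
      have hSL : (S : Subgroup G) ≤ L'.map L.subtype := by
        rw [← eq_of_le_of_card_ge hS hQc]
        exact map_mono (map_subtype_le _)
      have h1 : L ≤ L'.map L.subtype := hconj inferInstance S hSL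
      refine hperf (eq_top_iff.mpr fun x _ => ?_)
      obtain ⟨y, hy, hyx⟩ := h1 x.2
      exact Subtype.ext hyx ▸ hy
    refine CfsgLib.PLocal.isPSolvable_of_normal L'
      (CfsgLib.PLocal.isPSolvable_of_coprime ((Fact.out : Nat.Prime p).coprime_iff_not_dvd.mpr hnd).symm)
      (CfsgLib.PLocal.isPSolvable_of_isPGroup ?_)
    letI : CommGroup (↥L ⧸ L') := inferInstanceAs (CommGroup (Abelianization ↥L))
    set T : Sylow p (↥L ⧸ L') := P0.mapSurjective (QuotientGroup.mk'_surjective L')
    have hall : ∀ x : ↥L, QuotientGroup.mk' L' x ∈ (T : Subgroup (↥L ⧸ L')) := by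
      intro x
      have h1 : L ≤ ((T : Subgroup (↥L ⧸ L')).comap (QuotientGroup.mk' L')).map L.subtype := by
        refine iSup_le fun S y hy => ?_
        have hyL : y ∈ L := le_iSup (fun Q : Sylow p G => (Q : Subgroup G)) S hy
        refine ⟨⟨y, hyL⟩, ?_, rfl⟩
        set S0 : Sylow p ↥L := S.subtype (le_iSup (fun Q : Sylow p G => (Q : Subgroup G)) S)
        haveI : Subsingleton (Sylow p (↥L ⧸ L')) :=
          (Sylow.unique_of_normal T inferInstance).instSubsingleton
        have h2 : S0.mapSurjective (QuotientGroup.mk'_surjective L') = T := Subsingleton.elim _ _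
        rw [SetLike.mem_coe, mem_comap, ← h2]
        exact mem_map_of_mem _ (by rw [Sylow.coe_subtype, mem_subgroupOf]; exact hy)
      obtain ⟨y, hy, hyx⟩ := h1 x.2
      exact Subtype.ext hyx ▸ hy
    refine (T.2).of_surjective (T : Subgroup (↥L ⧸ L')).subtype fun z => ?_
    obtain ⟨x, rfl⟩ := QuotientGroup.mk'_surjective L' z
    exact ⟨⟨_, hall x⟩, rfl⟩
  exfalso
  set H := Cfsg.pPrimeCore p ↥L with hH
  haveI : H.Normal := Cfsg.pPrimeCore_normal p ↥L
  have hdL := SylowNumberPowers.dvd_normal p L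
  have hdQ := (SylowNumberPowers.dvd_quotient p H).trans hdL
  have hnQ : Nat.card (Sylow p (↥L ⧸ H)) ≠ 1 := by
    intro h1
    have hf := QuotientGroup.mk'_surjective H
    set T := P0.mapSurjective hf
    have hT : (T : Subgroup (↥L ⧸ H)).Normal := by
      exact normalizer_eq_top_iff.mp
        (index_eq_one.mp ((Sylow.card_eq_index_normalizer T).symm.trans h1))
    haveI := hT
    -- a perfect group with a normal cyclic Sylow subgroup of prime order and trivial core
    have hcomm : commutator (↥L ⧸ H) = ⊤ := by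
      have := Subgroup.map_commutator (⊤ : Subgroup ↥L) ⊤ (QuotientGroup.mk' H)
      rw [Subgroup.map_top_of_surjective _ hf, ← _root_.commutator_def, ← _root_.commutator_def, hperf,
        Subgroup.map_top_of_surjective _ hf] at this
      exact this.symm
    haveI : IsCyclic ↥(T : Subgroup (↥L ⧸ H)) := by
      have h2 : Nat.card (T : Subgroup (↥L ⧸ H)) ∣ p :=
        (card_map_dvd (QuotientGroup.mk' H) (H := (P0 : Subgroup ↥L))).trans (dvd_of_eq hP0c)
      rcases (Nat.dvd_prime (Fact.out : Nat.Prime p)).mp h2 with h | h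
      · haveI := Finite.card_le_one_iff_subsingleton.mp h.le
        infer_instance
      · exact isCyclic_of_prime_card h
    have hcent : (T : Subgroup (↥L ⧸ H)) ≤ center (↥L ⧸ H) := by
      let c : (↥L ⧸ H) →* MulAut ↥(T : Subgroup (↥L ⧸ H)) :=
        MulAut.conjNormal (H := (T : Subgroup (↥L ⧸ H)))
      let e := (IsCyclic.mulAutMulEquiv ↥(T : Subgroup (↥L ⧸ H))).toMonoidHom
      have hker : ⊤ ≤ c.ker := by
        have h5 : ⊤ ≤ (e.comp c).ker := by
          rw [← hcomm]; exact Abelianization.commutator_subset_ker (e.comp c)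
        intro x hx
        have h6 : e (c x) = 1 := h5 hx
        exact (MulEquiv.map_eq_one_iff _).mp h6
      intro t ht
      rw [mem_center_iff]
      intro x
      have h3 : c x = 1 := hker (mem_top x)
      have h4 := congrArg (fun (e : MulAut ↥(T : Subgroup (↥L ⧸ H))) => ((e ⟨t, ht⟩ : _) : ↥L ⧸ H)) h3
      simp only [c, MulAut.conjNormal_apply, MulAut.one_apply] at h4
      exact mul_inv_eq_iff_eq_mul.mp h4
    obtain ⟨K, hK⟩ := (Subgroup.exists_left_complement'_of_coprime
      (N := (T : Subgroup (↥L ⧸ H))) T.card_coprime_index)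
    have hKn : K.Normal := by
      refine ⟨fun k hk x => ?_⟩
      obtain ⟨⟨⟨k', hk'⟩, ⟨t, ht⟩⟩, rfl⟩ := hK.2 x
      have htc := mem_center_iff.mp (hcent ht) k
      show k' * t * k * (k' * t)⁻¹ ∈ K
      rw [mul_inv_rev, show k' * t * k * (t⁻¹ * k'⁻¹) = k' * (t * k * t⁻¹) * k'⁻¹ by group,
        ← htc, mul_inv_cancel_right]
      exact mul_mem (mul_mem hk' hk) (inv_mem hk')
    haveI := hKn
    have hKbot : K = ⊥ := by
      refine le_bot_iff.mp (CfsgLib.Base.pPrimeCore_quotient_pPrimeCore p ↥L ▸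
        CfsgLib.Base.le_pPrimeCore ?_)
      refine ((Fact.out : Nat.Prime p).coprime_iff_not_dvd.mpr fun hd => T.not_dvd_index ?_).symm
      rwa [hK.index_eq_card]
    have htop : center (↥L ⧸ H) = ⊤ := by
      refine top_le_iff.mp fun x _ => ?_
      obtain ⟨⟨⟨k', hk'⟩, ⟨t, ht⟩⟩, rfl⟩ := hK.2 x
      replace hk' : k' = 1 := mem_bot.mp (hKbot ▸ hk')
      subst hk'
      simpa using hcent ht
    have hcb : commutator (↥L ⧸ H) = ⊥ := by
      rw [_root_.commutator_def]
      exact le_bot_iff.mp (commutator_le.mpr fun a _ b _ => mem_bot.mpr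
        (commutatorElement_eq_one_iff_commute.mpr (mem_center_iff.mp (htop ▸ mem_top b) a)))
    rw [hcomm] at hcb
    have hHtop : H = ⊤ := by
      refine eq_top_iff.mpr fun x _ => ?_
      have : QuotientGroup.mk' H x ∈ (⊥ : Subgroup (↥L ⧸ H)) := hcb ▸ mem_top _
      exact (QuotientGroup.eq_one_iff x).mp (mem_bot.mp this)
    have hcop := CfsgLib.Base.pPrimeCore_eq_top_iff.mp hHtop
    exact (Fact.out : Nat.Prime p).coprime_iff_not_dvd.mp hcop.symm (hP0c ▸ (P0 : Subgroup ↥L).card_subgroup_dvd_card)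
  obtain ⟨j, -, hj⟩ := (Nat.dvd_prime_pow hq).mp (hk ▸ hdQ)
  have hj1 : p + 1 ≤ q ^ j := by
    have h1 := (card_sylow_modEq_one p (↥L ⧸ H)).symm
    rw [hj] at h1 hnQ
    have h4 := Nat.one_le_pow j q hq.pos
    have h3 : p ∣ q ^ j - 1 := (Nat.modEq_iff_dvd' h4).mp h1
    have h5 : 0 < q ^ j - 1 := by omega
    have h2 := Nat.le_of_dvd h5 h3
    omega
  have hdvdQ : q ^ j ∣ Nat.card (↥L ⧸ H) := by
    obtain ⟨T⟩ := (inferInstance : Nonempty (Sylow p (↥L ⧸ H)))
    rw [← hj, Sylow.card_eq_index_normalizer T]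
    exact index_dvd_card _
  have hqp : q ≠ p := by
    intro heq
    have h1 : q ^ j ≡ 1 [MOD p] := hj ▸ card_sylow_modEq_one p (↥L ⧸ H)
    have hj0 : j ≠ 0 := fun h0 => by
      rw [h0, pow_zero] at hj1
      exact absurd hj1 (by have := (Fact.out : Nat.Prime p).two_le; omega)
    have h2 : p ∣ q ^ j := heq ▸ dvd_pow_self q hj0
    have h3 : p ∣ 1 := (h1.dvd_iff dvd_rfl).mp h2
    exact (Fact.out : Nat.Prime p).not_dvd_one h3
  obtain ⟨n', hn'⟩ : ∃ n', Nat.card (Sylow p ↥L) = 1 + n' * p := by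
    have h1 := (card_sylow_modEq_one p ↥L).symm
    obtain ⟨c, hc⟩ := (Nat.modEq_iff_dvd' Nat.card_pos).mp h1
    exact ⟨c, by rw [mul_comm] at hc; have := Nat.card_pos (α := Sylow p ↥L); omega⟩
  have hcard2 : ∀ (e : ℕ), Nat.card (↥L ⧸ H) = e → q ^ j ∣ e := fun e he => he ▸ hdvdQ
  rcases Cfsg.Agent.S4700.result hperf p P0 hP0c n' hn' with
    ⟨F, _, _, hF, h3, ⟨e⟩⟩ | ⟨m, F, _, _, hF, hpm, -, ⟨e⟩⟩ | ⟨h, u, hh, hu, hf⟩
  · have hp2 : p ≠ 2 := by omega
    refine psl_case (Fact.out : Nat.Prime p) hp2 (fun h => hm ⟨h3, h⟩) hq hj1 ?_ hqp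
    rw [← CfsgLib.Small.card_PSL_two_prime hF (Nat.Prime.odd_of_ne_two (Fact.out : Nat.Prime p) hp2)]
    exact mul_dvd_mul_left 2 (hcard2 _ (Nat.card_congr e.toEquiv))
  · have h1 := hcard2 _ (Nat.card_congr e.toEquiv)
    rw [CfsgLib.Classical.card_SL_two, Nat.card_eq_fintype_card, hF] at h1
    have h2 : (2 ^ m) ^ 2 - 1 = (2 ^ m - 1) * p := by
      rw [hpm, show (2 ^ m) ^ 2 - 1 = (2 ^ m + 1) * (2 ^ m - 1) by
        rw [← Nat.sq_sub_sq, one_pow], mul_comm]
    rw [h2, ← mul_assoc] at h1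
    have hm1 : 1 < 2 ^ m := hF ▸ Fintype.one_lt_card
    have h3 : q ^ j ∣ 2 ^ m * (2 ^ m - 1) :=
      (((Nat.coprime_primes hq (Fact.out : Nat.Prime p)).mpr hqp).pow_left j).dvd_of_dvd_mul_right h1
    rcases hq.eq_two_or_odd' with rfl | hodd
    · have hodd2 : ¬ 2 ∣ 2 ^ m - 1 := by
        have : 2 ∣ 2 ^ m := dvd_pow_self 2 (fun h0 => by rw [h0] at hm1; omega)
        have := Nat.one_le_pow m 2 two_pos
        omega
      have := Nat.le_of_dvd (by positivity)
        (((Nat.prime_two.coprime_iff_not_dvd).mpr hodd2).pow_left j |>.dvd_of_dvd_mul_right h3)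
      omega
    · have h4 : q ^ j ∣ 2 ^ m - 1 :=
        ((Nat.coprime_primes hq Nat.prime_two).mpr (fun h => by rw [h] at hodd; exact Nat.not_odd_iff_even.mpr even_two hodd)).pow j m
          |>.dvd_of_dvd_mul_left h3
      have hm0 : 0 < 2 ^ m - 1 := by omega
      have := Nat.le_of_dvd hm0 h4
      omega
  · obtain ⟨i, -, hi⟩ := (Nat.dvd_prime_pow hq).mp (hk ▸ hdL)
    refine formula_case (Fact.out : Nat.Prime p) hq (n := n') (k := i) (hn' ▸ hi) ?_ hh hu hf
    rw [← hn']
    exact lt_of_le_of_lt (Nat.le_of_dvd Nat.card_pos hdL) hn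

theorem isPSolvable_iff (hm : ¬ (3 < p ∧ ∃ k : ℕ, p + 1 = 2 ^ k))
    (hn : Nat.card (Sylow p G) < p ^ 2) :
    Cfsg.IsPSolvable p G ↔ ∃ q k : ℕ, q.Prime ∧ Nat.card (Sylow p G) = q ^ k := by
  obtain ⟨P⟩ := (inferInstance : Nonempty (Sylow p G))
  set D := Cfsg.pCore p G with hD
  haveI : D.Normal := Cfsg.pCore_normal p G
  have hDp : IsPGroup p D := CfsgLib.Base.isPGroup_pCore p G
  set P1 := P.mapSurjective (QuotientGroup.mk'_surjective D)
  have hc : Nat.card P1 ∣ p := by
    have h1 : Nat.card (P1 : Subgroup (G ⧸ D)) = D.relIndex (P : Subgroup G) :=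
      CfsgLib.Coprime.card_map_mk' D (P : Subgroup G)
    exact h1 ▸ relIndex_pCore_dvd hn P
  have hs : Cfsg.IsPSolvable p G ↔ Cfsg.IsPSolvable p (G ⧸ D) :=
    ⟨fun h => CfsgLib.PLocal.isPSolvable_quotient h D,
      CfsgLib.PLocal.isPSolvable_of_normal D (CfsgLib.PLocal.isPSolvable_of_isPGroup hDp)⟩
  rw [hs, ← card_quotient_eq D hDp]
  have hn1 : Nat.card (Sylow p (G ⧸ D)) < p ^ 2 := by rwa [card_quotient_eq D hDp]
  rcases (Nat.dvd_prime (Fact.out : Nat.Prime p)).mp hc with h1 | h1
  · have hco : Cfsg.IsPSolvable p (G ⧸ D) := by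
      refine CfsgLib.PLocal.isPSolvable_of_coprime ((Fact.out : Nat.Prime p).coprime_iff_not_dvd.mpr fun hd => ?_).symm
      exact P1.ne_bot_of_dvd_card hd (card_eq_one.mp h1)
    refine ⟨fun _ => ⟨2, 0, Nat.prime_two, ?_⟩, fun _ => hco⟩
    have hb : (P1 : Subgroup (G ⧸ D)) = ⊥ := card_eq_one.mp h1
    have hn1' : (P1 : Subgroup (G ⧸ D)).Normal := hb ▸ inferInstance
    have hN : normalizer (P1 : Set (G ⧸ D)) = ⊤ :=
      (normalizer_eq_top_iff (H := (P1 : Subgroup (G ⧸ D)))).mpr hn1'
    rw [Sylow.card_eq_index_normalizer P1, hN, index_top, pow_zero]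
  · exact ⟨fun h => exists_eq_pow P1 h1 h hn1,
      fun ⟨q, k, hq, hk⟩ => isPSolvable_of_eq_pow P1 h1 hm hn1 hq hk⟩

end CfsgLib.FgsB.SylowBelowSquare
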