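import Cfsg.Agent.Lib.FgsB.Subnormalizer
import Mathlib

/-!
The number of Sylow subgroups containing a `p`-subgroup, along an epimorphism whose kernel is a
`p`-group or a `p'`-group.
-/

set_option autoImplicit false

universe u v

namespace CfsgLib.Subnormalizer

open Subgroup
open scoped Classical Pointwise

variable {G : Type u} [Group G] [Finite G] {Gb : Type v} [Group Gb] [Finite Gb] {p : ℕ}
  [hp : Fact p.Prime]

omit [Finite G] hp in
theorem sylowCount_bot : sylowCount p (⊥ : Subgroup G) = Nat.card (Sylow p G) :=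
  Nat.card_congr (Equiv.subtypeUnivEquiv fun _ => bot_le)

/-- A `p`-kernel does not change the count. -/
theorem sylowCount_map_of_pGroup (f : G →* Gb) (hf : Function.Surjective f)
    (hK : IsPGroup p f.ker) (H : Subgroup G) : sylowCount p (H.map f) = sylowCount p H := by
  have hker : ∀ Q : Sylow p G, f.ker ≤ (Q : Subgroup G) := fun Q => hK.le_sylow_of_normal Q
  symm
  refine Nat.card_congr (Equiv.ofBijective
    (fun Q => ⟨Q.1.mapSurjective hf, by
      rw [Sylow.coe_mapSurjective]; exact map_mono Q.2⟩) ⟨fun a b hab => ?_, fun Qb => ?_⟩)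
  · have h1 := congrArg (fun x : {Q : Sylow p Gb // H.map f ≤ Q} => (x.1 : Subgroup Gb).comap f) hab
    simp only [Sylow.coe_mapSurjective, comap_map_eq, sup_eq_left.mpr (hker _)] at h1
    exact Subtype.ext (Sylow.ext h1)
  · obtain ⟨Q, hQ⟩ := Sylow.mapSurjective_surjective hf p Qb.1
    refine ⟨⟨Q, ?_⟩, Subtype.ext hQ⟩
    have h1 := Qb.2
    rw [← hQ, Sylow.coe_mapSurjective, map_le_iff_le_comap, comap_map_eq,
      sup_eq_left.mpr (hker Q)] at h1
    exact h1

theorem card_eq_card_map_mul (f : G →* Gb) (hf : Function.Surjective f) :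
    Nat.card G = Nat.card Gb * Nat.card f.ker := by
  rw [card_eq_card_quotient_mul_card_subgroup f.ker,
    Nat.card_congr (QuotientGroup.quotientKerEquivOfSurjective f hf).toEquiv]

/-- A `p'`-kernel multiplies the count by the fixed points on the kernel. -/
theorem sylowCount_mul_of_coprime (f : G →* Gb) (hf : Function.Surjective f)
    (hK : ¬ p ∣ Nat.card f.ker) (H : Subgroup G) (hH : IsPGroup p H) (P : Sylow p G) :
    sylowCount p H * Nat.card (f.ker ⊓ centralizer ((P : Subgroup G) : Set G) : Subgroup G) =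
      sylowCount p (H.map f) * Nat.card (f.ker ⊓ centralizer (H : Set G) : Subgroup G) := by
  set K := f.ker with hKdef
  have hdisj : ∀ (Q : Sylow p G) (y : G), y ∈ K → y ∈ (Q : Subgroup G) → y = 1 := by
    intro Q y hyK hyQ
    obtain ⟨k, hk⟩ := IsPGroup.iff_card.mp Q.2
    have h1 : orderOf y ∣ p ^ k := by
      rw [← hk]; exact orderOf_dvd_natCard _ hyQ
    have h2 : orderOf y ∣ Nat.card K := orderOf_dvd_natCard _ hyK
    exact orderOf_eq_one_iff.mp (Nat.eq_one_of_dvd_coprimes ((hp.out.coprime_iff_not_dvd.mpr hK).pow_left k) h1 h2)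
  -- `K` meets the normalizer of a Sylow subgroup in its centralizer
  have hcomm : ∀ (Q : Sylow p G) (k : G), k ∈ K → ∀ y ∈ (Q : Subgroup G),
      k⁻¹ * y * k ∈ (Q : Subgroup G) → y * k = k * y := by
    intro Q k hk y hy h
    have h1 := hdisj Q (k⁻¹ * y * k * y⁻¹) ?_ (mul_mem h (inv_mem hy))
    · rw [mul_inv_eq_one, mul_assoc, inv_mul_eq_iff_eq_mul] at h1
      exact h1
    · rw [show k⁻¹ * y * k * y⁻¹ = k⁻¹ * (y * k * y⁻¹) by group]
      exact mul_mem (inv_mem hk) (f.normal_ker.conj_mem k hk y)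
  -- each fibre is an orbit
  have hfib : ∀ Qb : {Q : Sylow p Gb // H.map f ≤ Q},
      Nat.card {Q : {Q : Sylow p G // H ≤ Q} // Q.1.mapSurjective hf = Qb.1} *
        Nat.card (K ⊓ centralizer ((P : Subgroup G) : Set G) : Subgroup G) =
      Nat.card (K ⊓ centralizer (H : Set G) : Subgroup G) := by
    intro Qb
    obtain ⟨Q₁, hQ₁⟩ := Sylow.mapSurjective_surjective hf p Qb.1
    set L := (Qb.1 : Subgroup Gb).comap f with hL
    have himg : ∀ Q : Sylow p G, Q.mapSurjective hf = Qb.1 → (Q : Subgroup G) ≤ L := by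
      intro Q hQ
      rw [hL, ← hQ, Sylow.coe_mapSurjective]
      exact le_comap_map f _
    have hsmul : ∀ (l : G) (Q : Sylow p G), l ∈ L → Q.mapSurjective hf = Qb.1 →
        (l • Q).mapSurjective hf = Qb.1 := by
      intro l Q hl hQ
      have h1 : (f l • Qb.1 : Sylow p Gb) = Qb.1 :=
        Sylow.smul_eq_iff_mem_normalizer.mpr (le_normalizer (mem_comap.mp hl))
      conv_rhs => rw [← h1, ← hQ]
      apply Sylow.ext
      ext y
      simp only [Sylow.coe_mapSurjective, Sylow.coe_subgroup_smul, mem_map,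
        mem_pointwise_smul_iff_inv_smul_mem, MulAut.smul_def, ← map_inv, MulAut.conj_apply]
      constructor
      · rintro ⟨x, hx, rfl⟩
        exact ⟨l⁻¹ * x * l, by simpa [mul_assoc] using hx, by simp [mul_assoc]⟩
      · rintro ⟨x, hx, hxy⟩
        refine ⟨l * x * l⁻¹, by simpa [mul_assoc] using hx, ?_⟩
        simp [hxy, mul_assoc]
    -- one containing `H`
    obtain ⟨Q₀, hHQ₀, hQ₀⟩ : ∃ Q₀ : Sylow p G, H ≤ (Q₀ : Subgroup G) ∧
        Q₀.mapSurjective hf = Qb.1 := by
      have hHL : H ≤ L := map_le_iff_le_comap.mp Qb.2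
      have hHL' : IsPGroup p (H.subgroupOf L) := hH.comap_subtype
      obtain ⟨R, hR⟩ := hHL'.exists_le_sylow
      obtain ⟨l, hl⟩ := MulAction.exists_smul_eq L (Q₁.subtype (himg Q₁ hQ₁)) R
      refine ⟨(l : G) • Q₁, fun h hh => ?_, hsmul _ _ l.2 hQ₁⟩
      have h1 := hR (show (⟨h, hHL hh⟩ : L) ∈ H.subgroupOf L from mem_subgroupOf.mpr hh)
      rw [← hl, Sylow.smul_subtype] at h1
      exact h1
    set C := K ⊓ centralizer (H : Set G) with hC
    have horb : {Q : Sylow p G | H ≤ (Q : Subgroup G) ∧ Q.mapSurjective hf = Qb.1} =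
        MulAction.orbit C Q₀ := by
      ext Q
      constructor
      · rintro ⟨hHQ, hQ⟩
        obtain ⟨l, hl⟩ := MulAction.exists_smul_eq L (Q₀.subtype (himg Q₀ hQ₀))
          (Q.subtype (himg Q hQ))
        rw [Sylow.smul_subtype] at hl
        have hlQ : (l : G) • Q₀ = Q := Sylow.subtype_injective hl
        have hmem : (l : G) ∈ (↑(K ⊔ (Q₀ : Subgroup G)) : Set G) := by
          have : L = (Q₀ : Subgroup G) ⊔ K := by
            rw [hL, ← hQ₀, Sylow.coe_mapSurjective, comap_map_eq]
          rw [sup_comm, ← this]; exact l.2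
        haveI : K.Normal := f.normal_ker
        rw [normal_mul] at hmem
        obtain ⟨k, hk, q, hq, hkq⟩ := hmem
        have hkQ : k • Q₀ = Q := by
          rw [← hlQ, ← hkq, mul_smul, Sylow.smul_eq_iff_mem_normalizer.mpr (le_normalizer hq)]
        refine ⟨⟨k, hk, fun h hh => ?_⟩, hkQ⟩
        have h1 : h ∈ ((k • Q₀ : Sylow p G) : Subgroup G) := hkQ ▸ hHQ hh
        rw [Sylow.coe_subgroup_smul, mem_pointwise_smul_iff_inv_smul_mem] at h1
        exact hcomm Q₀ k hk h (hHQ₀ hh) (by simpa [MulAut.smul_def] using h1)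
      · rintro ⟨⟨c, hc⟩, rfl⟩
        refine ⟨fun h hh => ?_, hsmul c Q₀ ?_ hQ₀⟩
        · show h ∈ ((c • Q₀ : Sylow p G) : Subgroup G)
          rw [Sylow.coe_subgroup_smul, mem_pointwise_smul_iff_inv_smul_mem]
          have h1 : c⁻¹ * h * c = h := by
            rw [mul_assoc, mem_centralizer_iff.mp hc.2 h hh, inv_mul_cancel_left]
          simpa [MulAut.smul_def, h1] using hHQ₀ hh
        · show f c ∈ (Qb.1 : Subgroup Gb)
          rw [show f c = 1 from hc.1]; exact one_mem _
    have hstab : Nat.card (MulAction.stabilizer C Q₀) =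
        Nat.card (K ⊓ centralizer ((Q₀ : Subgroup G) : Set G) : Subgroup G) := by
      have hmem : ∀ k ∈ K, k • Q₀ = Q₀ → k ∈ centralizer ((Q₀ : Subgroup G) : Set G) := by
        intro k hk hst
        refine mem_centralizer_iff.mpr fun y hy => hcomm Q₀ k hk y hy ?_
        have h1 := (mem_normalizer_iff''.mp (Sylow.smul_eq_iff_mem_normalizer.mp hst) y).mp hy
        exact h1
      refine Nat.card_congr
        { toFun := fun s => ⟨(s.1 : G), s.1.2.1, hmem _ s.1.2.1 s.2⟩
          invFun := fun k => ⟨⟨k.1, k.2.1, fun h hh => k.2.2 h (hHQ₀ hh)⟩,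
            Sylow.smul_eq_iff_mem_normalizer.mpr (centralizer_le_normalizer _ k.2.2)⟩
          left_inv := fun s => rfl
          right_inv := fun k => rfl }
    have hconjcard : Nat.card (K ⊓ centralizer ((Q₀ : Subgroup G) : Set G) : Subgroup G) =
        Nat.card (K ⊓ centralizer ((P : Subgroup G) : Set G) : Subgroup G) := by
      obtain ⟨g, hg⟩ := MulAction.exists_smul_eq G P Q₀
      refine Nat.card_congr (Equiv.subtypeEquiv (MulAut.conj g⁻¹).toEquiv fun y => ?_)
      simp only [mem_inf, mem_centralizer_iff, SetLike.mem_coe, ← hg, Sylow.coe_subgroup_smul,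
        mem_pointwise_smul_iff_inv_smul_mem, MulAut.smul_def, ← map_inv, MulAut.conj_apply,
        MulEquiv.toEquiv_eq_coe, MulEquiv.coe_toEquiv]
      refine and_congr ⟨fun h => f.normal_ker.conj_mem y h g⁻¹, fun h => ?_⟩
        ⟨fun h z hz => ?_, fun h z hz => ?_⟩
      · have := f.normal_ker.conj_mem _ h g
        exact MonoidHom.mem_ker.mpr (by simpa [mul_assoc] using this)
      · have := h (g * z * g⁻¹) (by simpa [mul_assoc] using hz)
        have := congrArg (fun w => g⁻¹ * w * g) this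
        simpa [mul_assoc] using this
      · have := h _ hz
        have := congrArg (fun w => g * w * g⁻¹) this
        simpa [mul_assoc] using this
    rw [← hconjcard, ← hstab]
    have h1 := Nat.card_congr (MulAction.orbitProdStabilizerEquivGroup C Q₀)
    rw [Nat.card_prod] at h1
    rw [← h1]
    congr 1
    rw [← horb]
    exact Nat.card_congr (Equiv.subtypeSubtypeEquivSubtypeInter (fun Q : Sylow p G => H ≤ (Q : Subgroup G))
      (fun Q : Sylow p G => Q.mapSurjective hf = Qb.1))
  -- sum over the fibres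
  let g : {Q : Sylow p G // H ≤ Q} → {Q : Sylow p Gb // H.map f ≤ Q} := fun Q =>
    ⟨Q.1.mapSurjective hf, by rw [Sylow.coe_mapSurjective]; exact map_mono Q.2⟩
  letI : Fintype {Q : Sylow p Gb // H.map f ≤ Q} := Fintype.ofFinite _
  have h2 : sylowCount p H = ∑ Qb : {Q : Sylow p Gb // H.map f ≤ Q},
      Nat.card {Q : {Q : Sylow p G // H ≤ Q} // Q.1.mapSurjective hf = Qb.1} := by
    rw [sylowCount, ← Nat.card_congr (Equiv.sigmaFiberEquiv g), Nat.card_sigma]
    exact Finset.sum_congr rfl fun Qb _ =>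
      Nat.card_congr (Equiv.subtypeEquivRight fun Q => ⟨fun h => congrArg Subtype.val h,
        fun h => Subtype.ext h⟩)
  rw [h2, Finset.sum_mul, Finset.sum_congr rfl (fun Qb _ => hfib Qb), Finset.sum_const,
    smul_eq_mul, Finset.card_univ, sylowCount, Nat.card_eq_fintype_card (α := {Q : Sylow p Gb // _})]

end CfsgLib.Subnormalizer
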