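import Cfsg.Agent.Lib.FgsB.OrbitModule
import Cfsg.Agent.Lib.FgsB.Basic
import Cfsg.Agent.Lib.Chars.Burnside
import Cfsg.Agent.Lib.Base.Cores
import Cfsg.Agent.Lib.Base.MinimalNormal
import Cfsg.Prelude.Def_Transfer

/-!
Groups with three automorphism orbits.
-/

set_option autoImplicit false
set_option linter.unusedSectionVars false

open Cfsg
open scoped IsMulCommutative commutatorElement

namespace CfsgLib.FgsB.ThreeOrbits

universe u

variable {G : Type u} [Group G] (p : ℕ) [Fact p.Prime] (P : Subgroup G) [P.Normal]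
  [IsMulCommutative P] [Module (ZMod p) (Additive P)]

/-- Conjugation on a normal abelian subgroup, as a representation over `ZMod p`. -/
def conjRep : G →* Module.End (ZMod p) (Additive P) where
  toFun g := AddMonoidHom.toZModLinearMap p (MonoidHom.toAdditive (MulAut.conjNormal g : P ≃* P).toMonoidHom)
  map_one' := by
    apply LinearMap.ext; intro v
    apply Additive.toMul.injective
    apply Subtype.ext
    change ((MulAut.conjNormal (1 : G) : P ≃* P) (Additive.toMul v) : G) = _
    simp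
  map_mul' g h := by
    apply LinearMap.ext; intro v
    apply Additive.toMul.injective
    apply Subtype.ext
    change ((MulAut.conjNormal (g * h) : P ≃* P) (Additive.toMul v) : G) =
      ((MulAut.conjNormal g : P ≃* P) ((MulAut.conjNormal h : P ≃* P) (Additive.toMul v)) : G)
    simp [mul_assoc]

theorem conjRep_apply (g : G) (v : Additive P) :
    ((Additive.toMul (conjRep p P g v) : P) : G) = g * (Additive.toMul v : P) * g⁻¹ :=
  MulAut.conjNormal_apply g _

theorem conjRep_fixed_iff (g : G) (v : Additive P) :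
    conjRep p P g v = v ↔ g * (Additive.toMul v : P) * g⁻¹ = ((Additive.toMul v : P) : G) := by
  rw [← conjRep_apply p P g v]
  constructor
  · intro h; rw [h]
  · intro h; exact Additive.toMul.injective (Subtype.ext h)

theorem ne_zero_iff (v : Additive P) : v ≠ 0 ↔ ((Additive.toMul v : P) : G) ≠ 1 := by
  rw [not_iff_not, ← Additive.toMul.injective.eq_iff, toMul_zero, OneMemClass.coe_eq_one]

theorem pow_conjRep_eq (g : G) (m : ℕ) : conjRep p P (g ^ m) = conjRep p P g ^ m := map_pow _ g m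

/-- An intertwiner on the normal abelian subgroup extends to an automorphism of the group. -/
theorem exists_mulAut {x : G} (hc : P.IsComplement' (Subgroup.zpowers x)) (hfin : IsOfFinOrder x)
    {i : ℕ} (hi : (orderOf x).Coprime i) (A : Additive P ≃ₗ[ZMod p] Additive P)
    (hA : ∀ w, A (conjRep p P x w) = (conjRep p P x ^ i) (A w)) :
    ∃ φ : MulAut G, φ x = x ^ i ∧
      ∀ v : Additive P, φ ((Additive.toMul v : P) : G) = ((Additive.toMul (A v) : P) : G) := by
  set K := Subgroup.zpowers x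
  have hK : ∀ k : K, (orderOf x).Coprime i ∧ ∀ m : G, m ∈ K → m ^ i ∈ K := fun k =>
    ⟨hi, fun m hm => K.pow_mem hm i⟩
  have hcK : (Nat.card K).Coprime i := by rw [Nat.card_zpowers]; exact hi
  let fg : K ≃* K := MulEquiv.mk' (powCoprime hcK) (fun a b => by
    change (a * b) ^ i = a ^ i * b ^ i
    exact (Commute.all a b).mul_pow i)
  let fn : P ≃* P := MulEquiv.mk' (Additive.ofMul.trans (A.toEquiv.trans Additive.toMul))
    (fun a b => by
      change Additive.toMul (A (Additive.ofMul (a * b))) = _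
      rw [ofMul_mul, map_add, toMul_add]; rfl)
  let ψ : K →* MulAut P := (P.normalizerMonoidHom).comp
    (Subgroup.inclusion (Subgroup.normalizer_eq_top P ▸ le_top))
  have hψ : ∀ (k : K) (v : P), ((ψ k v : P) : G) = (k : G) * v * (k : G)⁻¹ := fun k v => rfl
  have hpow : ∀ (m : ℕ) (v : P),
      fn (Additive.toMul (conjRep p P (x ^ m) (Additive.ofMul v))) =
        Additive.toMul (conjRep p P (x ^ (m * i)) (Additive.ofMul (fn v))) := by
    intro m v
    change Additive.toMul (A (conjRep p P (x ^ m) (Additive.ofMul v))) =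
      Additive.toMul (conjRep p P (x ^ (m * i)) (A (Additive.ofMul v)))
    congr 1
    rw [map_pow, map_pow]
    generalize Additive.ofMul v = w
    induction m generalizing w with
    | zero => simp
    | succ m ih =>
      rw [pow_succ, Module.End.mul_apply, ih, hA, ← Module.End.mul_apply, ← pow_add]
      congr 2; ring
  have hcomm : ∀ k : K, fn.toMonoidHom.comp (ψ k).toMonoidHom =
      ((ψ (fg k)).toMonoidHom).comp fn.toMonoidHom := by
    rintro ⟨k, hk⟩
    obtain ⟨m, rfl⟩ : ∃ m : ℕ, x ^ m = k := by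
      have := (hfin.mem_powers_iff_mem_zpowers).mpr hk
      exact this
    apply MonoidHom.ext; intro v
    change fn (ψ ⟨x ^ m, hk⟩ v) = ψ (fg ⟨x ^ m, hk⟩) (fn v)
    have e1 : ψ ⟨x ^ m, hk⟩ v = Additive.toMul (conjRep p P (x ^ m) (Additive.ofMul v)) := by
      apply Subtype.ext; rw [hψ, conjRep_apply]; rfl
    have e2 : ψ (fg ⟨x ^ m, hk⟩) (fn v) =
        Additive.toMul (conjRep p P (x ^ (m * i)) (Additive.ofMul (fn v))) := by
      apply Subtype.ext; rw [hψ, conjRep_apply]
      change (x ^ m) ^ i * _ * ((x ^ m) ^ i)⁻¹ = _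
      rw [← pow_mul]; rfl
    rw [e1, e2, hpow]
  let e := SemidirectProduct.mulEquivSubgroup hc
  let φ : MulAut G := e.symm.trans ((SemidirectProduct.congr fn fg (fun k => by
    ext v
    exact congrArg Subtype.val (DFunLike.congr_fun (hcomm k) v))).trans e)
  have heval : ∀ w : P ⋊[ψ] K, e w = (w.left : G) * (w.right : G) := fun w => rfl
  have hev : ∀ w : P ⋊[ψ] K, φ (e w) = (fn w.left : G) * (fg w.right : G) := by
    intro w
    change e (SemidirectProduct.congr fn fg _ (e.symm (e w))) = _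
    rw [e.symm_apply_apply, heval]; rfl
  refine ⟨φ, ?_, fun v => ?_⟩
  · have h := hev ⟨1, ⟨x, Subgroup.mem_zpowers x⟩⟩
    rw [heval, map_one] at h
    simp [fg] at h
    exact h
  · have h := hev ⟨Additive.toMul v, 1⟩
    rw [heval, map_one] at h
    simp [fn] at h
    exact h

omit [P.Normal] [IsMulCommutative P] [Module (ZMod p) (Additive P)]

theorem mem_sylow_of_orderOf [Finite G] (S : Sylow p G) [(S : Subgroup G).Normal] {g : G}
    (hg : ∃ k : ℕ, orderOf g = p ^ k) : g ∈ (S : Subgroup G) := by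
  obtain ⟨c, hc⟩ := CfsgLib.FgsB.exists_conj_mem_sylow hg S
  have := Subgroup.Normal.conj_mem (inferInstance : (S : Subgroup G).Normal) _ hc c
  simpa [mul_assoc] using this

theorem orderOf_eq_of_orbit {g h : G}
    (hh : (Quotient.mk (MulAction.orbitRel (MulAut G) G) g) = Quotient.mk _ h) :
    orderOf g = orderOf h := by
  obtain ⟨φ, hφ⟩ := Quotient.exact hh
  rw [← hφ]
  exact MulEquiv.orderOf_eq φ h

theorem card_orbits_eq_three [Finite G] {q n : ℕ} [Fact q.Prime] (hpq : p ≠ q) (hn : 1 ≤ n)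
    (hcard : Nat.card G = p ^ n * q) (S : Sylow p G) (hSn : (S : Subgroup G).Normal)
    (hSel : IsElementaryAbelian p (S : Subgroup G)) (hord : orderOf (p : ZMod q) = q - 1)
    (hfpf : ∀ x y : G, orderOf x = q → orderOf y = p → x * y * x⁻¹ ≠ y) :
    Nat.card (MulAction.orbitRel.Quotient (MulAut G) G) = 3 := by
  classical
  have hp : p.Prime := Fact.out
  have hq : q.Prime := Fact.out
  set P : Subgroup G := (S : Subgroup G) with hPdef
  have : P.Normal := hSn
  have : IsMulCommutative P := hSel.1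
  have hexp : ∀ v : Additive P, p • v = 0 := fun v => Additive.toMul.injective (by
    rw [toMul_nsmul, toMul_zero]; exact Subtype.ext (hSel.2 _ (Additive.toMul v).2))
  have : Module (ZMod p) (Additive P) := AddCommGroup.zmodModule hexp
  have hPcard : Nat.card P = p ^ n := by
    rw [hPdef, S.card_eq_multiplicity, hcard, Nat.factorization_mul (pow_ne_zero _ hp.ne_zero) hq.ne_zero,
      Finsupp.add_apply, Nat.Prime.factorization_pow hp, hq.factorization, Finsupp.single_eq_same,
      Finsupp.single_eq_of_ne hpq, add_zero]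
  obtain ⟨x, hx⟩ := exists_prime_orderOf_dvd_card' (G := G) q (hcard ▸ dvd_mul_left q _)
  obtain ⟨a, ha⟩ := exists_prime_orderOf_dvd_card' (G := G) p
    (hcard ▸ Dvd.dvd.mul_right (dvd_pow_self p (by omega)) q)
  have haP : a ∈ P := mem_sylow_of_orderOf p S ⟨1, by rw [pow_one, ha]⟩
  have horderP : ∀ v ∈ P, v ≠ 1 → orderOf v = p := fun v hv hne => orderOf_eq_prime (hSel.2 v hv) hne
  have hc : P.IsComplement' (Subgroup.zpowers x) := by
    apply Subgroup.isComplement'_of_coprime
    · rw [Nat.card_zpowers, hx, hPcard, hcard]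
    · rw [Nat.card_zpowers, hx, hPcard]
      exact ((Nat.coprime_primes hp hq).mpr hpq).pow_left n
  have hxfin : IsOfFinOrder x := isOfFinOrder_of_finite x
  have hfix : ∀ v : Additive P, conjRep p P x v = v → v = 0 := by
    intro v hv
    by_contra hne
    rw [conjRep_fixed_iff] at hv
    exact hfpf x _ hx (horderP _ (Additive.toMul v).2 ((ne_zero_iff P v).mp hne)) hv
  have hTq : conjRep p P x ^ q = 1 := by rw [← map_pow, ← hx, pow_orderOf_eq_one, map_one]
  obtain ⟨htrans, htwist⟩ := CfsgLib.FgsB.OrbitModule.exists_equivs hpq hord (conjRep p P x) hTq hfix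
  let q0 : G → MulAction.orbitRel.Quotient (MulAut G) G := fun g => Quotient.mk _ g
  have hrel : ∀ (φ : MulAut G) (g : G), q0 (φ g) = q0 g := fun φ g => Quotient.sound ⟨φ, rfl⟩
  have hclassP : ∀ v ∈ P, v ≠ 1 → q0 v = q0 a := by
    intro v hv hne
    have ha1 : a ≠ 1 := fun h => hp.ne_one (by rw [← ha, h, orderOf_one])
    obtain ⟨A, hA, hA'⟩ := htrans (Additive.ofMul ⟨a, haP⟩) (Additive.ofMul ⟨v, hv⟩)
      ((ne_zero_iff P _).mpr (by simpa using ha1)) ((ne_zero_iff P _).mpr (by simpa using hne))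
    obtain ⟨φ, -, hφ⟩ := exists_mulAut p P hc hxfin (i := 1) (Nat.coprime_one_right _) A
      (fun w => by rw [pow_one]; exact hA' w)
    have h := hφ (Additive.ofMul ⟨a, haP⟩)
    rw [hA] at h
    simp only [toMul_ofMul] at h
    rw [← h, hrel]
  have hclassX : ∀ m : ℕ, ¬ q ∣ m → q0 (x ^ m) = q0 x := by
    intro m hm
    obtain ⟨A, hA⟩ := htwist m hm
    obtain ⟨φ, hφ, -⟩ := exists_mulAut p P hc hxfin (i := m)
      (by rw [hx]; exact hq.coprime_iff_not_dvd.mpr hm) A hA
    rw [← hφ, hrel]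
  have hclassPX : ∀ v ∈ P, ∀ m : ℕ, ¬ q ∣ m → q0 (v * x ^ m) = q0 x := by
    intro v hv m hm
    let f : P → P := fun w => ⟨(w : G) * (x ^ m * (w : G)⁻¹ * (x ^ m)⁻¹),
      P.mul_mem w.2 (hSn.conj_mem _ (P.inv_mem w.2) _)⟩
    have hf : Function.Injective f := by
      intro w1 w2 h
      have h' : (w1 : G) * (x ^ m * (w1 : G)⁻¹ * (x ^ m)⁻¹) = w2 * (x ^ m * (w2 : G)⁻¹ * (x ^ m)⁻¹) :=
        congrArg Subtype.val h
      by_contra hne
      have hne' : (w2 : G)⁻¹ * w1 ≠ 1 := fun h1 => hne (Subtype.ext (inv_mul_eq_one.mp h1).symm)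
      refine hfpf (x ^ m) ((w2 : G)⁻¹ * w1) ?_ (horderP _ (P.mul_mem (P.inv_mem w2.2) w1.2) hne') ?_
      · rw [Nat.Coprime.orderOf_pow (by rw [hx]; exact hq.coprime_iff_not_dvd.mpr hm), hx]
      · calc x ^ m * ((w2 : G)⁻¹ * w1) * (x ^ m)⁻¹
            = (x ^ m * (w2 : G)⁻¹ * (x ^ m)⁻¹) * (x ^ m * (w1 : G)⁻¹ * (x ^ m)⁻¹)⁻¹ := by group
          _ = (w2 : G)⁻¹ * ((w2 : G) * (x ^ m * (w2 : G)⁻¹ * (x ^ m)⁻¹)) *
                (x ^ m * (w1 : G)⁻¹ * (x ^ m)⁻¹)⁻¹ := by group
          _ = (w2 : G)⁻¹ * ((w1 : G) * (x ^ m * (w1 : G)⁻¹ * (x ^ m)⁻¹)) *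
                (x ^ m * (w1 : G)⁻¹ * (x ^ m)⁻¹)⁻¹ := by rw [h']
          _ = (w2 : G)⁻¹ * w1 := by group
    obtain ⟨w, hw⟩ := (Finite.injective_iff_surjective.mp hf) ⟨v, hv⟩
    have hw' : (w : G) * (x ^ m * (w : G)⁻¹ * (x ^ m)⁻¹) = v := congrArg Subtype.val hw
    rw [← hw', ← hclassX m hm, ← hrel (MulAut.conj (w : G)) (x ^ m)]
    congr 1
    simp only [MulAut.conj_apply]
    group
  let r : Fin 3 → MulAction.orbitRel.Quotient (MulAut G) G := ![q0 1, q0 a, q0 x]
  have hr : Function.Bijective r := by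
    constructor
    · intro i j hij
      have hij' : ![1, p, q] i = ![1, p, q] j := by
        fin_cases i <;> fin_cases j <;>
          first
            | rfl
            | (have h := orderOf_eq_of_orbit hij
               simpa [orderOf_one, ha, hx] using h)
      fin_cases i <;> fin_cases j <;>
        first
          | rfl
          | (simp at hij'; first
              | exact absurd hij' hpq | exact absurd hij'.symm hpq
              | exact absurd hij'.symm hp.ne_one | exact absurd hij' hp.ne_one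
              | exact absurd hij'.symm hq.ne_one | exact absurd hij' hq.ne_one)
    · intro w
      obtain ⟨g, rfl⟩ := Quotient.mk_surjective w
      obtain ⟨⟨⟨v, hv⟩, ⟨k, hk⟩⟩, hg⟩ := (Subgroup.isComplement'_def.mp hc).2 g
      obtain ⟨m, rfl⟩ := hxfin.mem_powers_iff_mem_zpowers.mpr hk
      simp only at hg
      subst hg
      by_cases hm : q ∣ m
      · rw [orderOf_dvd_iff_pow_eq_one.mp (hx ▸ hm), mul_one]
        by_cases hv1 : v = 1
        · exact ⟨0, by rw [hv1]; rfl⟩
        · exact ⟨1, (hclassP v hv hv1).symm⟩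
      · exact ⟨2, (hclassPX v hv m hm).symm⟩
  rw [← Nat.card_eq_of_bijective r hr, Nat.card_fin]

/-- The facts forced by exactly three orbits. -/
theorem exists_of_card_orbits_eq_three [Finite G]
    (hnpp : ¬ IsPrimePow (Nat.card G)) (hnt : Nat.card G ≠ 1)
    (h3 : Nat.card (MulAction.orbitRel.Quotient (MulAut G) G) = 3) :
    ∃ (p q n : ℕ) (_ : Fact p.Prime) (_ : Fact q.Prime), p ≠ q ∧ 1 ≤ n ∧ Nat.card G = p ^ n * q ∧
      (∀ P : Sylow p G, (P : Subgroup G).Normal ∧ Cfsg.IsElementaryAbelian p (P : Subgroup G)) ∧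
      orderOf (p : ZMod q) = q - 1 ∧
      ∀ x y : G, orderOf x = q → orderOf y = p → x * y * x⁻¹ ≠ y := by
  classical
  obtain ⟨r1, hr1, hr1d⟩ := Nat.exists_prime_and_dvd hnt
  obtain ⟨r2, hr2, hr2d, hr12⟩ : ∃ r, r.Prime ∧ r ∣ Nat.card G ∧ r1 ≠ r := by
    by_contra hne
    push Not at hne
    refine hnpp ?_
    rw [Nat.eq_prime_pow_of_unique_prime_dvd Nat.card_pos.ne' (fun {d} hd hdd => (hne d hd hdd).symm)]
    refine hr1.isPrimePow.pow ?_
    intro h0
    have := Nat.eq_prime_pow_of_unique_prime_dvd Nat.card_pos.ne' (fun {d} hd hdd => (hne d hd hdd).symm)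
    rw [h0, pow_zero] at this
    exact hnt this
  have := Fact.mk hr1
  have := Fact.mk hr2
  obtain ⟨g1, hg1⟩ := exists_prime_orderOf_dvd_card' (G := G) r1 hr1d
  obtain ⟨g2, hg2⟩ := exists_prime_orderOf_dvd_card' (G := G) r2 hr2d
  let q0 : G → MulAction.orbitRel.Quotient (MulAut G) G := fun g => Quotient.mk _ g
  let r : Fin 3 → MulAction.orbitRel.Quotient (MulAut G) G := ![q0 1, q0 g1, q0 g2]
  have hinj : Function.Injective r := by
    intro i j hij
    have hij' : ![1, r1, r2] i = ![1, r1, r2] j := by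
      fin_cases i <;> fin_cases j <;>
        first
          | rfl
          | (have h := orderOf_eq_of_orbit hij
             simpa [orderOf_one, hg1, hg2] using h)
    fin_cases i <;> fin_cases j <;>
      first
        | rfl
        | (simp at hij'; first
            | exact absurd hij' hr12 | exact absurd hij'.symm hr12
            | exact absurd hij'.symm hr1.ne_one | exact absurd hij' hr1.ne_one
            | exact absurd hij'.symm hr2.ne_one | exact absurd hij' hr2.ne_one)
  have hbij : Function.Bijective r :=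
    (Nat.bijective_iff_injective_and_card r).mpr ⟨hinj, by rw [Nat.card_fin, h3]⟩
  have hrep : ∀ g : G, g = 1 ∨ (orderOf g = r1 ∧ q0 g = q0 g1) ∨ (orderOf g = r2 ∧ q0 g = q0 g2) := by
    intro g
    obtain ⟨i, hi⟩ := hbij.2 (q0 g)
    fin_cases i <;> have h := orderOf_eq_of_orbit hi
    · left; exact orderOf_eq_one_iff.mp (h.symm.trans orderOf_one)
    · exact Or.inr (Or.inl ⟨h.symm.trans hg1, hi.symm⟩)
    · exact Or.inr (Or.inr ⟨h.symm.trans hg2, hi.symm⟩)
  have hprimes : ∀ r : ℕ, r.Prime → r ∣ Nat.card G → r = r1 ∨ r = r2 := by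
    intro r hr hd
    have := Fact.mk hr
    obtain ⟨g, hg⟩ := exists_prime_orderOf_dvd_card' (G := G) r hd
    rcases hrep g with rfl | ⟨h, -⟩ | ⟨h, -⟩
    · exact absurd (hg.symm.trans orderOf_one) hr.ne_one
    · exact Or.inl (hg.symm.trans h)
    · exact Or.inr (hg.symm.trans h)
  have := CfsgLib.Chars.isSolvable_of_primeFactors_pair r1 r2 hprimes
  have : Nontrivial G := Finite.one_lt_card_iff_nontrivial.mp
    (by have := Nat.card_pos (α := G); omega)
  obtain ⟨p, hp, hcore⟩ := CfsgLib.Base.exists_prime_pCore_ne_bot (G := G)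
  have := Fact.mk hp
  obtain ⟨y0, hy0, hy1⟩ : ∃ y, y ∈ pCore p G ∧ y ≠ 1 := by
    obtain ⟨y, hy⟩ := Subgroup.ne_bot_iff_exists_ne_one.mp hcore
    exact ⟨y, y.2, fun h => hy (Subtype.ext h)⟩
  obtain ⟨k0, hk0⟩ := CfsgLib.FgsB.exists_orderOf_eq_pow_of_mem (CfsgLib.Base.isPGroup_pCore p G) hy0
  -- orders are 1, p, q and each order is one orbit
  obtain ⟨q, hq, hpq, hqd, hsame⟩ : ∃ q : ℕ, q.Prime ∧ p ≠ q ∧ q ∣ Nat.card G ∧
      ∀ g h : G, g ≠ 1 → h ≠ 1 → ((orderOf g = p ∨ orderOf g = q) ∧ (orderOf g = orderOf h → q0 g = q0 h)) := by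
    have hpr : p = r1 ∨ p = r2 := by
      apply hprimes p hp
      have hk : k0 ≠ 0 := fun h => hy1 (orderOf_eq_one_iff.mp (by rw [hk0, h, pow_zero]))
      exact (dvd_pow_self p hk).trans (hk0 ▸ orderOf_dvd_natCard y0)
    have hsame' : ∀ g h : G, g ≠ 1 → h ≠ 1 → orderOf g = orderOf h → q0 g = q0 h := by
      intro g h hg hh hgh
      rcases hrep g with h0 | ⟨a1, a2⟩ | ⟨a1, a2⟩
      · exact absurd h0 hg
      all_goals rcases hrep h with h0 | ⟨b1, b2⟩ | ⟨b1, b2⟩
      all_goals first
        | exact absurd h0 hh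
        | exact a2.trans b2.symm
        | (rw [a1, b1] at hgh; first | exact absurd hgh hr12 | exact absurd hgh.symm hr12)
    rcases hpr with rfl | rfl
    · refine ⟨r2, hr2, hr12, hr2d, fun g h hg hh => ⟨?_, hsame' g h hg hh⟩⟩
      exact ((hrep g).resolve_left hg).imp (fun w => w.1) (fun w => w.1)
    · refine ⟨r1, hr1, Ne.symm hr12, hr1d, fun g h hg hh => ⟨?_, hsame' g h hg hh⟩⟩
      exact (((hrep g).resolve_left hg).imp (fun w => w.1) (fun w => w.1)).symm
  have := Fact.mk hq
  have hord2 : ∀ g : G, g ≠ 1 → orderOf g = p ∨ orderOf g = q := fun g hg => (hsame g g hg hg).1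
  have hchar : ∀ (φ : MulAut G) (g : G), g ∈ pCore p G → φ g ∈ pCore p G := by
    intro φ g hg
    rw [← CfsgLib.Base.map_pCore_mulEquiv (p := p) φ]
    exact Subgroup.mem_map_of_mem _ hg
  have hy0p : orderOf y0 = p := by
    rcases hord2 y0 hy1 with h | h
    · exact h
    · rcases Nat.eq_zero_or_pos k0 with rfl | hk
      · rw [pow_zero] at hk0; exact absurd (hk0.symm.trans h).symm hq.ne_one
      · have : p ∣ q := by rw [← h, hk0]; exact dvd_pow_self p hk.ne'
        exact absurd ((Nat.prime_dvd_prime_iff_eq hp hq).mp this) hpq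
  have hallp : ∀ g : G, g ≠ 1 → orderOf g = p → g ∈ pCore p G := by
    intro g hg1 hg
    obtain ⟨φ, hφ⟩ := Quotient.exact ((hsame g y0 hg1 hy1).2 (hg.trans hy0p.symm))
    exact hφ ▸ hchar φ y0 hy0
  have hS : ∀ S : Sylow p G, (S : Subgroup G) = pCore p G := by
    intro S
    refine le_antisymm (fun g hg => ?_) (CfsgLib.Base.pCore_le_sylow S)
    by_cases h1 : g = 1
    · rw [h1]; exact Subgroup.one_mem _
    refine hallp g h1 ((hord2 g h1).resolve_right fun h => ?_)
    obtain ⟨k, hk⟩ := CfsgLib.FgsB.exists_orderOf_eq_pow_of_mem S.2 hg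
    rw [h] at hk
    rcases Nat.eq_zero_or_pos k with rfl | hk0'
    · exact hq.ne_one (by rw [hk, pow_zero])
    · exact hpq ((Nat.prime_dvd_prime_iff_eq hp hq).mp (hk ▸ dvd_pow_self p hk0'.ne'))
  set P := pCore p G with hPdef
  have hPn : P.Normal := Cfsg.pCore_normal p G
  have hexpP : ∀ v ∈ P, v ^ p = 1 := by
    intro v hv
    by_cases h1 : v = 1
    · rw [h1, one_pow]
    obtain ⟨k, hk⟩ := CfsgLib.FgsB.exists_orderOf_eq_pow_of_mem (CfsgLib.Base.isPGroup_pCore p G) hv
    rcases hord2 v h1 with h | h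
    · rw [← h]; exact pow_orderOf_eq_one v
    · rw [h] at hk
      rcases Nat.eq_zero_or_pos k with rfl | hk0'
      · exact absurd (by rw [hk, pow_zero] : q = 1) hq.ne_one
      · exact absurd ((Nat.prime_dvd_prime_iff_eq hp hq).mp (hk ▸ dvd_pow_self p hk0'.ne')) hpq
  have hPab : IsMulCommutative P := by
    have hD : (commutator P).map P.subtype = ⊥ := by
      by_contra hne
      obtain ⟨z, hz, hz1⟩ : ∃ z, z ∈ (commutator P).map P.subtype ∧ z ≠ 1 := by
        obtain ⟨z, hz⟩ := Subgroup.ne_bot_iff_exists_ne_one.mp hne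
        exact ⟨z, z.2, fun h => hz (Subtype.ext h)⟩
      have hzP : z ∈ P := Subgroup.map_subtype_le _ hz
      have hall : P ≤ (commutator P).map P.subtype := by
        intro w hw
        by_cases hw1 : w = 1
        · rw [hw1]; exact Subgroup.one_mem _
        have ho : ∀ v ∈ P, v ≠ 1 → orderOf v = p := fun v hv h => orderOf_eq_prime (hexpP v hv) h
        obtain ⟨φ, hφ⟩ := Quotient.exact ((hsame w z hw1 hz1).2 ((ho w hw hw1).trans (ho z hzP hz1).symm))
        rw [← hφ]
        have hmap : ((commutator P).map P.subtype).map φ.toMonoidHom = (commutator P).map P.subtype := by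
          rw [Subgroup.map_subtype_commutator, Subgroup.map_commutator, hPdef,
            CfsgLib.Base.map_pCore_mulEquiv]
        exact hmap ▸ Subgroup.mem_map_of_mem φ.toMonoidHom hz
      have htop : commutator P = ⊤ := by
        rw [eq_top_iff]; intro w _
        obtain ⟨u, hu, hu'⟩ := hall w.2
        exact Subtype.ext hu' ▸ hu
      have : Nontrivial P := Subgroup.nontrivial_iff_ne_bot _ |>.mpr hcore
      have : Group.IsSolvable P := inferInstance
      exact absurd htop (Group.IsSolvable.commutator_lt_top_of_nontrivial (G := P)).ne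
    have hD' : commutator P = ⊥ := (Subgroup.map_eq_bot_iff_of_injective _ P.subtype_injective).mp hD
    refine ⟨⟨fun a b => ?_⟩⟩
    have : ⁅a, b⁆ ∈ commutator P :=
      Subgroup.commutator_mem_commutator (Subgroup.mem_top a) (Subgroup.mem_top b)
    rw [hD', Subgroup.mem_bot] at this
    exact commutatorElement_eq_one_iff_commute.mp this
  have hfpf : ∀ x y : G, orderOf x = q → orderOf y = p → x * y * x⁻¹ ≠ y := by
    intro x y hx hy hxy
    have hc : Commute x y := mul_inv_eq_iff_eq_mul.mp hxy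
    have ho : orderOf (x * y) = q * p := by
      rw [hc.orderOf_mul_eq_mul_orderOf_of_coprime (by rw [hx, hy]; exact (Nat.coprime_primes hq hp).mpr (Ne.symm hpq)), hx, hy]
    have h1 : x * y ≠ 1 := fun h => by
      rw [h, orderOf_one] at ho
      exact hq.ne_one (Nat.eq_one_of_mul_eq_one_right ho.symm)
    rcases hord2 _ h1 with h | h <;> rw [ho] at h
    · exact hq.ne_one ((Nat.mul_eq_right hp.ne_zero).mp h)
    · exact hp.ne_one ((Nat.mul_eq_left hq.ne_zero).mp h)
  have hexp : ∀ v : Additive P, p • v = 0 := fun v => Additive.toMul.injective (by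
    rw [toMul_nsmul, toMul_zero]; exact Subtype.ext (hexpP _ (Additive.toMul v).2))
  have : Module (ZMod p) (Additive P) := AddCommGroup.zmodModule hexp
  have hordP : ∀ v : Additive P, v ≠ 0 → orderOf ((Additive.toMul v : P) : G) = p := fun v hv =>
    orderOf_eq_prime (hexpP _ (Additive.toMul v).2) ((ne_zero_iff P v).mp hv)
  have hVnt : Nontrivial (Additive P) := by
    have : Nontrivial P := Subgroup.nontrivial_iff_ne_bot _ |>.mpr hcore
    infer_instance
  obtain ⟨v0, hv0⟩ := exists_ne (0 : Additive P)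
  obtain ⟨Q⟩ : Nonempty (Sylow q G) := inferInstance
  have hQord : ∀ g ∈ (Q : Subgroup G), g ≠ 1 → orderOf g = q := by
    intro g hg h1
    obtain ⟨k, hk⟩ := CfsgLib.FgsB.exists_orderOf_eq_pow_of_mem Q.2 hg
    rcases hord2 g h1 with h | h
    · rw [h] at hk
      rcases Nat.eq_zero_or_pos k with rfl | hk0'
      · exact absurd (by rw [hk, pow_zero] : p = 1) hp.ne_one
      · exact absurd ((Nat.prime_dvd_prime_iff_eq hq hp).mp (hk ▸ dvd_pow_self q hk0'.ne')).symm hpq
    · exact h
  have hQnt : Nontrivial (Q : Subgroup G) := by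
    rw [← Finite.one_lt_card_iff_nontrivial, Q.card_eq_multiplicity]
    exact Nat.one_lt_pow (hq.factorization_pos_of_dvd Nat.card_pos.ne' hqd).ne' hq.one_lt
  have := Q.2.center_nontrivial
  obtain ⟨z, hz⟩ := exists_ne (1 : Subgroup.center (Q : Subgroup G))
  set x : G := ((z : (Q : Subgroup G)) : G) with hxdef
  have hx1 : x ≠ 1 := fun h => hz (Subtype.ext (Subtype.ext h))
  have hx : orderOf x = q := hQord x (z : (Q : Subgroup G)).2 hx1
  have hfixG : ∀ g : G, orderOf g = q → ∀ v : Additive P, conjRep p P g v = v → v = 0 := by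
    intro g hg v hv
    by_contra hne
    rw [conjRep_fixed_iff] at hv
    exact hfpf g _ hg (hordP v hne) hv
  have hpowG : ∀ g : G, g ^ q = 1 → conjRep p P g ^ q = 1 := fun g hg => by rw [← map_pow, hg, map_one]
  have hQeq : (Q : Subgroup G) = Subgroup.zpowers x := by
    refine le_antisymm (fun b hb => ?_) (Subgroup.zpowers_le.mpr (z : (Q : Subgroup G)).2)
    by_contra hbx
    have hbq : b ^ q = 1 := by
      by_cases h1 : b = 1
      · rw [h1, one_pow]
      · rw [← hQord b hb h1]; exact pow_orderOf_eq_one b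
    have hxb : Commute x b :=
      (congrArg Subtype.val (Subgroup.mem_center_iff.mp z.2 ⟨b, hb⟩)).symm
    have hfix : ∀ i j : ℕ, ¬ (q ∣ i ∧ q ∣ j) →
        ∀ v : Additive P, (conjRep p P x ^ i * conjRep p P b ^ j) v = v → v = 0 := by
      intro i j hij v hv
      rw [← map_pow, ← map_pow, ← map_mul] at hv
      refine hfixG (x ^ i * b ^ j) (hQord _ (Subgroup.mul_mem _
        (Subgroup.pow_mem _ (z : (Q : Subgroup G)).2 i) (Subgroup.pow_mem _ hb j)) ?_) v hv
      intro h1
      apply hij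
      by_cases hj : q ∣ j
      · refine ⟨?_, hj⟩
        rw [orderOf_dvd_iff_pow_eq_one.mp ((orderOf_dvd_of_pow_eq_one hbq).trans hj), mul_one] at h1
        exact hx ▸ orderOf_dvd_of_pow_eq_one h1
      · exfalso
        apply hbx
        obtain ⟨l, hl⟩ := CfsgLib.FgsB.OrbitModule.exists_inverse_mod (q := q) hj
        have hb' : b = (b ^ j) ^ l := by
          rw [← pow_mul]
          conv_lhs => rw [← pow_one b]
          exact pow_eq_pow_of_modEq hl.symm hbq
        rw [hb', eq_inv_of_mul_eq_one_right h1]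
        exact Subgroup.pow_mem _ (Subgroup.inv_mem _ (Subgroup.pow_mem _ (Subgroup.mem_zpowers x) i)) l
    have hq0 := CfsgLib.FgsB.OrbitModule.q_nsmul_eq_zero_of_commute (conjRep p P x) (conjRep p P b)
      (hxb.map _) (hpowG x (by rw [← hx]; exact pow_orderOf_eq_one x)) (hpowG b hbq) hfix v0
    have h1 : ((Additive.toMul v0 : P) : G) ^ q = 1 := by
      have h2 : Additive.toMul (q • v0) = 1 := by rw [hq0, toMul_zero]
      rw [toMul_nsmul] at h2
      exact congrArg Subtype.val h2
    exact hpq ((Nat.prime_dvd_prime_iff_eq hp hq).mp (hordP v0 hv0 ▸ orderOf_dvd_of_pow_eq_one h1))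
  obtain ⟨S⟩ : Nonempty (Sylow p G) := inferInstance
  have hcardG : Nat.card G = p ^ (Nat.card G).factorization p * q := by
    have hQc : Nat.card (Q : Subgroup G) = q := by rw [hQeq, Nat.card_zpowers, hx]
    rw [Q.card_eq_multiplicity] at hQc
    have hsub : (Nat.card G).primeFactors = {p, q} := by
      ext r
      rw [Nat.mem_primeFactors, Finset.mem_insert, Finset.mem_singleton]
      constructor
      · rintro ⟨hr, hd, -⟩
        have := Fact.mk hr
        obtain ⟨g, hg⟩ := exists_prime_orderOf_dvd_card' (G := G) r hd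
        rw [← hg]
        exact hord2 g fun h => hr.ne_one (by rw [← hg, h, orderOf_one])
      · rintro (rfl | rfl)
        · exact ⟨hp, hy0p ▸ orderOf_dvd_natCard y0, Nat.card_pos.ne'⟩
        · exact ⟨hq, hqd, Nat.card_pos.ne'⟩
    conv_lhs => rw [← Nat.prod_factorization_pow_eq_self (Nat.card_pos (α := G)).ne']
    rw [Finsupp.prod, Nat.support_factorization, hsub, Finset.prod_pair hpq, hQc]
  refine ⟨p, q, (Nat.card G).factorization p, inferInstance, inferInstance, hpq,
    hp.factorization_pos_of_dvd Nat.card_pos.ne' (hy0p ▸ orderOf_dvd_natCard y0), hcardG,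
    fun T => by rw [hS T]; exact ⟨hPn, hPab, hexpP⟩, ?_, hfpf⟩
  have hdecomp : ∀ g : G, ∃ w ∈ P, ∃ m : ℕ, g = w * x ^ m := by
    intro g
    have hc : P.IsComplement' (Subgroup.zpowers x) := by
      apply Subgroup.isComplement'_of_coprime
      · rw [← hS S, S.card_eq_multiplicity, Nat.card_zpowers, hx]; exact hcardG.symm
      · rw [← hS S, S.card_eq_multiplicity, Nat.card_zpowers, hx]
        exact ((Nat.coprime_primes hp hq).mpr hpq).pow_left _
    obtain ⟨⟨⟨w, hw⟩, ⟨k, hk⟩⟩, hg⟩ := (Subgroup.isComplement'_def.mp hc).2 g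
    obtain ⟨m, rfl⟩ := (isOfFinOrder_of_finite x).mem_powers_iff_mem_zpowers.mpr hk
    exact ⟨w, hw, m, hg.symm⟩
  have hinter : ∀ φ : MulAut G, ∃ (m : ℕ) (A : Additive P ≃ₗ[ZMod p] Additive P),
      (∀ v : Additive P, ((Additive.toMul (A v) : P) : G) = φ ((Additive.toMul v : P) : G)) ∧
      (∃ w ∈ P, φ x = w * x ^ m) ∧
      ∀ v : Additive P, A (conjRep p P x v) = (conjRep p P x ^ m) (A v) := by
    intro φ
    obtain ⟨w, hw, m, hm⟩ := hdecomp (φ x)
    let B : P ≃* P := (φ.subgroupMap P).trans (MulEquiv.subgroupCongr (CfsgLib.Base.map_pCore_mulEquiv φ))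
    let A : Additive P ≃ₗ[ZMod p] Additive P := AddEquiv.toLinearEquiv (MulEquiv.toAdditive B)
      (fun c v => ZMod.map_smul (MulEquiv.toAdditive B).toAddMonoidHom c v)
    refine ⟨m, A, fun v => rfl, ⟨w, hw, hm⟩, fun v => ?_⟩
    apply Additive.toMul.injective
    apply Subtype.ext
    change φ ((Additive.toMul (conjRep p P x v) : P) : G) = _
    rw [← map_pow, conjRep_apply, conjRep_apply, map_mul, map_mul, map_inv]
    change φ x * φ ((Additive.toMul v : P) : G) * (φ x)⁻¹ =
      x ^ m * φ ((Additive.toMul v : P) : G) * (x ^ m)⁻¹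
    rw [hm]
    set u := φ ((Additive.toMul v : P) : G) with hu
    have hz : x ^ m * u * (x ^ m)⁻¹ ∈ P := hPn.conj_mem _ (hchar φ _ (Additive.toMul v).2) _
    have hcw : w * (x ^ m * u * (x ^ m)⁻¹) = x ^ m * u * (x ^ m)⁻¹ * w :=
      congrArg Subtype.val (hPab.is_comm.comm (⟨w, hw⟩ : P) ⟨_, hz⟩)
    calc w * x ^ m * u * (w * x ^ m)⁻¹ = w * (x ^ m * u * (x ^ m)⁻¹) * w⁻¹ := by group
      _ = x ^ m * u * (x ^ m)⁻¹ := by rw [hcw, mul_inv_cancel_right]
  apply CfsgLib.FgsB.OrbitModule.orderOf_eq_sub_one hpq (conjRep p P x)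
    (hpowG x (by rw [← hx]; exact pow_orderOf_eq_one x)) (hfixG x hx)
  · intro i hi
    have hxi : orderOf (x ^ i) = q := by
      rw [Nat.Coprime.orderOf_pow (by rw [hx]; exact hq.coprime_iff_not_dvd.mpr hi), hx]
    obtain ⟨φ, hφ⟩ := Quotient.exact ((hsame (x ^ i) x
      (fun h => hq.ne_one (by rw [← hxi, h, orderOf_one])) hx1).2 (hxi.trans hx.symm))
    obtain ⟨m, A, -, ⟨w, hw, hm⟩, hA⟩ := hinter φ
    refine ⟨A, fun v => ?_⟩
    rw [hA v]
    have hφ' : φ x = x ^ i := hφ
    have hmem : x ^ i * (x ^ m)⁻¹ ∈ P := by rw [← hφ', hm, mul_inv_cancel_right]; exact hw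
    have h1 : x ^ i * (x ^ m)⁻¹ = 1 := by
      have hmem2 : x ^ i * (x ^ m)⁻¹ ∈ Subgroup.zpowers x := Subgroup.mul_mem _
        (Subgroup.pow_mem _ (Subgroup.mem_zpowers x) i)
        (Subgroup.inv_mem _ (Subgroup.pow_mem _ (Subgroup.mem_zpowers x) m))
      by_contra h1
      have := orderOf_eq_prime (hexpP _ hmem) h1
      have hd := orderOf_dvd_of_mem_zpowers hmem2
      rw [this, hx] at hd
      exact hpq ((Nat.prime_dvd_prime_iff_eq hp hq).mp hd)
    rw [← map_pow, ← map_pow, mul_inv_eq_one.mp h1]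
  · intro u v hu hv
    obtain ⟨φ, hφ⟩ := Quotient.exact ((hsame _ _ ((ne_zero_iff P v).mp hv) ((ne_zero_iff P u).mp hu)).2
      ((hordP v hv).trans (hordP u hu).symm))
    obtain ⟨m, A, hA1, -, hA2⟩ := hinter φ
    exact ⟨m, A, Additive.toMul.injective (Subtype.ext ((hA1 u).trans hφ)), hA2⟩

end CfsgLib.FgsB.ThreeOrbits
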